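import Cfsg.Agent.H8.Za2
import Cfsg.Agent.H1.Field
import Cfsg.Agent.H8.Dickson
import Cfsg.Agent.H8.FFsub

/-! Zassenhaus groups: coordinates and the identification with `PGL₂` and `PSL₂`. -/

set_option autoImplicit false
open Subgroup Cfsg CfsgH2 CfsgH1 CfsgH3 Function MulAction OnePoint
open scoped commutatorElement

namespace CfsgH8.Za

section act
variable {G Ω S X : Type*} [Group G] [MulAction G Ω] [Group S] [MulAction S X]

theorem exists_hom_of_act (c : Ω ≃ X) (fG : ∀ g : G, (∀ x : Ω, g • x = x) → g = 1)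
    (fS : ∀ s : S, (∀ x : X, s • x = x) → s = 1) (h : ∀ g : G, ∃ s : S, ∀ x, c (g • x) = s • c x) :
    ∃ ψ : G →* S, Injective ψ ∧ ∀ g x, c (g • x) = ψ g • c x := by
  choose ψ hψ using h
  have ext : ∀ s t : S, (∀ x, s • c x = t • c x) → s = t := fun s t e => by
    have := fS (t⁻¹ * s) fun x => by
      obtain ⟨y, rfl⟩ := c.surjective x
      rw [mul_smul, e, inv_smul_smul]
    rw [inv_mul_eq_one] at this
    exact this.symm
  refine ⟨MonoidHom.mk' ψ fun g k => ext _ _ fun x => by rw [← hψ, mul_smul, mul_smul, hψ, hψ], ?_, hψ⟩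
  refine (injective_iff_map_eq_one _).2 fun g hg => fG g fun x => c.injective ?_
  rw [hψ, show ψ g = 1 from hg, one_smul]

theorem iso_of_act [Finite S] (c : Ω ≃ X) (fG : ∀ g : G, (∀ x : Ω, g • x = x) → g = 1)
    (fS : ∀ s : S, (∀ x : X, s • x = x) → s = 1) (h : ∀ g : G, ∃ s : S, ∀ x, c (g • x) = s • c x)
    (hc : Nat.card G = Nat.card S) : Nonempty (G ≃* S) := by
  obtain ⟨ψ, h1, -⟩ := exists_hom_of_act c fG fS h
  exact ⟨MulEquiv.ofBijective ψ ((Nat.bijective_iff_injective_and_card ψ).2 ⟨h1, hc⟩)⟩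

end act

section pgl
variable {F : Type*} [Field F] [DecidableEq F]

theorem sc_smul (u : Fˣ) (x : OnePoint F) : Matrix.GeneralLinearGroup.scalar (Fin 2) u • x = x := by
  cases x with
  | infty => simp [smul_infty_eq_ite]
  | coe x => simp [smul_some_eq_ite]

/-- The action of `PGL₂(F)` on the projective line. -/
@[reducible] noncomputable def actG (F : Type*) [Field F] [DecidableEq F] :
    MulAction (Matrix.ProjGenLinGroup (Fin 2) F) (OnePoint F) :=
  Matrix.ProjGenLinGroup.mulActionOfGL sc_smul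

theorem isSc_of_fix {g : GL (Fin 2) F} (h1 : g • (∞ : OnePoint F) = ∞)
    (h2 : g • ((0 : F) : OnePoint F) = (0 : F)) (h3 : g • ((1 : F) : OnePoint F) = (1 : F)) :
    IsSc g.1 := by
  rw [smul_infty_eq_self_iff] at h1
  have hd := gl2_det_ne g
  have h4 : g.1 1 1 ≠ 0 := fun e => hd (by rw [e, h1]; ring)
  rw [smul_some_eq_ite] at h2 h3
  simp only [h1, zero_mul, zero_add, h4, if_false, mul_zero, mul_one, coe_eq_coe, div_eq_iff h4,
    one_mul] at h2 h3
  exact ⟨h2, h1, by rw [← h3, h2, add_zero]⟩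

attribute [local instance] actG

theorem pgl_faith (s : Matrix.ProjGenLinGroup (Fin 2) F) (h : ∀ x : OnePoint F, s • x = x) : s = 1 := by
  induction s using Matrix.ProjGenLinGroup.induction_on with | mk g =>
  have h' : ∀ x : OnePoint F, g • x = x := h
  obtain ⟨u, rfl⟩ := (isSc_of_fix (h' _) (h' _) (h' _)).exists_sc
  rw [Matrix.ProjGenLinGroup.mk_eq_one]
  exact Subgroup.mem_center_iff.2 fun k => (sc_comm u k).symm

omit [DecidableEq F] in
theorem card_PGL2 [Fintype F] : Nat.card (Matrix.ProjGenLinGroup (Fin 2) F) =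
    (Fintype.card F + 1) * (Fintype.card F * (Fintype.card F - 1)) := by
  classical
  have h1 := card_eq_card_quotient_mul_card_subgroup (center (GL (Fin 2) F))
  have h2 : o[center (GL (Fin 2) F)] = Fintype.card F - 1 := by
    rw [← Fintype.card_units, ← Nat.card_eq_fintype_card]
    refine (Nat.card_congr (Equiv.ofBijective (fun u : Fˣ => (⟨sc u, mem_center_iff.2 fun k =>
      (sc_comm u k).symm⟩ : center (GL (Fin 2) F))) ⟨fun u v e => sc_injective (congrArg Subtype.val e),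
        fun g => ?_⟩)).symm
    obtain ⟨g, hg⟩ := g
    rw [Matrix.GeneralLinearGroup.center_eq_range_scalar] at hg
    obtain ⟨u, rfl⟩ := hg
    refine ⟨u, Subtype.ext ?_⟩
    exact gl2_ext (by simp [sc_val]) (by simp [sc_val]) (by simp [sc_val]) (by simp [sc_val])
  rw [card_GL2, h2] at h1
  have h3 := Fintype.one_lt_card (α := F)
  obtain ⟨m, hm⟩ : ∃ m, Fintype.card F = m + 1 := ⟨_, (Nat.sub_add_cancel h3.le).symm⟩
  rw [hm] at h1 h3 ⊢
  refine Nat.eq_of_mul_eq_mul_right (m := m) (by omega) ?_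
  rw [Nat.add_sub_cancel] at h1 ⊢
  refine h1.symm.trans ?_
  rw [show (m + 1) ^ 2 - 1 = m * (m + 2) from Nat.sub_eq_of_eq_add (by ring),
    show (m + 1) ^ 2 - (m + 1) = m * (m + 1) from Nat.sub_eq_of_eq_add (by ring)]
  ring

omit [DecidableEq F] in
theorem sq_surj [Fintype F] (h : Even (Fintype.card F)) (r : Fˣ) : ∃ k : Fˣ, k ^ 2 = r := by
  classical
  have ho : Odd (Nat.card Fˣ) := by
    rw [Nat.card_eq_fintype_card, Fintype.card_units]
    exact Nat.Even.sub_odd Fintype.card_pos h odd_one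
  obtain ⟨m, hm⟩ := ho
  refine ⟨r ^ (m + 1), ?_⟩
  rw [← pow_mul, show (m + 1) * 2 = Nat.card Fˣ + 1 by omega, pow_succ, pow_card_eq_one', one_mul]

omit [DecidableEq F] in
theorem psl_pgl [Fintype F] (h : Even (Fintype.card F)) :
    Nonempty (Matrix.ProjGenLinGroup (Fin 2) F ≃* Matrix.ProjectiveSpecialLinearGroup (Fin 2) F) :=
  ⟨(MulEquiv.ofBijective Matrix.ProjectiveSpecialLinearGroup.toPGL
    ⟨Matrix.ProjectiveSpecialLinearGroup.toPGL_injective,
      Matrix.ProjectiveSpecialLinearGroup.toPGL_surj_of_roots (by simpa using sq_surj h)⟩).symm⟩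

omit [DecidableEq F] in
theorem sl_psl [Fintype F] (h : Even (Fintype.card F)) :
    Nonempty (Matrix.ProjectiveSpecialLinearGroup (Fin 2) F ≃* Matrix.SpecialLinearGroup (Fin 2) F) := by
  have h1 := card_PSL2 (F := F)
  rw [← CfsgH5.card_SL2, Nat.coprime_two_left.2 (Nat.Even.sub_odd Fintype.card_pos h odd_one),
    one_mul] at h1
  exact ⟨(MulEquiv.ofBijective πS ((Nat.bijective_iff_surjective_and_card _).2 ⟨πS_surj, h1.symm⟩)).symm⟩

end pgl

variable {G Ω : Type*} [Group G] [MulAction G Ω] {a b : Ω} {K N A : Subgroup G}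

local notation "L" => stabilizer G a
local notation "H" => HH G a b

/-- coordinates. -/
structure Crd (a b : Ω) (K A : Subgroup G) {F : Type*} [Field F] (P : F → Ω) (φ : A →* F) : Prop where
  inj : Injective P
  ne : ∀ x, P x ≠ a
  sur : ∀ y, y ≠ a → ∃ x, P x = y
  zero : P 0 = b
  cK : ∀ k ∈ K, ∃ t : F, ∀ x, k • P x = P (x + t)
  cA : ∀ (h : A) (x : F), h.1 • P x = P (φ h * x)

theorem ZK.exists_crd [Finite G] (h : ZK a b K) (h0 : K ≠ ⊥) (hK : Ab[K]) (hA : A ≤ H) (ab : Ab[A])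
    (irr : ∀ W ≤ K, A ≤ N[W] → W = ⊥ ∨ W = K) (F' : Type*) [Field F'] [Fintype F']
    (hF' : Fintype.card F' = o[K]) : ∃ (P : F' → Ω) (φ : A →* F'), Crd a b K A P φ := by
  obtain ⟨F, _, _, φ, e, he, -⟩ := exists_field_of_irreducible (A := A) (V := K)
    (hA.trans (inf_le_left.trans h.le_norm)) ((comm_self_eq_bot_iff.2 ab).le.trans bot_le) h0 irr
  haveI := Fintype.ofFinite F
  have hF : Fintype.card F' = Fintype.card F := by
    rw [hF', ← Nat.card_eq_fintype_card, ← Nat.card_congr e.toEquiv]; rfl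
  let ρ : F' ≃+* F := FiniteField.ringEquivOfCardEq hF
  refine ⟨fun x => (e (.ofAdd (ρ x)) : G) • b,
    (ρ.symm : F →* F').comp φ, fun x y e1 => ?_, fun x => ZK.smul_ne (h.le _ (e _).2) h.ne.symm,
    fun y hy => ?_, by simp, fun k hk => ⟨ρ.symm (e.symm ⟨k, hk⟩).toAdd, fun x => ?_⟩, fun g x => ?_⟩
  · exact ρ.injective (Multiplicative.ofAdd.injective (e.injective (Subtype.ext
      (h.inj (e _).2 (e _).2 h.ne.symm e1))))
  · obtain ⟨k, hk, rfl⟩ := h.tr y hy
    exact ⟨ρ.symm (e.symm ⟨k, hk⟩).toAdd, by simp⟩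
  · simp only [map_add, RingEquiv.apply_symm_apply, ofAdd_add, ofAdd_toAdd, map_mul,
      MulEquiv.apply_symm_apply, coe_mul]
    rw [← mul_smul, comm_of_isMulComm hK hk (e _).2]
  · simp only [MonoidHom.comp_apply, MonoidHom.coe_coe, map_mul, RingEquiv.apply_symm_apply]
    rw [he, mul_smul, mul_smul, show (g : G)⁻¹ • b = b from (hA (inv_mem g.2)).2]

namespace Crd
variable {F : Type*} [Field F] {P : F → Ω} {φ : A →* F}

theorem φ_ne (h : A) : φ h ≠ 0 := fun e => by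
  have := φ.map_mul h h⁻¹
  rw [mul_inv_cancel, map_one, e, zero_mul] at this
  exact one_ne_zero this

theorem φ_inv (h : A) : φ h⁻¹ = (φ h)⁻¹ := by
  refine eq_inv_of_mul_eq_one_left ?_
  rw [← map_mul, inv_mul_cancel, map_one]

theorem φ_inj (c : Crd a b K A P φ) (h : ZK a b K) (hA : A ≤ H) : Injective φ :=
  (injective_iff_map_eq_one φ).2 fun g hg => Subtype.ext (h.faith _ fun y => by
    by_cases hy : y = a
    · rw [hy]; exact (hA g.2).1
    · obtain ⟨x, rfl⟩ := c.sur y hy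
      rw [c.cA, hg, one_mul])

theorem exists_tr (c : Crd a b K A P φ) (h : ZK a b K) (t : F) :
    ∃ k ∈ K, ∀ x, k • P x = P (x + t) := by
  obtain ⟨k, hk, e⟩ := h.tr _ (c.ne t)
  obtain ⟨s, hs⟩ := c.cK k hk
  rw [← c.zero, hs, zero_add] at e
  exact ⟨k, hk, c.inj e ▸ hs⟩

/-- the equivalence with the projective line. -/
noncomputable def eqv (c : Crd a b K A P φ) : OnePoint F ≃ Ω :=
  Equiv.ofBijective (fun x => x.elim a P) ⟨fun x y e => by
    cases x <;> cases y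
    · rfl
    · exact absurd e.symm (c.ne _)
    · exact absurd e (c.ne _)
    · exact congrArg _ (c.inj e), fun y => by
    by_cases hy : y = a
    · exact ⟨∞, hy.symm⟩
    · obtain ⟨x, rfl⟩ := c.sur y hy
      exact ⟨x, rfl⟩⟩

theorem eqv_inf (c : Crd a b K A P φ) : c.eqv ∞ = a := rfl
theorem eqv_coe (c : Crd a b K A P φ) (x : F) : c.eqv x = P x := rfl

theorem exists_W (c : Crd a b K A P φ) {w : G} (h1 : w • a = b) (h2 : w • b = a) :
    ∃ W : F → F, ∀ x ≠ 0, W x ≠ 0 ∧ w • P x = P (W x) := by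
  have : ∀ x ≠ 0, ∃ y, y ≠ 0 ∧ w • P x = P y := fun x hx => by
    obtain ⟨y, hy⟩ := c.sur (w • P x) fun e =>
      hx (c.inj ((smul_left_cancel w (e.trans h2.symm)).trans c.zero.symm))
    refine ⟨y, ?_, hy.symm⟩
    rintro rfl
    exact c.ne x (smul_left_cancel w (hy.symm.trans (c.zero.trans h1.symm)))
  choose! W hW using this
  exact ⟨W, hW⟩

theorem mob_of [DecidableEq F] (c : Crd a b K A P φ) {g : G} {s : GL (Fin 2) F}
    (h1 : g • a = c.eqv (s • ∞)) (h2 : ∀ x : F, g • P x = c.eqv (s • (x : OnePoint F))) (y : Ω) :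
    c.eqv.symm (g • y) = s • c.eqv.symm y := by
  obtain ⟨z, rfl⟩ := c.eqv.surjective y
  rw [Equiv.symm_apply_apply, Equiv.symm_apply_eq]
  cases z
  · exact h1
  · exact h2 _

theorem mob_aff [DecidableEq F] (c : Crd a b K A P φ) {g : G} (u v : Fˣ) (t : F) (h1 : g • a = a)
    (h2 : ∀ x : F, g • P x = P ((u * x + t) / v)) (y : Ω) :
    c.eqv.symm (g • y) = tri u t v • c.eqv.symm y :=
  c.mob_of (by rw [h1]; simp [smul_infty_eq_ite, tri_val, eqv_inf])
    (fun x => by rw [h2]; simp [smul_some_eq_ite, tri_val, eqv_coe]) y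

theorem mob_inv [DecidableEq F] (c : Crd a b K A P φ) {g : G} {u v : F} (hd : 0 * 0 - u * v ≠ 0)
    (h1 : g • a = b) (h2 : g • b = a) (h3 : ∀ x ≠ 0, g • P x = P (u / (v * x))) (y : Ω) :
    c.eqv.symm (g • y) = mk2 0 u v 0 hd • c.eqv.symm y := by
  have hv : v ≠ 0 := by rintro rfl; simp at hd
  refine c.mob_of (by rw [h1]; simp [smul_infty_eq_ite, mk2_val, hv, eqv_coe, c.zero]) (fun x => ?_) y
  by_cases hx : x = 0
  · rw [hx, c.zero, h2]; simp [smul_some_eq_ite, mk2_val, eqv_inf]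
  · rw [h3 x hx]; simp [smul_some_eq_ite, mk2_val, hv, hx, eqv_coe]

end Crd

section id
variable {F : Type*} [Field F] {P : F → Ω} {φ : HH G a b →* F}

/-- the structure equation. -/
theorem Crd.str (c : Crd a b K H P φ) (h : ZK a b K) {w : G} (h1 : w • a = b) (h2 : w • b = a)
    {W : F → F} (hW : ∀ x ≠ 0, W x ≠ 0 ∧ w • P x = P (W x)) (w1 : W 1 = 1)
    (w2 : W (-1) = -1) {x : F} (x0 : x ≠ 0) (x1 : x + 1 ≠ 0) (x2 : W x + 1 ≠ 0) :
    W (W x + 1) = 1 - W (x + 1) := by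
  obtain ⟨t, ht, e⟩ := c.exists_tr h 1
  have e' : ∀ x, t⁻¹ • P x = P (x - 1) := fun x => by rw [inv_smul_eq_iff, e, sub_add_cancel]
  have ta : t • a = a := h.le t ht
  have ta' : t⁻¹ • a = a := h.le _ (inv_mem ht)
  have m1 : (-1 : F) ≠ 0 := neg_ne_zero.2 one_ne_zero
  have s1 : (t⁻¹ * w * t * w * t⁻¹ * w⁻¹) • b = b := by
    simp only [mul_smul]
    rw [show w⁻¹ • b = a from inv_smul_eq_iff.2 h1.symm, ta', h1, ← c.zero, e, zero_add,
      (hW 1 one_ne_zero).2, w1, e', sub_self]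
  have s2 : (t⁻¹ * w * t * w * t⁻¹ * w⁻¹) • a = a := by
    simp only [mul_smul]
    rw [show w⁻¹ • a = b from inv_smul_eq_iff.2 h2.symm, ← c.zero, e', zero_sub, (hW _ m1).2, w2, e,
      neg_add_cancel, c.zero, h2, ta']
  obtain ⟨u, key⟩ : ∃ u : F, ∀ y ≠ 0, (t⁻¹ * w * t * w * t⁻¹) • P y = P (u * W y) :=
    ⟨φ ⟨_, mem_HH.2 ⟨s2, s1⟩⟩, fun y hy => by
      rw [← c.cA, ← (hW y hy).2, ← mul_smul, inv_mul_cancel_right]⟩
  have k1 := key 1 one_ne_zero
  simp only [mul_smul] at k1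
  rw [e', sub_self, c.zero, h2, ta, h1, ← c.zero, e', w1, mul_one] at k1
  have k2 := key (x + 1) x1
  simp only [mul_smul] at k2
  rw [e', add_sub_cancel_right, (hW x x0).2, e, (hW _ x2).2, e', ← c.inj k1] at k2
  linear_combination c.inj k2

variable [Finite G] [Fintype F]

theorem Crd.card_range (c : Crd a b K H P φ) (h : ZK a b K) :
    o[φ.toHomUnits.range] = o[H] := by
  rw [MonoidHom.range_eq_map, card_map_of_injective, card_top]
  exact fun x y e => c.φ_inj h le_rfl (congrArg Units.val e)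

theorem Crd.index_mul (c : Crd a b K H P φ) (h : ZK a b K) (hF : Fintype.card F = o[K]) :
    o[H] * φ.toHomUnits.range.index = o[K] - 1 := by
  classical
  rw [← c.card_range h, card_mul_index, Nat.card_eq_fintype_card, Fintype.card_units, hF]

theorem Crd.surj (c : Crd a b K H P φ) (h : ZK a b K) (hF : Fintype.card F = o[K])
    (hd : o[H] = o[K] - 1) {x : F} (hx : x ≠ 0) : ∃ g, φ g = x := by
  have := c.index_mul h hF
  rw [← hd, mul_eq_left₀ (card_pos' _).ne', index_eq_one] at this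
  obtain ⟨g, hg⟩ := this.ge (mem_top (Units.mk0 x hx))
  exact ⟨g, congrArg Units.val hg⟩

theorem Crd.two (c : Crd a b K H P φ) (h : ZK a b K) (hF : Fintype.card F = o[K])
    (hd : 2 * o[H] = o[K] - 1) {x y : F} (hx : x ≠ 0) (hy : y ≠ 0) :
    (∃ g, φ g = x * y) ↔ ((∃ g, φ g = x) ↔ ∃ g, φ g = y) := by
  have := c.index_mul h hF
  rw [← hd, mul_comm 2, Nat.mul_right_inj (card_pos' _).ne'] at this
  have := mul_mem_iff_of_index_two this (a := Units.mk0 x hx) (b := Units.mk0 y hy)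
  simpa [Units.ext_iff] using this

theorem Crd.W_mul (c : Crd a b K H P φ) {w : G} (hi : ∀ x ∈ H, w * x * w⁻¹ = x⁻¹) {W : F → F}
    (hW : ∀ x ≠ 0, W x ≠ 0 ∧ w • P x = P (W x)) (g : H) {x : F} (hx : x ≠ 0) :
    W (φ g * x) = W x / φ g := by
  apply c.inj
  rw [← (hW _ (mul_ne_zero (Crd.φ_ne g) hx)).2, ← c.cA, ← mul_smul,
    show w * g = (g⁻¹ : H) * w by rw [coe_inv, ← hi g g.2]; group, mul_smul, (hW x hx).2, c.cA,
    Crd.φ_inv, div_eq_inv_mul]

theorem Crd.exists_alpha (c : Crd a b K H P φ) (h : ZK a b K) (hF : Fintype.card F = o[K])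
    (hd : o[K] - 1 ≤ 2 * o[H]) {w : G} (h1 : w • a = b) (h2 : w • b = a) (ww : w * w = 1)
    (hi : ∀ x ∈ H, w * x * w⁻¹ = x⁻¹) : ∃ α : F, α ≠ 0 ∧ ∀ x ≠ 0, w • P x = P (α / x) := by
  obtain ⟨W, hW⟩ := c.exists_W h1 h2
  suffices ∀ x ≠ 0, W x = W 1 / x from ⟨W 1, (hW 1 one_ne_zero).1, fun x hx => by
    rw [(hW x hx).2, this x hx]⟩
  have hS : ∀ g, W (φ g) = W 1 / φ g := fun g => by rw [← c.W_mul hi hW g one_ne_zero, mul_one]
  obtain ⟨m, hm⟩ := h.card_dvd
  have p1 := card_pos' H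
  have p2 : 1 < o[K] := hF ▸ Fintype.one_lt_card
  obtain rfl | rfl : m = 1 ∨ m = 2 := by
    rw [hm, mul_comm 2] at hd
    have := Nat.le_of_mul_le_mul_left hd p1
    have : m ≠ 0 := by rintro rfl; omega
    omega
  · intro x hx
    obtain ⟨g, rfl⟩ := c.surj h hF (by omega) hx
    exact hS g
  have two : ∀ {x y : F}, x ≠ 0 → y ≠ 0 → _ := fun hx hy => c.two h hF (by omega) hx hy
  have WW : ∀ x ≠ 0, W (W x) = x := fun x hx => c.inj (by
    rw [← (hW _ (hW x hx).1).2, ← (hW x hx).2, ← mul_smul, ww, one_smul])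
  by_contra hc
  push Not at hc
  obtain ⟨ν, ν0, hν⟩ := hc
  have νS : ¬ ∃ g, φ g = ν := by rintro ⟨g, rfl⟩; exact hν (hS g)
  set α := W 1 with hα
  set β := W ν * ν with hβ
  have α0 : α ≠ 0 := (hW 1 one_ne_zero).1
  have β0 : β ≠ 0 := mul_ne_zero (hW ν ν0).1 ν0
  have αβ : β ≠ α := fun e => hν (by rw [← e, hβ, mul_div_cancel_right₀ _ ν0])
  have inv : ∀ {x : F}, (∃ g, φ g = x⁻¹) ↔ ∃ g, φ g = x := fun {x} =>
    ⟨fun ⟨g, e⟩ => ⟨g⁻¹, by rw [Crd.φ_inv, e, inv_inv]⟩, fun ⟨g, e⟩ => ⟨g⁻¹, by rw [Crd.φ_inv, e]⟩⟩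
  have hS' : ∀ x, (∃ g, φ g = x) → W x = α / x := by rintro _ ⟨g, rfl⟩; exact hS g
  have hN : ∀ x ≠ 0, (¬ ∃ g, φ g = x) → W x = β / x := fun x hx hn => by
    obtain ⟨g, hg⟩ := (two hx (inv_ne_zero ν0)).2 (by rw [inv]; exact iff_of_false hn νS)
    have := c.W_mul hi hW g ν0
    rw [hg, inv_mul_cancel_right₀ ν0] at this
    rw [this, hβ]; field_simp
  have αS : ∃ g, φ g = α := by
    by_contra e
    have := WW 1 one_ne_zero
    rw [← hα, hN α α0 e, div_eq_one_iff_eq α0] at this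
    exact αβ this
  have βS : ∃ g, φ g = β := by
    by_contra e
    have h3 : ∃ g, φ g = W ν := by
      by_contra e'
      exact e ((two (hW ν ν0).1 ν0).2 (iff_of_false e' νS))
    have := WW ν ν0
    rw [hS' _ h3, div_eq_iff (hW ν ν0).1, mul_comm] at this
    exact αβ this.symm
  by_cases m1 : ∃ g, φ g = -1
  · obtain ⟨g0, e0⟩ := αS
    let W' : F → F := fun x => W (α * x)
    have hW' : ∀ x ≠ 0, W' x ≠ 0 ∧ (w * g0) • P x = P (W' x) := fun x hx =>
      ⟨(hW _ (mul_ne_zero α0 hx)).1, by rw [mul_smul, c.cA, e0, (hW _ (mul_ne_zero α0 hx)).2]⟩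
    have a1 : ∀ x, (∃ g, φ g = x) → W' x = x⁻¹ := by
      rintro _ ⟨g, rfl⟩
      have := Crd.φ_ne (φ := φ) g
      simp only [W']
      rw [hS' _ ⟨g0 * g, by rw [map_mul, e0]⟩]; field_simp
    have a2 : ∀ x ≠ 0, (¬ ∃ g, φ g = x) → W' x = β / α / x := fun x hx hn => by
      simp only [W']
      rw [hN _ (mul_ne_zero α0 hx) fun e => hn (((two α0 hx).1 e).1 ⟨g0, e0⟩), div_div]
    have step : ∀ x, (∃ g, φ g = x) → x + 1 = 0 ∨ ∃ g, φ g = x + 1 := fun x hx => by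
      by_contra e
      push Not at e
      have x0 : x ≠ 0 := by obtain ⟨g, rfl⟩ := hx; exact Crd.φ_ne g
      have e2 : ¬ ∃ g, φ g = x + 1 := fun ⟨g, hg⟩ => e.2 g hg
      have e3 : x⁻¹ + 1 = (x + 1) * x⁻¹ := by field_simp; ring
      have e4 : x⁻¹ + 1 ≠ 0 := e3 ▸ mul_ne_zero e.1 (inv_ne_zero x0)
      have := c.str h (w := w * g0) (by rw [mul_smul, g0.2.1, h1]) (by rw [mul_smul, g0.2.2, h2]) hW'
        (by rw [a1 1 ⟨1, map_one φ⟩, inv_one]) (by rw [a1 _ m1, inv_neg_one]) x0 e.1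
        (by rwa [a1 x hx])
      rw [a1 x hx, a2 _ e.1 e2, a2 _ e4 (by
        rw [e3, two e.1 (inv_ne_zero x0), inv]; exact fun e => e2 (e.2 hx)), e3] at this
      have e5 := e.1
      apply αβ
      field_simp at this
      apply mul_right_cancel₀ e5
      linear_combination this
    have add : ∀ x y : F, (x = 0 ∨ ∃ g, φ g = x) → (y = 0 ∨ ∃ g, φ g = y) →
        x + y = 0 ∨ ∃ g, φ g = x + y := by
      rintro x y (rfl | hx) hy
      · rwa [zero_add]
      rcases hy with rfl | ⟨g, rfl⟩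
      · rw [add_zero]; exact Or.inr hx
      obtain ⟨k, rfl⟩ := hx
      have e : φ k + φ g = (φ (k * g⁻¹) + 1) * φ g := by
        rw [map_mul, Crd.φ_inv]; have := Crd.φ_ne (φ := φ) g; field_simp
      rcases step _ ⟨k * g⁻¹, rfl⟩ with e' | ⟨l, e'⟩
      · left; rw [e, e', zero_mul]
      · right; exact ⟨l * g, by rw [map_mul, e', e]⟩
    have sq : ∀ x : F, x * x = 0 ∨ ∃ g, φ g = x * x := fun x => by
      by_cases hx : x = 0
      · left; rw [hx, mul_zero]
      · exact Or.inr ((two hx hx).2 Iff.rfl)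
    have t2 : (2 : F) ≠ 0 := fun e => by
      have := FiniteField.cast_card_eq_zero F
      rw [hF, show o[K] = o[H] * 2 + 1 by omega] at this
      push_cast at this
      rw [e] at this
      simp at this
    have := add _ (-1 * ((ν - 1) / 2 * ((ν - 1) / 2))) (sq ((ν + 1) / 2)) (by
      rcases sq ((ν - 1) / 2) with e | ⟨g, e⟩
      · left; rw [e, mul_zero]
      · obtain ⟨k, hk⟩ := m1
        exact Or.inr ⟨k * g, by rw [map_mul, hk, e]⟩)
    rw [show (ν + 1) / 2 * ((ν + 1) / 2) + -1 * ((ν - 1) / 2 * ((ν - 1) / 2)) = ν by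
      field_simp; ring] at this
    exact this.elim ν0 νS
  · have ho : Odd o[H] := by
      by_contra e
      rw [Nat.not_odd_iff_even] at e
      haveI := Fact.mk Nat.prime_two
      obtain ⟨z, hz⟩ := exists_prime_orderOf_dvd_card' (G := H) 2 e.two_dvd
      have z2 : φ z * φ z = 1 := by rw [← map_mul, ← pow_two, ← hz, pow_orderOf_eq_one, map_one]
      rcases mul_self_eq_one_iff.1 z2 with e | e
      · rw [c.φ_inj h le_rfl (e.trans (map_one φ).symm)] at hz
        simp at hz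
      · exact m1 ⟨z, e⟩
    have rt : ∀ g : H, ∃ k : H, k * k = g := fun g => by
      obtain ⟨m, hm⟩ := ho
      exact ⟨g ^ (m + 1), by
        rw [← pow_add, show m + 1 + (m + 1) = o[H] + 1 by omega, pow_succ, pow_card_eq_one', one_mul]⟩
    obtain ⟨g, hg⟩ := αS
    obtain ⟨k, hk⟩ := βS
    obtain ⟨g, rfl⟩ := rt g
    obtain ⟨k, rfl⟩ := rt k
    have g0 := Crd.φ_ne (φ := φ) g
    have k0 := Crd.φ_ne (φ := φ) k
    have n1 : ¬ ∃ l, φ l = -φ k := fun ⟨l, hl⟩ => m1 ⟨l * k⁻¹, by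
      rw [map_mul, Crd.φ_inv, hl]; field_simp⟩
    have f1 : w • P (φ g) = P (φ g) := by
      rw [(hW _ g0).2, hS, ← hg, map_mul, mul_div_cancel_right₀ _ g0]
    have f2 : w • P (-φ k) = P (-φ k) := by
      rw [(hW _ (neg_ne_zero.2 k0)).2, hN _ (neg_ne_zero.2 k0) n1, ← hk, map_mul]
      congr 1; field_simp
    exact n1 ⟨g, c.inj (h.fix_unique ho (by rintro rfl; exact h.ne (by rwa [one_smul] at h1)) ww f1 f2)⟩

attribute [local instance] actG actP

theorem Crd.iso_pgl (c : Crd a b K H P φ) (h : ZK a b K) (hF : Fintype.card F = o[K])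
    (hd : o[H] = o[K] - 1) {w : G} (h1 : w • a = b) (h2 : w • b = a) (ww : w * w = 1)
    (hi : ∀ x ∈ H, w * x * w⁻¹ = x⁻¹) : Nonempty (G ≃* Matrix.ProjGenLinGroup (Fin 2) F) := by
  classical
  obtain ⟨α, α0, hα⟩ := c.exists_alpha h hF (by omega) h1 h2 ww hi
  haveI : Finite (Matrix.ProjGenLinGroup (Fin 2) F) :=
    Finite.of_surjective _ Matrix.ProjGenLinGroup.mk_surjective
  refine iso_of_act c.eqv.symm h.faith pgl_faith (h.induction h1 ?_ ?_ ?_ ?_)
    (by rw [h.card_G, card_PGL2, hF, hd])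
  · rintro x y ⟨s, hs⟩ ⟨t, ht⟩
    exact ⟨s * t, fun z => by rw [mul_smul, mul_smul, hs, ht]⟩
  · intro k hk
    obtain ⟨t, ht⟩ := c.cK k hk
    exact ⟨.mk (tri 1 t 1), c.mob_aff 1 1 t (h.le k hk) (by simpa using ht)⟩
  · intro x hx
    exact ⟨.mk (tri (Units.mk0 _ (Crd.φ_ne (φ := φ) ⟨x, hx⟩)) 0 1),
      c.mob_aff _ 1 0 hx.1 (by simpa using c.cA ⟨x, hx⟩)⟩
  · exact ⟨.mk (mk2 0 α 1 0 (by simpa using α0)), c.mob_inv _ h1 h2 (by simpa using hα)⟩

theorem Crd.iso_psl (c : Crd a b K H P φ) (h : ZK a b K) (hF : Fintype.card F = o[K])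
    (hd : 2 * o[H] = o[K] - 1) {w : G} (h1 : w • a = b) (h2 : w • b = a) (ww : w * w = 1)
    (hi : ∀ x ∈ H, w * x * w⁻¹ = x⁻¹) :
    Nonempty (G ≃* Matrix.ProjectiveSpecialLinearGroup (Fin 2) F) := by
  classical
  obtain ⟨α, α0, hα⟩ := c.exists_alpha h hF (by omega) h1 h2 ww hi
  have p1 := card_pos' H
  have hq : Fintype.card F % 2 = 1 := by omega
  have two : ∀ {x y : F}, x ≠ 0 → y ≠ 0 → _ := fun hx hy => c.two h hF hd hx hy
  have sq : ∀ {x : F}, x ≠ 0 → ∃ g, φ g = x * x := fun hx => (two hx hx).2 Iff.rfl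
  have hc : ringChar F ≠ 2 := fun e => by
    have := FiniteField.even_card_iff_char_two.1 e
    omega
  have sq' : ∀ g, ∃ x : F, φ g = x * x := fun g => by
    by_contra e
    have g0 := Crd.φ_ne (φ := φ) g
    have : ∀ x ≠ 0, ∃ k, φ k = x := fun x hx => by
      by_cases hs : IsSquare x
      · obtain ⟨y, rfl⟩ := hs
        exact sq (left_ne_zero_of_mul hx)
      · have : IsSquare (φ g * x) := by
          rw [← quadraticChar_one_iff_isSquare (mul_ne_zero g0 hx), map_mul,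
            quadraticChar_neg_one_iff_not_isSquare.2 hs, quadraticChar_neg_one_iff_not_isSquare.2 e]
          norm_num
        obtain ⟨y, hy⟩ := this
        exact ((two g0 hx).1 (hy ▸ sq (left_ne_zero_of_mul (hy ▸ mul_ne_zero g0 hx)))).1 ⟨g, rfl⟩
    have h3 : φ.toHomUnits.range = ⊤ := eq_top_iff.2 fun x _ => by
      obtain ⟨k, hk⟩ := this x x.ne_zero
      exact ⟨k, Units.ext hk⟩
    have := c.index_mul h hF
    rw [h3, index_top] at this
    omega
  obtain ⟨β, hβ⟩ : ∃ β : F, -α = β * β := by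
    by_cases he : Even o[H]
    · obtain ⟨j, jj, e1, e2, e3⟩ := h.exists_inv_fix he (c.ne 1)
        (fun e => one_ne_zero (c.inj (e.trans c.zero.symm)))
      have e4 : j = w * (⟨_, swap_swap h1 h2 e2 e3⟩ : H) := by simp
      rw [e4, mul_smul, c.cA, mul_one, hα _ (Crd.φ_ne _)] at e1
      have e5 := (div_eq_one_iff_eq (Crd.φ_ne _)).1 (c.inj e1)
      haveI := Fact.mk Nat.prime_two
      obtain ⟨z, hz⟩ := exists_prime_orderOf_dvd_card' (G := H) 2 he.two_dvd
      have z2 : φ z * φ z = 1 := by rw [← map_mul, ← pow_two, ← hz, pow_orderOf_eq_one, map_one]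
      rcases mul_self_eq_one_iff.1 z2 with e | e
      · rw [c.φ_inj h le_rfl (e.trans (map_one φ).symm)] at hz
        simp at hz
      · rw [e5, ← neg_one_mul, ← e, ← map_mul]; exact sq' _
    · rw [Nat.not_even_iff_odd] at he
      have m1 : (-1 : F) ≠ 0 := neg_ne_zero.2 one_ne_zero
      have n1 : ¬ ∃ g, φ g = -1 := by
        rintro ⟨g, hg⟩
        have : g ^ 2 = 1 := c.φ_inj h le_rfl (by rw [map_pow, hg, map_one]; ring)
        rw [(sq_eq_one_iff_of_odd he g).1 this, map_one] at hg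
        exact Ring.neg_one_ne_one_of_char_ne_two hc hg.symm
      have n2 : ¬ ∃ g, φ g = α := by
        rintro ⟨g, hg⟩
        obtain ⟨y, hy⟩ := sq' g
        have y0 : y ≠ 0 := left_ne_zero_of_mul (hy ▸ Crd.φ_ne g)
        have f1 : w • P y = P y := by rw [hα y y0, ← hg, hy, mul_div_cancel_right₀ _ y0]
        have f2 : w • P (-y) = P (-y) := by
          rw [hα _ (neg_ne_zero.2 y0), ← hg, hy]; congr 1; field_simp
        have := c.inj (h.fix_unique he (by rintro rfl; exact h.ne (by rwa [one_smul] at h1)) ww f1 f2)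
        refine Ring.neg_one_ne_one_of_char_ne_two hc (mul_right_cancel₀ y0 ?_)
        rw [neg_one_mul, one_mul]; exact this.symm
      obtain ⟨g, hg⟩ := (two m1 α0).2 (iff_of_false n1 n2)
      rw [← neg_one_mul, ← hg]; exact sq' g
  have β0 : β ≠ 0 := left_ne_zero_of_mul (hβ ▸ neg_ne_zero.2 α0)
  have key : ∀ (g : G) (s : GL (Fin 2) F), s.1.det = 1 → (∀ y, c.eqv.symm (g • y) = s • c.eqv.symm y) →
      ∃ s : Matrix.ProjectiveSpecialLinearGroup (Fin 2) F,
        ∀ y, c.eqv.symm (g • y) = s • c.eqv.symm y := fun g s h1 h2 => by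
    obtain ⟨s, rfl⟩ := exists_toGL_eq h1
    exact ⟨πS s, fun y => by rw [h2, πS_smul]; simp⟩
  refine iso_of_act c.eqv.symm h.faith (fun s hs => congrArg Subtype.val
    ((mob_actP (K := F) ⊤).faith ⟨s, mem_top s⟩ hs)) (h.induction h1 ?_ ?_ ?_ ?_) ?_
  · rintro x y ⟨s, hs⟩ ⟨t, ht⟩
    exact ⟨s * t, fun z => by rw [mul_smul, mul_smul, hs, ht]⟩
  · intro k hk
    obtain ⟨t, ht⟩ := c.cK k hk
    exact key _ _ (by simp [tri_val, Matrix.det_fin_two]) (c.mob_aff 1 1 t (h.le k hk) (by simpa using ht))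
  · intro x hx
    obtain ⟨y, hy⟩ := sq' ⟨x, hx⟩
    have y0 : y ≠ 0 := left_ne_zero_of_mul (hy ▸ Crd.φ_ne _)
    refine key _ _ ?_ (c.mob_aff (Units.mk0 y y0) (Units.mk0 y y0)⁻¹ 0 hx.1 fun z => ?_)
    · simp [tri_val, Matrix.det_fin_two, y0]
    · rw [c.cA ⟨x, hx⟩, hy]; congr 1; simp; ring
  · refine key _ _ ?_ (c.mob_inv (u := -β) (v := β⁻¹) (by simp [β0]) h1 h2 fun z hz => ?_)
    · simp [mk2_val, Matrix.det_fin_two, β0]
    · rw [hα z hz, ← neg_neg α, hβ]; congr 1; field_simp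
  · have h3 := card_PSL2 (F := F)
    rw [Nat.gcd_eq_left (by omega : 2 ∣ Fintype.card F - 1), hF] at h3
    rw [h.card_G]
    refine Nat.eq_of_mul_eq_mul_left two_pos (Eq.trans ?_ h3.symm)
    rw [show o[K] ^ 2 - 1 = (o[K] + 1) * (o[K] - 1) from Nat.sq_sub_sq _ 1, ← hd]
    ring

end id

variable [Finite G]

theorem ZK.isPrimePow (h : ZK a b K) (h0 : K ≠ ⊥) (hd : o[K] - 1 ≤ 2 * o[H]) : IsPrimePow o[K] := by
  obtain ⟨p, hp, e⟩ := h.elem h0 hd
  obtain ⟨f, hf⟩ := exists_card_eq_pow (elem_pgroup e)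
  refine ⟨p, f, hp.out.prime, Nat.pos_of_ne_zero ?_, hf.symm⟩
  rintro rfl
  exact h0 (card_eq_one.1 hf)

theorem ZK.iso_pgl (h : ZK a b K) (hd : o[H] = o[K] - 1) {w : G} (h1 : w • a = b) (h2 : w • b = a)
    (hi : ∀ x ∈ H, w * x * w⁻¹ = x⁻¹) (F : Type*) [Field F] [Fintype F] (hF : Fintype.card F = o[K]) :
    Nonempty (G ≃* Matrix.ProjGenLinGroup (Fin 2) F) := by
  have h0 : K ≠ ⊥ := fun e => by
    have := card_pos' H
    rw [e, card_bot] at hd
    omega
  obtain ⟨p, hp, e⟩ := h.elem h0 (by omega)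
  obtain ⟨P, φ, c⟩ := h.exists_crd h0 e.1 le_rfl (isMulComm_of_inverted hi) (h.irr (by omega)) F hF
  obtain ⟨v, vv, h3, h4⟩ := h.toZT.exists_swap h.ne
  exact c.iso_pgl h hF hd h3 h4 vv (inv_all h1 h2 hi h3 h4)

theorem ZK.iso_psl (h : ZK a b K) (hd : 2 * o[H] = o[K] - 1) {w : G} (h1 : w • a = b) (h2 : w • b = a)
    (hi : ∀ x ∈ H, w * x * w⁻¹ = x⁻¹) (F : Type*) [Field F] [Fintype F] (hF : Fintype.card F = o[K]) :
    Nonempty (G ≃* Matrix.ProjectiveSpecialLinearGroup (Fin 2) F) := by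
  have h0 : K ≠ ⊥ := fun e => by
    have := card_pos' H
    rw [e, card_bot] at hd
    omega
  obtain ⟨p, hp, e⟩ := h.elem h0 (by omega)
  obtain ⟨P, φ, c⟩ := h.exists_crd h0 e.1 le_rfl (isMulComm_of_inverted hi) (h.irr (by omega)) F hF
  obtain ⟨v, vv, h3, h4⟩ := h.toZT.exists_swap h.ne
  exact c.iso_psl h hF hd h3 h4 vv (inv_all h1 h2 hi h3 h4)

/-- odd degree, sharply triply transitive. -/
theorem ZK.iso_even (h : ZK a b K) (hd : o[H] = o[K] - 1) (he : Even o[K]) (F : Type*) [Field F]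
    [Fintype F] (hF : Fintype.card F = o[K]) : Nonempty (G ≃* Matrix.ProjGenLinGroup (Fin 2) F) := by
  obtain ⟨v, vv, h3, h4⟩ := h.toZT.exists_swap h.ne
  exact h.iso_pgl hd h3 h4 (h.inv_of_even he vv h3 h4) F hF

/-- sharply triply transitive. -/
structure S3 (G Ω : Type*) [Group G] [MulAction G Ω] : Prop extends ZT G Ω where
  tri : ∀ a b c a' b' c' : Ω, a ≠ b → a ≠ c → b ≠ c → a' ≠ b' → a' ≠ c' → b' ≠ c' →
    ∃ g : G, g • a = a' ∧ g • b = b' ∧ g • c = c'

omit [Finite G] in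
theorem S3.of [Finite Ω] (h3 : IsMultiplyPretransitive G Ω 3) (hc : 3 ≤ Nat.card Ω)
    (hs : ∀ (g : G) (a b c : Ω), a ≠ b → a ≠ c → b ≠ c → g • a = a → g • b = b → g • c = c → g = 1) :
    S3 G Ω := by
  refine ⟨⟨fun g hg => ?_, fun _ _ _ _ h1 h2 => is_two_pretransitive_iff.1
    (isMultiplyPretransitive_of_le (n := 3) (by norm_num) hc) h1 h2,
    fun g a b c h1 h2 h3 => hs g a b c h1 h3 h2⟩, is_three_pretransitive_iff.1 h3⟩
  haveI := Fintype.ofFinite Ω
  rw [Nat.card_eq_fintype_card] at hc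
  obtain ⟨a, b, c, h1, h2, h3⟩ := Fintype.two_lt_card_iff.1 hc
  exact hs g a b c h1 h2 h3 (hg _) (hg _) (hg _)

theorem ZK.card_of_tri (h : ZK a b K) (h2 : 2 ≤ o[K])
    (h3 : ∀ c d : Ω, c ≠ a → c ≠ b → d ≠ a → d ≠ b → ∃ g ∈ H, g • c = d) : o[H] = o[K] - 1 := by
  classical
  haveI := h.finΩ
  haveI := Fintype.ofFinite Ω
  have cS : Nat.card {y : Ω // y ≠ a ∧ y ≠ b} = o[K] - 1 := by
    rw [Nat.card_eq_fintype_card, Fintype.card_subtype,
      show (Finset.univ.filter fun y : Ω => y ≠ a ∧ y ≠ b) = (Finset.univ.erase a).erase b by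
        ext; simp [and_comm],
      Finset.card_erase_of_mem (by simpa using h.ne.symm), Finset.card_erase_of_mem (by simp),
      Finset.card_univ, ← Nat.card_eq_fintype_card, h.card_Ω']
    rfl
  obtain ⟨c, c1, c2⟩ := (Nat.card_pos_iff.1 (by omega : 0 < Nat.card {y : Ω // y ≠ a ∧ y ≠ b})).1
  rw [← cS]
  refine Nat.card_congr (Equiv.ofBijective (fun g => ⟨g.1 • c, ZK.smul_ne g.2.1 c1,
    ZK.smul_ne g.2.2 c2⟩) ⟨fun g k e => Subtype.ext (h.toZT.eq_of_three h.ne c2.symm c1.symm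
      (g.2.1.trans k.2.1.symm) (g.2.2.trans k.2.2.symm) (congrArg Subtype.val e)), fun y => ?_⟩)
  obtain ⟨g, hg, e⟩ := h3 c y c1 c2 y.2.1 y.2.2
  exact ⟨⟨g, hg⟩, Subtype.ext e⟩

theorem S3.card_H (s : S3 G Ω) (h : ZK a b K) (h2 : 2 ≤ o[K]) : o[H] = o[K] - 1 :=
  h.card_of_tri h2 fun c d h1 h2 h3 h4 => by
    obtain ⟨g, e1, e2, e3⟩ := s.tri a b c a b d h.ne h1.symm h2.symm h.ne h3.symm h4.symm
    exact ⟨g, ⟨e1, e2⟩, e3⟩

theorem ZK.tri_of_card (h : ZK a b K) (hd : o[H] = o[K] - 1) {c d : Ω} (c1 : c ≠ a) (c2 : c ≠ b)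
    (d1 : d ≠ a) (d2 : d ≠ b) : ∃ g ∈ H, g • c = d := by
  classical
  haveI := h.finΩ
  haveI := Fintype.ofFinite Ω
  have cS : Nat.card {y : Ω // y ≠ a ∧ y ≠ b} = o[K] - 1 := by
    rw [Nat.card_eq_fintype_card, Fintype.card_subtype,
      show (Finset.univ.filter fun y : Ω => y ≠ a ∧ y ≠ b) = (Finset.univ.erase a).erase b by
        ext; simp [and_comm],
      Finset.card_erase_of_mem (by simpa using h.ne.symm), Finset.card_erase_of_mem (by simp),
      Finset.card_univ, ← Nat.card_eq_fintype_card, h.card_Ω']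
    rfl
  have := (Nat.bijective_iff_injective_and_card (fun g : H => (⟨g.1 • c, ZK.smul_ne g.2.1 c1,
    ZK.smul_ne g.2.2 c2⟩ : {y : Ω // y ≠ a ∧ y ≠ b}))).2 ⟨fun g k e => Subtype.ext
      (h.toZT.eq_of_three h.ne c2.symm c1.symm
      (g.2.1.trans k.2.1.symm) (g.2.2.trans k.2.2.symm) (congrArg Subtype.val e)), hd.trans cS.symm⟩
  obtain ⟨g, e⟩ := this.2 ⟨d, d1, d2⟩
  exact ⟨g, g.2, congrArg Subtype.val e⟩

theorem ZK.s3_of_card (h : ZK a b K) (hd : o[H] = o[K] - 1) : S3 G Ω :=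
  ⟨h.toZT, fun x y z x' y' z' h1 h2 h3 h4 h5 h6 => by
    obtain ⟨g, e1, e2⟩ := h.two x y a b h1 h.ne
    obtain ⟨k, f1, f2⟩ := h.two x' y' a b h4 h.ne
    obtain ⟨l, hl, e⟩ := h.tri_of_card hd (c := g • z) (d := k • z')
      (fun e => h2 (smul_left_cancel g (e1.trans e.symm)))
      (fun e => h3 (smul_left_cancel g (e2.trans e.symm)))
      (fun e => h5 (smul_left_cancel k (f1.trans e.symm)))
      (fun e => h6 (smul_left_cancel k (f2.trans e.symm)))
    refine ⟨k⁻¹ * l * g, ?_, ?_, ?_⟩ <;> rw [mul_smul, mul_smul, inv_smul_eq_iff]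
    · rw [e1, hl.1, f1]
    · rw [e2, hl.2, f2]
    · exact e⟩

end CfsgH8.Za
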