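import Cfsg.Agent.H8.Za7
import Cfsg.Agent.H8.Za3

/-! Consequences of Feit's theorem on Zassenhaus groups. -/

set_option autoImplicit false
open Subgroup Cfsg CfsgH2 CfsgH1 CfsgH3 Function MulAction
open scoped commutatorElement

namespace CfsgH8.Za

universe u
variable {G Ω : Type*} [Group G] [MulAction G Ω] {a b : Ω} {K N : Subgroup G} {w : G}

local notation "L" => stabilizer G a
local notation "H" => HH G a b

section
variable [Finite G]

theorem ZK.zi_or (h : ZK a b K) (h0 : H ≠ ⊥) (ho : Odd o[H]) :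
    (∃ w, ZI a b K w) ∨ ∃ N : Subgroup G, N.Normal ∧ K ≤ N ∧ N ≠ ⊤ := by
  by_cases hq : ∀ (q : ℕ) [Fact q.Prime], q ∣ o[H] → ¬ NPC q (⊤ : Subgroup G)
  · obtain ⟨w, h1, h2, h3⟩ := h.toZT.exists_swap h.ne
    exact Or.inl ⟨w, h, ho, h0, h2, h3, h1, h.cyc_inv ho hq h2 h3⟩
  push Not at hq
  obtain ⟨q, hq, h1, h2⟩ := hq
  refine Or.inr ⟨piCoreOf {q}ᶜ ⊤, normalizer_eq_top_iff.1 (top_le_iff.1 le_norm_piCoreOf), h2.le le_top fun e => ?_,
    fun e => ?_⟩
  · have := (Nat.dvd_sub e (h1.trans h.card_dvd))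
    rw [Nat.sub_sub_self (card_pos' K), Nat.dvd_one] at this
    exact hq.out.ne_one this
  · have := piN_piCoreOf (π := {q}ᶜ) (M := (⊤ : Subgroup G))
    rw [e] at this
    exact this q hq.out (h1.trans (card_dvd_of_le le_top)) rfl

theorem ZK.exists_ZI [IsSimpleGroup G] (h : ZK a b K) (h0 : H ≠ ⊥) (ho : Odd o[H]) : ∃ w, ZI a b K w :=
  (h.zi_or h0 ho).resolve_right fun ⟨N, h1, h2, h3⟩ => (h1.eq_bot_or_eq_top.resolve_right h3 ▸ h2 : K ≤ ⊥)
    |> fun e => h.ker_ne h0 (le_bot_iff.1 e)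

theorem ZK.zi_of_even (h : ZK a b K) (h0 : H ≠ ⊥) (he : Even o[K]) : ∃ w, ZI a b K w := by
  obtain ⟨w, h1, h2, h3⟩ := h.toZT.exists_swap h.ne
  exact ⟨w, h, h.odd_H he, h0, h2, h3, h1, h.inv_of_even he h1 h2 h3⟩

theorem ZK.sub_normal (h : ZK a b K) [N.Normal] (h0 : K ≠ ⊥) (hK : K ≤ N) : ZK a b (K.subgroupOf N) :=
  h.sub hK fun x => h.toZT.normal_trans (fun e => h0 (le_bot_iff.1 (e ▸ hK))) x a

theorem card_HH_sub : o[HH N a b] = o[(H ⊓ N : Subgroup G)] := by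
  rw [HH_sub, ← inf_subgroupOf_right, Nat.card_congr (subgroupOfEquivOfLe inf_le_right).toEquiv]

theorem ZK.card_sub_lt (h : ZK a b K) [N.Normal] (h0 : K ≠ ⊥) (hK : K ≤ N) (h1 : N ≠ ⊤) :
    o[HH N a b] < o[H] := by
  rw [card_HH_sub]
  refine CfsgH2.card_lt_of_lt (lt_of_le_of_ne inf_le_left fun e => h1 ?_)
  obtain ⟨n, hn, e'⟩ := h.toZT.normal_trans (N := N) (fun e => h0 (le_bot_iff.1 (e ▸ hK))) a b
  exact h.eq_top hK (inf_eq_left.1 e) hn (e' ▸ h.ne.symm)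

end

theorem feit_aux (n : ℕ) : ∀ {G : Type u} [Group G] [Finite G] [MulAction G Ω] {K : Subgroup G},
    IsZassenhausGroup G Ω → ZK a b K → Odd o[HH G a b] → o[HH G a b] = n →
    o[K] ≤ 2 * n + 1 ∨ (IsPGroup 2 K ∧ ¬ Ab[K] ∧ ⁅K, K⁆.relIndex K < 4 * n ^ 2) := by
  induction n using Nat.strong_induction_on with
  | _ n ih =>
  intro G _ _ _ K hZ h ho e
  have h0 := HH_ne hZ h.ne
  rcases h.zi_or h0 ho with ⟨w, hw⟩ | ⟨N, hN, h1, h2⟩
  · exact e ▸ hw.feit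
  by_cases he : Even o[K]
  · obtain ⟨w, hw⟩ := h.zi_of_even h0 he
    exact e ▸ hw.feit
  have h3 := h.ker_ne h0
  have h4 := h.card_sub_lt h3 h1 h2
  have e1 : o[K.subgroupOf N] = o[K] := Nat.card_congr (subgroupOfEquivOfLe h1).toEquiv
  rcases ih _ (e ▸ h4) (normal_zas hZ fun e => h3 (le_bot_iff.1 (e ▸ h1))) (h.sub_normal h3 h1)
    (ho.of_dvd_nat (by rw [card_HH_sub]; exact card_dvd_of_le inf_le_left)) rfl with h5 | h5
  · left; omega
  · obtain ⟨k, hk⟩ := IsPGroup.iff_card.1 h5.1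
    rw [e1] at hk
    refine absurd (hk ▸ (Nat.even_pow.2 ⟨even_two, ?_⟩)) he
    rintro rfl
    exact h3 (card_eq_one.1 hk)

variable [Finite G]

/-- Feit, Ito: the regular normal subgroup of the point stabiliser is small or a non-abelian `2`-group. -/
theorem feit (hZ : IsZassenhausGroup G Ω) (h : ZK a b K) :
    o[K] - 1 ≤ 2 * o[H] ∨ (IsPGroup 2 K ∧ ¬ Ab[K] ∧ ⁅K, K⁆.relIndex K < 4 * o[H] ^ 2) := by
  rcases Nat.even_or_odd o[H] with e | e
  · exact Or.inl (h.le_two_mul e)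
  · exact (feit_aux _ hZ h e rfl).imp_left fun _ => by omega

theorem ZK.card_cases (h : ZK a b K) (h0 : H ≠ ⊥) (hd : o[K] - 1 ≤ 2 * o[H]) :
    o[H] = o[K] - 1 ∨ 2 * o[H] = o[K] - 1 := by
  obtain ⟨m, hm⟩ := h.card_dvd
  have p1 := card_pos' H
  have p2 := (one_lt_card_iff_ne_bot _).2 (h.ker_ne h0)
  obtain rfl | rfl : m = 1 ∨ m = 2 := by
    rw [hm, mul_comm 2] at hd
    have := Nat.le_of_mul_le_mul_left hd p1
    have : m ≠ 0 := by rintro rfl; omega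
    omega
  · left; omega
  · right; omega

theorem ZK.ab_of_le (h : ZK a b K) (h0 : H ≠ ⊥) (hd : o[K] - 1 ≤ 2 * o[H]) : Ab[K] := by
  obtain ⟨p, _, e⟩ := h.elem (h.ker_ne h0) hd
  exact e.1

theorem psl_of_half (hZ : IsZassenhausGroup G Ω) (h : ZK a b K) (hd : 2 * o[H] = o[K] - 1)
    (F : Type*) [Field F] [Fintype F] (hF : Fintype.card F = o[K]) :
    Nonempty (G ≃* Matrix.ProjectiveSpecialLinearGroup (Fin 2) F) := by
  have h0 := HH_ne hZ h.ne
  rcases Nat.even_or_odd o[H] with e | e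
  · obtain ⟨w, h2, h3⟩ := h.two a b b a h.ne h.ne.symm
    exact h.iso_psl hd h2 h3 (inv_of_sq_all h2 h3 fun v => h.sq_swap e hd.le) F hF
  rcases h.zi_or h0 e with ⟨w, hw⟩ | ⟨N, hN, h1, h2⟩
  · exact h.iso_psl hd hw.wa hw.wb hw.inv F hF
  have h3 := h.ker_ne h0
  have h4 := h.card_sub_lt h3 h1 h2
  have e1 : o[K.subgroupOf N] = o[K] := Nat.card_congr (subgroupOfEquivOfLe h1).toEquiv
  rcases feit (normal_zas hZ fun e => h3 (le_bot_iff.1 (e ▸ h1))) (h.sub_normal h3 h1) with h5 | h5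
  · omega
  · exact absurd ⟨⟨fun x y => Subtype.ext (Subtype.ext
      (comm_of_isMulComm (h.ab_of_le h0 hd.ge) x.2 y.2))⟩⟩ h5.2.1

/-- abelian case of odd degree -/
theorem card_of_ab_even (hZ : IsZassenhausGroup G Ω) (h : ZK a b K) (hab : Ab[K]) (he : Even o[K]) :
    o[H] = o[K] - 1 := by
  have := (feit hZ h).resolve_right fun e => e.2.1 hab
  have p := card_pos' K
  obtain ⟨m, hm⟩ := he
  rcases h.card_cases (HH_ne hZ h.ne) this with e | e <;> omega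

/-- odd degree: the regular normal subgroup of the point stabiliser is a `2`-group -/
theorem pg_of_even (hZ : IsZassenhausGroup G Ω) (h : ZK a b K) (he : Even o[K]) : IsPGroup 2 K := by
  rcases feit hZ h with e | e
  · obtain ⟨p, k, hp, hk, e⟩ := (isPrimePow_nat_iff _).1 (h.isPrimePow (h.ker_ne (HH_ne hZ h.ne)) e)
    rw [← e, Nat.even_pow] at he
    rw [(Nat.Prime.even_iff hp).1 he.1] at e
    exact IsPGroup.of_card e.symm
  · exact e.1

theorem elem_of_ab_even (hZ : IsZassenhausGroup G Ω) (h : ZK a b K) (hab : Ab[K]) (he : Even o[K]) :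
    ∀ k ∈ K, k * k = 1 := by
  obtain ⟨p, hp, e⟩ := h.elem (h.ker_ne (HH_ne hZ h.ne)) ((feit hZ h).resolve_right fun e => e.2.1 hab)
  haveI := Fact.mk Nat.prime_two
  obtain ⟨z, hz, oz⟩ := exists_prime_order_mem Nat.prime_two he.two_dvd
  have h1 : z ^ p = 1 := e.2 z hz
  have := (Nat.prime_dvd_prime_iff_eq Nat.prime_two hp.out).1 (oz ▸ orderOf_dvd_of_pow_eq_one h1)
  subst this
  exact fun k hk => pow_two k ▸ e.2 k hk

theorem isPrimePow_K (hZ : IsZassenhausGroup G Ω) (h : ZK a b K) : IsPrimePow o[K] := by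
  have h0 := h.ker_ne (HH_ne hZ h.ne)
  rcases feit hZ h with e | e
  · exact h.isPrimePow h0 e
  · obtain ⟨k, hk⟩ := IsPGroup.iff_card.1 e.1
    exact (isPrimePow_nat_iff _).2 ⟨2, k, Nat.prime_two, Nat.pos_of_ne_zero (by
      rintro rfl; exact h0 (card_eq_one.1 hk)), hk.symm⟩

omit [Finite G] in
theorem ZK.of_card [Finite G] [Fintype Ω] (h : ZT G Ω) (hab : a ≠ b) (hle : K ≤ L)
    (hc : o[K] + 1 = Fintype.card Ω) (hf : ∀ u ∈ K, u ≠ 1 → ∀ c : Ω, u • c = c → c = a) : ZK a b K := by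
  obtain ⟨K', h'⟩ := h.exists_K hab
  have : K = K' := eq_of_le_of_card_ge (fun u hu => by
    by_cases e : u = 1
    · exact e ▸ one_mem _
    · exact h'.mem_K (hle hu) (hf u hu e)) (by
    rw [← Nat.card_eq_fintype_card, h'.card_Ω'] at hc; omega)
  exact this ▸ h'

end CfsgH8.Za
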