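import Cfsg.Agent.H8.Za3
import Cfsg.Agent.L0.StrEmb

/-! A self-centralising subgroup of even order gives a Zassenhaus action. -/

set_option autoImplicit false
open Subgroup Cfsg CfsgH2 CfsgH1 CfsgH3 Function MulAction
open scoped commutatorElement

namespace CfsgH8.Za

variable {G : Type*} [Group G] [Finite G] {T : Subgroup G} {z : G}

/-- `T` contains the centralisers of its elements and has a central involution. -/
structure TC (T : Subgroup G) (z : G) : Prop where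
  cent : ∀ t ∈ T, t ≠ 1 → C1[t] ≤ T
  mem : z ∈ T
  ord : orderOf z = 2
  zc : T ≤ C1[z]
  ne : N[T] ≠ ⊤

omit [Finite G] in
theorem sq_of_ord {x : G} (h : orderOf x = 2) : x * x = 1 := by rw [← pow_two, ← h, pow_orderOf_eq_one]

omit [Finite G] in
theorem ne_of_ord {x : G} (h : orderOf x = 2) : x ≠ 1 := by rintro rfl; simp at h

omit [Finite G] in
theorem conj_ne_one {g x : G} (h : x ≠ 1) : g * x * g⁻¹ ≠ 1 := fun e =>
  h (by rwa [mul_inv_eq_one, mul_eq_left] at e)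

namespace TC

theorem ti (h : TC T z) {x g : G} (hx : x ∈ T) (h1 : x ≠ 1) (hg : g * x * g⁻¹ ∈ T) : g ∈ N[T] := by
  have e1 : g * z * g⁻¹ ∈ T := h.cent _ hg (conj_ne_one h1) (by
    rw [centralizer_conj]
    exact conj_mem_map_cj (mem_centralizer_singleton_iff.2 (mem_centralizer_singleton_iff.1 (h.zc hx)).symm))
  refine mem_norm_of_map_le (le_trans ?_ (h.cent _ e1 (conj_ne_one (ne_of_ord h.ord))))
  rw [centralizer_conj]
  exact map_mono h.zc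

theorem even (h : TC T z) : Even o[T] := even_iff_two_dvd.2 (h.ord ▸ orderOf_dvd_of_mem h.mem)

theorem mem_of_dvd (h : TC T z) {x : G} (hx : x ∈ N[T]) (ho : orderOf x ∣ o[T]) : x ∈ T := by
  have := coprime_of_cent_le (H := T) (L := N[T]) le_normalizer fun y hy y1 =>
    inf_le_right.trans (h.cent y hy y1)
  exact mem_of_pow_mem_coprime (pow_relIndex_mem' le_rfl hx) (this.coprime_dvd_left ho)

theorem inv_mem (h : TC T z) {x : G} (hx : x ∈ N[T]) (ho : orderOf x = 2) : x ∈ T :=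
  h.mem_of_dvd hx (ho ▸ h.even.two_dvd)

theorem ti' (h : TC T z) {x g : G} (hx : x ∈ T) (h1 : x ≠ 1) (hg : g * x * g⁻¹ ∈ N[T]) : g ∈ N[T] :=
  h.ti hx h1 (h.mem_of_dvd hg (by rw [orderOf_conj']; exact orderOf_dvd_of_mem hx))

theorem se (h : TC T z) : IsStronglyEmbedded N[T] :=
  CfsgL0.se_iff.2 ⟨h.ne, ⟨z, le_normalizer h.mem, h.ord⟩, fun _ ht ho _ hg =>
    h.ti' (h.inv_mem ht ho) (ne_of_ord ho) hg⟩

theorem exists_w (h : TC T z) {s v : G} (hs : s ∈ T) (os : orderOf s = 2) (hv : v ∉ N[T])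
    (ov : orderOf v = 2) : ∃ w : G, orderOf w = 2 ∧ w * s * w⁻¹ = v := by
  obtain ⟨w, h1, h2, -⟩ := CfsgL0.exists_invol_conj_of_odd os ov
    (CfsgL0.se_odd h.se (le_normalizer hs) os hv ov)
  exact ⟨w, h1, h2⟩

theorem coset (h : TC T z) {g : G} (hg : g ∉ N[T]) : ∃ w : G, orderOf w = 2 ∧ g⁻¹ * w ∈ T := by
  obtain ⟨w, h1, h2⟩ := h.exists_w h.mem h.ord (v := g * z * g⁻¹)
    (fun e => hg (h.ti' h.mem (ne_of_ord h.ord) e)) (by rw [orderOf_conj', h.ord])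
  refine ⟨w, h1, h.cent z h.mem (ne_of_ord h.ord) (mem_centralizer_singleton_iff.2 ?_)⟩
  calc g⁻¹ * w * z = g⁻¹ * (w * z * w⁻¹) * w := by group
    _ = _ := by rw [h2]; group

theorem exists_out (h : TC T z) : ∃ u : G, orderOf u = 2 ∧ u ∉ N[T] := by
  obtain ⟨g, hg⟩ : ∃ g, g ∉ N[T] := by
    by_contra e
    push Not at e
    exact h.ne (eq_top_iff.2 fun g _ => e g)
  obtain ⟨w, h1, h2⟩ := h.coset hg
  exact ⟨w, h1, fun e => hg (inv_mem_iff.1 ((mul_mem_cancel_right e).1 (le_normalizer h2)))⟩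

theorem disj (h : TC T z) {u : G} (hu : u ∉ N[T]) : T ⊓ N[T].map (cj u) = ⊥ :=
  eq_bot_iff.2 fun x hx => by
    by_contra e
    exact hu (inv_mem_iff.1 (h.ti' hx.1 e (g := u⁻¹) (by rw [inv_inv]; exact mem_map_cj.1 hx.2)))

theorem inverts (h : TC T z) {u : G} (ou : orderOf u = 2) (hu : u ∉ N[T]) :
    ∀ d ∈ N[T] ⊓ N[T].map (cj u), u * d * u⁻¹ = d⁻¹ := by
  have uu := sq_of_ord ou
  have ui : u⁻¹ = u := inv_eq_of_mul_eq_one_left uu
  refine fun d hd => inv_of_fpf_involution (K := N[T] ⊓ N[T].map (cj u)) (mem_norm_of_conj fun x hx =>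
    mem_inf.2 ⟨?_, conj_mem_map_cj hx.1⟩) (eq_bot_iff.2 fun x hx => ?_) uu hd
  · have := mem_map_cj.1 hx.2
    rwa [ui] at this ⊢
  · obtain ⟨w, h1, h2⟩ := h.exists_w h.mem h.ord hu ou
    have e : x ∈ T.map (cj w) := by
      refine map_mono (h.cent z h.mem (ne_of_ord h.ord)) ?_
      rw [← centralizer_conj, h2]; exact hx.2
    rw [← h.disj hu]
    exact ⟨h.mem_of_dvd hx.1.1 (card_map_cj w T ▸ orderOf_dvd_of_mem e), hx.1.2⟩

theorem trans (h : TC T z) {u s s' : G} (ou : orderOf u = 2) (hu : u ∉ N[T]) (hs : s ∈ T)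
    (os : orderOf s = 2) (hs' : s' ∈ T) (os' : orderOf s' = 2) :
    ∃ x ∈ N[T] ⊓ N[T].map (cj u), x * s' * x⁻¹ = s := by
  have uu := sq_of_ord ou
  have ui : u⁻¹ = u := inv_eq_of_mul_eq_one_left uu
  obtain ⟨w, h1, h2⟩ := h.exists_w hs' os' (v := u * s * u⁻¹)
    (fun e => hu (h.ti' hs (ne_of_ord os) e)) (by rw [orderOf_conj', os])
  have e : (u * w) * s' * (u * w)⁻¹ = s := by
    calc (u * w) * s' * (u * w)⁻¹ = u * (w * s' * w⁻¹) * u⁻¹ := by group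
      _ = (u * u) * s * (u * u)⁻¹ := by rw [h2]; group
      _ = s := by rw [uu]; group
  have m := h.ti hs' (ne_of_ord os') (e ▸ hs)
  refine ⟨u * w, ⟨m, mem_map_cj.2 ?_⟩, e⟩
  have := Subgroup.inv_mem _ m
  rw [mul_inv_rev, ui, inv_eq_of_mul_eq_one_left (sq_of_ord h1)] at this
  rwa [inv_mul_cancel_left]

theorem sup (h : TC T z) {u : G} (ou : orderOf u = 2) (hu : u ∉ N[T]) :
    T ⊔ (N[T] ⊓ N[T].map (cj u)) = N[T] :=
  le_antisymm (sup_le le_normalizer inf_le_left) fun g hg => by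
    obtain ⟨x, hx, e⟩ := h.trans ou hu (conj_mem_of_norm hg h.mem) (by rw [orderOf_conj', h.ord]) h.mem h.ord
    have : x⁻¹ * g ∈ T := h.cent z h.mem (ne_of_ord h.ord) (mem_centralizer_singleton_iff.2 (by
      calc x⁻¹ * g * z = x⁻¹ * (g * z * g⁻¹) * g := by group
        _ = _ := by rw [← e]; group))
    rw [← mul_inv_cancel_left x g]
    exact mul_mem (mem_sup_right hx) (mem_sup_left this)

theorem fpf (h : TC T z) {u : G} (hu : u ∉ N[T]) {d : G} (hd : d ∈ N[T] ⊓ N[T].map (cj u))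
    (h1 : d ≠ 1) : T ⊓ C1[d] = ⊥ :=
  eq_bot_iff.2 fun x hx => by
    by_contra e
    have : d ∈ T ⊓ N[T].map (cj u) := ⟨h.cent x hx.1 e (mem_centralizer_singleton_iff.2
      (mem_centralizer_singleton_iff.1 hx.2).symm), hd.2⟩
    rw [h.disj hu] at this
    exact h1 this

theorem card_D (h : TC T z) {u : G} (ou : orderOf u = 2) (hu : u ∉ N[T]) :
    o[N[T] ⊓ N[T].map (cj u)] = Nat.card {s : G // s ∈ T ∧ orderOf s = 2} :=
  Nat.card_congr (Equiv.ofBijective (fun d => ⟨d.1 * z * d.1⁻¹, conj_mem_of_norm d.2.1 h.mem,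
    by rw [orderOf_conj', h.ord]⟩) ⟨fun d k e => by
      have e' : d.1 * z * d.1⁻¹ = k.1 * z * k.1⁻¹ := congrArg Subtype.val e
      by_contra ne
      have : z ∈ T ⊓ C1[k.1⁻¹ * d.1] := ⟨h.mem, mem_centralizer_singleton_iff.2 (by
        calc z * (k.1⁻¹ * d.1) = k.1⁻¹ * (k.1 * z * k.1⁻¹) * d.1 := by group
          _ = _ := by rw [← e']; group)⟩
      rw [h.fpf hu (mul_mem (Subgroup.inv_mem _ k.2) d.2)
        (fun e => ne (Subtype.ext (inv_mul_eq_one.1 e).symm))] at this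
      exact ne_of_ord h.ord this, fun s => by
      obtain ⟨x, hx, e⟩ := h.trans ou hu s.2.1 s.2.2 h.mem h.ord
      exact ⟨⟨x, hx⟩, Subtype.ext e⟩⟩)

variable {y : G}

theorem frob (h : TC T z) (hy : y ∈ T) (oy : orderOf y = 2) (yz : y ≠ z) {u : G} (ou : orderOf u = 2)
    (hu : u ∉ N[T]) : Frob T (N[T] ⊓ N[T].map (cj u)) N[T] := by
  refine ⟨inf_le_left, h.sup ou hu, fun e => ne_of_ord h.ord (by rw [← mem_bot, ← e]; exact h.mem),
    fun e => ?_, fun d hd h1 => h.fpf hu hd h1⟩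
  obtain ⟨x, hx, e'⟩ := h.trans ou hu hy oy h.mem h.ord
  rw [e, mem_bot] at hx
  rw [hx] at e'
  exact yz (by simpa using e'.symm)

theorem map_coset {g w : G} (h : g⁻¹ * w ∈ N[T]) : N[T].map (cj w) = N[T].map (cj g) := by
  rw [← mul_inv_cancel_left g w, ← map_cj_cj, map_cj_of_mem h]

theorem cent_D (h : TC T z) (hy : y ∈ T) (oy : orderOf y = 2) (yz : y ≠ z) {u : G}
    (ou : orderOf u = 2) (hu : u ∉ N[T]) : C[N[T] ⊓ N[T].map (cj u)] ≤ N[T] := fun a ha => by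
  by_contra e
  have F := h.frob hy oy yz ou hu
  obtain ⟨v, ov, hv⟩ := h.coset e
  have hv' : v ∉ N[T] := fun e' => e (inv_mem_iff.1 ((mul_mem_cancel_right e').1 (le_normalizer hv)))
  have hc := mem_cent_iff.1 ha
  have i1 : ∀ d ∈ N[T] ⊓ N[T].map (cj u), v * d * v⁻¹ = d⁻¹ := fun d hd =>
    h.inverts ov hv' d <| mem_inf.2 ⟨hd.1, by
      rw [map_coset (le_normalizer hv), mem_map_cj, mul_assoc, hc d hd, inv_mul_cancel_left]
      exact hd.1⟩
  have i2 : ∀ d ∈ N[T] ⊓ N[T].map (cj u), (a⁻¹ * v) * d * (a⁻¹ * v)⁻¹ = d⁻¹ := fun d hd => by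
    calc (a⁻¹ * v) * d * (a⁻¹ * v)⁻¹ = a⁻¹ * (v * d * v⁻¹) * a := by group
      _ = _ := by rw [i1 d hd, mul_assoc, hc _ (Subgroup.inv_mem _ hd), inv_mul_cancel_left]
  have m : a⁻¹ * v ∈ T ⊓ (N[T] ⊓ N[T].map (cj u)) := ⟨hv, F.norm_le_comp le_rfl F.comp_ne
    ⟨le_normalizer hv, mem_norm_of_conj fun d hd => by rw [i2 d hd]; exact Subgroup.inv_mem _ hd⟩⟩
  rw [F.disj, mem_bot] at m
  refine F.comp_ne (eq_bot_iff.2 fun d hd => ?_)
  have e1 := i2 d hd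
  rw [m, one_mul, inv_one, mul_one] at e1
  by_contra d1
  have : d ∈ T ⊓ (N[T] ⊓ N[T].map (cj u)) :=
    ⟨h.inv_mem hd.1 (orderOf_eq_prime (by rw [pow_two]; exact mul_eq_one_iff_eq_inv.2 e1) d1), hd⟩
  rw [F.disj] at this
  exact d1 this

theorem tr (h : TC T z) (hy : y ∈ T) (oy : orderOf y = 2) (yz : y ≠ z) {u : G}
    (ou : orderOf u = 2) (hu : u ∉ N[T]) {g : G} (hg : g ∉ N[T]) : ∃ t ∈ T, (t * u)⁻¹ * g ∈ N[T] := by
  obtain ⟨v, ov, hv⟩ := h.coset hg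
  have hv' : v ∉ N[T] := fun e' => hg (inv_mem_iff.1 ((mul_mem_cancel_right e').1 (le_normalizer hv)))
  have F := h.frob hy oy yz ou hu
  obtain ⟨t, ht, e⟩ := (h.frob hy oy yz ov hv').exists_conj_le (U := N[T] ⊓ N[T].map (cj u))
    inf_le_left (by rw [inf_comm]; exact F.disj)
  have : u⁻¹ * (t * v * t⁻¹) ∈ N[T] := h.cent_D hy oy yz ou hu (mem_cent_iff.2 fun d hd => by
    have e1 := h.inverts ov hv' _ (mem_map_cj.1 (e hd))
    have e2 := h.inverts ou hu _ (Subgroup.inv_mem _ hd)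
    have uu := sq_of_ord ou
    calc d * (u⁻¹ * (t * v * t⁻¹)) = u⁻¹ * (u * d * u⁻¹) * (t * v * t⁻¹) := by group
      _ = u⁻¹ * (t * (t⁻¹ * d * t)⁻¹ * v * t⁻¹) := by rw [h.inverts ou hu d hd]; group
      _ = _ := by rw [← e1]; group)
  refine ⟨t⁻¹, Subgroup.inv_mem _ ht, ?_⟩
  have := mul_mem (mul_mem this (le_normalizer ht)) (Subgroup.inv_mem _ (le_normalizer hv))
  convert this using 1
  group

theorem mk_eq {x y : G} : (x : G ⧸ N[T]) = (y : G ⧸ N[T]) ↔ x⁻¹ * y ∈ N[T] := QuotientGroup.eq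

theorem smul_mk (x y : G) : x • (y : G ⧸ N[T]) = (x * y : G) := rfl

theorem fix_iff {x g : G} : x • (g : G ⧸ N[T]) = (g : G ⧸ N[T]) ↔ x ∈ N[T].map (cj g) := by
  rw [smul_mk, eq_comm, mk_eq, mem_map_cj, mul_assoc]

theorem fix_one {x : G} : x • ((1 : G) : G ⧸ N[T]) = ((1 : G) : G ⧸ N[T]) ↔ x ∈ N[T] := by
  rw [fix_iff, map_cj_one]

theorem ne_one {g : G} : (g : G ⧸ N[T]) ≠ ((1 : G) : G ⧸ N[T]) ↔ g ∉ N[T] := by
  rw [Ne, eq_comm, mk_eq, inv_one, one_mul]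

theorem HH_eq (u : G) : HH G ((1 : G) : G ⧸ N[T]) (u : G ⧸ N[T]) = N[T] ⊓ N[T].map (cj u) := by
  ext x
  rw [mem_HH, fix_one, fix_iff, mem_inf]

theorem zk (h : TC T z) (hy : y ∈ T) (oy : orderOf y = 2) (yz : y ≠ z) {u : G}
    (ou : orderOf u = 2) (hu : u ∉ N[T]) : ZK ((1 : G) : G ⧸ N[T]) (u : G ⧸ N[T]) T := by
  have F := h.frob hy oy yz ou hu
  have tr : ∀ x : G ⧸ N[T], x ≠ (1 : G) → ∃ t ∈ T, t • (u : G ⧸ N[T]) = x := fun x hx => by
    obtain ⟨g, rfl⟩ := QuotientGroup.mk_surjective x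
    exact h.tr hy oy yz ou hu (ne_one.1 hx) |>.imp fun t ht => ⟨ht.1, mk_eq.2 ht.2⟩
  have to1 : ∀ x : G ⧸ N[T], ∃ g : G, g • x = (1 : G) := fun x => by
    obtain ⟨g, rfl⟩ := QuotientGroup.mk_surjective x
    exact ⟨g⁻¹, by rw [smul_mk, inv_mul_cancel]⟩
  have to2 : ∀ x y : G ⧸ N[T], x ≠ y → ∃ g : G, g • x = (1 : G) ∧ g • y = u := fun x y e => by
    obtain ⟨g, hg⟩ := to1 x
    obtain ⟨t, ht, e'⟩ := tr (g • y) fun e' => e (smul_left_cancel g (hg.trans e'.symm))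
    exact ⟨t⁻¹ * g, by rw [mul_smul, hg, fix_one]; exact le_normalizer (Subgroup.inv_mem _ ht),
      by rw [mul_smul, ← e', inv_smul_smul]⟩
  have three : ∀ (g : G) (a b c : G ⧸ N[T]), a ≠ b → b ≠ c → a ≠ c → g • a = a → g • b = b →
      g • c = c → g = 1 := fun g a b c h1 h2 h3 e1 e2 e3 => by
    obtain ⟨k, f1, f2⟩ := to2 a b h1
    obtain ⟨t, ht, f3⟩ := tr (k • c) fun e => h3 (smul_left_cancel k (f1.trans e.symm))
    have fx : ∀ x : G ⧸ N[T], g • x = x → (k * g * k⁻¹) • k • x = k • x := fun x e => by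
      rw [mul_smul, mul_smul, inv_smul_smul, e]
    have m1 := fx a e1
    have m2 := fx b e2
    have m3 := fx c e3
    rw [f1, fix_one] at m1
    rw [f2, fix_iff] at m2
    rw [← f3, smul_mk, fix_iff, ← map_cj_cj] at m3
    by_contra g1
    refine conj_ne_one (g := k) g1 ?_
    rw [← mem_bot, ← F.ti (le_normalizer ht) fun e => ?_]
    · refine ⟨⟨m1, m2⟩, ?_⟩
      rw [map_cj_inf, map_cj_of_mem (le_normalizer ht)]
      exact ⟨m1, m3⟩
    · rw [fix_iff.2 e.2, ← f2] at f3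
      exact h2 (smul_left_cancel k f3)
  have n1 : ((1 : G) : G ⧸ N[T]) ≠ u := (ne_one.2 hu).symm
  have fr : ∀ k ∈ T, k • (u : G ⧸ N[T]) = u → k = 1 := fun k hk e => by
    rw [← mem_bot, ← h.disj hu]; exact ⟨hk, fix_iff.1 e⟩
  refine ⟨⟨fun g hg => three g _ _ (z • (u : G ⧸ N[T])) n1 (fun e => ne_of_ord h.ord (fr z h.mem e.symm))
    (ZK.smul_ne (fix_one.2 (le_normalizer h.mem)) n1.symm).symm (hg _) (hg _) (hg _),
    fun a b c d h1 h2 => ?_, three⟩, n1, fun k hk => fix_one.2 (le_normalizer hk),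
    fun g hg k hk => conj_mem_of_norm (fix_one.1 hg) hk, tr, fr⟩
  obtain ⟨g, e1, e2⟩ := to2 a b h1
  obtain ⟨k, f1, f2⟩ := to2 c d h2
  exact ⟨k⁻¹ * g, by rw [mul_smul, e1, inv_smul_eq_iff, f1], by rw [mul_smul, e2, inv_smul_eq_iff, f2]⟩

theorem card_elem (h2 : ∀ t ∈ T, t ^ 2 = 1) :
    Nat.card {s : G // s ∈ T ∧ orderOf s = 2} = o[T] - 1 := by
  classical
  haveI := Fintype.ofFinite T
  have := Fintype.card_subtype_compl (fun t : T => t = 1)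
  rw [Fintype.card_subtype_eq] at this
  rw [Nat.card_eq_fintype_card (α := T), ← this, ← Nat.card_eq_fintype_card]
  exact Nat.card_congr ⟨fun s => ⟨⟨s.1, s.2.1⟩, fun e => ne_of_ord s.2.2 (congrArg Subtype.val e)⟩,
    fun t => ⟨t.1.1, t.1.2, orderOf_eq_prime (h2 _ t.1.2) fun e => t.2 (Subtype.ext e)⟩,
    fun _ => rfl, fun _ => rfl⟩

end TC

theorem tc_of_elem (T : Sylow 2 G) (hnc : ¬ IsCyclic (T : Subgroup G))
    (hnn : ¬ (T : Subgroup G).Normal) (hC : ∀ t : G, orderOf t = 2 →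
      IsMulCommutative C1[t] ∧ ∀ c ∈ C1[t], c ^ 2 = 1) :
    ∃ z y, TC (T : Subgroup G) z ∧ y ∈ (T : Subgroup G) ∧ orderOf y = 2 ∧ y ≠ z ∧
      ∀ t ∈ (T : Subgroup G), t ^ 2 = 1 := by
  have h0 : (T : Subgroup G) ≠ ⊥ := fun e => hnc (by rw [e]; infer_instance)
  obtain ⟨z, hz, oz⟩ := CfsgL0.exists_orderOf_prime_of_ne_bot
    (T.isPGroup'.to_le (inf_le_left : Z[(T : Subgroup G)] ≤ _)) (CfsgH2.center_ne_bot T.isPGroup' h0)
  have zc : (T : Subgroup G) ≤ C1[z] := le_cent1_iff.2 hz.2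
  have h2 : ∀ t ∈ (T : Subgroup G), t ^ 2 = 1 := fun t ht => (hC z oz).2 t (zc ht)
  have ab : Ab[(T : Subgroup G)] := isMulComm_of_le (hC z oz).1 zc
  obtain ⟨y, hy, y1, yz⟩ : ∃ y ∈ (T : Subgroup G), y ≠ 1 ∧ y ≠ z := by
    by_contra e
    push Not at e
    refine hnc (isCyclic_of_le (H' := zpowers z) fun y hy => ?_)
    by_cases y1 : y = 1
    · rw [y1]; exact one_mem _
    · rw [e y hy y1]; exact mem_zpowers _
  refine ⟨z, y, ⟨fun t ht t1 => ?_, hz.1, oz, zc, fun e => hnn (normalizer_eq_top_iff.1 e)⟩, hy,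
    orderOf_eq_prime (h2 y hy) y1, yz, h2⟩
  exact ((syl_top T).eq_of_le (isPGroup_of_exp (hC t (orderOf_eq_prime (h2 t ht) t1)).2)
    (le_cent1_iff.2 (le_cent_self ab ht)) le_top).le

end CfsgH8.Za
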