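import Mathlib
import Cfsg.Agent.H8.Multi

set_option autoImplicit false

namespace CfsgH8

open MulAction Equiv Equiv.Perm

/-- A primitive group whose pointwise stabiliser of `s` is primitive on the complement is
`(|s| + 1)`-transitive. -/
theorem multiplyTransitive_of_primitive_jordan {G Ω : Type*} [Group G] [MulAction G Ω]
    [Finite Ω] (hG : IsPreprimitive G Ω) (s : Set Ω) (hs : s.ncard + 2 ≤ Nat.card Ω)
    (h : IsPreprimitive (fixingSubgroup G s) (SubMulAction.ofFixingSubgroup G s)) :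
    IsMultiplyPretransitive G Ω (s.ncard + 1) := by
  rcases Nat.eq_zero_or_pos s.ncard with h0 | h0
  · rw [h0]
    exact is_one_pretransitive_iff.mpr hG.toIsPretransitive
  · obtain ⟨n, hn⟩ := Nat.exists_eq_add_of_le' h0
    have := hG.isMultiplyPreprimitive hn (by omega) h
    rw [hn]
    exact IsMultiplyPreprimitive.isMultiplyPretransitive G Ω (n + 2)

/-- A subgroup of `Perm α` fixing everything outside `Γ` has order dividing `|Γ|!`. -/
theorem card_dvd_factorial_of_support {α : Type*} [Fintype α] [DecidableEq α]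
    (H : Subgroup (Perm α)) (Γ : Finset α) (h : ∀ g ∈ H, ∀ x, x ∉ Γ → g x = x) :
    Nat.card H ∣ Γ.card.factorial := by
  have hm : ∀ g ∈ H, ∀ x, g x ∈ Γ ↔ x ∈ Γ := by
    intro g hg x
    constructor
    · intro hx
      by_contra hx'
      rw [h g hg x hx'] at hx
      exact hx' hx
    · intro hx
      by_contra hx'
      have := g.injective (h g hg _ hx')
      rw [this] at hx'
      exact hx' hx
  let φ : H →* Perm Γ :=
    { toFun := fun g => (g : Perm α).subtypePerm (hm g g.2)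
      map_one' := by ext; simp
      map_mul' := fun _ _ => by ext; rfl }
  have hφ : Function.Injective φ := by
    rw [injective_iff_map_eq_one]
    intro g hg
    ext x
    by_cases hx : x ∈ Γ
    · exact congrArg (fun f : Perm Γ => (f ⟨x, hx⟩ : α)) hg
    · exact h g g.2 x hx
  have := Subgroup.card_dvd_of_injective φ hφ
  rwa [Nat.card_perm, Nat.card_eq_fintype_card (α := Γ), Fintype.card_coe] at this

/-- Jordan's theorem on cycles of prime length. -/
theorem alternatingGroup_le_of_prime_cycle {α : Type*} [Fintype α] [DecidableEq α]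
    (G : Subgroup (Perm α)) (hG : IsPreprimitive G α) {p : ℕ} (hp : p.Prime)
    (hpn : p + 3 ≤ Fintype.card α) {g : Perm α} (hgc : g.IsCycle) (hgp : g.support.card = p)
    (hg : g ∈ G) : alternatingGroup α ≤ G := by
  classical
  have := Fact.mk hp
  set Δ : Finset α := g.supportᶜ with hΔ
  have hΔc : Δ.card = Fintype.card α - p := by rw [hΔ, Finset.card_compl, hgp]
  have hprim : IsPreprimitive (fixingSubgroup G (g.support : Set α)ᶜ)
      (SubMulAction.ofFixingSubgroup G (g.support : Set α)ᶜ) := by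
    have := isPretransitive_of_isCycle_mem hgc hg
    apply IsPreprimitive.of_prime_card
    convert! hp
    rw [Nat.card_eq_fintype_card, Fintype.card_subtype, ← hgp]
    apply congr_arg
    ext x
    simp [SubMulAction.mem_ofFixingSubgroup_iff]
  have hnc : ((g.support : Set α)ᶜ).ncard = Δ.card := by
    rw [hΔ, ← Finset.coe_compl, Set.ncard_coe_finset]
  have htr := multiplyTransitive_of_primitive_jordan hG _
    (by rw [hnc, hΔc, Nat.card_eq_fintype_card]; have := hp.two_le; omega) hprim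
  rw [hnc] at htr
  -- the pointwise stabiliser H of Δ
  let H : Subgroup (Perm α) := G ⊓ fixingSubgroup (Perm α) (Δ : Set α)
  have hH : ∀ u, u ∈ H ↔ u ∈ G ∧ ∀ x ∈ Δ, u x = x := fun u => by
    simp [H, mem_fixingSubgroup_iff]
  have hgΔ : ∀ x ∈ Δ, g x = x := fun x hx => by simpa [hΔ] using hx
  have hgH : g ∈ H := (hH g).mpr ⟨hg, hgΔ⟩
  have hdvd : Nat.card H ∣ p.factorial := hgp ▸
    card_dvd_factorial_of_support H g.support fun u hu x hx =>
      ((hH u).mp hu).2 x (by simpa [hΔ] using hx)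
  have hord : orderOf g = p := by rw [hgc.orderOf, hgp]
  have hfac : (Nat.card H).factorization p = 1 := by
    apply le_antisymm
    · have h1 : (p.factorial).factorization p = 1 := by
        obtain ⟨k, rfl⟩ := Nat.exists_eq_add_of_le' hp.one_le
        rw [Nat.factorial_succ, Nat.factorization_mul (by omega) (Nat.factorial_ne_zero _),
          Finsupp.add_apply, hp.factorization_self, Nat.factorization_eq_zero_of_not_dvd]
        rw [hp.dvd_factorial]; omega
      rw [← h1]
      exact (Nat.factorization_le_iff_dvd Nat.card_pos.ne' (Nat.factorial_ne_zero _)).mpr hdvd p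
    · exact (hp.dvd_iff_one_le_factorization Nat.card_pos.ne').mp
        (hord ▸ H.orderOf_dvd_natCard hgH)
  have hsyl : ∀ x : H, orderOf (x : Perm α) = p → ∃ P : Sylow p H,
      (P : Subgroup H) = Subgroup.zpowers x := fun x hx =>
    ⟨Sylow.ofCard (Subgroup.zpowers x) (by
      rw [Nat.card_zpowers, hfac, pow_one, ← hx, Subgroup.orderOf_coe]), rfl⟩
  -- Witt: every permutation of Δ is induced by the normaliser of ⟨g⟩
  have witt : ∀ f : Perm α, (∀ x ∈ Δ, f x ∈ Δ) → ∃ u ∈ G, (∀ x ∈ Δ, u x = f x) ∧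
      ∃ i : ℤ, u * g * u⁻¹ = g ^ i := by
    intro f hf
    obtain ⟨u, hu⟩ := exists_smul_eq_on_finset htr (by
      rw [hΔc, Nat.card_eq_fintype_card]; have := hp.two_le; omega) Δ (by omega) f
      f.injective.injOn
    have hu : ∀ x ∈ Δ, (u : Perm α) x = f x := hu
    have hinv : ∀ x ∈ Δ, (u : Perm α)⁻¹ x ∈ Δ :=
      fun x hx => perm_symm_on_of_perm_on_finset (fun y hy => hu y hy ▸ hf y hy) hx
    have hc : (u : Perm α) * g * (u : Perm α)⁻¹ ∈ H := (hH _).mpr
      ⟨G.mul_mem (G.mul_mem u.2 hg) (G.inv_mem u.2), fun x hx => by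
        rw [mul_apply, mul_apply, hgΔ _ (hinv x hx)]; simp⟩
    obtain ⟨P, hP⟩ := hsyl ⟨g, hgH⟩ hord
    obtain ⟨Q, hQ⟩ := hsyl ⟨_, hc⟩ (by
      rw [← hord]; exact (MulAut.conj (u : Perm α)).orderOf_eq g)
    obtain ⟨v, hv⟩ := exists_smul_eq H Q P
    have hm : v * ⟨_, hc⟩ * v⁻¹ ∈ (P : Subgroup H) := by
      rw [← hv]
      exact ⟨⟨_, hc⟩, by rw [hQ]; exact Subgroup.mem_zpowers _, rfl⟩
    rw [hP] at hm
    obtain ⟨i, hi⟩ := hm
    refine ⟨v * u, G.mul_mem ((hH _).mp v.2).1 u.2, fun x hx => ?_, i, ?_⟩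
    · rw [mul_apply, hu x hx, ((hH _).mp v.2).2 _ (hf x hx)]
    · have := congrArg Subtype.val hi
      simp only [SubgroupClass.coe_zpow, Subgroup.coe_mul, InvMemClass.coe_inv] at this
      rw [this]
      group
  obtain ⟨a, b, c, ha, hb, hc, hab, hac, hbc⟩ := Finset.two_lt_card_iff.mp
    (show 2 < Δ.card by omega)
  have hsw : ∀ a ∈ Δ, ∀ b ∈ Δ, ∀ x ∈ Δ, swap a b x ∈ Δ := fun a ha b hb x hx => by
    rw [swap_apply_def]; split_ifs <;> assumption
  obtain ⟨u, hu, hu1, i, hi⟩ := witt (swap a b) (hsw a ha b hb)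
  obtain ⟨v, hv, hv1, j, hj⟩ := witt (swap a c) (hsw a ha c hc)
  have hcomm : Commute ((v * u)⁻¹ * (u * v)) g := by
    have h1 : u * v * g * (u * v)⁻¹ = g ^ (i * j) := by
      calc u * v * g * (u * v)⁻¹ = u * (v * g * v⁻¹) * u⁻¹ := by group
        _ = (u * g * u⁻¹) ^ j := by rw [hj, conj_zpow]
        _ = _ := by rw [hi, zpow_mul]
    have h2 : v * u * g * (v * u)⁻¹ = g ^ (i * j) := by
      calc v * u * g * (v * u)⁻¹ = v * (u * g * u⁻¹) * v⁻¹ := by group
        _ = (v * g * v⁻¹) ^ i := by rw [hi, conj_zpow]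
        _ = _ := by rw [hj, mul_comm i, zpow_mul]
    have h3 := h1.trans h2.symm
    show _ = _
    calc (v * u)⁻¹ * (u * v) * g = (v * u)⁻¹ * (u * v * g * (u * v)⁻¹) * (u * v) := by group
      _ = _ := by rw [h3]; group
  set h := (v * u)⁻¹ * (u * v) with hh
  have hhG : h ∈ G := G.mul_mem (G.inv_mem (G.mul_mem hv hu)) (G.mul_mem hu hv)
  have hhΔ : ∀ x ∈ Δ, h x = (swap a c * swap a b) x := by
    intro x hx
    rw [hh, mul_apply, Perm.inv_eq_iff_eq]
    simp only [mul_apply]
    rw [hv1 x hx, hu1 _ (hsw a ha c hc x hx), hu1 _ (hsw a ha c hc _ (hsw a ha b hb x hx)),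
      hv1 _ (hsw a ha b hb _ (hsw a ha c hc _ (hsw a ha b hb x hx)))]
    simp only [swap_apply_def]
    split_ifs <;> simp_all
  obtain ⟨x₀, hx₀, hcyc⟩ := hgc
  have hhx₀ : g (h x₀) ≠ h x₀ := by
    rw [← mul_apply, ← hcomm.eq, mul_apply]
    exact fun e => hx₀ (h.injective e)
  obtain ⟨k, hk⟩ := hcyc hhx₀
  have hw : (g ^ k)⁻¹ * h = swap a c * swap a b := by
    ext x
    by_cases hx : x ∈ Δ
    · rw [mul_apply, hhΔ x hx, Perm.inv_eq_iff_eq]
      exact (zpow_apply_eq_self_of_apply_eq_self (hgΔ _ (hsw a ha c hc _ (hsw a ha b hb x hx))) k).symm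
    · have hx' : g x ≠ x := by simpa [hΔ] using hx
      obtain ⟨l, rfl⟩ := hcyc hx'
      have e1 : (swap a c * swap a b) ((g ^ l) x₀) = (g ^ l) x₀ := by
        have n1 : ∀ y ∈ Δ, (g ^ l) x₀ ≠ y := fun y hy e => hx (e ▸ hy)
        rw [mul_apply, swap_apply_of_ne_of_ne (n1 a ha) (n1 b hb),
          swap_apply_of_ne_of_ne (n1 a ha) (n1 c hc)]
      rw [e1, mul_apply, Perm.inv_eq_iff_eq, ← mul_apply, (hcomm.zpow_right l).eq, mul_apply, ← hk,
        ← mul_apply, ← mul_apply, ← zpow_add, ← zpow_add, add_comm]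
  refine alternatingGroup_le_of_isPreprimitive_of_isThreeCycle_mem hG
    (isThreeCycle_swap_mul_swap_same hac hab hbc.symm) ?_
  rw [← hw]
  exact G.mul_mem (G.inv_mem (G.zpow_mem hg k)) hhG

end CfsgH8
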