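import Mathlib
import Cfsg.Agent.H8.P2a

/-! Solvable subgroups of `SL₂`. -/

set_option autoImplicit false
set_option linter.unusedSectionVars false

open Matrix
open scoped commutatorElement

namespace CfsgH8

theorem solvable_of_comm_le {G : Type*} [Group G] {N C : Subgroup G} (h : ∀ a ∈ N, ∀ b ∈ N, ⁅a, b⁆ ∈ C)
    (c : ∀ a ∈ C, ∀ b ∈ C, a * b = b * a) : Group.IsSolvable N := by
  have : commutator N ≤ C.comap N.subtype := Subgroup.commutator_le.2 fun a _ b _ => h a a.2 b b.2
  refine ⟨2, ?_⟩
  rw [derivedSeries_succ, derivedSeries_one, Subgroup.commutator_eq_bot_iff_le_centralizer]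
  exact fun a ha b hb => Subtype.ext (c b (this hb) a (this ha))

theorem solvable_of_le {G : Type*} [Group G] {H K : Subgroup G} (h : H ≤ K) (s : Group.IsSolvable K) :
    Group.IsSolvable H := Group.isSolvable_of_isSolvable_injective (Subgroup.inclusion_injective h)

theorem solvable_map {G G' : Type*} [Group G] [Group G'] {H : Subgroup G} (f : G →* G') (s : Group.IsSolvable H) :
    Group.IsSolvable (H.map f) := Group.isSolvable_of_surjective (f.subgroupMap_surjective H)

variable {F : Type*} [Field F]

local notation "SL2" => Matrix.SpecialLinearGroup (Fin 2) F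
local notation "PSL2" => Matrix.ProjectiveSpecialLinearGroup (Fin 2) F

theorem TorN.solvable {C N : Subgroup SL2} (h : TorN C N) : Group.IsSolvable N := by
  refine solvable_of_comm_le (fun a ha b hb => ?_) fun a ha b hb => h.tor.comm ha hb
  rw [commutatorElement_def]
  by_cases c : b ∈ C
  · exact mul_mem (h.conj_mem le_rfl ha c) (inv_mem c)
  by_cases d : a ∈ C
  · simpa [mul_assoc] using mul_mem d (h.conj_mem le_rfl hb (inv_mem d))
  · simpa [mul_assoc] using mul_mem (h.mul a ha d b hb c)
      (h.mul _ (inv_mem ha) (mt inv_mem_iff.1 d) _ (inv_mem hb) (mt inv_mem_iff.1 c))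

theorem solvable_BS : Group.IsSolvable (BS F) := by
  refine solvable_of_comm_le (fun a ha b hb => comm_mem_US ha hb) fun a ha b hb => ?_
  obtain ⟨s, rfl⟩ := mem_US.1 ha
  obtain ⟨t, rfl⟩ := mem_US.1 hb
  simp [triS_mul, add_comm]

theorem solvable_of_comap {H : Subgroup PSL2} {K : Subgroup SL2} (h : H.comap πS ≤ K) (s : Group.IsSolvable K) :
    Group.IsSolvable H := map_comap_πS H ▸ solvable_map _ (solvable_of_le h s)

theorem solvable_of_conj_BS {G : Subgroup SL2} {s : SL2} (h : ∀ g ∈ G, s * g * s⁻¹ ∈ BS F) :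
    Group.IsSolvable G := by
  refine solvable_of_le (fun g hg => ?_) (solvable_map (MulAut.conj s⁻¹).toMonoidHom solvable_BS)
  exact ⟨_, h g hg, by simp [mul_assoc]⟩

end CfsgH8
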