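import Cfsg.Agent.H1.CoxA

/-! The automorphism group of the quaternion group of order eight. -/

set_option autoImplicit false
open QuaternionGroup CfsgH1

namespace CfsgH8

/-- the quaternion group of order eight. -/
abbrev Q8 := QuaternionGroup 2

/-- three involutive automorphisms. -/
def qf : ℕ → Q8 → Q8
  | 0, a i => a (-i)
  | 0, xa i => xa (1 - i)
  | 1, a i => if i = 1 ∨ i = 3 then xa (i - 1) else a i
  | 1, xa i => if i = 0 ∨ i = 2 then a (i + 1) else xa (-i)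
  | 2, a i => a (-i)
  | 2, xa i => xa (3 - i)
  | _, x => x

theorem qf_ok (k : ℕ) : (∀ x, qf k (qf k x) = x) ∧ ∀ x y, qf k (x * y) = qf k x * qf k y := by
  rcases k with _ | _ | _ | k
  · decide
  · decide
  · decide
  · exact ⟨fun _ => rfl, fun _ _ => rfl⟩

/-- the automorphisms. -/
def qu (k : ℕ) : MulAut Q8 := ⟨⟨qf k, qf k, (qf_ok k).1, (qf_ok k).1⟩, (qf_ok k).2⟩

theorem q8_ext {G : Type*} [Group G] {f g : Q8 →* G} (h1 : f (a 1) = g (a 1)) (h2 : f (xa 0) = g (xa 0)) :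
    f = g := by
  have h : ∀ x : Q8, ∃ i < 4, ∃ j < 2, x = xa 0 ^ j * a 1 ^ i := by decide
  ext x
  obtain ⟨i, -, j, -, rfl⟩ := h x
  simp only [map_mul, map_pow, h1, h2]

theorem card_aut_le : Nat.card (MulAut Q8) ≤ 24 := by
  refine (Nat.card_le_card_of_injective (fun f : MulAut Q8 => (⟨(f (a 1), f (xa 0)), fun e =>
    absurd (f.injective (by rw [map_mul, map_mul]; exact e) : a 1 * xa 0 = xa 0 * a 1) (by decide)⟩ :
      {p : Q8 × Q8 // p.1 * p.2 ≠ p.2 * p.1})) fun f g e => ?_).trans ?_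
  · have := congrArg Subtype.val e
    exact MulEquiv.toMonoidHom_injective (q8_ext (congrArg Prod.fst this) (congrArg Prod.snd this))
  · rw [Nat.card_eq_fintype_card]
    decide

theorem aut_q8 : Nonempty (MulAut Q8 ≃* Equiv.Perm (Fin 4)) := by
  have c : CoxA qu 3 := ⟨fun i _ => MulEquiv.ext (qf_ok i).1, fun i h => MulEquiv.ext (by
    obtain rfl | rfl : i = 0 ∨ i = 1 := by omega
    all_goals decide), fun i j h1 h2 => MulEquiv.ext (by
      obtain ⟨rfl, rfl⟩ : i = 0 ∧ j = 2 := by omega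
      decide)⟩
  obtain ⟨φ, hφ⟩ := c.exists_hom
  let W : List (List ℕ) := [[], [0], [2], [4], [2, 0], [4, 0], [0, 2], [4, 2], [2, 4], [0, 2, 0],
    [4, 2, 0], [2, 4, 0], [4, 0, 2], [2, 4, 2], [0, 2, 4], [4, 0, 2, 0], [2, 4, 2, 0], [0, 2, 4, 0],
    [2, 4, 0, 2], [0, 2, 4, 2], [2, 4, 0, 2, 0], [0, 2, 4, 2, 0], [0, 2, 4, 0, 2], [0, 2, 4, 0, 2, 0]]
  have n : (W.map (wp qu)).Nodup := List.Nodup.of_map (fun f : MulAut Q8 => (f (a 1), f (xa 0)))
    (by decide)
  have s := closure_eq_top_of_nodup qu (m := 3) W (by decide) n card_aut_le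
  classical
  haveI := Fintype.ofFinite (MulAut Q8)
  refine ⟨(MulEquiv.ofBijective φ ((MonoidHom.range_eq_top.1 ((CoxA.range_hom hφ).trans s)).bijective_of_nat_card_le ?_)).symm⟩
  rw [card_S4, Nat.card_eq_fintype_card]
  exact n.length_le_card

end CfsgH8
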