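import Cfsg.Agent.H8.Pres
import Cfsg.Agent.H8.SL2e
import Cfsg.Agent.H5.GrpAux

/-! A presentation of `SL₂(3)`. -/

set_option autoImplicit false

namespace CfsgH8

/-- Coset representatives. -/
def s3W : List (List ℕ) := [
  [],[0],[1],[2],[3],[2,0],[3,0],[2,1],[3,1],[0,2],[1,2],[0,3],[1,3],[0,2,0],[1,2,0],[0,3,0],
  [1,3,0],[0,2,1],[1,2,1],[0,3,1],[1,3,1],[2,0,2],[3,1,3],[2,0,2,0],[3,0,2],[2,1,2],[3,1,2],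
  [2,0,3],[3,0,3],[2,1,3]]

/-- Deductions. -/
def s3L : List TCStep := [
  ⟨0,[],0,1,[]⟩,⟨0,[],1,2,[]⟩,⟨0,[(0,0)],0,2,[(1,0)]⟩,⟨0,[],2,3,[]⟩,⟨0,[],3,4,[]⟩,
  ⟨0,[(0,2)],2,4,[(3,2)]⟩,⟨1,[],2,5,[]⟩,⟨1,[],3,6,[]⟩,⟨1,[(1,2)],2,6,[(5,2)]⟩,⟨2,[],2,7,[]⟩,
  ⟨2,[],3,8,[]⟩,⟨2,[(2,2)],2,8,[(7,2)]⟩,⟨3,[],0,9,[]⟩,⟨3,[],1,10,[]⟩,⟨3,[(3,0)],0,10,[(9,0)]⟩,
  ⟨4,[],0,11,[]⟩,⟨4,[],1,12,[]⟩,⟨4,[(4,0)],0,12,[(11,0)]⟩,⟨5,[],0,13,[]⟩,⟨5,[],1,14,[]⟩,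
  ⟨5,[(5,0)],0,14,[(13,0)]⟩,⟨6,[],0,15,[]⟩,⟨6,[],1,16,[]⟩,⟨6,[(6,0)],0,16,[(15,0)]⟩,⟨7,[],0,17,[]⟩,
  ⟨7,[],1,18,[]⟩,⟨7,[(7,0)],0,18,[(17,0)]⟩,⟨8,[],0,19,[]⟩,⟨8,[],1,20,[]⟩,⟨8,[(8,0)],0,20,[(19,0)]⟩,
  ⟨9,[],2,21,[]⟩,⟨9,[],3,24,[]⟩,⟨9,[(9,2)],2,24,[(21,2)]⟩,⟨10,[],2,25,[]⟩,⟨10,[],3,26,[]⟩,
  ⟨10,[(10,2)],2,26,[(25,2)]⟩,⟨11,[],2,27,[]⟩,⟨11,[],3,28,[]⟩,⟨11,[(11,2)],2,28,[(27,2)]⟩,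
  ⟨12,[],2,29,[]⟩,⟨12,[],3,22,[]⟩,⟨12,[(12,2)],2,22,[(29,2)]⟩,⟨13,[],2,23,[]⟩,
  ⟨22,[],0,22,[(23,2),(13,0),(5,2),(1,0),(0,2),(4,0),(12,2)]⟩,
  ⟨22,[(22,0),(23,2),(13,0),(5,2),(1,0),(0,3),(3,1),(9,3)],1,21,[(23,1)]⟩,
  ⟨4,[(4,0),(12,2),(22,0),(23,2),(13,0),(5,3)],1,6,[(28,3),(11,1),(12,1)]⟩,
  ⟨28,[],4,28,[(15,0),(6,1)]⟩,⟨15,[],4,15,[(28,4)]⟩,⟨15,[],3,15,[(11,2),(28,5)]⟩,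
  ⟨15,[],2,15,[(27,3),(28,5)]⟩,
  ⟨12,[(12,0),(11,2),(15,0),(6,2)],0,5,[(26,3),(10,1),(3,3),(4,1),(11,1)]⟩,
  ⟨26,[],4,26,[(14,1),(5,0)]⟩,⟨14,[],4,14,[(26,4)]⟩,⟨14,[],3,14,[(10,2),(26,5)]⟩,
  ⟨14,[],2,14,[(25,3),(26,5)]⟩,
  ⟨18,[],0,18,[(29,2),(12,0),(11,2),(15,0),(6,3),(1,1),(2,3),(7,1),(17,1)]⟩,
  ⟨29,[],4,29,[(17,1),(18,0)]⟩,⟨17,[],4,17,[(29,4)]⟩,⟨17,[],3,17,[(22,2),(29,5)]⟩,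
  ⟨17,[],2,17,[(12,3),(29,5)]⟩,⟨18,[(18,0),(17,2),(12,0),(11,2),(15,0),(6,2),(5,0)],2,14,[]⟩,
  ⟨18,[],4,18,[(25,3),(14,2)]⟩,⟨18,[],2,18,[(10,3),(25,5)]⟩,
  ⟨7,[(7,0),(18,2),(10,0)],2,9,[(16,0),(15,3),(11,1),(12,3),(17,1),(18,1)]⟩,
  ⟨16,[],4,16,[(24,3),(9,2)]⟩,⟨16,[],2,16,[(21,3),(24,5)]⟩,
  ⟨19,[(19,0),(8,2),(7,0),(18,2),(10,0),(9,3),(21,1)],3,23,[(20,1),(8,1)]⟩,
  ⟨20,[(20,2),(23,2)],2,13,[]⟩,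
  ⟨8,[(8,0),(20,2),(23,0),(21,2),(9,0),(3,3),(4,1)],3,11,[(19,1),(20,1)]⟩,
  ⟨19,[],4,19,[(27,2),(11,3)]⟩,⟨19,[],3,19,[(15,2),(27,5)]⟩,
  ⟨6,[(6,0),(16,2)],0,21,[(22,2),(17,0),(7,3),(8,1),(19,3),(15,1),(16,1)]⟩]

/-- Relators. -/
def s3R : List (List ℕ) := [
  [0,0,0],[2,2,2],[0,2,0,2,0,2,0,2],[0,2,0,2,0,3,1,3,1,1],[],[0,1],[1,0],[2,3],[3,2]]

theorem s3_chk : (s3W.getD 0 [] == [] && Nat.blt 0 24 && Nat.ble 24 30 &&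
    tcF 30 2 24 (tcR 30 2 s3R [] s3W s3L 0)) = true := by
  decide +kernel


variable {G : Type*} [Group G]

/-- `SL₂(3)`. -/
abbrev SL23 := Matrix.SpecialLinearGroup (Fin 2) (ZMod 3)

/-- an element of order three. -/
def s3x : SL23 := ⟨!![1, 1; 0, 1], by decide⟩

/-- an element of order three. -/
def s3y : SL23 := ⟨!![1, 0; 1, 1], by decide⟩

theorem card_SL23 : Nat.card SL23 = 24 := by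
  haveI : Fact (Nat.Prime 3) := ⟨by norm_num⟩
  rw [CfsgH5.card_SL2, ZMod.card]; rfl

theorem closure_s3 : Subgroup.closure ((fun k => [s3x, s3y].getD k 1) '' Set.Iio 2) = ⊤ :=
  closure_eq_top_of_nodup _ (s3W.take 24) (by decide +kernel) (by decide +kernel)
    (card_SL23.le.trans (by decide))

theorem eq_top_s3 {H : Subgroup SL23} (h1 : s3x ∈ H) (h2 : s3y ∈ H) : H = ⊤ :=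
  eq_top_iff.2 (closure_s3.ge.trans ((Subgroup.closure_le _).2 (by
    rintro _ ⟨k, hk, rfl⟩
    obtain rfl | rfl : k = 0 ∨ k = 1 := by have : k < 2 := hk; omega
    exacts [h1, h2])))

theorem exists_hom_SL23 {x y : G} (h1 : x ^ 3 = 1) (h2 : y ^ 3 = 1) (h3 : (x * y) ^ 4 = 1)
    (h4 : (x * y) ^ 2 * x = x * (x * y) ^ 2) : ∃ φ : SL23 →* G, φ s3x = x ∧ φ s3y = y := by
  obtain ⟨φ, h⟩ := tc_hom (fun k => [s3x, s3y].getD k 1) (fun k => [x, y].getD k 1)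
    (by decide +kernel) (by
      have h5 : (x * y) ^ 2 * x * ((x * y) ^ 2)⁻¹ * x⁻¹ = 1 := by rw [h4]; group
      simp only [pow_succ, pow_zero, one_mul, mul_assoc, mul_inv_rev] at h1 h2 h3 h5
      simp [s3R, lt, h1, h2, h3, h5]) rfl rfl s3_chk card_SL23.ge closure_s3
  exact ⟨φ, h 0 (by norm_num), h 1 (by norm_num)⟩

theorem inj_SL23 (φ : SL23 →* G) (h2 : φ ((s3x * s3y) ^ 2) ≠ 1) : Function.Injective φ := by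
  have k : ∀ g : SL23, g = 1 ∨ g = (s3x * s3y) ^ 2 ∨ (g * (s3x * g⁻¹ * s3x⁻¹)) ^ 2 = (s3x * s3y) ^ 2 ∨
      (g * (s3y * g⁻¹ * s3y⁻¹)) ^ 2 = (s3x * s3y) ^ 2 := by decide +kernel
  refine (injective_iff_map_eq_one φ).2 fun g e => (k g).resolve_right ?_
  rintro (h | h | h) <;> refine h2 ?_ <;> rw [← h] <;> simp [e]

end CfsgH8
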