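import Mathlib
import Cfsg.Agent.H8.P2b
import Cfsg.Agent.S3740

/-! Solubilizers in `PSL₂`. -/

set_option autoImplicit false
set_option linter.unusedSectionVars false

open Matrix
open scoped commutatorElement

namespace CfsgH8

section
variable {G G' : Type*} [Group G] [Group G']

/-- Two elements generate a solvable group. -/
abbrev Sv (x y : G) : Prop := Group.IsSolvable (Subgroup.closure ({x, y} : Set G))

/-- The size of the solubilizer. -/
noncomputable abbrev sol (x : G) : ℕ := Nat.card {y // Sv x y}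

theorem solv_of_mem {K : Subgroup G} (s : Group.IsSolvable K) {x y : G} (hx : x ∈ K) (hy : y ∈ K) : Sv x y :=
  solvable_of_le ((Subgroup.closure_le _).2 (Set.pair_subset hx hy)) s

theorem Sv.map (f : G →* G') {x y : G} (h : Sv x y) : Sv (f x) (f y) :=
  solv_of_mem (solvable_map f h) ⟨x, Subgroup.subset_closure (.inl rfl), rfl⟩ ⟨y, Subgroup.subset_closure (.inr rfl), rfl⟩

theorem sol_congr (e : G ≃* G') (x : G) : sol (e x) = sol x :=
  (Nat.card_congr (e.toEquiv.subtypeEquiv fun _ => ⟨Sv.map e.toMonoidHom, fun h => by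
    simpa using h.map e.symm.toMonoidHom⟩)).symm

theorem Sv.symm {x y : G} (h : Sv x y) : Sv y x :=
  solv_of_mem h (Subgroup.subset_closure (.inr rfl)) (Subgroup.subset_closure (.inl rfl))

theorem Sv.of_mul {x y : G} (k : ℕ) (h : Sv x (x ^ k * y)) : Sv x y :=
  solv_of_mem h (Subgroup.subset_closure (.inl rfl)) ((Subgroup.mul_mem_cancel_left _
    (pow_mem (Subgroup.subset_closure (.inl rfl)) k)).1 (Subgroup.subset_closure (.inr rfl)))

theorem solv_inv [Finite G] {x y : G} (hx : x ^ 2 = 1) (hy : y ^ 2 = 1) : Sv x y := by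
  have x1 : x⁻¹ = x := inv_eq_of_mul_eq_one_right ((sq x).symm.trans hx)
  have y1 : y⁻¹ = y := inv_eq_of_mul_eq_one_right ((sq y).symm.trans hy)
  have := Cfsg.Agent.S3740.comm_le (R := Subgroup.zpowers (x * y)) (a := x) (Subgroup.mem_normalizer_fintype (by
    rintro _ ⟨n, rfl⟩
    rw [← conj_zpow, show x * (x * y) * x⁻¹ = (x * y)⁻¹ by rw [← mul_assoc, ← sq, hx, _root_.mul_inv_rev, y1, one_mul]]
    exact zpow_mem (inv_mem (Subgroup.mem_zpowers _)) n))
  refine Sv.of_mul 1 (solv_of_mem (solvable_of_comm_le (Subgroup.commutator_le.1 this) ?_)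
    (Subgroup.mem_sup_right (Subgroup.mem_zpowers _)) (Subgroup.mem_sup_left (by simp)))
  rintro _ ⟨m, rfl⟩ _ ⟨n, rfl⟩
  exact Commute.zpow_zpow_self _ m n

theorem solv_A4 {x y : G} (hx : x ^ 2 = 1) (hy : y ^ 3 = 1) (h : (x * y) ^ 3 = 1) : Sv x y := by
  obtain ⟨φ, h1, h2⟩ := exists_hom_SL23 (x := x * y) (y := y⁻¹) h (by simp [hy])
    (by rw [mul_inv_cancel_right, show 4 = 2 * 2 from rfl, pow_mul, hx, one_pow]) (by simp [hx])
  have : Group.IsSolvable SL23 := by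
    obtain ⟨-, -, c, -⟩ := Cfsg.Agent.S2427.result
    have := (IsPGroup.of_card (p := 2) (n := 3) c).isNilpotent
    exact Group.isSolvable_of_ker_le_range (commutator SL23).subtype Abelianization.of (by simp)
  exact solv_of_mem (Group.isSolvable_of_surjective φ.rangeRestrict_surjective) ⟨s3x * s3y, by simp [h1, h2]⟩
    ⟨s3y⁻¹, by simp [h2]⟩

end

variable {F : Type*} [Field F] [Fintype F]

local notation "SL2" => Matrix.SpecialLinearGroup (Fin 2) F
local notation "PSL2" => Matrix.ProjectiveSpecialLinearGroup (Fin 2) F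
local notation "q" => Fintype.card F

theorem sol_πS {x : SL2} {P : SL2 → Prop} (h : ∀ y, Sv (πS x) (πS y) ↔ P y) :
    Nat.gcd 2 (q - 1) * sol (πS x) = Nat.card {y // P y} := by
  rw [← card_center_SL2]
  exact (QuotientGroup.card_preimage_mk _ {y | Sv (πS x) y}).symm.trans (Nat.card_congr (Equiv.subtypeEquivRight h))

theorem sol_trace {x y : SL2} (hx : ¬ IsSc x.1) (hy : ¬ IsSc y.1) (h : x.1.trace = y.1.trace) : sol (πS x) = sol (πS y) := by
  obtain ⟨g, e⟩ := exists_cjS_cS hx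
  obtain ⟨g', e'⟩ := exists_cjS_cS hy
  rw [← e, ← e', ← cjP_πS, ← cjP_πS, sol_congr, sol_congr, h]

theorem mem_bot_iff (p : ℕ) [Fact p.Prime] [CharP F p] {a : F} : a ∈ (⊥ : Subfield F) ↔ a ^ p = a := by
  rw [mem_iff_pow_card, card_sub_bot p]

theorem trace_mem_SLs {L : Subfield F} {g : GL (Fin 2) F} {x : SL2} (h : cjS g x ∈ SLs L) : x.1.trace ∈ L := by
  rw [← trace_cjS g, trace_fin_two]
  exact add_mem (mem_SLs.1 h 0 0) (mem_SLs.1 h 1 1)

theorem trace_triS_mul (t : F) (y : SL2) : (triS 1 t * y).1.trace = y.1.trace + t * y.1 1 0 := by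
  simp only [trace_fin_two, sl2_mul]
  simp [triS_val]
  ring

theorem Sv.cases (p : ℕ) [hp : Fact p.Prime] [CharP F p] {r : ℕ} (hr : r.Prime) (hq : q = p ^ r)
    (h : p = 2 ∨ (p = 3 ∧ Odd r)) {x y : SL2} (s : Sv (πS x) (πS y)) :
    (∃ C N, TorN C N ∧ x ∈ N ∧ y ∈ N) ∨ (∃ s : SL2, s * x * s⁻¹ ∈ BS F ∧ s * y * s⁻¹ ∈ BS F) ∨
      ∃ g, cjS g x ∈ SLs ⊥ ∧ cjS g y ∈ SLs ⊥ := by
  have hx : x ∈ (Subgroup.closure {πS x, πS y}).comap πS := Subgroup.subset_closure (.inl rfl)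
  have hy : y ∈ (Subgroup.closure {πS x, πS y}).comap πS := Subgroup.subset_closure (.inr rfl)
  have q4 : 4 ≤ q := hq ▸ (Nat.pow_le_pow_left hp.out.two_le 2).trans (Nat.pow_le_pow_right hp.out.pos hr.two_le)
  have : Subgroup.closure {πS x, πS y} ≠ ⊤ := fun e => by
    haveI := simple_PSL2 q4
    rw [Sv, e] at s
    have := IsSimpleGroup.comm_iff_isSolvable.2 (Group.isSolvable_of_surjective (f := (⊤ : Subgroup PSL2).subtype)
      fun g => ⟨⟨g, trivial⟩, rfl⟩)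
    have := πS_eq_one.1 ((map_commutatorElement πS (triS 1 1) (cS (0 : F))).trans
      (commutatorElement_eq_one_iff_mul_comm.2 (this _ _)))
    simp [IsSc, commutatorElement_def, sl2_inv, triS_val, cS_val] at this
  rcases dickson' p this with ⟨C, N, h, le⟩ | ⟨s, h⟩ | ⟨n, -⟩ | ⟨n, -⟩ | ⟨-, ⟨e⟩⟩ | ⟨g, L, n, -, le⟩
  · exact .inl ⟨C, N, h, le hx, le hy⟩
  · exact .inr (.inl ⟨s, h x hx, h y hy⟩)
  · rcases h with rfl | ⟨rfl, -⟩ <;> simp at n
  · rcases h with rfl | ⟨rfl, -⟩ <;> simp at n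
  · have := IsSimpleGroup.comm_iff_isSolvable.2 (Group.isSolvable_of_surjective (f := e.toMonoidHom) e.surjective)
    exact absurd this (by decide)
  · obtain rfl := (sub_eq_or_top bot_le hr (by rwa [card_sub_bot p])).resolve_right n
    rw [h.elim (fun e => GLs_eq_SLs_of_even (by rw [hq, e]; simp [hr.pos]) ⊥)
      fun e => GLs_eq_SLs_of_odd (by rwa [card_sub_bot p]) e.2] at le
    exact .inr (.inr ⟨g, le ⟨x, hx, rfl⟩, le ⟨y, hy, rfl⟩⟩)

theorem Sv.of_mem {K : Subgroup SL2} (s : Group.IsSolvable K) {x y : SL2} (hx : x ∈ K) (hy : y ∈ K) : Sv (πS x) (πS y) :=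
  (solv_of_mem s hx hy).map πS

theorem card_BS_or (P : SL2 → Prop) (Q : F → Fˣ → F → Prop) (h : ∀ (y : SL2) (c : Fˣ), y.1 1 0 = c → (P y ↔ Q (y.1 0 0) c (y.1 1 1))) :
    Nat.card {y : SL2 // y.1 1 0 = 0 ∨ P y} = (q - 1) * q + Nat.card {p : F × Fˣ × F // Q p.1 p.2.1 p.2.2} := by
  classical
  rw [← card_BS, ← Nat.card_sum]
  refine (Nat.card_eq_of_bijective (Sum.elim (fun y => ⟨y.1, .inl (mem_BS.1 y.2)⟩) fun p => ⟨mS p.1.1 ((p.1.1 * p.1.2.2 - 1) / p.1.2.1)
    p.1.2.1 p.1.2.2 (by simp), .inr ((h _ _ rfl).2 p.2)⟩) ⟨?_, fun ⟨y, hy⟩ => ?_⟩).symm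
  · rintro (a | a) (b | b) e
    · exact congrArg _ (Subtype.ext (congrArg (·.1) e))
    · exact absurd ((congrArg (·.1.1 1 0) e).symm.trans (mem_BS.1 a.2)) b.1.2.1.ne_zero
    · exact absurd ((congrArg (·.1.1 1 0) e).trans (mem_BS.1 b.2)) a.1.2.1.ne_zero
    · exact congrArg _ (Subtype.ext (Prod.ext (congrArg (·.1.1 0 0) e) (Prod.ext (Units.ext (congrArg (·.1.1 1 0) e))
        (congrArg (·.1.1 1 1) e))))
  by_cases n : y.1 1 0 = 0
  · exact ⟨.inl ⟨y, mem_BS.2 n⟩, rfl⟩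
  refine ⟨.inr ⟨(y.1 0 0, .mk0 _ n, y.1 1 1), (h y _ rfl).1 (hy.resolve_left n)⟩, Subtype.ext (Subtype.ext
    (m2_ext rfl ?_ rfl rfl))⟩
  exact (div_eq_iff n).2 (by linear_combination sl2_det y)

theorem sol_reg {x : SL2} {C N : Subgroup SL2} (h : TorN C N) (hx : x ∈ C) (n : πS x ^ 2 ≠ 1)
    (k : ∀ y, Sv (πS x) (πS y) → (∃ C N, TorN C N ∧ x ∈ N ∧ y ∈ N) ∨ (∃ s : SL2, s * x * s⁻¹ ∈ BS F ∧ s * y * s⁻¹ ∈ BS F) ∨
      y * x * y⁻¹ ∈ C) (y : SL2) :
    Sv (πS x) (πS y) ↔ y ∈ N ∨ ∃ s : SL2, s * x * s⁻¹ ∈ BS F ∧ s * y * s⁻¹ ∈ BS F := by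
  have s : ¬ IsSc x.1 := fun s => n (by rw [πS_eq_one.2 s, one_pow])
  refine ⟨fun t => ?_, ?_⟩
  · rcases k y t with ⟨C', N', h', a, b⟩ | t | t
    · have : x ∈ C' := by
        by_contra m
        exact n (by rw [← map_pow, sq, h'.sq x a m, πS_neg, map_one])
      exact .inl (h.norm y x hx s (h'.tor.eq_of_mem h.tor this hx s ▸ h'.conj_mem le_rfl b this))
    · exact .inr t
    · exact .inl (h.norm y x hx s t)
  · rintro (t | ⟨s, a, b⟩)
    · exact .of_mem h.solvable (h.le hx) t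
    · exact .of_mem (solvable_of_conj_BS (G := (BS F).comap (MulAut.conj s).toMonoidHom) fun _ => id) a b

theorem sol_tor {x : SL2} (hx : Reg x.1) (n : πS x ^ 2 ≠ 1)
    (k : ∀ x y : SL2, Reg x.1 → πS x ^ 2 ≠ 1 → Sv (πS x) (πS y) → (∃ C N, TorN C N ∧ x ∈ N ∧ y ∈ N) ∨
      (∃ s : SL2, s * x * s⁻¹ ∈ BS F ∧ s * y * s⁻¹ ∈ BS F) ∨ y * x * y⁻¹ ∈ Subgroup.centralizer {x}) :
    (orderOf (πS x) ∣ q - 1 → Nat.gcd 2 (q - 1) * sol (πS x) = 2 * q * (q - 1)) ∧
      (orderOf (πS x) ∣ q + 1 → Nat.gcd 2 (q - 1) * sol (πS x) = 2 * (q + 1)) := by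
  classical
  have q1 : 1 < q := Fintype.one_lt_card
  have nb : ¬ (orderOf (πS x) ∣ q + 1 ∧ orderOf (πS x) ∣ q - 1) := fun ⟨u, v⟩ => n (orderOf_dvd_iff_pow_eq_one.1
    (by simpa [show q + 1 - (q - 1) = 2 by omega] using Nat.dvd_sub u v))
  have hC := isTor_centralizer hx
  have m : x ∈ Subgroup.centralizer {x} := Subgroup.mem_centralizer_singleton_iff.2 rfl
  have d := (orderOf_πS_dvd x).trans (Subgroup.orderOf_dvd_natCard _ m)
  refine ⟨fun o => ?_, fun o => ?_⟩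
  · have e := hC.card.resolve_left fun e => nb ⟨e ▸ d, o⟩
    have q2 : 2 < q := lt_of_le_of_ne q1 fun e => n (by
      rw [← e, Nat.dvd_one, orderOf_eq_one_iff] at o; rw [o, one_pow])
    obtain ⟨s, hs⟩ := (isTor_range_dS q2).exists_conj hC (card_range_dS.trans e.symm)
    obtain ⟨_, ⟨a, rfl⟩, rfl⟩ := hs.le m
    have e : πS ((MulAut.conj s).toMonoidHom (dS a)) = MulAut.conj (πS s) (πS (dS a)) := by simp
    have n' : πS (dS a) ^ 2 ≠ 1 := fun t => n (by rw [e, ← map_pow, t, map_one])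
    have ns : ¬ IsSc (dS a).1 := fun s => n' (by rw [πS_eq_one.2 s, one_pow])
    have na : (a : F) ≠ (a : F)⁻¹ := fun t => ns (by simpa [IsSc, dS, triS_val] using t)
    obtain ⟨N, h⟩ := (isTor_range_dS q2).exists_N
    rw [e, sol_congr, sol_πS (P := fun y => y.1 1 0 = 0 ∨ y.1 0 1 = 0 ∨ (y.1 0 0 = 0 ∧ y.1 1 1 = 0)) fun y => ?_,
      card_BS_or _ (fun a _ d => a * d = 1 ∨ (a = 0 ∧ d = 0)) fun y c hc => ?_]
    · have : ∀ a : F, (Finset.univ.filter fun d : F => a * d = 1 ∨ (a = 0 ∧ d = 0)).card = 1 := fun a =>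
        Finset.card_eq_one.2 ⟨a⁻¹, by ext d; by_cases h : a = 0 <;> simp [h, mul_eq_one_iff_eq_inv₀, mul_comm a]⟩
      simp only [Nat.card_eq_fintype_card, Fintype.card_subtype, Finset.card_filter, Fintype.sum_prod_type] at this ⊢
      simp [this, Fintype.card_units]
      ring
    · have := sl2_det y
      refine or_congr_left ⟨fun t => by rw [t] at this; linear_combination this, fun t => ?_⟩
      exact (mul_eq_zero.1 (by linear_combination t - this)).resolve_right (hc ▸ c.ne_zero)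
    · rw [sol_reg h ⟨a, rfl⟩ n' fun y t => by simpa only [h.tor.cent ⟨a, rfl⟩ ns] using k _ y (h.tor.reg ⟨a, rfl⟩ ns) n' t]
      refine ⟨?_, ?_⟩
      · rintro (t | ⟨s, u, v⟩)
        · by_cases c : y ∈ dS.range
          · exact .inl (mem_range_dS.1 c).2
          have := mul_inv_eq_iff_eq_mul.1 (h.inv y t c _ ⟨a, rfl⟩)
          have e1 := congrArg (·.1 0 0) this
          have e2 := congrArg (·.1 1 1) this
          simp only [sl2_mul, sl2_inv, dS, triS_val, MonoidHom.coe_mk, OneHom.coe_mk] at e1 e2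
          simp at e1 e2
          exact .inr (.inr ⟨(mul_eq_zero.1 (by linear_combination e1)).resolve_right (sub_ne_zero.2 na),
            (mul_eq_zero.1 (by linear_combination -e2)).resolve_right (sub_ne_zero.2 na)⟩)
        · have d := sl2_det s
          simp only [mem_BS, sl2_mul, sl2_inv, dS, triS_val, MonoidHom.coe_mk, OneHom.coe_mk] at u v
          simp at u v
          rcases mul_eq_zero.1 ((mul_eq_zero.1 (show s.1 1 0 * s.1 1 1 * (a - (a : F)⁻¹) = 0 by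
            linear_combination u)).resolve_right (sub_ne_zero.2 na)) with z | z <;> rw [z] at d v
          · exact .inl (by linear_combination s.1 0 0 ^ 2 * v - y.1 1 0 * (s.1 0 0 * s.1 1 1 + 1) * d)
          · exact .inr (.inl (by linear_combination -s.1 0 1 ^ 2 * v - y.1 0 1 * (1 - s.1 0 1 * s.1 1 0) * d))
      · rintro (t | t | t)
        · exact .inr ⟨1, mem_BS.2 (by simp [dS, triS_val]), mem_BS.2 (by simpa using t)⟩
        · exact .inr ⟨cS 0, mem_BS.2 (by simp only [sl2_mul, sl2_inv]; simp [dS, triS_val, cS_val]),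
            mem_BS.2 (by simp only [sl2_mul, sl2_inv]; simp [cS_val, t])⟩
        · exact .inl (h.norm y _ ⟨a, rfl⟩ ns (mem_range_dS.2 (by simp only [sl2_mul, sl2_inv]; simp [dS, triS_val, t])))
  · obtain ⟨N, h⟩ := hC.exists_N
    rw [sol_πS (P := (· ∈ N)) fun y => (sol_reg h m n (k x · hx n) y).trans (or_iff_left fun ⟨s, u, _⟩ => nb ⟨o, ?_⟩),
      ← hC.card.resolve_right fun e => nb ⟨o, e ▸ d⟩, ← h.card]
    have := (orderOf_πS_dvd x).trans (((MulAut.conj s).orderOf_eq x).symm.dvd.trans (Subgroup.orderOf_dvd_natCard _ u))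
    exact ((Nat.Coprime.coprime_dvd_left o (by simp)).dvd_mul_right).1 (card_BS (F := F) ▸ this)

end CfsgH8
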