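import Cfsg.Agent.H3.Thompson
import Cfsg.Agent.H1.Frob2
import Cfsg.Agent.H2.BG0
import Cfsg.Agent.H1.Field

/-! Frobenius complements have fixed-point-free representations in characteristic zero. -/

set_option autoImplicit false
open Subgroup Cfsg CfsgH2 CfsgH1 CfsgH3 Function Module
open scoped IsMulCommutative

namespace CfsgH8.FC

variable {G : Type*} [Group G]

section Nm
variable {R S : Type*} [Ring R] [Ring S] {ρ : G →* R} {x g : G} {r : R}

/-- the sum of the powers of `x`. -/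
noncomputable def Nm (ρ : G →* R) (x : G) : R := ∑ i ∈ Finset.range (orderOf x), ρ x ^ i

theorem mul_Nm : ρ x * Nm ρ x = Nm ρ x := by
  rw [← sub_eq_zero, ← sub_one_mul, Nm, mul_geom_sum, ← map_pow, pow_orderOf_eq_one, map_one, sub_self]

theorem Nm_mul (h : ρ x * r = r) : Nm ρ x * r = orderOf x • r := by
  have : ∀ i, ρ x ^ i * r = r := fun i => by
    induction i with
    | zero => simp
    | succ i ih => rw [pow_succ, mul_assoc, h, ih]
  simp [Nm, Finset.sum_mul, this]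

theorem Nm_conj (g x : G) : Nm ρ x * ρ g = ρ g * Nm ρ (g⁻¹ * x * g) := by
  have := CfsgH2.orderOf_conj' g⁻¹ x
  rw [inv_inv] at this
  simp only [Nm, Finset.sum_mul, Finset.mul_sum, this, ← map_pow, ← map_mul]
  refine Finset.sum_congr rfl fun i _ => congrArg _ ?_
  have := conj_pow (a := g⁻¹) (b := x) (i := i)
  rw [inv_inv] at this
  rw [this]; group

theorem map_Nm {F : Type*} [FunLike F R S] [RingHomClass F R S] (f : F) {σ : G →* S}
    (h : ∀ g, f (ρ g) = σ g) : f (Nm ρ x) = Nm σ x := by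
  simp [Nm, map_sum, h]

end Nm

theorem exists_ker {L L' : Type*} [AddCommGroup L] [AddCommGroup L'] [Module.Finite ℤ L']
    (T : L →ₗ[ℤ] L') (p : ℤ) (h : ∀ k, ∃ v, (∀ w, v ≠ p • w) ∧ ∃ w, T v = p ^ k • w) :
    ∃ v, v ≠ 0 ∧ T v = 0 := by
  by_contra e
  push Not at e
  obtain ⟨k, hk⟩ := (Ideal.span {p}).exists_pow_inf_eq_pow_smul (LinearMap.range T)
  obtain ⟨v, h1, w, h2⟩ := h (k + 1)
  have := (hk (k + 1) le_self_add).le (x := T v) ⟨h2 ▸ Submodule.smul_mem_smul
    (Ideal.pow_mem_pow (Ideal.mem_span_singleton_self p) _) trivial, v, rfl⟩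
  rw [Nat.add_sub_cancel_left, pow_one, Submodule.ideal_span_singleton_smul] at this
  obtain ⟨_, ⟨-, u, rfl⟩, h3⟩ := (Submodule.mem_smul_pointwise_iff_exists _ _ _).1 this
  refine h1 u (sub_eq_zero.1 (by_contra fun h4 => e _ h4 ?_))
  rw [map_sub, map_smul, h3, sub_self]

theorem newton {A : Type*} [Ring A] (p : ℤ) {f : A} (h : ∃ b, f * f - f = p • b) (k : ℕ) :
    ∃ e c b, e = f + p • c ∧ e * e - e = p ^ (k + 1) • b := by
  induction k with
  | zero => exact ⟨f, 0, h.choose, by simp, by simpa using h.choose_spec⟩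
  | succ k ih =>
    obtain ⟨e, c, b, h1, h2⟩ := ih
    refine ⟨e - (e * e - e) * (2 * e - 1), c - p ^ k • (b * (2 * e - 1)),
      p ^ k • (b * b * (4 * (e * e) - 4 * e - 3)), ?_, ?_⟩
    · rw [h2, smul_sub, smul_smul, ← pow_succ', smul_mul_assoc, ← add_sub_assoc, ← h1]
    · rw [show (e - (e * e - e) * (2 * e - 1)) * (e - (e * e - e) * (2 * e - 1)) -
        (e - (e * e - e) * (2 * e - 1)) = (e * e - e) * (e * e - e) * (4 * (e * e) - 4 * e - 3) by
          noncomm_ring, h2, smul_mul_smul_comm, smul_mul_assoc, smul_smul, ← pow_add, ← pow_add]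
      congr 2
      omega

open MonoidAlgebra in
theorem exists_int [Finite G] {M : Type*} [AddCommGroup M] (σ : G →* End ℤ M)
    (h : ∀ g, g ≠ 1 → ∀ m, σ g m = m → m = 0) {p : ℕ} (hp : p.Prime) (hG : ¬ p ∣ Nat.card G) {m : M}
    (m0 : m ≠ 0) (pm : (p : ℤ) • m = 0) :
    ∃ v : MonoidAlgebra ℤ G, v ≠ 0 ∧ ∀ x, x ≠ 1 → Nm (of ℤ G) x * v = 0 := by
  classical
  haveI := Fact.mk hp
  haveI : NeZero (Nat.card G : ZMod p) := ⟨fun e => hG ((ZMod.natCast_eq_zero_iff _ _).1 e)⟩
  let L := lift ℤ (End ℤ M) G σ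
  let π := mapRingHom G (Int.castRingHom (ZMod p))
  have sur : Surjective π := map_surjective _ (ZMod.ringHom_surjective (Int.castRingHom (ZMod p)))
  have ker : ∀ a, π a = 0 → ∃ b, a = (p : ℤ) • b := fun a e =>
    ⟨ofCoeff (a.coeff.mapRange (· / p) (by simp)), by
      ext g
      have := congrArg (fun z => z.coeff g) e
      exact
        (Int.mul_ediv_cancel' ((ZMod.intCast_zmod_eq_zero_iff_dvd _ _).1 (by simpa [π] using this))).symm⟩
  have hN : ∀ x, x ≠ 1 → L (Nm (of ℤ G) x) = 0 := fun x x1 => by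
    rw [map_Nm L (σ := σ) (by simp [L])]
    exact LinearMap.ext fun m => h x x1 _ (DFunLike.congr_fun (mul_Nm (ρ := σ)) m)
  let J := (RingHom.ker L).map π
  have mJ : ∀ {y}, y ∈ J ↔ ∃ a, L a = 0 ∧ π a = y := Ideal.mem_map_iff_of_surjective π sur
  obtain ⟨C, hC⟩ := MonoidAlgebra.Submodule.exists_isCompl (k := ZMod p) (G := G) J
  obtain ⟨j, hj, f, hf, e⟩ := Submodule.mem_sup.1 (hC.sup_eq_top.ge (Submodule.mem_top (x := 1)))
  obtain ⟨f, rfl⟩ := sur f
  have z : ∀ a, L a = 0 → ∃ b, a * f = (p : ℤ) • b := fun a ha => ker _ (hC.inf_eq_bot.le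
    ⟨mJ.2 ⟨_, by rw [map_mul, ha, zero_mul], rfl⟩, by rw [map_mul]; exact C.smul_mem _ hf⟩)
  obtain ⟨j, hj', rfl⟩ := mJ.1 hj
  obtain ⟨b, hb⟩ := ker (j + f - 1) (by rw [map_sub, map_add, e, map_one, sub_self])
  refine (exists_ker (LinearMap.pi fun x : {x : G // x ≠ 1} =>
    LinearMap.mulLeft ℤ (Nm (of ℤ G) x)) p fun k => ?_).imp
      fun v h => ⟨h.1, fun x x1 => congrFun h.2 ⟨x, x1⟩⟩
  obtain ⟨c, hc⟩ := z j hj'
  obtain ⟨e, c, d, h1, h2⟩ := newton p (f := f) ⟨b * f - c, by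
    rw [smul_sub, ← smul_mul_assoc, ← hb, ← hc]; noncomm_ring⟩ k
  refine ⟨e, fun w hw => m0 ?_, ?_⟩
  · have := congrArg (fun a => L a m) (show (1 : MonoidAlgebra ℤ G) = j + (p : ℤ) • (w - c - b) by
      rw [smul_sub, smul_sub, ← hw, h1, ← hb]; abel)
    simp only [map_one, map_add, hj', map_smul, zero_add, LinearMap.smul_apply, End.one_apply] at this
    rw [this, ← map_smul, pm, map_zero]
  suffices ∀ x : {x : G // x ≠ 1}, ∃ w, Nm (of ℤ G) x * e = (p : ℤ) ^ k • w by
    choose w hw using this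
    exact ⟨w, funext hw⟩
  rintro ⟨x, x1⟩
  set N := Nm (of ℤ G) x
  have b1 : ∀ a, ∃ w, N * a * e = (p : ℤ) • w := fun a => by
    obtain ⟨w, hw⟩ := z (N * a) (by rw [map_mul, hN x x1, zero_mul])
    exact ⟨w + N * a * c, by rw [h1, mul_add, hw, smul_add, mul_smul_comm]⟩
  obtain ⟨α, β, e1⟩ : IsCoprime (orderOf x : ℤ) p := Nat.isCoprime_iff_coprime.2
    ((hp.coprime_iff_not_dvd.2 fun e => hG (e.trans (orderOf_dvd_natCard x))).symm)
  have NN : N * N = (orderOf x : ℤ) • N := by rw [Nm_mul mul_Nm, natCast_zsmul]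
  have : ∀ j ≤ k, ∀ a, ∃ w, N * a * e = (p : ℤ) ^ j • w := fun j => by
    induction j with
    | zero => exact fun _ a => ⟨_, by rw [pow_zero, one_smul]⟩
    | succ j ih =>
      intro hj a
      obtain ⟨w, hw⟩ := ih (by omega) a
      obtain ⟨w', hw'⟩ := b1 w
      obtain ⟨i, rfl⟩ := Nat.exists_eq_add_of_le hj
      refine ⟨α • (w' - (p : ℤ) ^ (i + 1) • (N * N * a * d)) + β • w, ?_⟩
      have e2 : (orderOf x : ℤ) • (N * a * e) = (p : ℤ) ^ (j + 1) • w' -
          (p : ℤ) ^ (j + 1 + i + 1) • (N * N * a * d) := by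
        have e3 : (p : ℤ) ^ (j + 1) • w' = N * (N * a * e) * e := by
          rw [hw, pow_succ, mul_smul, ← hw', mul_smul_comm, smul_mul_assoc]
        rw [← mul_smul_comm _ (N * N * a), ← h2, e3, ← smul_mul_assoc, ← smul_mul_assoc, ← NN]
        noncomm_ring
      calc N * a * e = (α * orderOf x + β * p) • (N * a * e) := by rw [e1, one_smul]
        _ = _ := by rw [add_smul, mul_smul, e2, hw]; module
  simpa using this k le_rfl 1

variable {k : Type*} [Field k] {n : ℕ}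

/-- fixed-point-free representations. -/
def FPF {V : Type*} [AddCommGroup V] [Module k V] (ρ : G →* End k V) : Prop :=
  ∀ g, g ≠ 1 → ∀ v, ρ g v = v → v = 0

/-- `G` has a fixed-point-free representation over `k`. -/
def FC (k : Type*) [Field k] (G : Type*) [Group G] : Prop :=
  ∃ n, 0 < n ∧ ∃ ρ : G →* End k (Fin n → k), FPF ρ

theorem FPF.sub {V : Type*} [AddCommGroup V] [Module k V] (ρ : G →* End k V)
    (W : Submodule k V) [FiniteDimensional k W] (hW : ∀ g, ∀ w ∈ W, ρ g w ∈ W)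
    (h : ∀ g, g ≠ 1 → ∀ v ∈ W, ρ g v = v → v = 0) :
    ∃ ρ : G →* End k (Fin (finrank k W) → k), FPF ρ := by
  let e := (finBasis k W).equivFun
  let σ : G →* End k W :=
    { toFun g := (ρ g).restrict (hW g)
      map_one' := by ext; simp
      map_mul' _ _ := by ext; simp }
  refine ⟨e.conjRingEquiv.toMonoidHom.comp σ, fun g g1 v hv => ?_⟩
  obtain ⟨v, rfl⟩ := e.surjective v
  have : σ g v = v := e.injective (by simpa using hv)
  rw [show v = 0 from Subtype.ext (h g g1 v v.2 (congrArg Subtype.val this)), map_zero]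

theorem FC.irr (h : FC k G) : ∃ n, 0 < n ∧ ∃ ρ : G →* End k (Fin n → k), FPF ρ ∧
    ∀ W : Submodule k (Fin n → k), (∀ g, ∀ w ∈ W, ρ g w ∈ W) → W = ⊥ ∨ W = ⊤ := by
  classical
  obtain ⟨h1, ρ, h2⟩ := Nat.find_spec h
  refine ⟨_, h1, ρ, h2, fun W hW => or_iff_not_imp_left.2 fun h3 => Submodule.eq_top_of_finrank_eq
    (le_antisymm (Submodule.finrank_le W) ?_)⟩
  rw [finrank_fin_fun]
  exact Nat.find_min' h ⟨Nat.pos_of_ne_zero fun e => h3 (Submodule.finrank_eq_zero.1 e),
    FPF.sub ρ W hW fun g g1 v _ => h2 g g1 v⟩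

theorem FC.comap {A : Type*} [Group A] (h : FC k G) (f : A →* G) (hf : Injective f) : FC k A :=
  h.imp fun _ h => ⟨h.1, h.2.elim fun ρ h => ⟨ρ.comp f, fun g g1 =>
    h _ fun e => g1 ((map_eq_one_iff f hf).1 e)⟩⟩

theorem FC.sub (h : FC k G) (H : Subgroup G) : FC k H := h.comap _ H.subtype_injective

theorem FC.of_le {H K : Subgroup G} (h : FC k K) (l : H ≤ K) : FC k H :=
  h.comap _ (inclusion_injective l)

theorem FC.cyc [Finite G] [IsAlgClosed k] (h : FC k G) (c : ∀ a b : G, a * b = b * a) :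
    IsCyclic G := by
  obtain ⟨n, h1, ρ, h2, h3⟩ := h.irr
  haveI : Nonempty (Fin n) := ⟨⟨0, h1⟩⟩
  have : ∀ g, ∃ t : k, ∀ v, ρ g v = t • v := fun g => by
    obtain ⟨t, ht⟩ := End.exists_eigenvalue (ρ g)
    refine ⟨t, fun v => End.mem_eigenspace_iff.1
      (((h3 _ fun a w hw => ?_).resolve_left ht).ge (Submodule.mem_top (x := v)))⟩
    rw [End.mem_eigenspace_iff] at hw ⊢
    rw [← End.mul_apply, ← map_mul, c, map_mul, End.mul_apply, hw, map_smul]
  choose t ht using this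
  obtain ⟨v, v0⟩ := exists_ne (0 : Fin n → k)
  let f : G →* k :=
    { toFun := t
      map_one' := smul_left_injective k v0 (by simpa using (ht 1 v).symm)
      map_mul' a b := smul_left_injective k v0 (by
        simp only
        rw [← ht, map_mul, End.mul_apply, ht b, map_smul, ht a, mul_comm, mul_smul]) }
  exact isCyclic_of_injective_ringHom f ((injective_iff_map_eq_one f).2 fun g e => by_contra fun g1 =>
    v0 (h2 g g1 v (by rw [ht, show t g = 1 from e, one_smul])))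

open MonoidAlgebra in
theorem fc_of_mod [Finite G] [CharZero k] {M : Type*} [AddCommGroup M] (σ : G →* End ℤ M)
    (h : ∀ g, g ≠ 1 → ∀ m, σ g m = m → m = 0) {p : ℕ} (hp : p.Prime) (hG : ¬ p ∣ Nat.card G) {m : M}
    (m0 : m ≠ 0) (pm : (p : ℤ) • m = 0) : FC k G := by
  obtain ⟨v, v0, hv⟩ := exists_int σ h hp hG m0 pm
  let π := mapRingHom G (Int.castRingHom k)
  let W : Submodule k (MonoidAlgebra k G) :=
    ⨅ x : {x : G // x ≠ 1}, LinearMap.ker (LinearMap.mulLeft k (Nm (of k G) x))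
  have mW : ∀ {w}, w ∈ W ↔ ∀ x, x ≠ 1 → Nm (of k G) x * w = 0 := by simp [W]
  refine ⟨_, Nat.pos_of_ne_zero fun e => v0 ?_, FPF.sub ((Algebra.lmul k _).toMonoidHom.comp (of k G)) W
    (fun g w hw => mW.2 fun x x1 => ?_) fun g g1 w hw e => ?_⟩
  · refine map_injective _ (Int.castRingHom k).injective_int (?_ : π v = π 0)
    rw [map_zero]
    refine (Submodule.finrank_eq_zero.1 e).le (mW.2 fun x x1 => ?_)
    rw [← map_Nm π (ρ := of ℤ G) (by simp [π]), ← map_mul, hv x x1, map_zero]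
  · change _ * (of k G g * w) = 0
    rw [← mul_assoc, Nm_conj, mul_assoc, mW.1 hw _ fun e => x1 (by
      rw [show x = g * (g⁻¹ * x * g) * g⁻¹ by group, e]; group), mul_zero]
  · have := Nm_mul (ρ := of k G) e
    rw [mW.1 hw g g1, eq_comm, ← Nat.cast_smul_eq_nsmul k, smul_eq_zero] at this
    exact this.resolve_left (Nat.cast_ne_zero.2 (orderOf_pos g).ne')

theorem fc_of_frob [Finite G] [CharZero k] {K H L : Subgroup G} (h : Frob K H L) : FC k H := by
  have z := nil_center_ne_bot (frob_nilpotent h) h.ker_ne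
  obtain ⟨p, hp, hd⟩ := Nat.exists_prime_and_dvd fun e => z (card_eq_one.1 e)
  obtain ⟨x, hx, ox⟩ := exists_prime_order_mem hp hd
  haveI := isMulComm_cent_inf K
  refine fc_of_mod (M := Additive Z[K]) ((Module.toModuleEnd ℤ _).toMonoidHom.comp ((conjEnd Z[K]).comp
    (inclusion (h.norm.trans norm_le_norm_center)))) (fun g g1 m e => ?_) hp (fun e => hp.one_lt.ne'
      (Nat.eq_one_of_dvd_coprimes h.coprime e (hd.trans (card_dvd_of_le inf_le_left))))
    (m := Additive.ofMul ⟨x, hx⟩) (fun e => hp.one_lt.ne' (by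
      rw [← ox, show x = 1 from congrArg Subtype.val e, orderOf_one])) ?_
  · exact Subtype.ext ((h.fpf g g.2 fun e => g1 (Subtype.ext e)).le ⟨m.toMul.2.1,
      mem_centralizer_singleton_iff.2 (mul_inv_eq_iff_eq_mul.1 (congrArg Subtype.val e)).symm⟩)
  · rw [natCast_zsmul, ← ofMul_pow]
    exact Subtype.ext (ox ▸ pow_orderOf_eq_one x)

theorem fc_of_compl [CharZero k] {L : Type*} [Group L] [Finite L] {H : Subgroup L}
    (h : IsFrobeniusComplement H) (e : G ≃* H) : FC k G :=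
  (exists_frob h).elim fun _ f => (fc_of_frob f).comap e.toMonoidHom e.injective

theorem fc_of_aut [Finite G] [CharZero k] {K : Type*} [Group K] [Finite K] [Nontrivial K]
    (φ : G →* MulAut K) (h : ∀ g, g ≠ 1 → ∀ x, φ g x = x → x = 1) : FC k G := by
  rcases subsingleton_or_nontrivial G with _ | _
  · exact ⟨1, one_pos, 1, fun g g1 => absurd (Subsingleton.elim _ _) g1⟩
  obtain ⟨X, _, _, i, j, hi, hj, h1, h2, -, -⟩ := exists_ambient φ
  have f : Frob (map i ⊤) (map j ⊤) (map i ⊤ ⊔ map j ⊤) := ⟨le_top.trans (top_le_norm_iff.2 h2), rfl,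
    by rw [Ne, map_eq_bot_iff_of_injective _ hi]; exact top_ne_bot,
    by rw [Ne, map_eq_bot_iff_of_injective _ hj]; exact top_ne_bot, by
      rintro _ ⟨g, -, rfl⟩ g1
      rw [eq_bot_iff]
      rintro _ ⟨⟨x, -, rfl⟩, e⟩
      rw [h g (fun e => g1 (by rw [e, map_one])) x (hi (by
        rw [← h1, ← mem_centralizer_singleton_iff.1 e, mul_inv_cancel_right])), map_one]
      exact one_mem _⟩
  exact (fc_of_frob f).comap (j.codRestrict _ fun g => ⟨g, mem_top g, rfl⟩) fun a b e =>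
    hj (congrArg Subtype.val e)

end CfsgH8.FC
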