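import Cfsg.Agent.H8.FC1

/-! Products of two elements of order three in a Frobenius complement. -/

set_option autoImplicit false
open Subgroup Function Module Polynomial

namespace CfsgH8.FC

theorem exists_cop {n : ℕ} (h0 : n ≠ 0) (h : ¬ (n = 1 ∨ n = 3 ∨ n = 4 ∨ n = 6 ∨ n = 10)) :
    ∃ k, k.Coprime n ∧ n < 3 * k ∧ 2 * k ≤ n := by
  have c : ∀ k r, r ∣ 4 → n = 2 * k + r → k % 2 = 1 ∨ n % 2 = 1 → k.Coprime n := fun k r h1 h2 h3 =>
    Nat.coprime_of_dvd fun p hp e1 e2 => by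
      have : p ∣ 2 ^ 2 := ((Nat.dvd_add_right (e1.mul_left 2)).1 (h2 ▸ e2)).trans h1
      obtain rfl := (Nat.prime_dvd_prime_iff_eq hp Nat.prime_two).1 (hp.dvd_of_dvd_pow this)
      omega
  by_cases h1 : n = 2
  · exact ⟨1, by simp, by omega, by omega⟩
  by_cases h2 : n % 2 = 1
  · exact ⟨n / 2, c _ 1 (by simp) (by omega) (by omega), by omega, by omega⟩
  by_cases h3 : n % 4 = 0
  · exact ⟨n / 2 - 1, c _ 2 (by simp) (by omega) (by omega), by omega, by omega⟩
  · exact ⟨n / 2 - 2, c _ 4 (by simp) (by omega) (by omega), by omega, by omega⟩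

theorem split (s : ℂ) : ∃ η η' : ℂ, η * η' = 1 ∧ s = η + η' := by
  obtain ⟨r, hr⟩ := IsAlgClosed.exists_eq_mul_self (s * s - 4)
  exact ⟨(s + r) / 2, (s - r) / 2, by linear_combination hr / 4, by ring⟩

theorem root_cases {n m : ℕ} (h0 : n ≠ 0) (m0 : m ≠ 0) {ζ η η' : ℂ} (h : IsPrimitiveRoot ζ n)
    (h1 : η * η' = 1) (h2 : η ^ m = 1) (h3 : 1 - ζ - ζ ^ (n - 1) = η + η') :
    n = 1 ∨ n = 3 ∨ n = 4 ∨ n = 6 ∨ n = 10 := by
  by_contra e
  obtain ⟨k, c, k1, k2⟩ := exists_cop h0 e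
  let P : ℤ[X] := (dickson 1 1 m).comp (1 - X - X ^ (n - 1)) - 2
  have ev : ∀ x y y' : ℂ, y * y' = 1 → 1 - x - x ^ (n - 1) = y + y' → aeval x P = y ^ m + y' ^ m - 2 :=
    fun x y y' e1 e2 => by
      rw [← dickson_one_one_eval_add_inv _ _ e1, ← e2]
      simp only [P, map_sub, aeval_comp, map_one, aeval_X, map_pow, map_ofNat]
      rw [aeval_def, eval₂_eq_eval_map, map_dickson, map_one]
  have d : cyclotomic n ℤ ∣ P := by
    rw [cyclotomic_eq_minpoly h (Nat.pos_of_ne_zero h0)]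
    refine minpoly.isIntegrallyClosed_dvd (h.isIntegral (Nat.pos_of_ne_zero h0)) ?_
    have := mul_pow η η' m
    rw [h1, one_pow, h2, one_mul] at this
    rw [ev _ _ _ h1 h3, h2, ← this]; norm_num
  have h' := Complex.isPrimitiveRoot_exp_of_coprime k n h0 c
  set θ : ℝ := 2 * Real.pi * (k / n) with hθ
  rw [show (2 * Real.pi * Complex.I * (k / n) : ℂ) = θ * Complex.I by rw [hθ]; push_cast; ring] at h'
  obtain ⟨y, y', e1, e2⟩ := split (1 - Complex.exp (θ * Complex.I) - Complex.exp (θ * Complex.I) ^ (n - 1))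
  have e3 := aeval_eq_zero_of_dvd_aeval_eq_zero d (x := Complex.exp (θ * Complex.I)) (by
    rw [aeval_def, eval₂_eq_eval_map, map_cyclotomic]
    exact h'.isRoot_cyclotomic (Nat.pos_of_ne_zero h0))
  rw [ev _ _ _ e1 e2] at e3
  have e4 := mul_pow y y' m
  rw [e1, one_pow] at e4
  have e5 : y ^ m = 1 := sub_eq_zero.1 (pow_eq_zero_iff two_ne_zero |>.1 (by
    linear_combination y ^ m * e3 + e4))
  have e6 : y' ^ m = 1 := by rw [e4, e5, one_mul]
  have e7 : Complex.exp (θ * Complex.I) ^ (n - 1) = Complex.exp ((-θ : ℝ) * Complex.I) := by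
    refine mul_left_cancel₀ (Complex.exp_ne_zero (θ * Complex.I)) ?_
    rw [← pow_succ', Nat.sub_add_cancel (Nat.pos_of_ne_zero h0), h'.pow_eq_one, ← Complex.exp_add]
    simp
  have e8 := congrArg Complex.re e2
  rw [e7, Complex.sub_re, Complex.sub_re, Complex.exp_ofReal_mul_I_re, Complex.exp_ofReal_mul_I_re,
    Real.cos_neg, Complex.add_re, Complex.one_re] at e8
  have b1 := (Complex.re_le_norm y).trans (Complex.norm_eq_one_of_pow_eq_one e5 m0).le
  have b2 := (Complex.re_le_norm y').trans (Complex.norm_eq_one_of_pow_eq_one e6 m0).le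
  have n0 : (0 : ℝ) < n := Nat.cast_pos.2 (Nat.pos_of_ne_zero h0)
  have l1 : (1 : ℝ) / 3 < k / n := by
    rw [div_lt_div_iff₀ (by norm_num) n0]; exact_mod_cast (by omega)
  have l2 : (k : ℝ) / n ≤ 1 / 2 := by
    rw [div_le_div_iff₀ n0 (by norm_num)]; exact_mod_cast (by omega)
  have := Real.cos_lt_cos_of_nonneg_of_le_pi (x := Real.pi - Real.pi / 3) (y := θ)
    (by linarith [Real.pi_pos]) (by nlinarith [Real.pi_pos]) (by nlinarith [Real.pi_pos])
  rw [Real.cos_pi_sub, Real.cos_pi_div_three] at this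
  linarith

variable {G V : Type*} [Group G] [Finite G] [AddCommGroup V] [Module ℂ V] {ρ : G →* End ℂ V}

theorem pow_eig {g : G} {v : V} {t : ℂ} (h : ρ g v = t • v) (i : ℕ) : ρ (g ^ i) v = t ^ i • v := by
  induction i with
  | zero => simp
  | succ i ih => rw [pow_succ, map_mul, End.mul_apply, h, map_smul, ih, smul_smul, pow_succ']

theorem FPF.ord [FiniteDimensional ℂ V] [Nontrivial V] (h : FPF ρ) {g x : G}
    (e : ρ g + ρ g⁻¹ + (ρ x + ρ x⁻¹) = 1) :
    orderOf g = 1 ∨ orderOf g = 3 ∨ orderOf g = 4 ∨ orderOf g = 6 ∨ orderOf g = 10 := by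
  obtain ⟨ζ, hζ⟩ := End.exists_eigenvalue (ρ g)
  obtain ⟨v, hv, v0⟩ := hζ.exists_hasEigenvector
  rw [End.mem_genEigenspace_one] at hv
  have r : ∀ {x : G} {v : V} {t : ℂ}, v ≠ 0 → ρ x v = t • v → t ^ orderOf x = 1 := fun {x v t} v0 e =>
    smul_left_injective ℂ v0 (by simpa using (pow_eig e (orderOf x)).symm)
  have g0 := (orderOf_pos g).ne'
  have pr : IsPrimitiveRoot ζ (orderOf g) := ⟨r v0 hv, fun l hl => orderOf_dvd_of_pow_eq_one
    (by_contra fun e => v0 (h _ e v (by rw [pow_eig hv, hl, one_smul])))⟩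
  obtain ⟨η, η', h1, h2⟩ := split (1 - ζ - ζ ^ (orderOf g - 1))
  have e1 : ρ x v + ρ x⁻¹ v = (η + η') • v := by
    have := DFunLike.congr_fun e v
    rw [show g⁻¹ = g ^ (orderOf g - 1) from inv_eq_of_mul_eq_one_right (by
      rw [← pow_succ', Nat.sub_add_cancel (orderOf_pos g), pow_orderOf_eq_one])] at this
    simp only [LinearMap.add_apply, End.one_apply, pow_eig hv, hv] at this
    rw [← h2, ← add_right_inj (ζ • v + ζ ^ (orderOf g - 1) • v), this]
    module
  by_cases e2 : ρ x v - η' • v = 0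
  · exact root_cases g0 (orderOf_pos x).ne' pr (mul_comm η η' ▸ h1) (r v0 (sub_eq_zero.1 e2))
      (h2.trans (add_comm _ _))
  · refine root_cases g0 (orderOf_pos x).ne' pr h1 (r e2 ?_) h2
    have := congrArg (ρ x) e1
    rw [map_add, ← End.mul_apply (ρ x) (ρ x⁻¹), ← map_mul, mul_inv_cancel, map_one, End.one_apply,
      map_smul] at this
    rw [map_sub, map_smul, smul_sub, smul_smul, h1, one_smul, ← add_left_inj v, sub_add_cancel,
      sub_add_eq_add_sub, this]
    module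

end CfsgH8.FC
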