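import Cfsg.Agent.H8.FC2

/-! Ring identities for elements of order three and four. -/

set_option autoImplicit false

namespace CfsgH8.FC

variable {R : Type*} [Ring R] {a b c d x y z : R}

local notation "ι" n:max => (n : ℤ) • (1 : R)

/-- a quadratic equation. -/
structure Q2 (m n : ℤ) (d : R) : Prop where
  e : d * d = m • d + ι n

theorem Q2.r {m n : ℤ} (h : Q2 m n d) (x : R) : d * (d * x) = m • (d * x) + n • x := by
  rw [← mul_assoc, h.e]; noncomm_ring

/-- elements of order four in a quaternion group normalised by `d`. -/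
structure A4 (d a : R) : Prop where
  s : Q2 0 (-1) a
  t : a * d = -(d * a) - a - 1

theorem A4.r (h : A4 d a) (x : R) : a * (d * x) = -(d * (a * x)) - a * x - x := by
  rw [← mul_assoc, h.t]; noncomm_ring

theorem cm_r (h : a * b = b * a) (x : R) : a * (b * x) = b * (a * x) := by
  rw [← mul_assoc, h, mul_assoc]

/-- the anticommutator. -/
def sg (a b : R) : R := a * b + b * a

theorem sg_comm (a b : R) : sg a b = sg b a := add_comm _ _

theorem sg_e {n : ℤ} (h : sg a b = ι n) : b * a = -(a * b) + ι n := by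
  rw [← h, sg]; abel

theorem sg_r {n : ℤ} (h : sg a b = ι n) (x : R) : b * (a * x) = -(a * (b * x)) + n • x := by
  rw [← mul_assoc, sg_e h]; noncomm_ring

theorem sg_sum (hb : A4 d b) : sg a b + sg (d - a - d * a) b + sg (d * a + 1 + d) b = ι (-2) := by
  simp only [sg]
  noncomm_ring [hb.t, hb.r]

theorem sg_sq (hd : Q2 (-1) (-1) d) (ha : A4 d a) (hb : A4 d b) :
    sg a b * sg a b + sg (d - a - d * a) b * sg (d - a - d * a) b +
      sg (d * a + 1 + d) b * sg (d * a + 1 + d) b = ι 4 := by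
  simp only [sg]
  noncomm_ring [hd.r, hd.e, ha.t, ha.r, ha.s.r, ha.s.e, hb.t, hb.r, hb.s.r, hb.s.e, zero_smul, zero_add]

/-- the trace of a product of two elements of order three. -/
def tt (c d : R) : R := c * d + (-1 - d) * (-1 - c)

theorem tt_y (hd : Q2 (-1) (-1) d) (ha : A4 d a) (hb : A4 d b) :
    sg a b = tt (a - d - 1) (b - d - 1) - 1 := by
  simp only [sg, tt]
  noncomm_ring [hd.e, ha.t, hb.t]

theorem braid (hc : Q2 (-1) (-1) c) (hd : Q2 (-1) (-1) d) : c * d * c * d * c - d * c * d * c * d =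
    (tt c d * tt c d - tt c d - 1) * (c - d) := by
  simp only [tt]
  noncomm_ring [hd.r, hd.e, hc.r, hc.e]

theorem comm_y (ha : A4 d a) (hb : A4 d b) (h2 : sg b c = ι (-1)) (h3 : sg a c = ι (-1)) :
    a * b * (c - d - 1) = (c - d - 1) * (a * b) := by
  noncomm_ring [ha.t, ha.r, hb.t, hb.r, sg_e h2, sg_r h2, sg_e h3, sg_r h3]

section
variable [Algebra ℂ R]

theorem tf {n : ℤ} (hn : n ≠ 0) (h : n • x = 0) : x = 0 := by
  rw [← Int.cast_smul_eq_zsmul ℂ, smul_eq_zero] at h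
  exact h.resolve_left (Int.cast_ne_zero.2 hn)

variable [Nontrivial R]

theorem zinj {m n : ℤ} (h : ι m = ι n) : m = n :=
  sub_eq_zero.1 (by_contra fun e => one_ne_zero (tf e (by rw [sub_smul, h, sub_self] : _ • (1 : R) = 0)))

theorem no_zero (hd : Q2 (-1) (-1) d) (ha : A4 d a) (hb : A4 d b) (hc : A4 d c)
    (h1 : sg a b = ι (-1)) (h2 : sg b c = ι (-1)) (h3 : sg a c = ι (-1))
    (e : a * b = c - d - 1 ∨ a * b = d - c) : False := by
  have e1 : a - b = c * (a * b) - a * b * c := by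
    noncomm_ring [sg_e h2, sg_r h2, sg_e h3, sg_r h3]
  have e2 : (a - b) * (a - b) = ι (-1) := by noncomm_ring [ha.s.e, hb.s.e, sg_e h1, zero_smul, zero_add]
  have e3 : (a - b) * (a - b) = ι (-2) := by
    rcases e with e | e <;> rw [e1, e] <;> noncomm_ring [hd.r, hd.e, hc.t, hc.r, hc.s.r, hc.s.e]
  exact absurd (zinj (e2.symm.trans e3)) (by decide)

theorem no_rot (hd : Q2 (-1) (-1) d) (hx : Q2 (-3) (-36) x) (hy : Q2 (-3) (-36) y)
    (c1 : x * d = d * x) (c2 : y * d = d * y)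
    (e : d * d * (x * y) + d * ((ι 3 + y) * (ι 3 + x)) = ι 18) : False := by
  generalize hL : d * d * (x * y) + d * ((ι 3 + y) * (ι 3 + x)) = L at e
  have e1 : (108 : ℤ) • (y * x - x * y) = (d * d - d) * (ι 3 + x) * (L * x - x * L) := by
    rw [← hL]
    noncomm_ring [hd.r, hd.e, hx.r, hx.e, hy.r, hy.e, c1, c2, cm_r c1, cm_r c2]
  have c3 := sub_eq_zero.1 (tf (by decide) (e1.trans (by rw [e]; noncomm_ring)))
  have e2 : ι 486 = (ι (-6) + y + x + 6 • d + 2 • (d * y) + 2 • (d * x)) * (L - ι 18) := by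
    rw [← hL]
    noncomm_ring [hd.r, hd.e, hx.r, hx.e, hy.r, hy.e, c1, c2, c3, cm_r c1, cm_r c2, cm_r c3]
  rw [e, sub_self, mul_zero] at e2
  exact one_ne_zero (tf (by decide) e2)

omit [Algebra ℂ R] [Nontrivial R] in
theorem xq (hd : Q2 (-1) (-1) d) (ha : A4 d a) (hb : A4 d b) (h : sg a b = ι (-1)) :
    Q2 (-3) (-36) ((3 • a - 2 • d - 1) * (3 • b - 2 • d - 1)) :=
  ⟨by noncomm_ring [hd.r, hd.e, ha.t, ha.r, ha.s.r, ha.s.e, hb.t, hb.r, hb.s.r, hb.s.e, sg_e h, sg_r h,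
    zero_smul, zero_add]⟩

omit [Algebra ℂ R] [Nontrivial R] in
theorem xc (hd : Q2 (-1) (-1) d) (ha : A4 d a) (hb : A4 d b) :
    (3 • a - 2 • d - 1) * (3 • b - 2 • d - 1) * d = d * ((3 • a - 2 • d - 1) * (3 • b - 2 • d - 1)) := by
  noncomm_ring [hd.r, hd.e, ha.t, ha.r, hb.t, hb.r]

omit [Algebra ℂ R] [Nontrivial R] in
theorem xy (hd : Q2 (-1) (-1) d) (ha : A4 d a) (hb : A4 d b) (hc : A4 d c)
    (h1 : sg a b = ι (-1)) (h2 : sg b c = ι (-1)) :
    (3 • a - 2 • d - 1) * (3 • b - 2 • d - 1) * ((3 • b - 2 • d - 1) * (3 • c - 2 • d - 1)) =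
      (-6 : ℤ) • ((3 • a - 2 • d - 1) * (3 • c - 2 • d - 1)) ∧
    (ι 3 + (3 • b - 2 • d - 1) * (3 • c - 2 • d - 1)) * (ι 3 + (3 • a - 2 • d - 1) * (3 • b - 2 • d - 1)) =
      (-6 : ℤ) • ((3 • c - 2 • d - 1) * (3 • a - 2 • d - 1)) := by
  have e : ∀ {a b : R}, A4 d a → A4 d b → sg a b = ι (-1) → ι 3 + (3 • a - 2 • d - 1) * (3 • b - 2 • d - 1)
      = -((3 • b - 2 • d - 1) * (3 • a - 2 • d - 1)) := fun ha hb h => by
    noncomm_ring [hd.e, ha.t, hb.t, sg_e h]
  have q : Q2 0 (-6) (3 • b - 2 • d - 1) := ⟨by noncomm_ring [hd.e, hb.t, hb.s.e, zero_smul, zero_add]⟩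
  rw [e ha hb h1, e hb hc h2]
  generalize 3 • b - 2 • d - 1 = B at q
  generalize 3 • a - 2 • d - 1 = A
  generalize 3 • c - 2 • d - 1 = C
  constructor <;> noncomm_ring [q.r, zero_smul, zero_add]

theorem no_one (hd : Q2 (-1) (-1) d) (ha : A4 d a) (hb : A4 d b) (hc : A4 d c)
    (h1 : sg a b = ι (-1)) (h2 : sg b c = ι (-1)) (h3 : sg (d - a - d * a) c = ι (-1)) : False := by
  refine no_rot hd (xq hd ha hb h1) (xq hd hb hc h2) (xc hd ha hb) (xc hd hb hc) ?_
  rw [show ι 18 = (-54 : ℤ) • ι (-1) + ι (-36) by module, ← h3, sg, (xy hd ha hb hc h1 h2).1,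
    (xy hd ha hb hc h1 h2).2]
  noncomm_ring [hd.r, hd.e, ha.t, ha.r, hc.t, hc.r]

theorem no_two (hd : Q2 (-1) (-1) d) (ha : A4 d a) (hb : A4 d b) (hc : A4 d c)
    (h1 : sg a b = ι (-1)) (h2 : sg b c = ι (-1)) (h3 : sg (d * a + 1 + d) c = ι (-1)) : False := by
  refine no_rot (d := -1 - d) ⟨by noncomm_ring [hd.e]⟩ (xq hd ha hb h1) (xq hd hb hc h2)
    (by rw [mul_sub, xc hd ha hb]; noncomm_ring) (by rw [mul_sub, xc hd hb hc]; noncomm_ring) ?_
  rw [show ι 18 = (-54 : ℤ) • ι (-1) + ι (-36) by module, ← h3, sg, (xy hd ha hb hc h1 h2).1,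
    (xy hd ha hb hc h1 h2).2]
  noncomm_ring [hd.r, hd.e, ha.t, ha.r, hc.t, hc.r]

/-- the possible values of the anticommutator. -/
def Cl (x : R) : Prop := Q2 (-1) 1 x ∨ ∃ n : ℤ, -2 ≤ n ∧ n ≤ 1 ∧ x = ι n

theorem tri_key (hx : Q2 (-1) 1 x) (hy : Q2 (-1) 1 y) (hz : Cl z) (s1 : x + y + z = ι (-2))
    (s2 : x * x + y * y + z * z = ι 4) : z = ι (-1) := by
  have e : z * z + z = 0 := by
    rw [hx.e, hy.e] at s2
    linear_combination (norm := module) s1 + s2
  rcases hz with h | ⟨n, h1, h2, rfl⟩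
  · rw [h.e] at e
    exact absurd (zinj (m := 1) (n := 0) (by linear_combination (norm := module) e)) one_ne_zero
  have e' : n * n + n = 0 := zinj (R := R) (by
    rw [zero_smul, ← e, smul_mul_smul_comm, mul_one, add_smul])
  obtain rfl | rfl : n = -1 ∨ n = 0 := by interval_cases n <;> simp_all
  · rfl
  obtain rfl : y = ι (-2) - x := by linear_combination (norm := module) s1
  have e1 := hy.e
  have e2 : x = ι (-1) := sub_eq_zero.1 (tf (n := 2) (by decide) (by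
    linear_combination (norm := noncomm_ring) e1 - hx.e))
  have e3 := hx.e
  rw [e2] at e3
  exact absurd (zinj (R := R) (m := 1) (n := 2) (by linear_combination (norm := noncomm_ring) e3))
    (by decide)

omit [Algebra ℂ R] [Nontrivial R] in
theorem Cl.int (h : Cl x) (h1 : ¬ Q2 (-1) 1 x) : ∃ n : ℤ, x = ι n :=
  (h.resolve_left h1).imp fun _ h => h.2.2

theorem tri_int {m n : ℤ} (s1 : x + ι m + ι n = ι (-2)) (s2 : x * x + ι m * ι m + ι n * ι n = ι 4) :
    x = ι (-2) ∨ m = -2 ∨ n = -2 := by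
  obtain rfl : x = ι (-2 - m - n) := by linear_combination (norm := module) s1
  have e : (-2 - m - n) * (-2 - m - n) + m * m + n * n = 4 := zinj (R := R) (by
    rw [← s2]; simp only [smul_mul_smul_comm, mul_one, add_smul])
  have : -2 ≤ m := by nlinarith
  have : m ≤ 2 := by nlinarith
  have : -2 ≤ n := by nlinarith
  have : n ≤ 2 := by nlinarith
  interval_cases m <;> interval_cases n <;> simp_all

theorem tri (hx : Cl x) (hy : Cl y) (hz : Cl z) (s1 : x + y + z = ι (-2))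
    (s2 : x * x + y * y + z * z = ι 4) (h1 : x ≠ ι (-2)) (h2 : y ≠ ι (-2)) (h3 : z ≠ ι (-2)) :
    (x = ι (-1) ∧ Q2 (-1) 1 y ∧ Q2 (-1) 1 z) ∨ (y = ι (-1) ∧ Q2 (-1) 1 z ∧ Q2 (-1) 1 x) ∨
      (z = ι (-1) ∧ Q2 (-1) 1 x ∧ Q2 (-1) 1 y) := by
  by_cases gx : Q2 (-1) 1 x <;> by_cases gy : Q2 (-1) 1 y
  · exact Or.inr (Or.inr ⟨tri_key gx gy hz s1 s2, gx, gy⟩)
  · by_cases gz : Q2 (-1) 1 z
    · exact Or.inr (Or.inl ⟨tri_key gz gx hy (by rw [← s1]; abel) (by rw [← s2]; abel), gz, gx⟩)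
    obtain ⟨m, rfl⟩ := hy.int gy
    obtain ⟨n, rfl⟩ := hz.int gz
    rcases tri_int s1 s2 with e | rfl | rfl <;> contradiction
  · by_cases gz : Q2 (-1) 1 z
    · exact Or.inl ⟨tri_key gy gz hx (by rw [← s1]; abel) (by rw [← s2]; abel), gy, gz⟩
    obtain ⟨m, rfl⟩ := hx.int gx
    obtain ⟨n, rfl⟩ := hz.int gz
    rcases tri_int (x := y) (m := m) (n := n) (by rw [← s1]; abel) (by rw [← s2]; abel) with
      e | rfl | rfl <;> contradiction
  · obtain ⟨m, rfl⟩ := hx.int gx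
    obtain ⟨n, rfl⟩ := hy.int gy
    rcases tri_int (x := z) (m := m) (n := n) (by rw [← s1]; abel) (by rw [← s2]; abel) with
      e | rfl | rfl <;> contradiction

theorem not_gold {n : ℤ} (h : Q2 (-1) 1 (ι n)) : False := by
  have e : n * n = -1 * n + 1 := zinj (R := R) (by
    have := h.e
    rwa [smul_mul_smul_comm, mul_one, smul_smul, ← add_smul] at this)
  have := Int.even_mul_succ_self n
  rw [show n * (n + 1) = 1 by linarith] at this
  exact absurd this (by decide)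

end

end CfsgH8.FC
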