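import Cfsg.Agent.H8.Pres
import Cfsg.Agent.H8.SL2e
import Cfsg.Agent.H5.GrpAux

/-! A presentation of `SL₂(5)`. -/

set_option autoImplicit false

namespace CfsgH8


/-- Coset representatives. -/
def s5W : List (List ℕ) := [
  [],[0],[1],[2],[3],[2,0],[3,0],[2,1],[3,1],[0,2],[1,2],[2,2],[0,3],[1,3],[3,3],[0,2,0],[1,2,0],
  [2,2,0],[0,3,0],[1,3,0],[3,3,0],[0,2,1],[1,2,1],[2,2,1],[0,3,1],[1,3,1],[3,3,1],[2,0,2],[3,0,2],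
  [2,1,2],[3,1,2],[0,2,2],[1,2,2],[2,0,3],[3,0,3],[2,1,3],[3,1,3],[0,3,3],[1,3,3],[2,0,2,0],
  [3,0,2,0],[3,1,2,0],[1,2,2,0],[2,0,3,0],[3,0,3,0],[2,1,3,0],[0,3,3,0],[1,3,3,0],[3,0,2,1],
  [3,1,2,1],[1,2,2,1],[2,0,3,1],[2,1,3,1],[0,3,3,1],[0,3,0,2],[2,2,1,2],[0,3,1,2],[3,3,1,2],
  [3,0,2,2],[2,1,2,2],[3,1,2,2],[2,2,0,3],[3,3,0,3],[1,2,1,3],[3,0,3,3],[2,1,3,3],[3,3,1,2,0],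
  [2,1,2,2,0],[3,1,2,2,0],[2,2,0,3,0],[3,3,0,3,0],[1,2,1,3,0],[3,0,3,3,0],[2,1,3,3,0],[3,3,1,2,1],
  [2,1,2,2,1],[2,2,0,3,1],[3,0,3,3,1],[3,0,3,0,2],[1,2,2,1,2],[2,0,3,1,2],[0,3,3,1,2],[0,3,0,2,2],
  [2,2,1,2,2],[3,3,1,2,2],[1,2,2,0,3],[0,3,3,0,3],[1,3,3,0,3],[3,3,0,3,3],[1,2,1,3,3],
  [0,3,3,1,2,0],[2,2,1,2,2,0],[3,3,1,2,2,0],[1,2,2,0,3,0],[0,3,3,0,3,0],[1,3,3,0,3,0],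
  [3,3,0,3,3,0],[1,2,1,3,3,0],[0,3,3,1,2,1],[2,2,1,2,2,1],[1,2,2,0,3,1],[3,3,0,3,3,1],
  [2,1,2,2,1,2],[3,0,3,3,1,2],[3,0,3,0,2,2],[1,2,2,1,2,2],[3,0,3,3,0,3],[1,3,3,0,3,3],
  [3,0,3,3,1,2,0],[1,2,2,1,2,2,0],[3,0,3,3,0,3,0],[1,3,3,0,3,3,0],[3,0,3,3,1,2,1],[1,2,2,1,2,2,1],
  [2,2,1,2,2,1,2],[3,3,0,3,3,1,2],[2,1,2,2,1,2,2],[3,3,0,3,3,0,3],[2,1,2,2,1,2,2,0],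
  [3,3,0,3,3,0,3,0]]

/-- Deductions. -/
def s5L : List TCStep := [
  ⟨0,[],0,1,[]⟩,⟨0,[],1,2,[]⟩,⟨0,[(0,0)],0,2,[(1,0)]⟩,⟨0,[],2,3,[]⟩,⟨0,[],3,4,[]⟩,⟨1,[],2,5,[]⟩,
  ⟨1,[],3,6,[]⟩,⟨2,[],2,7,[]⟩,⟨2,[],3,8,[]⟩,⟨3,[],0,9,[]⟩,⟨3,[],1,10,[]⟩,⟨3,[(3,0)],0,10,[(9,0)]⟩,
  ⟨3,[],2,11,[]⟩,⟨4,[],0,12,[]⟩,⟨4,[],1,13,[]⟩,⟨4,[(4,0)],0,13,[(12,0)]⟩,⟨4,[],3,14,[]⟩,
  ⟨4,[(4,2)],2,14,[(11,2),(3,2),(0,2)]⟩,⟨5,[],0,15,[]⟩,⟨5,[],1,16,[]⟩,⟨5,[(5,0)],0,16,[(15,0)]⟩,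
  ⟨5,[],2,17,[]⟩,⟨6,[],0,18,[]⟩,⟨6,[],1,19,[]⟩,⟨6,[(6,0)],0,19,[(18,0)]⟩,⟨6,[],3,20,[]⟩,
  ⟨6,[(6,2)],2,20,[(17,2),(5,2),(1,2)]⟩,⟨7,[],0,21,[]⟩,⟨7,[],1,22,[]⟩,⟨7,[(7,0)],0,22,[(21,0)]⟩,
  ⟨7,[],2,23,[]⟩,⟨8,[],0,24,[]⟩,⟨8,[],1,25,[]⟩,⟨8,[(8,0)],0,25,[(24,0)]⟩,⟨8,[],3,26,[]⟩,
  ⟨8,[(8,2)],2,26,[(23,2),(7,2),(2,2)]⟩,⟨9,[],2,27,[]⟩,⟨9,[],3,28,[]⟩,⟨10,[],2,29,[]⟩,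
  ⟨10,[],3,30,[]⟩,⟨11,[],0,31,[]⟩,⟨11,[],1,32,[]⟩,⟨11,[(11,0)],0,32,[(31,0)]⟩,⟨12,[],2,33,[]⟩,
  ⟨12,[],3,34,[]⟩,⟨13,[],2,35,[]⟩,⟨13,[],3,36,[]⟩,⟨14,[],0,37,[]⟩,⟨14,[],1,38,[]⟩,
  ⟨14,[(14,0)],0,38,[(37,0)]⟩,⟨15,[],2,39,[]⟩,
  ⟨36,[],0,36,[(39,2),(15,0),(5,2),(1,0),(0,2),(4,0),(13,2)]⟩,
  ⟨36,[(36,0),(39,2),(15,0),(5,2),(1,0),(0,3),(3,1),(9,3)],1,27,[(39,1)]⟩,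
  ⟨4,[(4,0),(13,2),(36,0),(39,2),(15,0),(5,3)],1,17,[(34,3),(12,1),(13,1)]⟩,
  ⟨13,[(13,0),(12,2),(34,0),(17,2),(5,0)],3,16,[(38,1),(14,3),(4,1),(12,1)]⟩,
  ⟨39,[(39,0)],0,27,[(36,0)]⟩,⟨39,[(39,0),(27,2),(9,0),(3,2),(0,0),(2,2),(8,0)],2,25,[]⟩,
  ⟨39,[(39,0),(27,2),(9,0),(3,2),(0,0),(2,3),(7,1)],3,21,[(36,1),(27,1)]⟩,
  ⟨8,[(8,0),(25,2),(39,0),(27,2),(9,0),(3,3),(11,1)],3,31,[(24,1),(25,1)]⟩,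
  ⟨0,[(0,0),(2,2),(8,0),(25,2),(39,0)],3,27,[(19,1),(6,3),(1,1),(2,1)]⟩,
  ⟨25,[(25,0),(24,2),(31,0),(11,2),(3,0),(10,3)],1,29,[(26,3),(8,1),(24,1)]⟩,⟨15,[],3,40,[]⟩,
  ⟨16,[(16,0),(15,2)],0,40,[(33,2),(12,0),(4,2),(14,0),(38,2)]⟩,⟨16,[],3,41,[]⟩,
  ⟨5,[(5,0),(16,2)],0,41,[(35,2),(13,0),(12,2),(34,0),(17,2)]⟩,⟨17,[],1,42,[]⟩,
  ⟨17,[(17,0)],0,42,[(34,0)]⟩,⟨18,[],2,43,[]⟩,⟨18,[],3,44,[]⟩,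
  ⟨6,[(6,0),(19,2),(27,0),(36,2),(21,0),(7,3)],1,23,[(44,3),(18,1),(19,1)]⟩,⟨19,[],2,45,[]⟩,
  ⟨45,[(45,2),(19,2),(27,2),(9,2)],2,28,[]⟩,⟨20,[],0,46,[]⟩,⟨20,[],1,47,[]⟩,
  ⟨20,[(20,0)],0,47,[(46,0)]⟩,
  ⟨18,[(18,0),(6,2),(20,0)],2,47,[(22,0),(21,3),(36,1),(27,3),(19,1),(6,1)]⟩,⟨21,[],3,48,[]⟩,
  ⟨21,[(21,2)],2,48,[(35,2),(13,2),(36,2)]⟩,
  ⟨22,[(22,0),(21,2)],0,48,[(43,2),(18,0),(6,2),(20,0),(47,2)]⟩,⟨22,[],3,49,[]⟩,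
  ⟨7,[(7,0),(22,2)],0,49,[(45,2),(19,0),(18,2),(44,0),(23,2)]⟩,⟨23,[],1,50,[]⟩,
  ⟨23,[(23,0)],0,50,[(44,0)]⟩,⟨24,[],2,51,[]⟩,
  ⟨28,[],0,28,[(51,2),(24,0),(8,2),(26,0),(29,2),(10,0),(9,2)]⟩,⟨25,[],2,52,[]⟩,
  ⟨9,[(9,0),(3,2),(0,0),(2,2),(8,0),(25,3)],1,52,[(30,3),(10,1),(3,1)]⟩,
  ⟨52,[(52,2),(25,2),(39,2),(15,2)],2,40,[]⟩,⟨26,[],0,53,[]⟩,⟨53,[(53,0),(26,0)],0,29,[]⟩,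
  ⟨28,[],0,54,[]⟩,⟨44,[(44,0),(23,2),(7,0),(22,2),(49,0),(45,3),(28,1)],3,54,[(50,1),(23,1)]⟩,
  ⟨54,[(54,0),(28,0)],0,51,[]⟩,⟨29,[],2,55,[]⟩,⟨30,[],0,56,[]⟩,⟨56,[(56,0),(30,0)],0,52,[]⟩,
  ⟨30,[(30,0),(52,2),(25,0),(24,2),(31,0),(11,3),(14,1)],3,37,[(56,1),(52,1)]⟩,⟨30,[],3,57,[]⟩,
  ⟨30,[(30,2)],2,57,[(55,2),(29,2),(10,2)]⟩,⟨31,[],3,58,[]⟩,⟨32,[],2,59,[]⟩,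
  ⟨52,[(52,0),(56,2),(37,0),(14,2),(11,0),(32,3)],1,59,[(57,3),(30,1),(56,1)]⟩,⟨32,[],3,60,[]⟩,
  ⟨11,[(11,0),(32,2)],0,60,[(40,2),(52,0),(56,2),(37,0),(14,2)]⟩,⟨60,[(60,0),(40,0)],0,33,[]⟩,
  ⟨33,[],2,61,[]⟩,⟨34,[],3,62,[]⟩,⟨34,[(34,2)],2,62,[(61,2),(33,2),(12,2)]⟩,⟨35,[],1,63,[]⟩,
  ⟨35,[(35,0)],0,63,[(41,0)]⟩,
  ⟨41,[(41,0),(35,2),(13,0),(12,2),(34,0),(17,3),(20,1)],3,46,[(63,1),(35,1)]⟩,⟨37,[],3,64,[]⟩,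
  ⟨38,[(38,0),(37,2)],0,64,[(61,2),(33,0),(60,3),(32,1),(11,3),(14,1),(37,1)]⟩,⟨38,[],2,65,[]⟩,
  ⟨41,[],3,66,[]⟩,⟨41,[(41,2)],2,66,[(65,2),(38,2),(16,2)]⟩,⟨42,[],2,67,[]⟩,
  ⟨35,[(35,0),(63,2),(46,0),(20,2),(17,0),(42,3)],1,67,[(66,3),(41,1),(63,1)]⟩,⟨42,[],3,68,[]⟩,
  ⟨17,[(17,0),(42,2)],0,68,[(48,2),(35,0),(63,2),(46,0),(20,2)]⟩,⟨68,[(68,0),(48,0)],0,43,[]⟩,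
  ⟨43,[],2,69,[]⟩,⟨44,[],3,70,[]⟩,⟨44,[(44,2)],2,70,[(69,2),(43,2),(18,2)]⟩,⟨45,[],1,71,[]⟩,
  ⟨45,[(45,0)],0,71,[(49,0)]⟩,⟨45,[(45,0)],2,71,[(53,0),(26,2),(23,0),(50,2),(54,0),(28,2)]⟩,
  ⟨46,[],3,72,[]⟩,⟨47,[(47,0),(46,2)],0,72,[(69,2),(43,0),(68,3),(42,1),(17,3),(20,1),(46,1)]⟩,
  ⟨47,[],2,73,[]⟩,⟨49,[],3,74,[]⟩,⟨49,[(49,2)],2,74,[(73,2),(47,2),(22,2)]⟩,⟨50,[],2,75,[]⟩,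
  ⟨45,[(45,0),(71,2),(53,0),(26,2),(23,0),(50,3)],1,75,[(74,3),(49,1),(71,1)]⟩,⟨51,[],2,76,[]⟩,
  ⟨76,[(76,2),(51,2),(24,2),(31,2)],2,58,[]⟩,⟨53,[],3,77,[]⟩,
  ⟨29,[(29,0),(53,2)],0,77,[(76,2),(51,0),(54,3),(50,1),(23,3),(26,1),(53,1)]⟩,⟨54,[],3,78,[]⟩,
  ⟨51,[(51,0),(54,2)],0,78,[(55,2),(29,0),(53,2),(77,0),(76,2)]⟩,⟨55,[],1,79,[]⟩,
  ⟨55,[(55,0)],0,79,[(78,0)]⟩,⟨56,[],2,80,[]⟩,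
  ⟨11,[(11,0),(32,2),(60,0),(40,2),(52,0),(56,3)],1,80,[(58,3),(31,1),(32,1)]⟩,⟨57,[],0,81,[]⟩,
  ⟨81,[(81,0),(57,0)],0,59,[]⟩,⟨58,[],0,82,[]⟩,
  ⟨78,[(78,0),(55,2),(29,0),(53,2),(77,0),(76,3),(58,1)],3,82,[(79,1),(55,1)]⟩,
  ⟨82,[(82,0),(58,0)],0,80,[]⟩,⟨59,[],2,83,[]⟩,⟨60,[],3,84,[]⟩,
  ⟨60,[(60,2)],2,84,[(83,2),(59,2),(32,2)]⟩,
  ⟨33,[(33,0),(60,2)],0,84,[(65,2),(38,0),(37,2),(64,0),(61,2)]⟩,⟨61,[],1,85,[]⟩,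
  ⟨61,[(61,0)],0,85,[(64,0)]⟩,⟨62,[],0,86,[]⟩,⟨62,[],1,87,[]⟩,⟨62,[(62,0)],0,87,[(86,0)]⟩,
  ⟨62,[(62,0)],2,87,[(63,0),(41,2),(66,0),(67,2),(42,0),(34,2)]⟩,⟨64,[],3,88,[]⟩,
  ⟨64,[(64,2)],2,88,[(80,2),(56,2),(37,2)]⟩,⟨65,[],1,89,[]⟩,⟨65,[(65,0)],0,89,[(84,0)]⟩,
  ⟨84,[(84,0),(65,2),(38,0),(37,2),(64,0),(61,3),(62,1)],3,86,[(89,1),(65,1)]⟩,⟨66,[],0,90,[]⟩,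
  ⟨64,[(64,0),(61,2),(33,0),(60,2),(84,0),(65,3),(66,1)],3,90,[(85,1),(61,1)]⟩,
  ⟨90,[(90,0),(66,0)],0,67,[]⟩,⟨67,[],2,91,[]⟩,⟨68,[],3,92,[]⟩,
  ⟨68,[(68,2)],2,92,[(91,2),(67,2),(42,2)]⟩,
  ⟨43,[(43,0),(68,2)],0,92,[(73,2),(47,0),(46,2),(72,0),(69,2)]⟩,⟨69,[],1,93,[]⟩,
  ⟨69,[(69,0)],0,93,[(72,0)]⟩,⟨70,[],0,94,[]⟩,⟨70,[],1,95,[]⟩,⟨70,[(70,0)],0,95,[(94,0)]⟩,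
  ⟨70,[(70,0)],2,95,[(71,0),(49,2),(74,0),(75,2),(50,0),(44,2)]⟩,⟨72,[],3,96,[]⟩,
  ⟨72,[(72,2)],2,96,[(87,2),(63,2),(46,2)]⟩,⟨73,[],1,97,[]⟩,⟨73,[(73,0)],0,97,[(92,0)]⟩,
  ⟨92,[(92,0),(73,2),(47,0),(46,2),(72,0),(69,3),(70,1)],3,94,[(97,1),(73,1)]⟩,⟨74,[],0,98,[]⟩,
  ⟨72,[(72,0),(69,2),(43,0),(68,2),(92,0),(73,3),(74,1)],3,98,[(93,1),(69,1)]⟩,
  ⟨98,[(98,0),(74,0)],0,75,[]⟩,⟨75,[],2,99,[]⟩,⟨99,[(99,2),(75,2),(50,2),(54,2)],2,78,[]⟩,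
  ⟨76,[],1,100,[]⟩,⟨76,[(76,0)],0,100,[(77,0)]⟩,
  ⟨76,[(76,0)],2,100,[(81,0),(57,2),(55,0),(79,2),(82,0),(58,2)]⟩,⟨77,[],3,101,[]⟩,
  ⟨77,[(77,2)],2,101,[(95,2),(71,2),(53,2)]⟩,⟨79,[],2,102,[]⟩,
  ⟨76,[(76,0),(100,2),(81,0),(57,2),(55,0),(79,3)],1,102,[(101,3),(77,1),(100,1)]⟩,
  ⟨81,[],3,103,[]⟩,⟨59,[(59,0),(81,2)],0,103,[(88,2),(80,0),(82,3),(79,1),(55,3),(57,1),(81,1)]⟩,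
  ⟨82,[],3,104,[]⟩,⟨80,[(80,0),(82,2)],0,104,[(83,2),(59,0),(81,2),(103,0),(88,2)]⟩,
  ⟨83,[],1,105,[]⟩,⟨83,[(83,0)],0,105,[(104,0)]⟩,
  ⟨89,[(89,0),(84,2),(83,0)],2,105,[(85,0),(64,3),(37,1),(38,3),(65,1),(84,1)]⟩,⟨86,[],3,106,[]⟩,
  ⟨87,[(87,0),(86,2)],0,106,[(91,2),(67,0),(90,3),(85,1),(61,3),(62,1),(86,1)]⟩,⟨88,[],1,107,[]⟩,
  ⟨88,[(88,0)],0,107,[(103,0)]⟩,⟨88,[(88,0)],2,107,[(89,0),(84,2),(83,0),(105,2),(85,0),(64,2)]⟩,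
  ⟨90,[],3,108,[]⟩,⟨67,[(67,0),(90,2)],0,108,[(96,2),(87,0),(86,2),(106,0),(91,2)]⟩,
  ⟨91,[],1,109,[]⟩,⟨91,[(91,0)],0,109,[(106,0)]⟩,
  ⟨97,[(97,0),(92,2),(91,0)],2,109,[(93,0),(72,3),(46,1),(47,3),(73,1),(92,1)]⟩,⟨94,[],3,110,[]⟩,
  ⟨95,[(95,0),(94,2)],0,110,[(99,2),(75,0),(98,3),(93,1),(69,3),(70,1),(94,1)]⟩,⟨96,[],1,111,[]⟩,
  ⟨96,[(96,0)],0,111,[(108,0)]⟩,⟨96,[(96,0)],2,111,[(97,0),(92,2),(91,0),(109,2),(93,0),(72,2)]⟩,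
  ⟨98,[],3,112,[]⟩,⟨75,[(75,0),(98,2)],0,112,[(101,2),(95,0),(94,2),(110,0),(99,2)]⟩,
  ⟨112,[(112,0),(101,0)],0,102,[]⟩,⟨99,[],1,113,[]⟩,⟨99,[(99,0)],0,113,[(110,0)]⟩,
  ⟨99,[(99,0)],2,113,[(100,0),(77,2),(101,0),(102,2),(79,0),(78,2)]⟩,⟨102,[],2,114,[]⟩,
  ⟨114,[(114,2),(102,2),(79,2),(82,2)],2,104,[]⟩,⟨103,[],3,115,[]⟩,
  ⟨103,[(103,2)],2,115,[(113,2),(100,2),(81,2)]⟩,⟨105,[],2,116,[]⟩,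
  ⟨88,[(88,0),(107,2),(89,0),(84,2),(83,0),(105,3)],1,116,[(115,3),(103,1),(107,1)]⟩,
  ⟨116,[(116,2),(105,2),(85,2),(90,2)],2,108,[]⟩,⟨106,[],3,117,[]⟩,
  ⟨106,[(106,2)],2,117,[(107,2),(89,2),(86,2)]⟩,
  ⟨83,[(83,0),(105,2),(85,0),(64,2),(88,0),(107,3)],1,117,[(114,3),(104,1),(105,1)]⟩,
  ⟨109,[],2,118,[]⟩,
  ⟨96,[(96,0),(111,2),(97,0),(92,2),(91,0),(109,3)],1,118,[(116,3),(108,1),(111,1)]⟩,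
  ⟨116,[(116,0)],0,118,[(115,0)]⟩,
  ⟨101,[(101,0),(102,2),(79,0),(78,2),(99,0),(113,3),(115,1)],3,118,[(112,1),(102,1)]⟩,
  ⟨110,[],3,119,[]⟩,⟨110,[(110,2)],2,119,[(111,2),(97,2),(94,2)]⟩,
  ⟨113,[(113,0),(110,2)],0,119,[(114,2),(102,0),(112,2),(118,0),(115,2)]⟩,
  ⟨119,[(119,0),(114,0)],0,117,[]⟩]

/-- Relators. -/
def s5R : List (List ℕ) := [
  [0,0,0],[2,2,2,2,2],[0,2,0,2,0,2,0,2],[0,2,0,2,0,3,1,3,1,1],[],[0,1],[1,0],[2,3],[3,2]]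

theorem s5_chk : (s5W.getD 0 [] == [] && Nat.blt 0 120 && Nat.ble 120 120 &&
    tcF 120 2 120 (tcR 120 2 s5R [] s5W s5L 0)) = true := by
  decide +kernel


variable {G : Type*} [Group G]

/-- `SL₂(5)`. -/
abbrev SL25 := Matrix.SpecialLinearGroup (Fin 2) (ZMod 5)

/-- an element of order three. -/
def s5x : SL25 := ⟨!![0, 4; 1, 4], by decide⟩

/-- an element of order five. -/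
def s5y : SL25 := ⟨!![1, 1; 0, 1], by decide⟩

instance fact5 : Fact (Nat.Prime 5) := ⟨by norm_num⟩

theorem card_SL25 : Nat.card SL25 = 120 := by
  rw [CfsgH5.card_SL2, ZMod.card]; rfl

theorem closure_s5 : Subgroup.closure ((fun k => [s5x, s5y].getD k 1) '' Set.Iio 2) = ⊤ :=
  closure_eq_top_of_nodup _ s5W (by decide +kernel) (by decide +kernel) (card_SL25.le.trans (by decide))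

theorem eq_top_s5 {H : Subgroup SL25} (h1 : s5x ∈ H) (h2 : s5y ∈ H) : H = ⊤ :=
  eq_top_iff.2 (closure_s5.ge.trans ((Subgroup.closure_le _).2 (by
    rintro _ ⟨k, hk, rfl⟩
    obtain rfl | rfl : k = 0 ∨ k = 1 := by have : k < 2 := hk; omega
    exacts [h1, h2])))

theorem exists_hom_SL25 {x y : G} (h1 : x ^ 3 = 1) (h2 : y ^ 5 = 1) (h3 : (x * y) ^ 4 = 1)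
    (h4 : (x * y) ^ 2 * x = x * (x * y) ^ 2) : ∃ φ : SL25 →* G, φ s5x = x ∧ φ s5y = y := by
  obtain ⟨φ, h⟩ := tc_hom (fun k => [s5x, s5y].getD k 1) (fun k => [x, y].getD k 1)
    (by decide +kernel) (by
      have h5 : (x * y) ^ 2 * x * ((x * y) ^ 2)⁻¹ * x⁻¹ = 1 := by rw [h4]; group
      simp only [pow_succ, pow_zero, one_mul, mul_assoc, mul_inv_rev] at h1 h2 h3 h5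
      simp [s5R, lt, h1, h2, h3, h5]) rfl rfl s5_chk card_SL25.ge closure_s5
  exact ⟨φ, h 0 (by norm_num), h 1 (by norm_num)⟩

theorem perfect_SL25 : commutator SL25 = ⊤ :=
  Matrix.SL2.commutator_eq_top (a := 2) (by decide) (by decide)

theorem not_solvable_SL25 : ¬ Group.IsSolvable SL25 := fun _ =>
  haveI : Nontrivial SL25 := ⟨s5x, 1, by decide⟩
  (Group.IsSolvable.commutator_lt_top_of_nontrivial SL25).ne perfect_SL25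

theorem inj_SL25 (φ : SL25 →* G) (h1 : φ s5x ≠ 1) (h2 : φ ((s5x * s5y) ^ 2) ≠ 1) :
    Function.Injective φ := by
  haveI := CfsgH5.PSL_isSimpleGroup_of_perfect perfect_SL25
  rcases CfsgH5.normal_le_center_or_top perfect_SL25 φ.ker with h | h
  · refine (injective_iff_map_eq_one φ).2 fun g e => (isSc_SL2.1 (mem_center_SL2.1 (h e))).resolve_right ?_
    rintro rfl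
    exact h2 (by rwa [show (s5x * s5y) ^ 2 = -1 by decide])
  · exact absurd (h.ge (Subgroup.mem_top s5x)) h1

end CfsgH8
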