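import Cfsg.Agent.H8.FC3
import Cfsg.Agent.H8.SL25

/-! Elements of order three in a Frobenius complement. -/

set_option autoImplicit false
open Subgroup Cfsg CfsgH2 CfsgH1 CfsgH3 Function Module

namespace CfsgH8.FC

variable {G R : Type*} [Group G] [Ring R] {ρ : G →* R} {a b c d g k x : G}

local notation "ι" n:max => (n : ℤ) • (1 : R)

/-- fixed-point-free representations in ring form. -/
structure FR (ρ : G →* R) : Prop where
  reg : ∀ g, g ≠ 1 → ∀ r, ρ g * r = r → r = 0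
  ord : ∀ g x, ρ g + ρ g⁻¹ + (ρ x + ρ x⁻¹) = 1 →
    orderOf g = 1 ∨ orderOf g = 3 ∨ orderOf g = 4 ∨ orderOf g = 6 ∨ orderOf g = 10

theorem FC.fr [Finite G] (h : FC ℂ G) : ∃ (R : Type) (_ : Ring R) (_ : Algebra ℂ R) (_ : Nontrivial R)
    (ρ : G →* R), FR ρ := by
  obtain ⟨n, h1, ρ, h2⟩ := h
  haveI : Nonempty (Fin n) := ⟨⟨0, h1⟩⟩
  exact ⟨_, inferInstance, inferInstance, inferInstance, ρ, fun g g1 r e => LinearMap.ext fun v =>
    h2 g g1 _ (DFunLike.congr_fun e v), fun _ _ => h2.ord⟩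

theorem three_cases (od : orderOf d = 3) (hk : k ∈ zpowers d) : k = 1 ∨ k = d ∨ k = d⁻¹ := by
  classical
  rw [(orderOf_pos_iff.1 (by omega)).mem_zpowers_iff_mem_range_orderOf, od, Finset.mem_image] at hk
  obtain ⟨i, hi, rfl⟩ := hk
  have : i < 3 := Finset.mem_range.1 hi
  interval_cases i
  · simp
  · simp
  · exact Or.inr (Or.inr (eq_inv_of_mul_eq_one_left (by
      rw [← pow_succ]; exact orderOf_dvd_iff_pow_eq_one.1 od.dvd)))

/-- the orbits of `⟨d⟩`. -/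
def Orb (d a b : G) : Prop := ∃ k ∈ zpowers d, b = k * a * k⁻¹

theorem Orb.refl : Orb d a a := ⟨1, one_mem _, by simp⟩

theorem Orb.symm (h : Orb d a b) : Orb d b a := by
  obtain ⟨k, hk, rfl⟩ := h
  exact ⟨k⁻¹, inv_mem hk, by group⟩

theorem Orb.trans (h : Orb d a b) (h' : Orb d b c) : Orb d a c := by
  obtain ⟨k, hk, rfl⟩ := h
  obtain ⟨l, hl, rfl⟩ := h'
  exact ⟨l * k, mul_mem hl hk, by group⟩

theorem Orb.mem {H : Subgroup G} (h : Orb d a b) (hd : d ∈ H) (ha : a ∈ H) : b ∈ H := by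
  obtain ⟨k, hk, rfl⟩ := h
  exact mul_mem (mul_mem (zpowers_le.2 hd hk) ha) (inv_mem (zpowers_le.2 hd hk))

theorem Orb.cases (h : Orb d a b) (od : orderOf d = 3) : b = a ∨ b = d * a * d⁻¹ ∨ b = d⁻¹ * a * d := by
  obtain ⟨k, hk, rfl⟩ := h
  rcases three_cases od hk with rfl | rfl | rfl <;> simp

theorem Orb.conj (h : Orb d a b) (hg : g * d = d * g) : Orb d (g * a * g⁻¹) (g * b * g⁻¹) := by
  obtain ⟨k, ⟨i, rfl⟩, rfl⟩ := h
  refine ⟨d ^ i, zpow_mem_zpowers d i, ?_⟩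
  have := ((show Commute g d from hg).zpow_right i).eq
  calc _ = g * d ^ i * a * (g * d ^ i)⁻¹ := by group
    _ = _ := by rw [this]; group

/-- `a` has order four and `d a` has order three. -/
def AA (d a : G) : Prop := orderOf a = 4 ∧ orderOf (d * a) = 3

theorem AA.conj (h : AA d a) (hg : g * d = d * g) : AA d (g * a * g⁻¹) :=
  ⟨(orderOf_conj' g a).trans h.1, by
    rw [← h.2, ← orderOf_conj' g (d * a), ← mul_assoc g, hg]; simp only [mul_assoc]⟩

theorem AA.orb (h : AA d a) (h' : Orb d a b) : AA d b := by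
  obtain ⟨k, ⟨i, rfl⟩, rfl⟩ := h'
  exact h.conj (Commute.zpow_self d i)

theorem inv_of_mul {r : R} (h : ρ g * r = 1) : ρ g⁻¹ = r := by
  rw [← mul_one (ρ g⁻¹), ← h, ← mul_assoc, ← map_mul, inv_mul_cancel, map_one, one_mul]

/-- an element of order four. -/
def s5a : SL25 := ⟨!![1, 2; 4, 4], by decide⟩

/-- an element of order four. -/
def s5b : SL25 := ⟨!![3, 0; 4, 2], by decide⟩

/-- an element of order four. -/
def s5w : SL25 := ⟨!![0, 2; 2, 0], by decide⟩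

theorem ord_x {φ : SL25 →* G} (hφ : Injective φ) : orderOf (φ s5x) = 3 :=
  (orderOf_injective φ hφ _).trans (orderOf_eq_prime (by decide) (by decide))

theorem aa_a {φ : SL25 →* G} (hφ : Injective φ) : AA (φ s5x) (φ s5a) :=
  ⟨(orderOf_injective φ hφ _).trans (orderOf_eq_prime_pow (p := 2) (n := 1) (by decide) (by decide)), by
    rw [← map_mul, orderOf_injective φ hφ]; exact orderOf_eq_prime (by decide) (by decide)⟩

theorem aa_b {φ : SL25 →* G} (hφ : Injective φ) : AA (φ s5x) (φ s5b) :=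
  ⟨(orderOf_injective φ hφ _).trans (orderOf_eq_prime_pow (p := 2) (n := 1) (by decide) (by decide)), by
    rw [← map_mul, orderOf_injective φ hφ]; exact orderOf_eq_prime (by decide) (by decide)⟩

theorem range_le (φ : SL25 →* G) {H : Subgroup G} (h1 : φ s5x ∈ H) (h2 : φ s5a ∈ H) (h3 : φ s5b ∈ H) :
    φ.range ≤ H := by
  rintro _ ⟨x, rfl⟩
  refine (eq_top_s5 (H := H.comap φ) h1 ?_).ge (mem_top x)
  rw [show s5y = s5a⁻¹ * s5x * s5b by decide]
  exact mul_mem (mul_mem (inv_mem h2) h1) h3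

namespace FR
variable [Finite G]

omit [Finite G] in
theorem nm (h : FR ρ) {n : ℕ} (o : orderOf g = n) (h1 : n ≠ 1) :
    ∑ i ∈ Finset.range n, ρ g ^ i = 0 :=
  o ▸ h.reg g (fun e => h1 (by rw [← o, e, orderOf_one])) _ mul_Nm

omit [Finite G] in
theorem q3 (h : FR ρ) (o : orderOf d = 3) : Q2 (-1) (-1) (ρ d) := ⟨by
  have := h.nm o (by decide)
  simp only [Finset.sum_range_succ, Finset.range_zero, Finset.sum_empty] at this
  linear_combination (norm := noncomm_ring) this⟩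

theorem neg (h : FR ρ) {n : ℕ} (o : orderOf g = 2 * n) : ρ g ^ n = -1 := by
  have := h.nm (g := g ^ n) (n := 2) (by
    have := orderOf_pos g
    rw [orderOf_pow_of_dvd (by omega) (o ▸ dvd_mul_left n 2), o, Nat.mul_div_cancel _ (by omega)])
    (by decide)
  simp only [Finset.sum_range_succ, Finset.range_zero, Finset.sum_empty, map_pow] at this
  linear_combination (norm := noncomm_ring) this

theorem q4 (h : FR ρ) (o : orderOf a = 4) : Q2 0 (-1) (ρ a) := ⟨by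
  have := h.neg (n := 2) o
  rw [zero_smul]
  linear_combination (norm := noncomm_ring) this⟩

omit [Finite G] in
theorem inv3 (h : FR ρ) (o : orderOf d = 3) : ρ d⁻¹ = -1 - ρ d :=
  inv_of_mul (by noncomm_ring [(h.q3 o).e])

theorem inv4 (h : FR ρ) (o : orderOf a = 4) : ρ a⁻¹ = -ρ a :=
  inv_of_mul (by noncomm_ring [(h.q4 o).e, zero_smul, zero_add])

theorem a4 (h : FR ρ) (od : orderOf d = 3) (ha : AA d a) : A4 (ρ d) (ρ a) := ⟨h.q4 ha.1, by
  have := h.inv3 ha.2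
  rw [mul_inv_rev, map_mul, map_mul, h.inv3 od, h.inv4 ha.1] at this
  linear_combination (norm := noncomm_ring) this⟩

theorem r1 (h : FR ρ) (od : orderOf d = 3) (ha : AA d a) :
    ρ (d * a * d⁻¹) = ρ d - ρ a - ρ d * ρ a := by
  rw [map_mul, map_mul, h.inv3 od]
  noncomm_ring [(h.q3 od).r, (h.q3 od).e, (h.a4 od ha).t]

theorem r2 (h : FR ρ) (od : orderOf d = 3) (ha : AA d a) :
    ρ (d⁻¹ * a * d) = ρ d * ρ a + 1 + ρ d := by
  rw [map_mul, map_mul, h.inv3 od]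
  noncomm_ring [(h.q3 od).r, (h.q3 od).e, (h.a4 od ha).t]

theorem r3 (h : FR ρ) (od : orderOf d = 3) (ha : AA d a) : ρ (a * d * a⁻¹) = ρ a - ρ d - 1 := by
  rw [map_mul, map_mul, h.inv4 ha.1, (h.a4 od ha).t]
  noncomm_ring [(h.q4 ha.1).e, zero_smul, zero_add]

omit [Finite G] in
theorem tt_eq (h : FR ρ) (oc : orderOf c = 3) (od : orderOf d = 3) :
    ρ (c * d) + ρ (c * d)⁻¹ = tt (ρ c) (ρ d) := by
  rw [mul_inv_rev, map_mul, map_mul, h.inv3 oc, h.inv3 od, tt]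

theorem t10 (h : FR ρ) (o : orderOf g = 10) : Q2 1 1 (ρ g + ρ g⁻¹) := ⟨by
  have n := h.neg (n := 5) o
  have q := h.nm (g := g ^ 2) (n := 5) (by rw [orderOf_pow, o]; rfl) (by decide)
  simp only [Finset.sum_range_succ, Finset.range_zero, Finset.sum_empty, map_pow] at q
  rw [inv_of_mul (r := -ρ g ^ 4) (by linear_combination (norm := noncomm_ring) -n)]
  generalize ρ g = r at *
  linear_combination (norm := noncomm_ring) q - r * n - 2 * n⟩

variable [Algebra ℂ R] [Nontrivial R]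

omit [Finite G] [Algebra ℂ R] in
theorem inj (h : FR ρ) : Injective ρ := (injective_iff_map_eq_one ρ).2 fun g e => by_contra fun g1 =>
  one_ne_zero (h.reg g g1 1 (by rw [e, one_mul]))

omit [Finite G] [Algebra ℂ R] in
theorem two (h : FR ρ) (e : ρ g + ρ g⁻¹ = ι 2) : g = 1 := by_contra fun g1 =>
  g1 (h.inj (sub_eq_zero.1 (h.reg g g1 _ (by
    have := congrArg (ρ g * ·) e
    simp only [mul_add, ← map_mul, mul_inv_cancel] at this
    rw [map_one, map_mul] at this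
    rw [map_one]
    linear_combination (norm := noncomm_ring) this))))

omit [Finite G] in
theorem o3 (h : FR ρ) (e : ρ g + ρ g⁻¹ = ι (-1)) : orderOf g = 3 := by
  have := congrArg (ρ g * ·) e
  simp only [mul_add, ← map_mul, mul_inv_cancel] at this
  rw [map_one, map_mul] at this
  refine orderOf_eq_prime (h.inj ?_) ?_
  · rw [map_pow, map_one]
    linear_combination (norm := noncomm_ring) (ρ g - 1) * this
  · rintro rfl
    rw [inv_one, map_one] at e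
    exact absurd (zinj (R := R) (m := 2) (n := -1) (by rw [← e]; module)) (by decide)

omit [Finite G] in
theorem o4 (h : FR ρ) (e : ρ g + ρ g⁻¹ = 0) : orderOf g = 4 := by
  have := congrArg (ρ g * ·) e
  simp only [mul_add, ← map_mul, mul_inv_cancel] at this
  rw [map_one, map_mul] at this
  refine orderOf_eq_prime_pow (p := 2) (n := 1) (fun e => ?_) (h.inj ?_)
  · rw [← map_mul, ← sq, show g ^ 2 = 1 from e, map_one, mul_zero] at this
    exact absurd (zinj (R := R) (m := 2) (n := 0) (by rw [zero_smul, ← this]; module)) (by decide)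
  · rw [map_pow, map_one, show 2 ^ (1 + 1) = 4 from rfl]
    linear_combination (norm := noncomm_ring) (ρ g * ρ g - 1) * this

theorem tcases (h : FR ρ) (oc : orderOf c = 3) (od : orderOf d = 3) :
    (c = d⁻¹ ∧ tt (ρ c) (ρ d) = ι 2) ∨ (c = d ∧ tt (ρ c) (ρ d) = ι (-1)) ∨
    (orderOf (c * d) = 4 ∧ tt (ρ c) (ρ d) = ι 0) ∨ (orderOf (c⁻¹ * d) = 4 ∧ tt (ρ c) (ρ d) = ι 1) ∨
    (orderOf (c * d) = 10 ∧ Q2 1 1 (tt (ρ c) (ρ d))) := by
  have e1 := h.tt_eq oc od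
  have e2 : ρ (c⁻¹ * d) + ρ (c⁻¹ * d)⁻¹ = 1 - tt (ρ c) (ρ d) := by
    rw [h.tt_eq (orderOf_inv c ▸ oc) od, h.inv3 oc, tt, tt]; noncomm_ring
  rcases h.ord (c * d) (c⁻¹ * d) (by rw [e1, e2, add_sub_cancel]) with o | o | o | o | o
  · rw [orderOf_eq_one_iff] at o
    exact Or.inl ⟨eq_inv_of_mul_eq_one_left o, by rw [← e1, o, inv_one, map_one]; module⟩
  · have e : tt (ρ c) (ρ d) = ι (-1) := by rw [← e1, h.inv3 o]; module
    exact Or.inr (Or.inl ⟨inv_mul_eq_one.1 (h.two (by rw [e2, e]; module)), e⟩)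
  · exact Or.inr (Or.inr (Or.inl ⟨o, by rw [← e1, h.inv4 o]; module⟩))
  · have e : tt (ρ c) (ρ d) = ι 1 := by
      have n := h.neg (n := 3) o
      have q := (h.q3 (d := (c * d) ^ 2) (by rw [orderOf_pow, o]; rfl)).e
      rw [← e1, inv_of_mul (r := -ρ (c * d) ^ 2) (by linear_combination (norm := noncomm_ring) -n)]
      rw [map_pow] at q
      linear_combination (norm := noncomm_ring) ρ (c * d) * n - q
    exact Or.inr (Or.inr (Or.inr (Or.inl ⟨h.o4 (by rw [e2, e]; module), e⟩)))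
  · exact Or.inr (Or.inr (Or.inr (Or.inr ⟨o, e1 ▸ h.t10 o⟩)))

theorem cl (h : FR ρ) (od : orderOf d = 3) (ha : AA d a) (hb : AA d b) : Cl (sg (ρ a) (ρ b)) ∧
    (Q2 (-1) 1 (sg (ρ a) (ρ b)) → orderOf (a * d * a⁻¹ * (b * d * b⁻¹)) = 10) := by
  rw [tt_y (h.q3 od) (h.a4 od ha) (h.a4 od hb), ← h.r3 od ha, ← h.r3 od hb]
  have i : ∀ n : ℤ, -1 ≤ n → n ≤ 2 → Cl (ι n - 1) ∧ (Q2 (-1) 1 (ι n - 1) →
      orderOf (a * d * a⁻¹ * (b * d * b⁻¹)) = 10) := fun n h1 h2 => by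
    rw [show ι n - 1 = ι (n - 1) by module]
    exact ⟨Or.inr ⟨_, by omega, by omega, rfl⟩, fun e => (not_gold e).elim⟩
  rcases h.tcases ((orderOf_conj' a d).trans od) ((orderOf_conj' b d).trans od) with
    ⟨-, e⟩ | ⟨-, e⟩ | ⟨-, e⟩ | ⟨-, e⟩ | ⟨o, e⟩
  any_goals rw [e]; exact i _ (by decide) (by decide)
  generalize tt (R := R) _ _ = t at e
  exact ⟨Or.inl ⟨by noncomm_ring [e.e]⟩, fun _ => o⟩

theorem sg_eq (h : FR ρ) (oa : orderOf a = 4) (ob : orderOf b = 4) :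
    ρ (a * b) + ρ (a * b)⁻¹ = sg (ρ a) (ρ b) := by
  rw [mul_inv_rev, map_mul, map_mul, h.inv4 oa, h.inv4 ob, neg_mul_neg, sg]

theorem pair (h : FR ρ) (od : orderOf d = 3) (ha : AA d a) (hb : AA d b) (n : ¬ Orb d a b) :
    ∃ a', Orb d a a' ∧ sg (ρ a') (ρ b) = ι (-1) ∧ Q2 (-1) 1 (sg (ρ (d * a' * d⁻¹)) (ρ b)) := by
  have o1 : Orb d a (d * a * d⁻¹) := ⟨d, mem_zpowers d, rfl⟩
  have o2 : Orb d a (d⁻¹ * a * d) := ⟨d⁻¹, inv_mem (mem_zpowers d), by rw [inv_inv]⟩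
  have ne : ∀ {x}, Orb d a x → sg (ρ x) (ρ b) ≠ ι (-2) := fun {x} o e => n (by
    have := h.sg_eq (ha.orb o).1 ((orderOf_inv b).trans hb.1)
    rw [h.inv4 hb.1, sg, mul_neg, neg_mul, ← neg_add, ← sg, e, ← neg_smul] at this
    exact mul_inv_eq_one.1 (h.two this) ▸ o)
  rcases tri (h.cl od ha hb).1 (h.cl od (ha.orb o1) hb).1 (h.cl od (ha.orb o2) hb).1
    (by rw [h.r1 od ha, h.r2 od ha, sg_sum (h.a4 od hb)])
    (by rw [h.r1 od ha, h.r2 od ha, sg_sq (h.q3 od) (h.a4 od ha) (h.a4 od hb)])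
    (ne Orb.refl) (ne o1) (ne o2) with ⟨e, q, -⟩ | ⟨e, q, -⟩ | ⟨e, q, -⟩
  · exact ⟨_, Orb.refl, e, q⟩
  · refine ⟨_, o1, e, ?_⟩
    have : d⁻¹ = d * d := inv_eq_of_mul_eq_one_right (by rw [← pow_three, ← od, pow_orderOf_eq_one])
    rwa [show d * (d * a * d⁻¹) * d⁻¹ = d * d * a * (d * d)⁻¹ by group, ← this, inv_inv]
  · exact ⟨_, o2, e, by simpa [mul_assoc] using q⟩

theorem three (h : FR ρ) (od : orderOf d = 3) (ha : AA d a) (hb : AA d b) (hc : AA d c)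
    (n1 : ¬ Orb d a b) (n2 : ¬ Orb d c b) : Orb d a c := by
  by_contra n3
  obtain ⟨a, o1, e1, -⟩ := h.pair od ha hb n1
  obtain ⟨c, o2, e2, -⟩ := h.pair od hc hb n2
  replace ha := ha.orb o1
  replace hc := hc.orb o2
  rw [sg_comm] at e2
  obtain ⟨x, o3, e3, -⟩ := h.pair od ha hc fun e => n3 (o1.trans (e.trans o2.symm))
  have qd := h.q3 od
  have qa := h.a4 od ha
  have qb := h.a4 od hb
  have qc := h.a4 od hc
  rcases o3.cases od with rfl | rfl | rfl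
  · refine no_zero qd qa qb qc e1 e2 e3 ?_
    rw [← h.r3 od hc, ← map_mul]
    by_cases e : (c * d * c⁻¹)⁻¹ * (x * b) = 1
    · exact Or.inl (congrArg ρ (inv_mul_eq_one.1 e).symm)
    have q1 := h.q3 (h.o3 ((h.sg_eq ha.1 hb.1).trans e1))
    have q2 := h.q3 ((orderOf_conj' c d).trans od)
    have cm := comm_y qa qb e2 e3
    rw [← h.r3 od hc, ← map_mul] at cm
    have := h.reg _ e (ρ (x * b) + 1 + ρ (c * d * c⁻¹)) (by
      rw [map_mul, mul_assoc, show ρ (x * b) * (ρ (x * b) + 1 + ρ (c * d * c⁻¹)) = ρ (c * d * c⁻¹) *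
        (ρ (x * b) + 1 + ρ (c * d * c⁻¹)) by
          generalize ρ (c * d * c⁻¹) = r at q2 cm
          noncomm_ring [q1.e, q2.e, cm], ← mul_assoc, ← map_mul,
        inv_mul_cancel, map_one, one_mul])
    rw [h.r3 od hc] at this
    exact Or.inr (by linear_combination (norm := module) this)
  · exact no_one qd qa qb qc e1 e2 (h.r1 od ha ▸ e3)
  · exact no_two qd qa qb qc e1 e2 (h.r2 od ha ▸ e3)

theorem gold (h : FR ρ) (oc : orderOf c = 3) (od : orderOf d = 3) (o : orderOf (c * d) = 10) :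
    ∃ φ : SL25 →* G, Injective φ ∧ φ s5x = d ∧ c ∈ φ.range := by
  have q : Q2 1 1 (tt (ρ c) (ρ d)) := h.tt_eq oc od ▸ h.t10 o
  have o' : (c * d) ^ 10 = 1 := o ▸ pow_orderOf_eq_one _
  have br : c * d * c * d * c = d * c * d * c * d := h.inj (by
    simp only [map_mul]
    rw [← sub_eq_zero, braid (h.q3 oc) (h.q3 od), q.e]; noncomm_ring)
  have e1 : (d * (c * d) ^ 2) ^ 2 = (c * d) ^ 5 := by
    calc _ = (d * c * d * c * d) * (d * c * d * c * d) := by simp only [pow_succ, mul_assoc]; simp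
      _ = _ := by nth_rw 1 [← br]; simp only [pow_succ, mul_assoc]; simp
  obtain ⟨φ, h1, h2⟩ := exists_hom_SL25 (x := d) (y := (c * d) ^ 2) (od ▸ pow_orderOf_eq_one d)
    (by rwa [← pow_mul])
    (by rw [show 4 = 2 * 2 from rfl, pow_mul, e1, ← pow_mul, o']) (h.inj (by
      rw [e1, map_mul, map_mul, map_pow, h.neg (n := 5) o]; noncomm_ring))
  refine ⟨φ, inj_SL25 φ (by rw [h1]; rintro rfl; simp at od) (by
    rw [map_pow, map_mul, h1, h2, e1]
    exact pow_ne_one_of_lt_orderOf (by decide) (by omega)), h1, s5y⁻¹ * s5x * s5y, ?_⟩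
  rw [map_mul, map_mul, map_inv, h1, h2, mul_assoc, inv_mul_eq_iff_eq_mul]
  simpa only [pow_succ, pow_zero, one_mul, mul_assoc] using br.symm

theorem gen (h : FR ρ) (oc : orderOf c = 3) (od : orderOf d = 3) {H : Subgroup G} (hd : d ∈ H)
    (hA : ∀ a, AA d a → a ∈ H) : c ∈ H := by
  have k : ∀ {c}, orderOf c = 3 → orderOf (c * d) = 4 → c ∈ H := fun {c} oc o => by
    have := mul_mem hd (hA (c * d)⁻¹ ⟨(orderOf_inv _).trans o, by simpa using oc⟩)
    simpa using this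
  rcases h.tcases oc od with ⟨rfl, -⟩ | ⟨rfl, -⟩ | ⟨o, -⟩ | ⟨o, -⟩ | ⟨o, -⟩
  · exact inv_mem hd
  · exact hd
  · exact k oc o
  · exact inv_mem_iff.1 (k ((orderOf_inv c).trans oc) o)
  · obtain ⟨φ, hφ, rfl, hc⟩ := h.gold oc od o
    exact range_le φ hd (hA _ (aa_a hφ)) (hA _ (aa_b hφ)) hc

variable {φ : SL25 →* G}

theorem orb (h : FR ρ) (hφ : Injective φ) (hx : AA (φ s5x) x) :
    Orb (φ s5x) (φ s5a) x ∨ Orb (φ s5x) (φ s5b) x := or_iff_not_imp_right.2 fun e =>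
  h.three (ord_x hφ) (aa_a hφ) (aa_b hφ) hx (fun o => by
    have := o.cases (ord_x hφ)
    simp only [← map_inv, ← map_mul, hφ.eq_iff] at this
    exact absurd this (by decide)) fun o => e o.symm

theorem mem_range (h : FR ρ) (hφ : Injective φ) (oc : orderOf c = 3) : c ∈ φ.range :=
  h.gen oc (ord_x hφ) ⟨_, rfl⟩ fun _ ha => (h.orb hφ ha).elim (fun o => o.mem ⟨_, rfl⟩ ⟨_, rfl⟩)
    fun o => o.mem ⟨_, rfl⟩ ⟨_, rfl⟩

theorem normal (h : FR ρ) (hφ : Injective φ) : φ.range.Normal := ⟨fun _ ⟨x, e⟩ g => by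
  have : (φ.range.comap (MulAut.conj g).toMonoidHom).comap φ = ⊤ := by
    have m1 := h.mem_range hφ ((orderOf_conj' g _).trans (ord_x hφ))
    have m2 := h.mem_range hφ ((orderOf_conj' g _).trans
      ((orderOf_conj' (φ s5y)⁻¹ _).trans (ord_x hφ)))
    refine eq_top_s5 m1 ?_
    have := mul_mem (mul_mem (mul_mem m2 m1) m2) m1
    rw [show s5y = s5y⁻¹ * s5x * s5y * s5x * (s5y⁻¹ * s5x * s5y) * s5x by decide]
    simpa [mul_assoc] using this
  exact e ▸ this.ge (mem_top x)⟩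

theorem mem_of_orb (h : FR ρ) (hφ : Injective φ) (hg : g * φ s5x = φ s5x * g)
    (o : Orb (φ s5x) (φ s5a) (g * φ s5a * g⁻¹)) : g ∈ φ.range ⊔ C[φ.range] := by
  obtain ⟨k, hk, e⟩ := o
  have kd := (show Commute (φ s5x) k by obtain ⟨i, rfl⟩ := hk; exact Commute.self_zpow _ i)
  have c1 : k⁻¹ * g * φ s5x = φ s5x * (k⁻¹ * g) := (kd.symm.inv_left.mul_left hg).eq
  have c2 : k⁻¹ * g * φ s5a * (k⁻¹ * g)⁻¹ = φ s5a := by
    calc _ = k⁻¹ * (g * φ s5a * g⁻¹) * k := by group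
      _ = _ := by rw [e]; group
  have m : g = k * (k⁻¹ * g) := by group
  generalize k⁻¹ * g = v at c1 c2 m
  have o3 : (φ s5a * (v * φ s5b * v⁻¹)) ^ 3 = 1 := by
    nth_rw 1 [← c2]
    rw [show v * φ s5a * v⁻¹ * (v * φ s5b * v⁻¹) = v * (φ s5a * φ s5b) * v⁻¹ by group, conj_pow, ← map_mul, ← map_pow,
      show (s5a * s5b) ^ 3 = 1 by decide]
    simp
  have c3 : v * φ s5b * v⁻¹ = φ s5b := by
    rcases h.orb hφ ((aa_b hφ).conj c1) with o | o <;> rcases o.cases (ord_x hφ) with e | e | e <;>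
      first
      | exact e
      | (rw [e] at o3
         simp only [← map_inv, ← map_mul, ← map_pow, map_eq_one_iff φ hφ] at o3
         exact absurd o3 (by decide))
  refine m ▸ mul_mem_sup (zpowers_le.2 (show φ s5x ∈ φ.range from ⟨_, rfl⟩) hk) (le_cent1_iff.1 (range_le φ ?_ ?_ ?_)) <;>
    rw [mem_centralizer_singleton_iff]
  exacts [c1.symm, (mul_inv_eq_iff_eq_mul.1 c2).symm, (mul_inv_eq_iff_eq_mul.1 c3).symm]

theorem dec (h : FR ρ) (hφ : Injective φ) (g : G) : ∃ s ∈ φ.range, ∃ c, c * φ s5x = φ s5x * c ∧ g = s * c := by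
  haveI := h.normal hφ
  have c : Nat.card φ.range = 120 := by rw [← card_SL25, Nat.card_congr (φ.ofInjective hφ).toEquiv]
  have hS : Syl 3 (zpowers (φ s5x)) φ.range := Syl.of_card (zpowers_le.2 ⟨_, rfl⟩) (by
    rw [Nat.card_zpowers, ord_x hφ, c, show 120 = 3 * 40 from rfl,
      Nat.factorization_mul_apply_of_coprime (by decide), Nat.prime_three.factorization_self,
      Nat.factorization_eq_zero_of_not_dvd (by decide)]; rfl)
  obtain ⟨s, hs, n, hn, rfl⟩ := hS.frattini (g := g) (top_le_norm_iff.2 inferInstance (mem_top g))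
  rcases three_cases (ord_x hφ) (conj_mem_of_norm hn (mem_zpowers _)) with e | e | e
  · have := orderOf_conj' n (φ s5x)
    rw [e, ord_x hφ, orderOf_one] at this
    omega
  · exact ⟨s, hs, n, mul_inv_eq_iff_eq_mul.1 e, rfl⟩
  · refine ⟨s * φ s5w, mul_mem hs ⟨_, rfl⟩, (φ s5w)⁻¹ * n, ?_, by group⟩
    rw [mul_assoc, mul_inv_eq_iff_eq_mul.1 e, ← mul_assoc, ← mul_assoc, ← map_inv, ← map_inv, ← map_mul,
      ← map_mul, show s5w⁻¹ * s5x⁻¹ = s5x * s5w⁻¹ by decide]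

theorem index (h : FR ρ) (hφ : Injective φ) :
    (φ.range ⊔ C[φ.range]).index = 1 ∨ (φ.range ⊔ C[φ.range]).index = 2 := by
  haveI := h.normal hφ
  refine or_iff_not_imp_left.2 fun e => ?_
  obtain ⟨g, -, hg⟩ := SetLike.exists_of_lt (lt_top_iff_ne_top.2 fun e' => e (index_eq_one.2 e'))
  have t : ∀ g ∉ φ.range ⊔ C[φ.range], ∃ s ∈ φ.range, ∃ c, c * φ s5x = φ s5x * c ∧ g = s * c ∧
      Orb (φ s5x) (φ s5b) (c * φ s5a * c⁻¹) := fun g hg => by
    obtain ⟨s, hs, c, h1, rfl⟩ := h.dec hφ g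
    exact ⟨s, hs, c, h1, rfl, (h.orb hφ ((aa_a hφ).conj h1)).resolve_left fun o =>
      hg (mul_mem (mem_sup_left hs) (h.mem_of_orb hφ h1 o))⟩
  refine index_eq_two_iff'.2 ⟨g⁻¹, fun x => ?_⟩
  by_cases hx : x ∈ φ.range ⊔ C[φ.range]
  · exact Or.inr ⟨hx, fun e => hg (inv_mem_iff.1 ((mul_mem_cancel_right hx).1 e))⟩
  refine Or.inl ⟨?_, hx⟩
  obtain ⟨s, hs, c, h1, rfl, o1⟩ := t g hg
  obtain ⟨s', hs', c', h2, rfl, o2⟩ := t x hx
  have h3 := (show Commute c (φ s5x) from h1).inv_left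
  rw [show (s * c)⁻¹ * (s' * c') = c⁻¹ * (s⁻¹ * s') * c⁻¹⁻¹ * (c⁻¹ * c') by group]
  refine mul_mem (mem_sup_left (Normal.conj_mem inferInstance _ (mul_mem (inv_mem hs) hs') _))
    (h.mem_of_orb hφ (h3.mul_left h2) ?_)
  simpa [mul_assoc] using (o1.symm.trans o2).conj h3

end FR

end CfsgH8.FC
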