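import Cfsg.Agent.H8.FC4
import Cfsg.Agent.H8.AutQ8
import Cfsg.Agent.H8.Dick2
import Cfsg.Agent.H4.G2
import Cfsg.Agent.H2.BG6
import Cfsg.Agent.H3.Burnside

/-! The structure of Frobenius complements. -/

set_option autoImplicit false
open Subgroup Cfsg CfsgH2 CfsgH1 CfsgH3 CfsgH4 Function Module
open scoped commutatorElement

namespace CfsgH8.FC

variable {G : Type*} [Group G] [Finite G] {A H K N P Q : Subgroup G} {a b x y z g : G}

omit [Finite G] in
theorem eq_top_of_perfect (h : commutator G = ⊤) {B : Type*} [Group B] [Group.IsSolvable B]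
    (f : G →* B) : f.ker = ⊤ := by
  by_contra e
  refine (Group.IsSolvable.commutator_lt_of_ne_bot (H := f.range) fun e' => e ?_).ne ?_
  · exact MonoidHom.ker_eq_top_iff.2 (MonoidHom.range_eq_bot_iff.1 e')
  · rw [MonoidHom.range_eq_map, ← map_commutator, ← commutator_def, h]

theorem not_dvd_of_npc (h : commutator G = ⊤) {p : ℕ} [Fact p.Prime] (hp : NPC p (⊤ : Subgroup G)) :
    ¬ p ∣ Nat.card G := by
  haveI : O[{p}ᶜ, (⊤ : Subgroup G)].Normal := top_le_norm_iff.1 le_norm_piCoreOf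
  have : IsPGroup p (G ⧸ O[{p}ᶜ, (⊤ : Subgroup G)]) := isPGroup_iff_piN.2 (by
    have := hp.hall.pi'
    rwa [compl_compl, relIndex_top_right] at this)
  haveI := this.isNilpotent
  have e := eq_top_of_perfect h (QuotientGroup.mk' O[{p}ᶜ, (⊤ : Subgroup G)])
  rw [QuotientGroup.ker_mk'] at e
  have := (piN_compl_singleton Fact.out).1 hp.hall.pi
  rwa [e, card_top] at this

theorem q8_hom (h : GQ Q a b 1) : ∃ f : N[Q] →* Equiv.Perm (Fin 4), ∀ g, f g = 1 ↔ g.1 ∈ C[Q] := by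
  obtain ⟨e⟩ := h.toCy2.quaternion h.sq' h.inv
  obtain ⟨e'⟩ := aut_q8
  refine ⟨((MulAut.congr e).trans e').toMonoidHom.comp Q.normalizerMonoidHom, fun g => ?_⟩
  rw [← mem_subgroupOf, ← normalizerMonoidHom_ker, MonoidHom.mem_ker]
  exact ((MulAut.congr e).trans e').map_eq_one_iff

theorem GQ_one {m : ℕ} (h : GQ Q a b m) (ho : Odd (orderOf g)) (hn : g ∈ N[Q]) (hc : g ∉ C[Q]) :
    m = 1 := by
  have h1 := h.sq_eq (conj_mem_of_norm hn h.amem) fun e => hc (h.mem_cent_of_norm ho hn e)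
  have h2 : orderOf (g * a * g⁻¹) ∣ 2 ^ 2 := orderOf_dvd_of_pow_eq_one (by
    rw [show 2 ^ 2 = 2 * 2 from rfl, pow_mul, sq (g * a * g⁻¹), h1]
    exact orderOf_dvd_iff_pow_eq_one.1 h.ord_t.dvd)
  rw [orderOf_conj', h.ord, Nat.pow_dvd_pow_iff_le_right one_lt_two] at h2
  have := h.pos
  omega

theorem three_dvd (h : GQ Q a b 1) (ho : Odd (orderOf g)) (hn : g ∈ N[Q]) (hc : g ∉ C[Q]) :
    3 ∣ orderOf g := by
  obtain ⟨f, hf⟩ := q8_hom h
  have d := orderOf_map_dvd f ⟨g, hn⟩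
  rw [orderOf_mk] at d
  have n := mt (hf ⟨g, hn⟩).1 hc
  rcases orders_S4 (f ⟨g, hn⟩) with e | e
  · exact orderOf_eq_prime e n ▸ d
  · exact absurd (orderOf_eq_one_iff.1 (Nat.eq_one_of_dvd_coprimes ((Nat.coprime_two_right.2 ho).pow_right 2)
      d (orderOf_dvd_of_pow_eq_one e))) n

namespace FC

theorem cyc_ab (h : FC ℂ G) (hA : Ab[A]) : Cyc[A] := (h.sub A).cyc hA.1.1

theorem cyc_odd (h : FC ℂ G) {p : ℕ} [hp : Fact p.Prime] (h2 : p ≠ 2) (hP : IsPGroup p P) : Cyc[P] := by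
  by_contra hn
  obtain ⟨E, -, h3, h4⟩ := exists_elem2_of_not_cyclic h2 hP hn
  exact not_cyclic_of_elem hp.out h3 h4 le_rfl (h.cyc_ab h3.1)

theorem inv_uq (h : FC ℂ G) (ox : orderOf x = 2) (oy : orderOf y = 2) : x = y := by
  obtain ⟨R, _, _, _, ρ, f⟩ := h.fr
  exact f.inj ((pow_one _).symm.trans ((f.neg (n := 1) ox).trans ((f.neg (n := 1) oy).symm.trans
    (pow_one _))))

theorem inv_comm (h : FC ℂ G) (ox : orderOf x = 2) (g : G) : g * x = x * g :=
  mul_inv_eq_iff_eq_mul.1 (h.inv_uq ((orderOf_conj' g x).trans ox) ox)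

theorem two (h : FC ℂ G) (hP : IsPGroup 2 P) : Cyc[P] ∨ ∃ a b m, GQ P a b m :=
  cyc_or_gq hP fun _ _ _ _ ox oy _ => h.inv_uq ox oy

theorem zg (h : FC ℂ G) (h2 : ∀ P ≤ H, IsPGroup 2 P → Cyc[P]) : IsZGroup H :=
  zgroup_iff.2 fun p _ P hP pg => by
    by_cases e : p = 2
    · subst e; exact h2 P hP pg
    · exact h.cyc_odd e pg

theorem zg_odd (h : FC ℂ G) (h2 : ¬ 2 ∣ o[H]) : IsZGroup H :=
  h.zg fun P hP pg => by
    rw [eq_bot_of_pgroup_of_not_dvd pg fun e => h2 (e.trans (card_dvd_of_le hP))]; infer_instance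

theorem mem_zpowers (h : FC ℂ G) (c : x * y = y * x) (o : orderOf y ∣ orderOf x) : y ∈ zpowers x :=
  zpowers_le.1 (le_of_card_dvd_of_cyclic (h.cyc_ab (A := closure {x, y}) (isMulCommutative_closure (by
    rintro _ (rfl | rfl) _ (rfl | rfl) <;> simp [c]))) (zpowers_le.2 (subset_closure (by simp)))
    (zpowers_le.2 (subset_closure (by simp))) (by simpa using o))

theorem exists_q8 (h : FC ℂ G) (hn : ¬ NPC 2 K) : ∃ Q ≤ K, ∃ a b, GQ Q a b 1 ∧ ∃ g ∈ K,
    Odd (orderOf g) ∧ g ∈ N[Q] ∧ g ∉ C[Q] := by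
  obtain ⟨S, hS⟩ := exists_syl (p := 2) K
  by_contra e
  refine hn (hS.frobenius_npc fun Q hQ _ g hg hn ho => by_contra fun hc => ?_)
  rw [Nat.coprime_two_right] at ho
  rcases h.two (hS.pg.to_le hQ) with c | ⟨a, b, m, q⟩
  · exact hc (mem_cent_of_odd_cyclic (hS.pg.to_le hQ) c ho hn)
  · obtain rfl := GQ_one q ho hn hc
    exact e ⟨Q, hQ.trans hS.le, a, b, q, g, hg, ho, hn, hc⟩

theorem no_perfect (h : FC ℂ G) [Nontrivial G] (hp : commutator G = ⊤)
    (ng : ∀ c d : G, orderOf c = 3 → orderOf d = 3 → orderOf (c * d) ≠ 10) : False := by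
  classical
  obtain ⟨Q, -, a, b, q, g, -, h1, h2, h3⟩ := h.exists_q8 (K := ⊤) fun e => by
    haveI := h.zg_odd (H := ⊤) (by rw [card_top]; exact not_dvd_of_npc hp e)
    exact (Group.IsSolvable.commutator_lt_top_of_nontrivial G
      (hG := Group.isSolvable_of_surjective (f := (⊤ : Subgroup G).subtype) topEquiv.surjective)).ne hp
  obtain ⟨d, od⟩ := exists_prime_orderOf_dvd_card' 3
    ((three_dvd q h1 h2 h3).trans (orderOf_dvd_natCard g))
  obtain ⟨R, _, _, _, ρ, f⟩ := h.fr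
  obtain ⟨a, ha⟩ : ∃ a, ∀ x, AA d x → x = a ∨ x = d * a * d⁻¹ ∨ x = d⁻¹ * a * d := by
    by_cases e : ∃ a, AA d a
    · obtain ⟨a, ha⟩ := e
      refine ⟨a, fun x hx => Orb.cases (by_contra fun n => ?_) od⟩
      obtain ⟨y, o, -, e⟩ := f.pair od ha hx n
      exact ng _ _ ((orderOf_conj' _ d).trans od) ((orderOf_conj' _ d).trans od)
        ((f.cl od ((ha.orb o).conj rfl) hx).2 e)
    · exact ⟨1, fun x hx => absurd ⟨x, hx⟩ e⟩
  have i : N[zpowers d].index ≤ 4 := by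
    haveI := Fintype.ofFinite (G ⧸ N[zpowers d])
    rw [index_eq_card, Nat.card_eq_fintype_card]
    refine (Finset.card_le_card_of_injOn (t := {zpowers d, zpowers (d * a), zpowers (d * (d * a * d⁻¹)),
      zpowers (d * (d⁻¹ * a * d))}) (fun q => zpowers (q.out * d * q.out⁻¹)) (fun q _ => ?_)
        fun q _ r _ e => ?_).trans Finset.card_le_four
    · have k : ∀ {c}, orderOf c = 3 → orderOf (c * d) = 4 → zpowers c = zpowers (d * a) ∨
          zpowers c = zpowers (d * (d * a * d⁻¹)) ∨ zpowers c = zpowers (d * (d⁻¹ * a * d)) :=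
        fun {c} oc o => by
          rw [← zpowers_inv, show c⁻¹ = d * (c * d)⁻¹ by group]
          rcases ha (c * d)⁻¹ ⟨(orderOf_inv _).trans o, by simpa using oc⟩ with e | e | e <;>
            rw [← e] <;> simp
      have oc := (orderOf_conj' q.out d).trans od
      simp only [Finset.coe_insert, Finset.coe_singleton, Set.mem_insert_iff, Set.mem_singleton_iff]
      rcases f.tcases oc od with ⟨e, -⟩ | ⟨e, -⟩ | ⟨o, -⟩ | ⟨o, -⟩ | ⟨o, -⟩
      · exact Or.inl (by rw [e, zpowers_inv])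
      · exact Or.inl (by rw [e])
      · exact Or.inr (k oc o)
      · exact Or.inr (by simpa only [zpowers_inv] using k ((orderOf_inv _).trans oc) o)
      · exact absurd o (ng _ _ oc od)
    · rw [← q.out_eq', ← r.out_eq', QuotientGroup.eq]
      refine mem_norm_of_map_le ?_
      rw [MonoidHom.map_zpowers, zpowers_le]
      obtain ⟨k, hk⟩ := e.ge (Subgroup.mem_zpowers _)
      refine ⟨k, ?_⟩
      simp only [conj_zpow] at hk
      change d ^ k = q.out⁻¹ * r.out * d * (q.out⁻¹ * r.out)⁻¹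
      rw [show q.out⁻¹ * r.out * d * (q.out⁻¹ * r.out)⁻¹ = q.out⁻¹ * (r.out * d * r.out⁻¹) * q.out by group,
        ← hk]
      group
  haveI : Group.IsSolvable (Equiv.Perm (G ⧸ N[zpowers d])) :=
    burnside_paqb 2 3 3 1 Nat.prime_two Nat.prime_three (by
      rw [Nat.card_perm]; exact Nat.factorial_dvd_factorial i)
  have n := eq_top_of_perfect hp (MulAction.toPermHom G (G ⧸ N[zpowers d]))
  rw [← normalCore_eq_ker] at n
  haveI : (zpowers d).Normal := top_le_norm_iff.1 (n.ge.trans (normalCore_le _))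
  haveI : Group.IsSolvable (MulAut (zpowers d)) := Group.isSolvable_of_isSolvable_injective
    (f := (IsCyclic.mulAutMulEquiv (zpowers d)).toMonoidHom) (MulEquiv.injective _)
  have z := eq_top_of_perfect hp (MulAut.conjNormal (H := zpowers d))
  obtain ⟨T⟩ : Nonempty (Sylow 3 G) := inferInstance
  have := central_pow_index_mem (H := T) (x := d) (mem_center_iff.2 fun v => mul_inv_eq_iff_eq_mul.1
    (congrArg Subtype.val (DFunLike.congr_fun (z.ge (mem_top v)) ⟨d, Subgroup.mem_zpowers d⟩) :)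
    )
    (hp.ge (mem_top d))
  rw [comm_self_eq_bot_iff.2 (isMulComm_of_cyclic (h.cyc_odd (by decide) T.isPGroup')), mem_bot,
    ← orderOf_dvd_iff_pow_eq_one, od] at this
  exact T.not_dvd_index this

theorem str (h : FC ℂ G) : Group.IsSolvable G ∨ ∃ φ : SL25 →* G, Injective φ ∧ φ.range.Normal ∧
    ((φ.range ⊔ C[φ.range]).index = 1 ∨ (φ.range ⊔ C[φ.range]).index = 2) ∧
    ∀ c, orderOf c = 3 → c ∈ φ.range := by
  by_cases e : ∃ c d : G, orderOf c = 3 ∧ orderOf d = 3 ∧ orderOf (c * d) = 10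
  · obtain ⟨c, d, oc, od, o⟩ := e
    obtain ⟨R, _, _, _, ρ, f⟩ := h.fr
    obtain ⟨φ, hφ, -⟩ := f.gold oc od o
    exact Or.inr ⟨φ, hφ, f.normal hφ, f.index hφ, fun c => f.mem_range hφ⟩
  refine Or.inl (Group.isSolvable_iff_commutator_lt.2 fun H h0 => lt_of_le_of_ne commutator_self_le
    fun e' => ?_)
  haveI := (nontrivial_iff_ne_bot H).2 h0
  refine (h.sub H).no_perfect (map_injective H.subtype_injective ?_) fun c d oc od o => e ⟨c, d, ?_, ?_, ?_⟩
  · rw [map_subtype_commutator, e', ← MonoidHom.range_eq_map, range_subtype]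
  · rwa [orderOf_coe]
  · rwa [orderOf_coe]
  · rwa [← coe_mul, orderOf_coe]

variable {φ : SL25 →* G}

theorem inf_cent (hφ : Injective φ) (hx : x ∈ φ.range) (hc : x ∈ C[φ.range]) : x = 1 ∨ x = φ (-1) := by
  obtain ⟨x, rfl⟩ := hx
  refine (isSc_SL2.1 (mem_center_SL2.1 (mem_center_iff.2 fun y => hφ ?_))).imp
    (fun e => by rw [e, map_one]) (congrArg φ)
  rw [map_mul, map_mul]
  exact hc _ ⟨y, rfl⟩

theorem ord_neg (hφ : Injective φ) : orderOf (φ (-1)) = 2 :=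
  (orderOf_injective φ hφ _).trans (orderOf_eq_prime (by decide) (by decide))

theorem ord_cent (h : FC ℂ G) (hφ : Injective φ) (hc : x ∈ C[φ.range]) :
    orderOf x ≠ 3 ∧ orderOf x ≠ 4 ∧ orderOf x ≠ 5 := by
  have k : ∀ y : SL25, orderOf y = orderOf x → orderOf x ≤ 2 := fun y e => by
    rcases inf_cent hφ (zpowers_le.2 (show φ y ∈ φ.range from ⟨y, rfl⟩) (h.mem_zpowers (hc _ ⟨y, rfl⟩)
      (by rw [orderOf_injective φ hφ, e]))) hc with e | e <;> simp [e, ord_neg hφ]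
  refine ⟨fun e => ?_, fun e => ?_, fun e => ?_⟩
  · have := k s5x ((ord_x (φ := .id _) injective_id).trans e.symm); omega
  · have := k s5a ((aa_a (φ := .id _) injective_id).1.trans e.symm); omega
  · have := k s5y ((orderOf_eq_prime (by decide) (by decide)).trans e.symm); omega

theorem cent_eq (h : FC ℂ G) (hφ : Injective φ) :
    O[{2}ᶜ, C[φ.range]] ⊔ zpowers (φ (-1)) = C[φ.range] ∧ o[O[{2}ᶜ, C[φ.range]]].Coprime 30 := by
  have oz := ord_neg hφ
  have hS : Syl 2 (zpowers (φ (-1))) C[φ.range] := Syl.of_max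
    (zpowers_le.2 fun g _ => h.inv_comm oz g) (isPGroup_zpowers (k := 1) (by
      rw [pow_one, ← map_pow]; simp)) fun Q pg l1 l2 => le_antisymm (fun x hx => ?_) l1
  · refine ⟨(npc_of_cyclic hS inferInstance).sup_eq hS, Nat.coprime_of_dvd fun p hp h1 h2 => ?_⟩
    obtain ⟨x, hx, ox⟩ := exists_prime_order_mem hp h1
    have := h.ord_cent hφ (piCoreOf_le hx)
    have h3 := piN_piCoreOf p hp h1
    have := Nat.le_of_dvd (by decide) h2
    rw [ox] at *
    interval_cases p <;> simp_all (decide := true)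
  obtain ⟨k, hk⟩ := pgroup_mem_order pg hx
  rcases k with _ | _ | k
  · rw [orderOf_eq_one_iff.1 hk]; exact one_mem _
  · rw [h.inv_uq hk oz]; exact Subgroup.mem_zpowers _
  · refine absurd ?_ (h.ord_cent hφ (pow_mem (l2 hx) (2 ^ k))).2.1
    rw [orderOf_pow_of_dvd (by positivity) (hk ▸ pow_dvd_pow 2 (by omega)), hk, pow_succ, pow_succ,
      mul_assoc, Nat.mul_div_cancel_left _ (by positivity)]
    rfl

theorem nonsol (h : FC ℂ G) (hns : ¬ Group.IsSolvable G) : ∃ (φ : SL25 →* G) (M : Subgroup G),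
    Injective φ ∧ φ.range.Normal ∧ M.Normal ∧ M ≤ C[φ.range] ∧ φ.range ⊓ M = ⊥ ∧ IsZGroup M ∧
    o[M].Coprime 30 ∧ M ⊔ zpowers (φ (-1)) = C[φ.range] ∧
    ((φ.range ⊔ M).index = 1 ∨ (φ.range ⊔ M).index = 2) := by
  obtain ⟨φ, hφ, n, i, -⟩ := h.str.resolve_left hns
  obtain ⟨h1, h2⟩ := h.cent_eq hφ
  have o : ¬ 2 ∣ o[O[{2}ᶜ, C[φ.range]]] := fun e => piN_piCoreOf 2 Nat.prime_two e rfl
  refine ⟨φ, _, hφ, n, top_le_norm_iff.1 ((top_le_norm_iff.2 inferInstance).trans norm_le_norm_piCoreOf),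
    piCoreOf_le, eq_bot_iff.2 fun x hx => (inf_cent hφ hx.1 (piCoreOf_le hx.2)).resolve_right fun e =>
      o ((e ▸ ord_neg hφ : orderOf x = 2).symm.dvd.trans (orderOf_dvd_of_mem hx.2)), h.zg_odd o, h2, h1,
      ?_⟩
  rwa [← h1, sup_comm _ (zpowers _), ← sup_assoc,
    sup_eq_left.2 (zpowers_le.2 (show φ (-1) ∈ φ.range from ⟨_, rfl⟩))] at i

end FC

end CfsgH8.FC
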