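import Cfsg.Agent.H8.FC5
import Cfsg.Agent.S2119

/-! Quotients of Frobenius complements by the largest normal Z-subgroup. -/

set_option autoImplicit false
open Subgroup Cfsg CfsgH2 CfsgH1 CfsgH3 CfsgH4 Function Module
open scoped commutatorElement

namespace CfsgH8.FC

variable {G : Type*} [Group G] [Finite G] {A H K N P Q S : Subgroup G} {a b x y z g : G} {m : ℕ}

omit [Finite G] in
theorem alt_or_top {n : ℕ} (f : G →* Equiv.Perm (Fin n)) (h : n.factorial ∣ 2 * f.ker.index) :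
    (∃ f' : G →* alternatingGroup (Fin n), Surjective f' ∧ f'.ker = f.ker) ∨ Surjective f := by
  have e := f.range.index_mul_card
  rw [Nat.card_perm, Nat.card_fin, ← index_ker] at e
  have : f.range.index ∣ 2 := Nat.dvd_of_mul_dvd_mul_right (Nat.pos_of_ne_zero fun h0 => by
    rw [h0] at e; exact n.factorial_ne_zero e.symm) (e ▸ h)
  rcases (Nat.dvd_prime Nat.prime_two).1 this with i | i
  · exact Or.inr (MonoidHom.range_eq_top.1 (index_eq_one.1 i))
  · have := Equiv.Perm.eq_alternatingGroup_of_index_eq_two i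
    refine Or.inl ⟨f.codRestrict _ fun x => this.le ⟨x, rfl⟩, fun y => ?_, f.ker_codRestrict _ _⟩
    obtain ⟨x, hx⟩ := this.ge y.2
    exact ⟨x, Subtype.ext hx⟩

theorem eq_top_a5 {H : Subgroup (alternatingGroup (Fin 5))} (h1 : a5x ∈ H) (h2 : a5y ∈ H) : H = ⊤ :=
  eq_top_iff.2 (closure_a5.ge.trans ((Subgroup.closure_le _).2 (by
    rintro _ ⟨k, hk, rfl⟩
    obtain rfl | rfl : k = 0 ∨ k = 1 := by have : k < 2 := hk; omega
    exacts [h1, h2])))

omit [Finite G] in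
theorem s5_hom {φ : SL25 →* G} (hφ : Injective φ) [φ.range.Normal] :
    ∃ f : G →* Equiv.Perm (Fin 5), f.ker = C[φ.range] ∧ 60 ∣ C[φ.range].index := by
  let q := QuotientGroup.mk' C[φ.range]
  have hq : ∀ {x}, q x = 1 ↔ x ∈ C[φ.range] := QuotientGroup.eq_one_iff _
  obtain ⟨ψ, h1, h2⟩ := exists_hom_A5 (x := q (φ s5x)) (y := q (φ s5y))
    (by rw [← map_pow, ← map_pow, show s5x ^ 3 = 1 by decide, map_one, map_one])
    (by rw [← map_pow, ← map_pow, show s5y ^ 5 = 1 by decide, map_one, map_one])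
    (by rw [← map_mul, ← map_mul, ← map_pow, ← map_pow, show (s5x * s5y) ^ 2 = -1 by decide, hq]
        rintro _ ⟨y, rfl⟩; simp [← map_mul])
  have hψ := injective_of_simple ψ (a := a5x) (by
    rw [h1, Ne, hq]
    intro e
    have := e _ ⟨s5y, rfl⟩
    rw [← map_mul, ← map_mul] at this
    exact absurd (hφ this) (by decide))
  have r : ψ.range = φ.range.map q := by
    apply le_antisymm
    · rintro _ ⟨x, rfl⟩
      exact (eq_top_a5 (H := (φ.range.map q).comap ψ) ⟨_, ⟨_, rfl⟩, h1.symm⟩ ⟨_, ⟨_, rfl⟩, h2.symm⟩).ge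
        (mem_top x)
    · rintro _ ⟨_, ⟨x, rfl⟩, rfl⟩
      exact (eq_top_s5 (H := ψ.range.comap (q.comp φ)) ⟨_, h1⟩ ⟨_, h2⟩).ge (mem_top x)
  haveI : ψ.range.Normal := r ▸ Normal.map inferInstance q (QuotientGroup.mk'_surjective _)
  let e := (MulAut.congr (MonoidHom.ofInjective hψ).symm).trans
    (MulEquiv.ofBijective _ (Cfsg.Agent.S2119.result 5 (by decide) (by decide))).symm
  refine ⟨(e.toMonoidHom.comp MulAut.conjNormal).comp q, le_antisymm (fun g hg => ?_) fun g hg => ?_,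
    card_A5 ▸ card_dvd_of_injective ψ hψ⟩
  · have k : MulAut.conjNormal (H := ψ.range) (q g) = 1 := e.map_eq_one_iff.1 hg
    have l : ⁅zpowers g, φ.range⁆ ≤ C[φ.range] := by
      refine commutator_le.2 ?_
      rintro _ ⟨i, rfl⟩ x hx
      have : MulAut.conjNormal (H := ψ.range) (q (g ^ i)) = 1 := by rw [map_zpow, map_zpow, k, one_zpow]
      have := congrArg Subtype.val (DFunLike.congr_fun this ⟨q x, r.ge ⟨x, hx, rfl⟩⟩)
      rw [← hq, commutatorElement_def, map_mul, map_mul, map_mul, map_inv, map_inv, mul_inv_eq_one]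
      exact this
    have p : ⁅φ.range, φ.range⁆ = φ.range := by
      rw [MonoidHom.range_eq_map, ← map_commutator, ← commutator_def, perfect_SL25]
    have l' := commutator_eq_bot_iff_le_centralizer.2 l
    have := commutator_commutator_eq_bot_of_rotate (H₁ := φ.range) (H₂ := φ.range) (H₃ := zpowers g)
      (by rwa [commutator_comm φ.range (zpowers g)]) l'
    rw [p, commutator_comm, commutator_eq_bot_iff_le_centralizer] at this
    exact this (Subgroup.mem_zpowers g)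
  · rw [MonoidHom.mem_ker, MonoidHom.comp_apply, hq.2 hg, map_one]

theorem zg_bot (h : ∀ x : G, (∀ g, g * x * g⁻¹ ∈ zpowers x) → x = 1) [N.Normal] [IsZGroup N] : N = ⊥ := by
  by_contra e
  haveI : IsZGroup F[N] := .of_injective (inclusion_injective fit_le)
  haveI := fit_nil (H := N)
  obtain ⟨x, hx⟩ := F[N].isCyclic_iff_exists_zpowers_eq_top.1 inferInstance
  have n : F[N].Normal := top_le_norm_iff.1 (le_norm_fit' (top_le_norm_iff.2 inferInstance))
  refine fit_ne_bot (H := N) inferInstance e ?_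
  rw [← hx] at n ⊢
  rw [h x fun g => n.conj_mem _ (Subgroup.mem_zpowers x) g, zpowers_one_eq_bot]

theorem zg_le_ker {T : Type*} [Group T] (h : ∀ x : T, (∀ g, g * x * g⁻¹ ∈ zpowers x) → x = 1)
    {f : G →* T} (hf : Surjective f) [N.Normal] [IsZGroup N] : N ≤ f.ker := by
  haveI := Finite.of_surjective f hf
  haveI : IsZGroup (N.map f) := .of_surjective (f.subgroupMap_surjective N)
  haveI : (N.map f).Normal := Normal.map inferInstance f hf
  exact (map_eq_bot_iff N).1 (zg_bot h)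

omit [Finite G] in
theorem pow_of_mem {n : ℕ} (h : ∃ k : Fin n, x ^ (k.1 + 1) = 1) (hy : y ∈ zpowers x) :
    ∃ k : Fin n, y = x ^ k.1 := by
  obtain ⟨k, hk⟩ := h
  classical
  obtain ⟨i, hi, rfl⟩ := Finset.mem_image.1 ((isOfFinOrder_iff_pow_eq_one.2
    ⟨_, k.1.succ_pos, hk⟩).mem_zpowers_iff_mem_range_orderOf.1 hy)
  exact ⟨⟨i, by have := orderOf_le_of_pow_eq_one k.1.succ_pos hk; simp at hi; omega⟩, rfl⟩

theorem nc_aux {n : ℕ} (L : List (alternatingGroup (Fin n)))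
    (h : ∀ x : Equiv.Perm (Fin n), (∃ k : Fin 6, x ^ (k.1 + 1) = 1) ∧
      ((∀ g ∈ L, ∃ k : Fin 6, g.1 * x * g.1⁻¹ = x ^ k.1) → x = 1)) :
    (∀ x : Equiv.Perm (Fin n), (∀ g, g * x * g⁻¹ ∈ zpowers x) → x = 1) ∧
      ∀ x : alternatingGroup (Fin n), (∀ g, g * x * g⁻¹ ∈ zpowers x) → x = 1 :=
  ⟨fun x hx => (h x).2 fun _ _ => pow_of_mem (h x).1 (hx _), fun x hx => Subtype.ext ((h x).2
    fun g _ => pow_of_mem (h x).1 (by obtain ⟨k, hk⟩ := hx g; exact ⟨k, congrArg Subtype.val hk⟩))⟩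

theorem nc4 : (∀ x : Equiv.Perm (Fin 4), (∀ g, g * x * g⁻¹ ∈ zpowers x) → x = 1) ∧
      ∀ x : alternatingGroup (Fin 4), (∀ g, g * x * g⁻¹ ∈ zpowers x) → x = 1 :=
  nc_aux [⟨Equiv.swap 0 1 * Equiv.swap 1 2, Equiv.Perm.mem_alternatingGroup.2 (by decide)⟩,
    ⟨Equiv.swap 1 2 * Equiv.swap 2 3, Equiv.Perm.mem_alternatingGroup.2 (by decide)⟩]
    (by decide +kernel)

theorem nc5 : (∀ x : Equiv.Perm (Fin 5), (∀ g, g * x * g⁻¹ ∈ zpowers x) → x = 1) ∧
      ∀ x : alternatingGroup (Fin 5), (∀ g, g * x * g⁻¹ ∈ zpowers x) → x = 1 :=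
  nc_aux [a5x, a5y] (by decide +kernel)

theorem index_le_four (hS : Syl 2 S ⊤) (h : Cy2 S a b m) [N.Normal] (hN : ∀ g, g * g ∈ N) :
    N.index ≤ 4 := by
  classical
  let q := QuotientGroup.mk' N
  have s : ∀ x : G ⧸ N, x ^ 2 = 1 := fun x => by
    obtain ⟨x, rfl⟩ := QuotientGroup.mk'_surjective N x
    rw [← map_pow, sq]; exact (QuotientGroup.eq_one_iff _).2 (hN x)
  have t : N ⊔ S = ⊤ := hS.sup_eq_of_index le_top (by
    rw [relIndex_top_right]; exact isPGroup_iff_piN.1 fun x => ⟨1, s x⟩)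
  have k : ∀ c ∈ zpowers a, q c = 1 ∨ q c = q a := by
    rintro _ ⟨i, rfl⟩
    rw [map_zpow]
    rcases pow_of_mem (n := 2) ⟨1, s _⟩ (zpow_mem_zpowers (q a) i) with ⟨_ | _ | _, e⟩
    · exact Or.inl (by simpa using e)
    · exact Or.inr (by simpa using e)
    · omega
  haveI := Fintype.ofFinite (G ⧸ N)
  rw [index_eq_card, Nat.card_eq_fintype_card]
  refine (Finset.card_le_card (t := {1, q a, q b, q a * q b}) fun x _ => ?_).trans Finset.card_le_four
  obtain ⟨x, rfl⟩ := QuotientGroup.mk'_surjective N x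
  obtain ⟨n, hn, u, hu, rfl⟩ := mem_sup_of_normal_left.1 (t.ge (mem_top x))
  rw [map_mul, (QuotientGroup.eq_one_iff n).2 hn |> (id : q n = 1 → q n = 1), one_mul]
  rcases h.mem_iff.1 hu with e | e
  · rcases k _ e with e | e <;> simp [e, q]
  · rcases k _ e with e | e <;> rw [map_mul, map_inv, mul_inv_eq_iff_eq_mul] at e <;> simp [e, q]

/-- The quotient by `N` is one of the groups `A₄, S₄, A₅, S₅`. -/
def Big (N : Subgroup G) : Prop :=
  (∃ f : G →* alternatingGroup (Fin 4), Surjective f ∧ f.ker = N) ∨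
  (∃ f : G →* Equiv.Perm (Fin 4), Surjective f ∧ f.ker = N) ∨
  (∃ f : G →* alternatingGroup (Fin 5), Surjective f ∧ f.ker = N) ∨
  (∃ f : G →* Equiv.Perm (Fin 5), Surjective f ∧ f.ker = N)

omit [Finite G] in
theorem index_of_surj {T : Type*} [Group T] {f : G →* T} (hf : Surjective f) : f.ker.index = Nat.card T := by
  rw [index_ker, MonoidHom.range_eq_top.2 hf, card_top]

theorem Big.le (h : Big K) [N.Normal] [IsZGroup N] : N ≤ K ∧ 3 ∣ K.index := by
  rcases h with ⟨f, hf, rfl⟩ | ⟨f, hf, rfl⟩ | ⟨f, hf, rfl⟩ | ⟨f, hf, rfl⟩ <;> rw [index_of_surj hf]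
  · exact ⟨zg_le_ker nc4.2 hf, by rw [card_A4]; decide⟩
  · exact ⟨zg_le_ker nc4.1 hf, by rw [card_S4]; decide⟩
  · exact ⟨zg_le_ker nc5.2 hf, by rw [card_A5]; decide⟩
  · exact ⟨zg_le_ker nc5.1 hf, by rw [Nat.card_perm, Nat.card_fin]; decide⟩

theorem q8_hom' (q : GQ Q a b 1) [Q.Normal] (ho : Odd (orderOf g)) (hc : g ∉ C[Q]) :
    ∃ f : G →* Equiv.Perm (Fin 4), f.ker = C[Q] ∧ 12 ∣ C[Q].index := by
  obtain ⟨f, hf⟩ := q8_hom q
  have n : ∀ x : G, x ∈ N[Q] := fun x => (top_le_norm_iff.2 inferInstance) (mem_top x)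
  let f' := f.comp ((MonoidHom.id G).codRestrict _ n)
  have k : f'.ker = C[Q] := Subgroup.ext fun x => hf ⟨x, n x⟩
  refine ⟨f', k, Nat.Coprime.mul_dvd_of_dvd_of_dvd (m := 3) (n := 4) (by decide) ?_ ?_⟩
  · have d := orderOf_map_dvd f' g
    have n : f' g ≠ 1 := fun e => hc (k.le e)
    rw [← k, index_ker]
    refine Dvd.dvd.trans ?_ (orderOf_dvd_of_mem (show f' g ∈ f'.range from ⟨g, rfl⟩))
    rcases orders_S4 (f' g) with e | e
    · exact (orderOf_eq_prime e n).symm.dvd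
    · exact absurd (orderOf_eq_one_iff.1 (Nat.eq_one_of_dvd_coprimes
        ((Nat.coprime_two_right.2 ho).pow_right 2) d (orderOf_dvd_of_pow_eq_one e))) n
  · refine Dvd.dvd.trans ?_ (relIndex_dvd_index_of_normal _ Q)
    have e := CfsgH2.card_inf_mul_relIndex C[Q] Q
    obtain ⟨k, hk⟩ := card_dvd_of_le (show C[Q] ⊓ Q ≤ zpowers (a ^ 2 ^ 1) from fun x hx => by
      rcases q.eq_of_sq hx.2 (q.sq_of_cent hx.2 hx.1) with e | e <;> simp [e])
    rw [Nat.card_zpowers, q.ord_t] at hk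
    rw [q.card] at e
    exact ⟨k, Nat.eq_of_mul_eq_mul_left Nat.card_pos (e.trans (by
      rw [mul_left_comm, ← hk]; rfl))⟩

namespace FC

theorem sol_q8 (h : FC ℂ G) [hs : Group.IsSolvable G] (hn : ¬ NPC 2 (⊤ : Subgroup G)) :
    ∃ a b, GQ O[{2}, (⊤ : Subgroup G)] a b 1 ∧ ∃ g, Odd (orderOf g) ∧ g ∉ C[O[{2}, (⊤ : Subgroup G)]] := by
  obtain ⟨Q, -, a, b, q, g, -, h1, h2, h3⟩ := h.exists_q8 hn
  haveI n : ∀ p, O[{p}, (⊤ : Subgroup G)].Normal := fun _ => top_le_norm_iff.1 le_norm_piCoreOf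
  have pg : IsPGroup 2 O[{2}, (⊤ : Subgroup G)] := isPGroup_iff_piN.2 piN_piCoreOf
  have hg : g ∈ N[O[{2}, (⊤ : Subgroup G)]] := le_norm_piCoreOf (mem_top g)
  have hc : g ∉ C[O[{2}, (⊤ : Subgroup G)]] := fun e => h3 fun x hx => by
    have k : ∀ {x}, x ∈ Q → ⁅g, x⁆ ∈ Q := fun hx => mul_mem (conj_mem_of_norm h2 hx) (inv_mem hx)
    have k2 : ∀ {x}, x ∈ Q → Commute g ⁅g, x⁆ → Commute g x := fun {x} hx c => by
      obtain ⟨j, hj⟩ := q.pg ⟨_, k hx⟩
      exact commute_of_odd_of_conj_eq h1 (by rw [commutatorElement_def]; group) c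
        (congrArg Subtype.val hj)
    refine (k2 hx (k2 (k hx) (Eq.symm (e _ ?_)))).symm
    have l : ⁅C[O[{2}, (⊤ : Subgroup G)]], C[O[{2}, (⊤ : Subgroup G)]]⁆ ≤ F[(⊤ : Subgroup G)] := by
      refine (le_inf le_top (le_centralizer_iff.1 (fit_le_of_cores fun p _ _ =>
        le_centralizer_iff.1 ?_))).trans (cent_fit_le (Group.isSolvable_of_isSolvable_injective
          (subtype_injective _)))
      by_cases e : p = 2
      · subst e; exact commutator_self_le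
      · exact (commutator_mono le_top le_top).trans (commutator_le_cent_of_cyclic
          (h.cyc_odd e (isPGroup_iff_piN.2 piN_piCoreOf)) le_norm_piCoreOf)
    exact core_fit_le (nil_le_core fit_nil (X := Q ⊓ F[(⊤ : Subgroup G)]) inf_le_right
      (isPGroup_iff_piN.1 (q.pg.to_le inf_le_left)) ⟨k (k hx), l (commutator_mem_commutator e (by
        rw [commutatorElement_def, mul_assoc, mul_assoc, ← mul_assoc x]
        exact mul_mem e (Normal.conj_mem inferInstance _ (inv_mem e) _)))⟩)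
  rcases h.two pg with c | ⟨a, b, m, q⟩
  · exact absurd (mem_cent_of_odd_cyclic pg c h1 hg) hc
  · obtain rfl := GQ_one q h1 hg hc
    exact ⟨a, b, q, g, h1, hc⟩

theorem zg_cent (h : FC ℂ G) (q : GQ Q a b 1) : IsZGroup C[Q] :=
  h.zg fun P hP pg => (h.two pg).resolve_right fun ⟨c, d, m, r⟩ => q.sq_a_ne (q.sq_of_cent q.amem
    (zpowers_le.2 (hP r.amem) (h.mem_zpowers (hP r.amem a q.amem).symm (by
      rw [q.ord, r.ord]; exact pow_dvd_pow 2 (Nat.succ_le_succ r.pos)))))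

theorem zg_cent5 (h : FC ℂ G) {φ : SL25 →* G} (hφ : Injective φ) : IsZGroup C[φ.range] :=
  h.zg fun P hP pg => (h.two pg).resolve_right fun ⟨c, d, m, r⟩ =>
    (h.ord_cent hφ (hP r.bmem)).2.1 (orderOf_eq_prime_pow (p := 2) (n := 1)
      (by rw [pow_one, r.sq', ← orderOf_eq_one_iff, r.ord_t]; decide)
      (by rw [show 2 ^ (1 + 1) = 2 * 2 from rfl, pow_mul, r.sq']; exact orderOf_dvd_iff_pow_eq_one.1 r.ord_t.dvd))

theorem zg_of_syl (h : FC ℂ G) (hS : Syl 2 S H) (c : Cyc[S]) : IsZGroup H :=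
  h.zg fun P hP pg => by
    obtain ⟨g, -, l⟩ := hS.exists_le_conj pg hP
    haveI := isCyclic_of_surjective _ ((cj g).subgroupMap_surjective S)
    exact Subgroup.isCyclic_of_le l

theorem klein (h : FC ℂ G) (hn : NPC 2 (⊤ : Subgroup G)) (hS : Syl 2 S ⊤) (q : GQ S a b m) :
    ∃ f : G →* DihedralGroup 2, Surjective f ∧ IsZGroup f.ker := by
  set O := O[{2}ᶜ, (⊤ : Subgroup G)]
  haveI : O.Normal := top_le_norm_iff.1 le_norm_piCoreOf
  have nO : ∀ {X : Subgroup G}, X ≤ N[O] := fun {_} => le_top.trans (top_le_norm_iff.2 inferInstance)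
  have t : O ⊔ S = ⊤ := hn.sup_eq hS
  have o2 : orderOf (a ^ 2) = 2 ^ m := by
    rw [orderOf_pow_of_dvd two_ne_zero (q.ord ▸ dvd_pow_self 2 m.succ_ne_zero), q.ord, pow_succ,
      Nat.mul_div_cancel _ two_pos]
  have nS : S ≤ N[zpowers (a ^ 2)] := fun s hs => mem_norm_of_map_le (by
    rw [MonoidHom.map_zpowers, zpowers_le]
    change s * a ^ 2 * s⁻¹ ∈ _
    rcases q.conj_eq_or hs (pow_mem (Subgroup.mem_zpowers a) 2) with e | e <;> simp [e])
  haveI : (O ⊔ zpowers (a ^ 2)).Normal := top_le_norm_iff.1 (t.ge.trans (sup_le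
    (le_sup_left.trans le_normalizer) (le_norm_sup nO nS)))
  have o : ¬ 2 ∣ o[O] := fun e => piN_piCoreOf 2 Nat.prime_two e rfl
  have c : ∀ P : Subgroup G, IsPGroup 2 P → o[(O ⊔ P : Subgroup G)] = o[O] * o[P] := fun P pg =>
    card_sup_of_disj (.inr nO) (inf_eq_bot_of_coprime' (coprime_of_pgroup pg o).symm)
  have pg := q.pg.to_le (zpowers_le.2 (pow_mem q.amem 2))
  have c2 := (O ⊔ zpowers (a ^ 2)).card_mul_index
  rw [c _ pg, ← card_top (G := G), ← t, c _ q.pg, Nat.card_zpowers, o2, q.card, pow_add, mul_assoc,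
    mul_right_inj' Nat.card_pos.ne', mul_right_inj' (by positivity)] at c2
  haveI : Nontrivial (G ⧸ O ⊔ zpowers (a ^ 2)) := Finite.one_lt_card_iff_nontrivial.1 (c2 ▸ by decide :
    1 < (O ⊔ zpowers (a ^ 2)).index)
  haveI : IsKleinFour (G ⧸ O ⊔ zpowers (a ^ 2)) := ⟨c2, (Monoid.exponent_eq_prime_iff Nat.prime_two).2
    fun x hx => orderOf_eq_prime (by
      obtain ⟨x, rfl⟩ := QuotientGroup.mk'_surjective _ x
      obtain ⟨n, hn, u, hu, rfl⟩ := mem_sup_of_normal_left.1 (t.ge (mem_top x))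
      rw [map_mul, (QuotientGroup.eq_one_iff n).2 (mem_sup_left hn) |>
        (id : QuotientGroup.mk' (O ⊔ zpowers (a ^ 2)) n = 1 → _), one_mul, ← map_pow]
      refine (QuotientGroup.eq_one_iff _).2 (mem_sup_right ?_)
      by_cases e : u ∈ zpowers a
      · obtain ⟨i, rfl⟩ := e
        exact ⟨i, by group⟩
      · rw [sq u, q.sq_eq hu e, ← Nat.sub_add_cancel q.pos, pow_succ' 2, pow_mul]
        exact pow_mem (Subgroup.mem_zpowers _) _) hx⟩
  obtain ⟨e⟩ : Nonempty ((G ⧸ O ⊔ zpowers (a ^ 2)) ≃* DihedralGroup 2) := IsKleinFour.nonempty_mulEquiv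
  refine ⟨e.toMonoidHom.comp (QuotientGroup.mk' _), e.surjective.comp (QuotientGroup.mk'_surjective _), ?_⟩
  rw [← MonoidHom.comap_ker, (MonoidHom.ker_eq_bot_iff _).2 e.injective, MonoidHom.comap_bot,
    QuotientGroup.ker_mk', sup_comm]
  exact h.zg_of_syl ((Syl.self pg).sup_coprime (.inl nO) o) inferInstance

theorem sol_cases (h : FC ℂ G) [Group.IsSolvable G] : IsZGroup (⊤ : Subgroup G) ∨
    (∃ f : G →* DihedralGroup 2, Surjective f ∧ IsZGroup f.ker) ∨
    ∃ f : G →* Equiv.Perm (Fin 4), IsZGroup f.ker ∧ 12 ∣ f.ker.index := by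
  by_cases hn : NPC 2 (⊤ : Subgroup G)
  · obtain ⟨S, hS⟩ := exists_syl (p := 2) (⊤ : Subgroup G)
    exact (h.two hS.pg).imp (h.zg_of_syl hS) fun ⟨a, b, m, q⟩ => Or.inl (h.klein hn hS q)
  · obtain ⟨a, b, q, g, h1, h2⟩ := h.sol_q8 hn
    haveI : O[{2}, (⊤ : Subgroup G)].Normal := top_le_norm_iff.1 le_norm_piCoreOf
    obtain ⟨f, k, d⟩ := q8_hom' q h1 h2
    exact Or.inr (Or.inr ⟨f, k ▸ h.zg_cent q, k ▸ d⟩)

theorem zq (h : FC ℂ G) : ∃! N : Subgroup G, N.Normal ∧ IsZGroup N ∧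
    (N = ⊤ ∨ (∃ f : G →* DihedralGroup 2, Surjective f ∧ f.ker = N) ∨ Big N) := by
  refine existsUnique_of_exists_of_unique ?_ fun N K ⟨n1, z1, c1⟩ ⟨n2, z2, c2⟩ => ?_
  · by_cases hs : Group.IsSolvable G
    · rcases h.sol_cases with z | ⟨f, s, z⟩ | ⟨f, z, d⟩
      · exact ⟨⊤, inferInstance, z, Or.inl rfl⟩
      · exact ⟨_, inferInstance, z, Or.inr (Or.inl ⟨f, s, rfl⟩)⟩
      · exact ⟨_, inferInstance, z, Or.inr (Or.inr ((alt_or_top f (mul_dvd_mul_left 2 d)).imp_right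
          fun s => Or.inl ⟨f, s, rfl⟩))⟩
    · obtain ⟨φ, hφ, n, -⟩ := h.str.resolve_left hs
      obtain ⟨f, k, d⟩ := s5_hom hφ
      exact ⟨_, inferInstance, k ▸ h.zg_cent5 hφ, Or.inr (Or.inr (Or.inr (Or.inr
        ((alt_or_top f (mul_dvd_mul_left 2 (k ▸ d))).imp_right fun s => ⟨f, s, rfl⟩))))⟩
  have i4 : ∀ f : G →* DihedralGroup 2, Surjective f → f.ker.index = 4 := fun f s =>
    (index_of_surj s).trans IsKleinFour.card_four
  have nz : ∀ f : G →* DihedralGroup 2, Surjective f → ∀ S, Syl 2 S (⊤ : Subgroup G) → ¬ Cyc[S] :=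
    fun f s S hS c => by
      have e := (hS.map f).eq_of_pgroup (IsPGroup.to_subgroup (IsPGroup.of_card (n := 2)
        IsKleinFour.card_four) _)
      rw [map_top_of_surjective f s] at e
      haveI := isCyclic_of_surjective _ (f.subgroupMap_surjective S)
      exact IsKleinFour.not_isCyclic (isCyclic_of_surjective (S.map f).subtype fun x => ⟨⟨x, e.ge
        (mem_top x)⟩, rfl⟩)
  have k : ∀ {N K : Subgroup G} [N.Normal] [IsZGroup N], Big K →
      (N = ⊤ ∨ (∃ f : G →* DihedralGroup 2, Surjective f ∧ f.ker = N)) → False := fun {N K} _ _ b c => by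
    obtain ⟨l, d⟩ := b.le (N := N)
    have := d.trans (index_dvd_of_le l)
    rcases c with rfl | ⟨f, s, rfl⟩
    · simp at this
    · rw [i4 f s] at this; exact absurd this (by decide)
  obtain ⟨S, hS⟩ := exists_syl (p := 2) (⊤ : Subgroup G)
  rw [← or_assoc] at c1 c2
  rcases c1 with c1 | c1 <;> rcases c2 with c2 | c2
  · rcases c1 with rfl | ⟨f, s, rfl⟩ <;> rcases c2 with rfl | ⟨f', s', rfl⟩
    · rfl
    · exact (nz f' s' S hS (zgroup_iff.1 z1 2 S le_top hS.pg)).elim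
    · exact (nz f s S hS (zgroup_iff.1 z2 2 S le_top hS.pg)).elim
    · obtain ⟨a, b, m, q⟩ := (h.two hS.pg).resolve_left (nz f s S hS)
      have sq : ∀ (f : G →* DihedralGroup 2) g, g * g ∈ f.ker := fun f g => by
        rw [MonoidHom.mem_ker, map_mul, IsKleinFour.mul_self]
      have := index_le_four (N := f.ker ⊓ f'.ker) hS q.toCy2 fun g => ⟨sq f g, sq f' g⟩
      have e : ∀ f₁ : G →* DihedralGroup 2, Surjective f₁ → f.ker ⊓ f'.ker ≤ f₁.ker →
          f.ker ⊓ f'.ker = f₁.ker := fun f₁ s₁ l => eq_of_le_of_card_le l (by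
        have e1 := f₁.ker.card_mul_index
        rw [← (f.ker ⊓ f'.ker).card_mul_index, i4 _ s₁] at e1
        exact Nat.le_of_mul_le_mul_right (e1.le.trans (Nat.mul_le_mul_left _ this)) four_pos)
      exact (e f s inf_le_left).symm.trans (e f' s' inf_le_right)
  · exact (k c2 c1).elim
  · exact (k c1 c2).elim
  · exact le_antisymm c2.le.1 c1.le.1

end FC

end CfsgH8.FC
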