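import Mathlib

/-! Numerical lemmas on binomial coefficients without small prime factors. -/

set_option autoImplicit false

namespace CfsgH8.Hs

theorem cop {K C a : ℕ} (h : ∀ q, q.Prime → q ≤ K → ¬ q ∣ C) (h0 : a ≠ 0) (h1 : ¬ a.Prime) (h2 : a ≤ 2 * K + 1) :
    a.Coprime C := by
  refine Nat.coprime_of_dvd fun q hq ⟨c, hc⟩ => h q hq ?_
  have : c ≠ 0 := by rintro rfl; simp [hc] at h0
  have : c ≠ 1 := by rintro rfl; exact h1 (by simpa [hc] using hq)
  have : q * 2 ≤ q * c := Nat.mul_le_mul_left _ (by omega)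
  omega

theorem gbound {a b k c : ℕ} (hk : 0 < k) (hc : 0 < c) (h : b + c = a + k) : a.gcd k * b.gcd k ≤ c * k := by
  rw [← Nat.gcd_mul_lcm]
  refine Nat.mul_le_mul (Nat.le_of_dvd hc ?_) (Nat.le_of_dvd hk (Nat.lcm_dvd (Nat.gcd_dvd_right _ _) (Nat.gcd_dvd_right _ _)))
  have h1 : (a.gcd k).gcd (b.gcd k) ∣ a := (Nat.gcd_dvd_left _ _).trans (Nat.gcd_dvd_left _ _)
  have h2 : (a.gcd k).gcd (b.gcd k) ∣ k := (Nat.gcd_dvd_left _ _).trans (Nat.gcd_dvd_right _ _)
  have h3 : (a.gcd k).gcd (b.gcd k) ∣ b := (Nat.gcd_dvd_right _ _).trans (Nat.gcd_dvd_left _ _)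
  exact (Nat.dvd_add_right h3).1 (h ▸ dvd_add h1 h2)

theorem le_gg {a k l : ℕ} (hk : 0 < k) (hl : 0 < l) (h : a ∣ k * l) : a ≤ a.gcd k * a.gcd l := by
  have : a.gcd (k * l) ∣ a.gcd k * a.gcd l := gcd_mul_dvd_mul_gcd a k l
  rw [Nat.gcd_eq_left h] at this
  exact Nat.le_of_dvd (Nat.mul_pos (Nat.gcd_pos_of_pos_right _ hk) (Nat.gcd_pos_of_pos_right _ hl)) this

theorem not_prime_even {a : ℕ} (h : a % 2 = 0) (h2 : 2 < a) : ¬ a.Prime := fun e => by
  have := e.eq_two_or_odd
  omega

theorem NL {K k : ℕ} (h2 : 2 ≤ k) (hk : k ≤ K) (h : ∀ q, q.Prime → q ≤ K → ¬ q ∣ (K + k).choose k) : K = 4 ∧ k = 3 := by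
  obtain ⟨j, rfl⟩ := Nat.exists_eq_add_of_le' h2
  have I1 := Nat.choose_succ_right_eq (K + (j + 2)) (j + 1)
  have I2 := Nat.choose_succ_right_eq (K + (j + 2)) j
  have I3 := Nat.choose_succ_right_eq (K + (j + 2)) (j + 2)
  have I4 := Nat.add_one_mul_choose_eq (K + j + 1) (j + 1)
  have I5 := Nat.add_one_mul_choose_eq (K + j) j
  rw [show K + (j + 2) - (j + 1) = K + 1 by omega] at I1
  rw [show K + (j + 2) - j = K + 2 by omega] at I2
  rw [show K + (j + 2) - (j + 2) = K by omega] at I3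
  rw [show K + j + 1 + 1 = K + (j + 2) by omega] at I4
  simp only [show j + 1 + 1 = j + 2 by omega] at I1 I4
  generalize hC : (K + (j + 2)).choose (j + 2) = C at *
  have a1 : (K + 1).Prime := by
    by_contra e
    have := Nat.le_of_dvd (n := j + 2) (by omega) ((cop h (by omega) e (by omega)).dvd_of_dvd_mul_left
      (by rw [I1]; exact dvd_mul_left _ _))
    omega
  have a2 : (K + (j + 2)).Prime := by
    by_contra e
    have := Nat.le_of_dvd (n := j + 2) (by omega) ((cop h (by omega) e (by omega)).dvd_of_dvd_mul_left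
      (by rw [← I4]; exact dvd_mul_right _ _))
    omega
  have b1 := a1.eq_two_or_odd
  have b2 := a2.eq_two_or_odd
  have a3 : j + 2 + 1 ∣ K :=
    (cop h (by omega) (not_prime_even (by omega) (by omega)) (by omega)).dvd_of_dvd_mul_left (by rw [← I3]; exact dvd_mul_left _ _)
  have a4 : K + 2 ∣ (j + 2) * (j + 1) :=
    (cop h (by omega) (not_prime_even (by omega) (by omega)) (by omega)).dvd_of_dvd_mul_left
      ⟨(K + (j + 2)).choose j * (K + 1), by rw [← mul_assoc, I1, mul_right_comm, I2]; ring⟩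
  have a5 : K + j + 1 ∣ (j + 2) * (j + 1) :=
    (cop h (by omega) (not_prime_even (by omega) (by omega)) (by omega)).dvd_of_dvd_mul_left
      ⟨(K + j).choose j * (K + (j + 2)), by rw [← mul_assoc, ← I4, mul_assoc, ← I5]; ring⟩
  have c1 := le_gg (by omega) (by omega) a4
  have c2 := le_gg (by omega) (by omega) a5
  have c3 := gbound (a := K + 2) (b := K + j + 1) (k := j + 2) (c := 3) (by omega) (by omega) (by omega)
  have c4 := gbound (a := K + 2) (b := K + j + 1) (k := j + 1) (c := 2) (by omega) (by omega) (by omega)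
  have c5 : (K + 2) * (K + j + 1) ≤ (3 * (j + 2)) * (2 * (j + 1)) :=
    (Nat.mul_le_mul c1 c2).trans ((mul_mul_mul_comm _ _ _ _).le.trans (Nat.mul_le_mul c3 c4))
  obtain ⟨c, hc⟩ := a3
  have c6 : K = j + 3 := by
    rcases c with _ | _ | c
    · omega
    · omega
    · have : 2 * (j + 3) ≤ K := by rw [hc]; nlinarith
      nlinarith
  subst c6
  have c7 : j + 3 + 2 ∣ 12 := by
    have : (j + 2) * (j + 1) + 7 * (j + 3 + 2) = (j + 3 + 2) * (j + 3 + 2) + 12 := by ring
    exact (Nat.dvd_add_right (dvd_mul_right _ _)).1 (this ▸ dvd_add a4 (dvd_mul_left _ _))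
  have := Nat.le_of_dvd (by omega) c7
  have : j ≤ 7 := by omega
  interval_cases j <;> first | omega | exact absurd (hC ▸ by decide +kernel) (h 2 Nat.prime_two (by omega))

theorem multi_dvd {ι : Type*} [DecidableEq ι] {s t : Finset ι} (h : t ⊆ s) (f : ι → ℕ) :
    Nat.multinomial t f ∣ Nat.multinomial s f := by
  rw [← Finset.union_eq_left.2 h]
  clear h
  induction s using Finset.induction_on with
  | empty => simp
  | insert a s ha ih =>
    rw [Finset.insert_union]
    by_cases e : a ∈ s ∪ t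
    · rwa [Finset.insert_eq_of_mem e]
    · rw [Nat.multinomial_insert e]
      exact ih.mul_left _

open Multiset

theorem B1 {M : Multiset ℕ} {k j : ℕ} (h0 : k ≠ 0) (h : j < M.count k) : (j * k + k - 1).choose (k - 1) ∣ M.bell := by
  have : k ∈ M.toFinset.erase 0 := Finset.mem_erase.2 ⟨h0, mem_toFinset.2 (count_pos.1 (by omega))⟩
  exact ((Finset.dvd_prod_of_mem (fun j => (j * k + k - 1).choose (k - 1)) (Finset.mem_range.2 h)).trans
    (Finset.dvd_prod_of_mem (fun k => ∏ j ∈ Finset.range (M.count k), (j * k + k - 1).choose (k - 1)) this)).mul_left _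

theorem B2 {M : Multiset ℕ} {a b : ℕ} (ha : a ∈ M) (hb : b ∈ M) (h : a ≠ b) :
    (a * M.count a + b * M.count b).choose (b * M.count b) ∣ M.bell := by
  have := multi_dvd (s := M.toFinset) (t := {a, b}) (by
    intro x hx
    simp only [Finset.mem_insert, Finset.mem_singleton] at hx
    rcases hx with rfl | rfl <;> simpa) (fun k => k * M.count k)
  rw [Nat.binomial_eq_choose h, Nat.choose_symm_add] at this
  exact this.mul_right _

theorem MC {M : Multiset ℕ} (h1 : ∀ k ∈ M, k = 1 ∨ 3 ≤ k) (h2 : M.count 1 ≤ 2) (h3 : ∃ k ∈ M, 3 ≤ k)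
    (h4 : ∀ k ∈ M, 3 ≤ k → ∀ q, q.Prime → q ≤ k → ¬ q ∣ M.bell) :
    (∃ K, M = {K}) ∨ (∃ K, 3 ≤ K ∧ M = {1, K}) ∨ M = {3, 4} ∨ M = {4, 4} := by
  obtain ⟨k0, hk0, hk3⟩ := h3
  obtain ⟨K, hK, hm⟩ := M.toFinset.exists_max_image id ⟨k0, mem_toFinset.2 hk0⟩
  simp only [mem_toFinset, id] at hK hm
  have K3 : 3 ≤ K := hk3.trans (hm _ hk0)
  have c := h4 K hK K3
  have c2 := c 2 Nat.prime_two (by omega)
  have c3 := c 3 Nat.prime_three K3
  have a1 : ∀ k ∈ M, 3 ≤ k → M.count k = 1 ∨ (k = 4 ∧ M.count k = 2) := fun k hk e => by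
    have := count_pos.2 hk
    by_cases f : M.count k ≤ 1
    · omega
    have b := B1 (M := M) (k := k) (j := 1) (by omega) (by omega)
    rw [show 1 * k + k - 1 = k + (k - 1) by omega] at b
    obtain ⟨rfl, -⟩ := NL (K := k) (k := k - 1) (by omega) (by omega) fun q a1 a2 a3 => h4 k hk e q a1 a2 (a3.trans b)
    by_contra g
    exact c3 (Dvd.dvd.trans (by decide) (B1 (M := M) (k := 4) (j := 2) (by omega) (by omega)))
  have a2 : ∀ k ∈ M, k ≠ K → M.count k = 1 ∧ M.count K = 1 ∧ (k = 1 ∨ (k = 3 ∧ K = 4)) := fun k hk e => by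
    have b := B2 hK hk e.symm
    have := hm k hk
    have := count_pos.2 hk
    have n := fun (u v : ℕ) (h2 : 2 ≤ v) (hv : v ≤ u) (hu : u ≤ K) (e : (u + v).choose v ∣ M.bell) =>
      NL h2 hv fun q a1 a2 a3 => c q a1 (a2.trans hu) (a3.trans e)
    rcases a1 K hK K3 with f | ⟨rfl, f⟩ <;> rw [f] at b
    · rw [mul_one] at b
      rcases h1 k hk with rfl | g
      · by_contra g
        rw [show M.count 1 = 2 by omega] at b
        have := n K 2 le_rfl (by omega) le_rfl b
        omega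
      · rcases a1 k hk g with g' | ⟨rfl, g'⟩ <;> rw [g'] at b
        · have := n K k (by omega) (by omega) le_rfl (by simpa using b)
          omega
        · by_cases K8 : 8 ≤ K
          · have := n K 8 (by omega) K8 le_rfl b
            omega
          · exfalso
            have : K = 5 ∨ K = 6 ∨ K = 7 := by omega
            rcases this with rfl | rfl | rfl <;> exact c3 (Dvd.dvd.trans (by decide) b)
    · exfalso
      rcases h1 k hk with rfl | g
      · have : M.count 1 = 1 ∨ M.count 1 = 2 := by omega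
        rcases this with g | g <;> rw [g] at b <;> exact c3 (Dvd.dvd.trans (by decide) b)
      · obtain rfl : k = 3 := by omega
        rw [show M.count 3 = 1 by have := a1 3 hk le_rfl; omega] at b
        exact c3 (Dvd.dvd.trans (by decide) b)
  have z : ∀ k, k ∉ M → M.count k = 0 := fun k => count_eq_zero.2
  by_cases e1 : 1 ∈ M
  · obtain ⟨b1, b2, -⟩ := a2 1 e1 (by omega)
    refine .inr (.inl ⟨K, K3, Multiset.ext.2 fun k => ?_⟩)
    simp only [insert_eq_cons, count_cons, count_singleton]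
    by_cases e : k ∈ M
    · by_cases f : k = K
      · subst f; simp [b2]; omega
      obtain ⟨b3, -, rfl | ⟨rfl, rfl⟩⟩ := a2 k e f
      · simp [b3, f]
      · have b := B2 e e1 (by omega)
        rw [b1, b3] at b
        exact absurd (Dvd.dvd.trans (by decide) b) c2
    · have : k ≠ K := fun f => e (f ▸ hK)
      have : k ≠ 1 := fun f => e (f ▸ e1)
      simp [*]
  by_cases e3 : ∃ k ∈ M, k ≠ K
  · obtain ⟨k, hk, e⟩ := e3
    obtain ⟨b1, b2, rfl | ⟨rfl, rfl⟩⟩ := a2 k hk e
    · exact absurd hk e1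
    refine .inr (.inr (.inl (Multiset.ext.2 fun k => ?_)))
    simp only [insert_eq_cons, count_cons, count_singleton]
    by_cases e : k ∈ M
    · by_cases f : k = 4
      · subst f; simp [b2]
      obtain ⟨b3, -, rfl | ⟨rfl, -⟩⟩ := a2 k e f
      · exact absurd e e1
      · simp [b3]
    · have : k ≠ 4 := fun f => e (f ▸ hK)
      have : k ≠ 3 := fun f => e (f ▸ hk)
      simp [*]
  push Not at e3
  have b := eq_replicate_card.2 e3
  have b' : M.count K = M.card := by rw [b]; simp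
  rcases a1 K hK K3 with f | ⟨rfl, f⟩ <;> rw [← b', f] at b
  · exact .inl ⟨K, b⟩
  · exact .inr (.inr (.inr b))

end CfsgH8.Hs
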