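import Cfsg.Agent.H8.Hs1
import Cfsg.Agent.H1.Sn5

/-! Order and index of the stabilizer of a partition. -/

set_option autoImplicit false

namespace CfsgH8.Hs

open Equiv Equiv.Perm MulAction CfsgH5.Sy CfsgH1.Sn
open scoped Pointwise Nat

variable {α : Type*} [Fintype α] [DecidableEq α] {ι : Type*} [Fintype ι] [DecidableEq ι]

/-- Fiber size. -/
def sz (f : α → ι) (i : ι) : ℕ := Fintype.card {a // f a = i}

/-- Multiset of fiber sizes. -/
def ty (f : α → ι) : Multiset ℕ := Finset.univ.val.map (sz f)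

omit [DecidableEq α] [Fintype ι] in
theorem sz_eq (f : α → ι) (i : ι) : sz f i = (Finset.univ.filter fun a => f a = i).card := Fintype.card_subtype _

omit [DecidableEq α] in
theorem mem_ty {f : α → ι} {k : ℕ} : k ∈ ty f ↔ ∃ i, sz f i = k := by simp [ty]

omit [DecidableEq α] in
theorem count_ty (f : α → ι) (k : ℕ) : (ty f).count k = sz (sz f) k := by
  rw [ty, Multiset.count_map, sz_eq]
  simp only [eq_comm (a := k)]
  rfl

omit [DecidableEq α] in
theorem sum_ty (f : α → ι) : (ty f).sum = Fintype.card α := by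
  rw [← Finset.card_univ, Finset.card_eq_sum_card_fiberwise (f := f) (t := Finset.univ) (by simp)]
  simp only [← sz_eq]
  rfl

omit [DecidableEq α] [Fintype ι] in
theorem sz_pos {f : α → ι} (hf : f.Surjective) (i : ι) : 0 < sz f i := by
  obtain ⟨x, rfl⟩ := hf i
  exact Fintype.card_pos_iff.2 ⟨⟨x, rfl⟩⟩

omit [DecidableEq α] [Fintype ι] in
theorem ex_equiv {β : Type*} [Fintype β] {f : α → ι} {g : β → ι} (h : ∀ i, sz f i = sz g i) :
    ∃ e : α ≃ β, ∀ x, g (e x) = f x :=
  ⟨Equiv.ofFiberEquiv fun i => Fintype.equivOfCardEq (h i), fun _ => Equiv.ofFiberEquiv_map _ _⟩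

omit [DecidableEq α] [Fintype ι] in
theorem sz_comp {κ : Type*} [DecidableEq κ] (f : α → ι) (σ : ι ≃ κ) (i : ι) : sz (σ ∘ f) (σ i) = sz f i := by
  simp [sz]

omit [DecidableEq α] [Fintype ι] in
theorem sz_perm {β : Type*} [Fintype β] (f : α → ι) (e : β ≃ α) (i : ι) : sz (f ∘ e) i = sz f i :=
  Fintype.card_congr (e.subtypeEquiv fun _ => Iff.rfl)

/-- The action on the classes. -/
@[reducible] noncomputable def act {f : α → ι} (hf : f.Surjective) : MulAction (Wf f) ι where
  smul g i := f (g.1 (Function.surjInv hf i))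
  one_smul i := Function.surjInv_eq hf i
  mul_smul g h _ := (g.2 _ _).1 (Function.surjInv_eq hf _).symm

/-- The action on the classes as a homomorphism. -/
noncomputable def ph {f : α → ι} (hf : f.Surjective) : Wf f →* Perm ι := @toPermHom _ _ _ (act hf)

omit [Fintype α] [DecidableEq α] [Fintype ι] [DecidableEq ι] in
theorem ph_apply {f : α → ι} (hf : f.Surjective) (g : Wf f) (x : α) : ph hf g (f x) = f (g.1 x) :=
  (g.2 _ _).1 (Function.surjInv_eq hf _)

theorem card_Wf {f : α → ι} (hf : f.Surjective) :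
    Nat.card (Wf f) = ((ty f).map fun j => j !).prod * ∏ j ∈ (ty f).toFinset.erase 0, ((ty f).count j)! := by
  rw [← (ph hf).ker.card_mul_index, Subgroup.index_ker]
  congr 1
  · have : Nat.card (ph hf).ker = Nat.card {g : Perm α // f ∘ g = f} := Nat.card_congr
      { toFun := fun g => ⟨g.1.1, funext fun x => (ph_apply hf g.1 x).symm.trans (by rw [g.2]; rfl)⟩
        invFun := fun g => ⟨⟨g.1, mem_W_of f g.1 1 (congrFun g.2)⟩, Equiv.ext fun i => by
          obtain ⟨x, rfl⟩ := hf i
          exact (ph_apply hf _ x).trans (congrFun g.2 x)⟩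
        left_inv := fun _ => rfl
        right_inv := fun _ => rfl }
    rw [this, Nat.card_eq_fintype_card, DomMulAct.stabilizer_card, ty, Multiset.map_map]
    rfl
  · have : Nat.card (ph hf).range = Nat.card {σ : Perm ι // sz f ∘ σ = sz f} := Nat.card_congr
      (Equiv.subtypeEquivRight fun σ => ⟨by
        rintro ⟨g, rfl⟩
        funext i
        have : ph hf g ∘ f = f ∘ g.1 := funext (ph_apply hf g)
        rw [Function.comp, ← sz_comp f (ph hf g) i, this, sz_perm], fun h => by
        obtain ⟨e, he⟩ := ex_equiv (f := σ ∘ f) (g := f) fun i => by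
          obtain ⟨i, rfl⟩ := σ.surjective i
          rw [sz_comp]
          exact (congrFun h i).symm
        refine ⟨⟨e, mem_W_of f e σ he⟩, Equiv.ext fun i => ?_⟩
        obtain ⟨x, rfl⟩ := hf i
        exact (ph_apply hf _ x).trans (he x)⟩)
    rw [this, Nat.card_eq_fintype_card, DomMulAct.stabilizer_card', Finset.erase_eq_of_notMem]
    · exact Finset.prod_congr rfl fun k _ => by rw [count_ty]; rfl
    · rw [Multiset.mem_toFinset, mem_ty]
      rintro ⟨i, e⟩
      exact (sz_pos hf i).ne' e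

theorem index_Wf {f : α → ι} (hf : f.Surjective) : (Wf f).index = (ty f).bell := by
  have h1 := (Wf f).card_mul_index
  have h2 := (ty f).bell_mul_eq
  rw [Nat.card_perm, Nat.card_eq_fintype_card (α := α), ← sum_ty f, ← h2, mul_assoc, ← card_Wf hf, mul_comm] at h1
  exact Nat.eq_of_mul_eq_mul_right Nat.card_pos h1

theorem prime_Wf {f : α → ι} (hf : f.Surjective) {p : ℕ} (hp : p.Prime) (h : p ∣ Nat.card (Wf f)) :
    ∃ k ∈ ty f, p ≤ k ∨ p ≤ (ty f).count k := by
  rw [card_Wf hf, hp.dvd_mul] at h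
  rcases h with h | h
  · obtain ⟨k, c, b⟩ := hp.prime.exists_mem_multiset_map_dvd h
    exact ⟨k, c, .inl (hp.dvd_factorial.1 b)⟩
  · obtain ⟨k, a, b⟩ := (hp.prime.dvd_finsetProd_iff _).1 h
    exact ⟨k, Multiset.mem_toFinset.1 (Finset.mem_of_mem_erase a), .inr (hp.dvd_factorial.1 b)⟩

omit [DecidableEq α] in
theorem conj_ty {κ : Type*} [Fintype κ] [DecidableEq κ] {f : α → ι} {g : α → κ} (h : ty f = ty g) :
    ∃ (σ : ι ≃ κ) (e : Perm α), ∀ x, g (e x) = σ (f x) := by
  obtain ⟨σ, hσ⟩ := ex_equiv (f := sz f) (g := sz g) fun k => by rw [← count_ty, ← count_ty, h]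
  obtain ⟨e, he⟩ := ex_equiv (f := σ ∘ f) (g := g) fun i => by
    obtain ⟨i, rfl⟩ := σ.surjective i
    rw [sz_comp, hσ]
  exact ⟨σ, e, he⟩

end CfsgH8.Hs
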