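import Cfsg.Agent.H8.Hs2

/-! Hall subgroups of symmetric and alternating groups contain elements of order two and three. -/

set_option autoImplicit false

namespace CfsgH8.Hs

open Equiv Equiv.Perm MulAction CfsgH5.Sy CfsgH1.Sn
open scoped Pointwise Nat

variable {α : Type*} [Fintype α] [DecidableEq α] {H X : Subgroup (Perm α)}

omit [Fintype α] in
theorem mem_stab {R : Finset α} {g : Perm α} : g ∈ stabilizer (Perm α) R ↔ ∀ x ∈ R, g x ∈ R :=
  ⟨fun h x hx => (mem_stabilizer_iff.1 h) ▸ Finset.smul_mem_smul_finset hx, fun h =>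
    Finset.eq_of_subset_of_card_le (fun _ b => by
      obtain ⟨y, b', rfl⟩ := Finset.mem_smul_finset.1 b
      exact h y b') (Finset.card_smul_finset g R).ge⟩

theorem stab_of_supp {R : Finset α} {g : Perm α} (h : g.support ⊆ R) : g ∈ stabilizer (Perm α) R :=
  mem_stab.2 fun x hx => by
    by_cases e : g x = x
    · rwa [e]
    · exact h (apply_mem_support.2 (mem_support.2 e))

theorem out {p : ℕ} (hp : p.Prime) (hH : H ≤ X) (h : ¬ p ∣ H.relIndex X) {R : Finset α} (hR : H ≤ stabilizer _ R)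
    {Q : Subgroup (Perm α)} (hQ : IsPGroup p Q) (h1 : Q ≤ X) (h2 : Q ≤ stabilizer _ R) :
    ∃ g ∈ stabilizer (Perm α) R, ∀ y ∈ Q, g * y * g⁻¹ ∈ H := by
  obtain ⟨g, a, b⟩ := conj_in hp (K := X ⊓ stabilizer _ R) (T := H) (fun e => h (e.trans
    ⟨_, (Subgroup.relIndex_mul_relIndex H _ X (le_inf hH hR) inf_le_left).symm⟩)) (le_inf h1 h2) hQ
  exact ⟨g, a.2, b⟩

/-- A cycle of given length. -/
def PC (p : ℕ) (c : Perm α) : Prop := c.IsCycle ∧ c.support.card = p

theorem PC.pow {p : ℕ} {c : Perm α} (h : PC p c) : c ^ p = 1 := by rw [← h.2, ← h.1.orderOf, pow_orderOf_eq_one]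

theorem supp_conj (g c : Perm α) : (g * c * g⁻¹).support = g • c.support := by
  ext x
  simp [support_conj, ← Finset.inv_smul_mem_iff]

theorem PC.conj {p : ℕ} {c : Perm α} (h : PC p c) (g : Perm α) : PC p (g * c * g⁻¹) :=
  ⟨h.1.conj, by rw [supp_conj, Finset.card_smul_finset, h.2]⟩

theorem ex_pc {p : ℕ} (h2 : 2 ≤ p) {R : Finset α} (h : p ≤ R.card) : ∃ c, PC p c ∧ c.support ⊆ R := by
  obtain ⟨c, a, b⟩ := exists_supp (S := R) {p} (by simpa) (by simpa)
  have : c.IsCycle := card_cycleType_eq_one.1 (by simp [a])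
  exact ⟨c, ⟨this, by simpa [this.cycleType] using a⟩, b⟩

theorem cyc (hX : alternatingGroup α ≤ X) {p : ℕ} (hp : p.Prime) (h2 : p ≠ 2) (hH : H ≤ X) (h : ¬ p ∣ H.relIndex X)
    {R : Finset α} (hR : H ≤ stabilizer _ R) (hc : p ≤ R.card) : ∃ c ∈ H, PC p c ∧ c.support ⊆ R := by
  obtain ⟨c, a, b⟩ := ex_pc hp.two_le hc
  obtain ⟨g, d, e⟩ := out hp hH h hR (Q := Subgroup.zpowers c) (IsPGroup.of_card (n := 1) (by
    rw [Nat.card_zpowers, a.1.orderOf, a.2, pow_one])) (Subgroup.zpowers_le_of_mem (hX (mem_alt_of_odd (hp.odd_of_ne_two h2)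
      a.pow))) (Subgroup.zpowers_le_of_mem (stab_of_supp b))
  refine ⟨_, e c (Subgroup.mem_zpowers c), a.conj g, ?_⟩
  rw [supp_conj, ← mem_stabilizer_iff.1 d]
  exact Finset.smul_finset_subset_smul_finset b

theorem special (S : Finset α → Prop) {s q : ℕ} (h1 : ∀ Δ, S Δ → Δ.card = s) (h2 : ∀ Δ, S Δ → ∀ g ∈ H, S (g • Δ))
    (h3 : ∀ Δ Γ, S Δ → S Γ → ∀ x ∈ Δ, x ∈ Γ → Δ = Γ) (h4 : ∀ R : Finset α, H ≤ stabilizer _ R → s ≤ R.card → ∃ Δ, S Δ ∧ Δ ⊆ R)
    (hs : 2 ≤ s) (hq : q.Prime) (hl : s < q) {d : Perm α} (hd : d ∈ H) (hc : PC q d) : False := by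
  classical
  have a : ∀ Δ, S Δ → ∀ x ∈ Δ, x ∉ d.support := fun Δ b x hx c => by
    obtain ⟨e, e1, e2, e3, y, e4, e5⟩ : ∃ e ∈ H, e ^ q = 1 ∧ e x ≠ x ∧ ∃ y ∈ Δ, e y ∈ Δ := by
      obtain ⟨y, y1, y2⟩ := Finset.exists_mem_ne (s := Δ) (by rw [h1 Δ b]; omega) x
      by_cases f : d y = y
      · exact ⟨d, hd, hc.pow, mem_support.1 c, y, y1, by rwa [f]⟩
      · obtain ⟨i, rfl⟩ := hc.1.exists_pow_eq (mem_support.1 c) f
        exact ⟨d ^ i, pow_mem hd i, by rw [pow_right_comm, hc.pow, one_pow], y2, x, hx, y1⟩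
    have f := h3 _ _ (h2 Δ b e e1) b (e y) (Finset.smul_mem_smul_finset e4) e5
    have := prime_le_of_inv hq e2 e3 hx (mem_stab.1 f)
    rw [h1 Δ b] at this
    omega
  obtain ⟨Δ, b, c⟩ := h4 (Finset.univ.filter fun x => ∀ Δ, S Δ → x ∉ Δ) (fun g hg => mem_stab.2 fun x hx => by
    simp only [Finset.mem_filter, Finset.mem_univ, true_and] at hx ⊢
    exact fun Δ b c => hx _ (h2 Δ b g⁻¹ (inv_mem hg)) (Finset.inv_smul_mem_iff.1 (by simpa using c))) (by
      refine (hc.2 ▸ hl.le).trans (Finset.card_le_card fun x hx => ?_)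
      simp only [Finset.mem_filter, Finset.mem_univ, true_and]
      exact fun Δ b c => a Δ b x c hx)
  obtain ⟨x, hx⟩ := Finset.card_pos.1 (show 0 < Δ.card by rw [h1 Δ b]; omega)
  exact (Finset.mem_filter.1 (c hx)).2 Δ b hx

theorem jordan {p : ℕ} (hp : p.Prime) (h2 : p ≠ 2) (ho : ¬ 2 ∣ Nat.card H) : ∀ (n : ℕ) (c d : Perm α), c ∈ H → d ∈ H →
    PC p c → PC p d → (c.support ∪ d.support).card = n → ∀ z ∈ c.support, z ∈ d.support → c.support = d.support := by
  intro n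
  induction n using Nat.strong_induction_on with
  | _ n ih =>
  intro c d hc hd pc pd hn z z1 z2
  by_contra ne
  have k1 := Finset.card_sdiff_add_card c.support d.support
  have k2 := Finset.card_sdiff_add_card d.support c.support
  have k3 := Finset.card_sdiff_add_card_inter c.support d.support
  have k4 : 0 < (c.support ∩ d.support).card := Finset.card_pos.2 ⟨z, Finset.mem_inter.2 ⟨z1, z2⟩⟩
  have k5 : (c.support \ d.support).card ≠ 0 := fun e => ne (Finset.eq_of_subset_of_card_le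
    (Finset.sdiff_eq_empty_iff_subset.1 (Finset.card_eq_zero.1 e)) (by rw [pc.2, pd.2]))
  rw [Finset.union_comm] at k2
  rw [pc.2] at k2 k3
  rw [pd.2] at k1
  by_cases k6 : 1 < (c.support \ d.support).card
  · obtain ⟨x, hx, y, hy, xy⟩ := Finset.one_lt_card.1 k6
    obtain ⟨x1, x2⟩ := Finset.mem_sdiff.1 hx
    obtain ⟨y1, y2⟩ := Finset.mem_sdiff.1 hy
    obtain ⟨i, rfl⟩ := pc.1.exists_pow_eq (mem_support.1 x1) (mem_support.1 y1)
    obtain ⟨w, hw⟩ := Finset.card_pos.1 (show 0 < (d.support \ c.support).card by omega)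
    obtain ⟨w1, w2⟩ := Finset.mem_sdiff.1 hw
    have s1 : c ^ i ∈ stabilizer (Perm α) c.support := pow_mem (stab_of_supp le_rfl) i
    have s2 : ∀ u, u ∉ c.support → (c ^ i) u = u := fun u hu => pow_apply_eq_self_of_apply_eq_self (notMem_support.1 hu) i
    have := ih _ (by
      rw [← hn]
      refine Finset.card_lt_card (Finset.ssubset_iff_of_subset (Finset.union_subset Finset.subset_union_right fun u hu => ?_)
        |>.2 ⟨(c ^ i) x, Finset.mem_union_left _ y1, fun e => (Finset.mem_union.1 e).elim y2 fun e => x2 ?_⟩)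
      · rw [supp_conj] at hu
        obtain ⟨u, b, rfl⟩ := Finset.mem_smul_finset.1 hu
        by_cases f : u ∈ c.support
        · exact Finset.mem_union_left _ (mem_stab.1 s1 u f)
        · exact Finset.mem_union_right _ ((s2 u f).symm ▸ b : (c ^ i) u ∈ _)
      · rw [supp_conj] at e
        exact Finset.smul_mem_smul_finset_iff (c ^ i) |>.1 e) d (c ^ i * d * (c ^ i)⁻¹) hd
        (mul_mem (mul_mem (pow_mem hc i) hd) (inv_mem (pow_mem hc i))) pd (pd.conj _) rfl w w1 (by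
          rw [supp_conj, ← s2 w w2]
          exact Finset.smul_mem_smul_finset w1)
    rw [supp_conj] at this
    have := prime_le_of_inv hp (g := c ^ i) (by rw [pow_right_comm, pc.pow, one_pow]) xy.symm hx fun u hu =>
      Finset.mem_sdiff.2 ⟨mem_stab.1 s1 u (Finset.mem_sdiff.1 hu).1, fun e => (Finset.mem_sdiff.1 hu).2 (by
        rw [this] at e
        exact Finset.smul_mem_smul_finset_iff (c ^ i) |>.1 e)⟩
    omega
  · let G := H ⊓ stabilizer (Perm α) (c.support ∪ d.support)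
    have g1 : c ∈ G := ⟨hc, stab_of_supp Finset.subset_union_left⟩
    have g2 : d ∈ G := ⟨hd, stab_of_supp Finset.subset_union_right⟩
    have g3 : orbit G z = ↑(c.support ∪ d.support) := Set.ext fun u => ⟨by
      rintro ⟨g, rfl⟩
      exact mem_stab.1 g.2.2 z (Finset.mem_union_left _ z1), fun e => by
      rcases Finset.mem_union.1 e with e | e
      · obtain ⟨i, rfl⟩ := pc.1.exists_pow_eq (mem_support.1 z1) (mem_support.1 e)
        exact ⟨⟨c ^ i, pow_mem g1 i⟩, rfl⟩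
      · obtain ⟨i, rfl⟩ := pd.1.exists_pow_eq (mem_support.1 z2) (mem_support.1 e)
        exact ⟨⟨d ^ i, pow_mem g2 i⟩, rfl⟩⟩
    have g4 := (stabilizer G z).index_dvd_card
    rw [index_stabilizer, g3, Set.ncard_coe_finset] at g4
    refine ho (Dvd.dvd.trans ?_ (g4.trans (Subgroup.card_dvd_of_le inf_le_left)))
    have := hp.eq_two_or_odd
    omega

theorem ex_bl {R : Finset α} (h : 4 ≤ R.card) : ∃ (V : Subgroup (Perm α)) (Δ : Finset α),
    IsPGroup 2 V ∧ V ≤ alternatingGroup α ∧ Bl V Δ ∧ Δ ⊆ R ∧ V ≤ stabilizer _ R := by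
  obtain ⟨κ⟩ : Nonempty (Fin 4 ↪ R) := Function.Embedding.nonempty_of_card_le (by simpa)
  let ι : Fin 4 ↪ α := κ.trans (Function.Embedding.subtype _)
  refine ⟨V0.map (viaEmbeddingHom ι), Finset.univ.map ι, IsPGroup.map (H := V0) (fun g => ⟨1, Subtype.ext g.2.1⟩) _,
    (Subgroup.map_mono (K := V0) fun g hg => hg.2).trans (map_alt_le _), ⟨by simp, ?_⟩, fun x hx => ?_, ?_⟩
  · simp only [Finset.forall_mem_map]
    intro a _ b _ c _ d _ e
    refine ⟨swap a b * swap c d, ?_, by rw [map_mul, via_swap, via_swap]⟩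
    have := List.Nodup.of_map ι (l := [a, b, c, d]) e
    exact (by decide +kernel : ∀ a b c d : Fin 4, [a, b, c, d].Nodup →
      (swap a b * swap c d) ^ 2 = 1 ∧ sign (swap a b * swap c d) = 1) a b c d this
  · obtain ⟨i, -, rfl⟩ := Finset.mem_map.1 hx
    exact (κ i).2
  · rintro _ ⟨g, -, rfl⟩
    refine mem_stab.2 fun x hx => ?_
    by_cases e : x ∈ Set.range ι
    · obtain ⟨i, rfl⟩ := e
      rw [viaEmbeddingHom_apply, viaEmbedding_apply]
      exact (κ _).2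
    · rwa [viaEmbeddingHom_apply, viaEmbedding_apply_of_notMem _ _ _ e]

theorem two_three (hX : alternatingGroup α ≤ X) (hH : H ≤ X) {π : Set ℕ} (h1 : ∀ p, p.Prime → p ∣ Nat.card H → p ∈ π)
    (h2 : ∀ p, p.Prime → p ∈ π → ¬ p ∣ H.relIndex X) {p q : ℕ} (hp : p.Prime) (hq : q.Prime) (hl : p < q) (p1 : p ∈ π)
    (q1 : q ∈ π) (hn : q ≤ Fintype.card α) : 2 ∈ π ∧ 3 ∈ π := by
  have := hp.two_le
  obtain ⟨d, d1, d2, -⟩ := cyc hX hq (by omega) hH (h2 q hq q1) (R := Finset.univ) (fun g _ => mem_stab.2 (by simp)) hn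
  have a2 : 2 ∈ π := by
    by_contra e
    have p2 : p ≠ 2 := fun f => e (f ▸ p1)
    refine special (H := H) (fun Δ => ∃ c ∈ H, PC p c ∧ c.support = Δ) (s := p) ?_ ?_ ?_ ?_ this hq hl d1 d2
    · rintro _ ⟨c, -, a, rfl⟩
      exact a.2
    · rintro _ ⟨c, b, a, rfl⟩ g hg
      exact ⟨_, mul_mem (mul_mem hg b) (inv_mem hg), a.conj g, supp_conj g c⟩
    · rintro _ _ ⟨c, b, a, rfl⟩ ⟨d, b', a', rfl⟩
      exact jordan hp p2 (fun f => e (h1 2 Nat.prime_two f)) _ c d b b' a a' rfl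
    · intro R a b
      obtain ⟨c, c1, c2, c3⟩ := cyc hX hp p2 hH (h2 p hp p1) a b
      exact ⟨_, ⟨c, c1, c2, rfl⟩, c3⟩
  refine ⟨a2, by_contra fun e => ?_⟩
  have n3 : ∀ c ∈ H, c ≠ 1 → c ^ 3 ≠ 1 := fun c a b f => e (h1 3 Nat.prime_three (by
    have := Fact.mk Nat.prime_three
    rw [← orderOf_eq_prime f b]
    exact Subgroup.orderOf_dvd_natCard H a))
  have q3 : q ≠ 3 := fun f => e (f ▸ q1)
  have q4 : q ≠ 4 := fun f => by rw [f] at hq; exact absurd hq (by decide)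
  refine special (H := H) (Bl H) (s := 4) (fun _ a => a.1) (fun _ a _ b => a.smul b) (fun Δ Γ a b x x1 x2 => ?_)
    (fun R a b => ?_) (by omega) hq (by omega) d1 d2
  · have k1 : 0 < (Δ ∩ Γ).card := Finset.card_pos.2 ⟨x, Finset.mem_inter.2 ⟨x1, x2⟩⟩
    have k2 : (Δ ∩ Γ).card ≤ 4 := a.1 ▸ Finset.card_le_card Finset.inter_subset_left
    have k3 : ¬ ((Δ ∩ Γ).card = 1 ∨ (Δ ∩ Γ).card = 3) := fun f => by
      obtain ⟨c, c1, c2⟩ := a.three b f
      exact n3 c c1 c2.isCycle.ne_one (by rw [← c2.orderOf, pow_orderOf_eq_one])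
    have k4 : (Δ ∩ Γ).card ≠ 2 := fun f => by
      obtain ⟨c, c1, c2, c3⟩ := a.two b f
      exact n3 c c1 c2 c3
    exact (Finset.eq_of_subset_of_card_le Finset.inter_subset_left (by rw [a.1]; omega)).symm.trans
      (Finset.eq_of_subset_of_card_le Finset.inter_subset_right (by rw [b.1]; omega))
  · obtain ⟨V, Δ, v1, v2, v3, v4, v5⟩ := ex_bl b
    obtain ⟨g, g1, g2⟩ := out Nat.prime_two hH (h2 2 Nat.prime_two a2) a v1 (v2.trans hX) v5
    refine ⟨_, v3.conj g g2, fun x hx => ?_⟩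
    obtain ⟨y, b, rfl⟩ := Finset.mem_map.1 hx
    exact mem_stab.1 g1 y (v4 b)

end CfsgH8.Hs
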