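import Cfsg.Agent.H8.Hs3

/-! Classification of Hall subgroups of symmetric and alternating groups. -/

set_option autoImplicit false

namespace CfsgH8.Hs

open Equiv Equiv.Perm MulAction CfsgH5.Sy CfsgH1.Sn
open scoped Pointwise Nat

variable {α : Type*} [Fintype α] [DecidableEq α] {H X : Subgroup (Perm α)}

/-- The subgroup generated by the three-cycles. -/
def N3 (H : Subgroup (Perm α)) : Subgroup (Perm α) := Subgroup.closure {d : Perm α | d.IsThreeCycle ∧ d ∈ H}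

theorem N3_conj {g k : Perm α} (a : g ∈ H) (hk : k ∈ N3 H) : g * k * g⁻¹ ∈ N3 H :=
  Subgroup.closure_induction (p := fun k _ => g * k * g⁻¹ ∈ N3 H) (fun d b => Subgroup.subset_closure
    ⟨cycleType_conj.trans b.1, mul_mem (mul_mem a b.2) (inv_mem a)⟩)
    (by simp) (fun u v _ _ b e => by simpa [mul_assoc] using mul_mem b e) (fun u _ b => by simpa [mul_assoc] using inv_mem b) hk

theorem AS_le {S : Finset α} {x : α} (m : ∀ y, y ∈ S ↔ y ∈ orbit (N3 H) x) (h2 : 1 < S.card) : 3 ≤ S.card ∧ AS S ≤ H := by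
  let T := {d : Perm S | d.IsThreeCycle ∧ ofSubtype d ∈ H}
  have h1 : ∀ g ∈ N3 H, ∃ g' ∈ Subgroup.closure T, ∀ u : S, (g' u : α) = g u := fun g hg => by
    induction hg using Subgroup.closure_induction with
    | mem d b =>
      by_cases e : ∃ y ∈ d.support, y ∈ S
      · obtain ⟨y, e1, e2⟩ := e
        obtain ⟨e, rfl⟩ := mem_range_ofSubtype_iff.2 (show d.support ⊆ S from fun w e3 => by
          obtain ⟨i, rfl⟩ := b.1.isCycle.exists_pow_eq (mem_support.1 e1) (mem_support.1 e3)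
          exact (m _).2 (mapsTo_smul_orbit (⟨d ^ i, pow_mem (Subgroup.subset_closure b) i⟩ : N3 H) x ((m _).1 e2)))
        exact ⟨e, Subgroup.subset_closure ⟨cycleType_ofSubtype.symm.trans b.1, b.2⟩, fun u => (ofSubtype_apply_coe e u).symm⟩
      · exact ⟨1, one_mem _, fun u => (notMem_support.1 fun f => e ⟨u, f, u.2⟩).symm⟩
    | one => exact ⟨1, one_mem _, fun _ => rfl⟩
    | mul u v _ _ b e =>
      obtain ⟨u', b1, b2⟩ := b
      obtain ⟨v', e1, e2⟩ := e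
      exact ⟨_, mul_mem b1 e1, fun w => by rw [Perm.mul_apply, Perm.mul_apply, b2, e2]⟩
    | inv u _ b =>
      obtain ⟨u', b1, b2⟩ := b
      exact ⟨_, inv_mem b1, fun w => u.injective (by rw [← b2]; simp)⟩
  have h3 : IsPretransitive (Subgroup.closure T) S := ⟨fun u v => by
    obtain ⟨g, e⟩ := (orbit_eq_iff.2 ((m _).1 u.2)).ge ((m _).1 v.2)
    obtain ⟨g', b, c⟩ := h1 g.1 g.2
    exact ⟨⟨g', b⟩, Subtype.ext ((c u).trans e)⟩⟩
  have h4 : T.Nonempty := by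
    by_contra e
    rw [Set.not_nonempty_iff_eq_empty.1 e, Subgroup.closure_empty] at h3
    obtain ⟨u, a, v, b, c⟩ := Finset.one_lt_card.1 h2
    obtain ⟨⟨g, rfl : g = 1⟩, d⟩ := h3.1 ⟨u, a⟩ ⟨v, b⟩
    exact c (congrArg Subtype.val d)
  refine ⟨?_, Subgroup.map_le_iff_le_comap.2 ((trans_three _ (fun _ a => a.1) h4 h3).trans
    ((Subgroup.closure_le _).2 fun _ a => a.2))⟩
  obtain ⟨d, a, -⟩ := h4
  simpa [a.card_support] using d.support.card_le_univ

theorem relIndex_odd (hX : X = ⊤ ∨ X = alternatingGroup α) {W : Subgroup (Perm α)} {a b : α} (h : a ≠ b)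
    (hW : swap a b ∈ W) : W.relIndex X = W.index := by
  rcases hX with rfl | rfl
  · simp
  have : Nontrivial α := ⟨a, b, h⟩
  have h1 := Subgroup.relIndex_mul_index (inf_le_left : W ⊓ alternatingGroup α ≤ _)
  have h2 := Subgroup.relIndex_mul_index (inf_le_right : W ⊓ alternatingGroup α ≤ _)
  have h3 := (alternatingGroup α).relIndex_dvd_index_of_normal W
  rw [Subgroup.inf_relIndex_left] at h1
  rw [Subgroup.inf_relIndex_right, alternatingGroup.index_eq_two] at h2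
  rw [alternatingGroup.index_eq_two, Nat.dvd_prime Nat.prime_two, Subgroup.relIndex_eq_one] at h3
  rw [h3.resolve_left fun e => by simpa [h] using mem_alternatingGroup.1 (e hW)] at h1
  omega

omit [DecidableEq α] in
theorem ex_pair {ι : Type*} [Fintype ι] [DecidableEq ι] {f : α → ι} {k : ℕ} (h : k ∈ ty f) (h2 : 1 < k) :
    ∃ a b, a ≠ b ∧ f a = f b := by
  obtain ⟨i, rfl⟩ := mem_ty.1 h
  obtain ⟨⟨a, c⟩, ⟨b, d⟩, e⟩ := Fintype.exists_pair_of_one_lt_card h2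
  exact ⟨a, b, fun g => e (Subtype.ext g), c.trans d.symm⟩

theorem relIndex_Wf (hX : X = ⊤ ∨ X = alternatingGroup α) {ι : Type*} [Fintype ι] [DecidableEq ι] {f : α → ι}
    (hf : f.Surjective) {k : ℕ} (h : k ∈ ty f) (h2 : 1 < k) : (Wf f).relIndex X = (ty f).bell := by
  obtain ⟨a, b, c, d⟩ := ex_pair h h2
  rw [relIndex_odd hX c (swap_W f d), index_Wf hf]

theorem bell_one {K : ℕ} (h : 2 ≤ K) : ({1, K} : Multiset ℕ).bell = K + 1 := by
  have h1 : (1 : ℕ) ≠ K := by omega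
  have := Multiset.bell_mul_eq {1, K}
  rw [Finset.prod_eq_one (fun j hj => by
    have : j = 1 ∨ j = K := by simpa using Finset.mem_of_mem_erase hj
    rcases this with rfl | rfl <;> simp [h1, h1.symm])] at this
  simp only [Multiset.insert_eq_cons, Multiset.map_cons, Multiset.map_singleton, Multiset.prod_cons, Multiset.prod_singleton,
    Multiset.sum_cons, Multiset.sum_singleton, Nat.factorial_one, one_mul, mul_one, add_comm 1 K, Nat.factorial_succ K] at this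
  exact Nat.eq_of_mul_eq_mul_right (Nat.factorial_pos K) this

/-- The three cases. -/
def Cs (π : Set ℕ) (n : ℕ) (M : Multiset ℕ) : Prop :=
  (n.Prime ∧ (∀ r : ℕ, r.Prime → r ≤ n → (r ∈ π ↔ r < n)) ∧ 4 ≤ n ∧ M = {1, n - 1}) ∨
    (∀ r : ℕ, r.Prime → r ≤ n → (r ∈ π ↔ (r = 2 ∨ r = 3))) ∧ (n = 7 ∧ M = {3, 4} ∨ n = 8 ∧ M = {4, 4})

theorem le_of_hall {K : Subgroup (Perm α)} {π : Set ℕ} (hH : H ≤ K) (hK : K ≤ X)
    (h1 : ∀ p, p.Prime → p ∣ Nat.card K → p ∈ π) (h2 : ∀ p, p.Prime → p ∈ π → ¬ p ∣ H.relIndex X) : H = K := by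
  refine le_antisymm hH (Subgroup.relIndex_eq_one.1 (by_contra fun e => ?_))
  obtain ⟨p, a, b⟩ := Nat.exists_prime_and_dvd e
  exact h2 p a (h1 p a (b.trans (Subgroup.index_dvd_card _))) (b.trans ⟨_, (Subgroup.relIndex_mul_relIndex H K X hH hK).symm⟩)

theorem hall_W (hX : X = ⊤ ∨ X = alternatingGroup α) {ι : Type*} [Fintype ι] [DecidableEq ι] {f : α → ι}
    (hf : f.Surjective) {π : Set ℕ} (h : Cs π (Fintype.card α) (ty f)) :
    (∀ p, p.Prime → p ∣ Nat.card ↥(X ⊓ Wf f) → p ∈ π) ∧ ∀ p, p.Prime → p ∈ π → ¬ p ∣ (X ⊓ Wf f).relIndex X := by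
  rw [Subgroup.inf_relIndex_left]
  have n4 : ∀ p : ℕ, p ≤ 4 → p.Prime → p = 2 ∨ p = 3 := by decide
  have n35 : ∀ p : ℕ, p.Prime → p ∣ 35 → p = 5 ∨ p = 7 := fun p a b =>
    ((a.dvd_mul (m := 5) (n := 7)).1 b).imp (Nat.prime_dvd_prime_iff_eq a (by decide)).1 (Nat.prime_dvd_prime_iff_eq a (by decide)).1
  refine ⟨fun p a b => ?_, fun p a b c => ?_⟩
  · obtain ⟨k, c, d⟩ := prime_Wf hf a (b.trans (Subgroup.card_dvd_of_le inf_le_right))
    have := Multiset.count_le_card k (ty f)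
    generalize (ty f).count k = t at d this
    rcases h with ⟨-, e, e1, e2⟩ | ⟨e, ⟨e1, e2⟩ | ⟨e1, e2⟩⟩ <;> rw [e2] at c this <;> simp at c this
    · exact (e p a (by omega)).2 (by omega)
    · exact (e p a (by omega)).2 (n4 p (by omega) a)
    · exact (e p a (by omega)).2 (n4 p (by omega) a)
  · rcases h with ⟨e0, e, e1, e2⟩ | ⟨e, ⟨e1, e2⟩ | ⟨e1, e2⟩⟩
    · rw [relIndex_Wf hX hf (k := Fintype.card α - 1) (by simp [e2]) (by omega), e2, bell_one (by omega),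
        Nat.sub_add_cancel (by omega), Nat.prime_dvd_prime_iff_eq a e0] at c
      exact absurd ((e p a c.le).1 b) (by omega)
    all_goals
      rw [relIndex_Wf hX hf (k := 4) (by simp [e2]) (by omega), e2] at c
      have := n35 p a (c.trans (by decide +kernel))
      have := (e p a (by omega)).1 b
      omega

omit [DecidableEq α] in
theorem to_bool {ι : Type*} [Fintype ι] [DecidableEq ι] {f : α → ι} (hf : f.Surjective) (h : (ty f).card = 2) :
    ∃ g : α → Bool, g.Surjective ∧ Wf g = Wf f ∧ ty g = ty f := by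
  let σ : ι ≃ Bool := Fintype.equivOfCardEq (by simpa [ty] using h)
  refine ⟨σ ∘ f, σ.surjective.comp hf, Subgroup.ext fun g => ?_, ?_⟩
  · exact forall₂_congr fun x y => iff_congr σ.injective.eq_iff σ.injective.eq_iff
  · rw [ty, ← Finset.map_univ_equiv σ, Finset.map_val, Multiset.map_map, ty]
    exact Multiset.map_congr rfl fun i _ => sz_comp f σ i

theorem Cs.card {π : Set ℕ} {n : ℕ} {M : Multiset ℕ} (h : Cs π n M) : M.card = 2 := by
  rcases h with ⟨-, -, -, rfl⟩ | ⟨-, ⟨-, rfl⟩ | ⟨-, rfl⟩⟩ <;> rfl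

theorem cs_of {π : Set ℕ} {n r : ℕ} {M : Multiset ℕ} (a2 : 2 ∈ π) (a3 : 3 ∈ π) (hr : r.Prime) (r1 : r ∉ π) (r2 : r ≤ n)
    (b2 : ∀ k ∈ M, k = 1 ∨ (3 ≤ k ∧ ∀ q, q.Prime → q ≤ k → q ∈ π)) (b3 : M.count 1 ≤ 2) (b4 : ∃ k ∈ M, 3 ≤ k)
    (b5 : ∀ q, q.Prime → q ∈ π → ¬ q ∣ M.bell) (b7 : M.sum = n) : Cs π n M := by
  have b6 : ∀ k ∈ M, 3 ≤ k → ∀ q, q.Prime → q ≤ k → q ∈ π := fun k a b => ((b2 k a).resolve_left (by omega)).2
  have n8 : ∀ p : ℕ, p ≤ 8 → p.Prime → p = 2 ∨ p = 3 ∨ p = 5 ∨ p = 7 := by decide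
  rcases MC (fun k a => (b2 k a).imp_right And.left) b3 b4 fun k a b q c d => b5 q c (b6 k a b q c d) with
    ⟨K, rfl⟩ | ⟨K, e1, rfl⟩ | rfl | rfl <;> simp at b4 b7 <;> subst b7
  · exact absurd (b6 K (by simp) b4 r hr r2) r1
  · rw [bell_one (by omega)] at b5
    have c := b6 K (by simp) e1
    rw [add_comm]
    refine .inl ⟨by_contra fun d => ?_, fun r a b => ⟨fun d => lt_of_le_of_ne b fun g => b5 r a d (by rw [g]),
      fun d => c r a (by omega)⟩, by omega, rfl⟩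
    have g := Nat.minFac_prime (n := K + 1) (by omega)
    exact b5 _ g (c _ g (Nat.le_of_lt_succ ((Nat.not_prime_iff_minFac_lt (by omega)).1 d))) (Nat.minFac_dvd _)
  all_goals
    refine .inr ⟨fun r a b => ⟨fun d => ?_, by rintro (rfl | rfl) <;> assumption⟩, by simp⟩
    rcases n8 r (by omega) a with rfl | rfl | rfl | rfl <;> first | omega | exact absurd (by decide +kernel) (b5 _ a d)

theorem CL (hX : X = ⊤ ∨ X = alternatingGroup α) (hH : H ≤ X) {π : Set ℕ} (h1 : ∀ p, p.Prime → p ∣ Nat.card H → p ∈ π)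
    (h2 : ∀ p, p.Prime → p ∈ π → ¬ p ∣ H.relIndex X) {p q r : ℕ} (hp : p.Prime) (hq : q.Prime) (hl : p < q) (p1 : p ∈ π)
    (q1 : q ∈ π) (hn : q ≤ Fintype.card α) (hr : r.Prime) (r1 : r ∉ π) (r2 : r ≤ Fintype.card α) :
    ∃ f : α → Bool, f.Surjective ∧ H = X ⊓ Wf f ∧ Cs π (Fintype.card α) (ty f) := by
  classical
  have hA : alternatingGroup α ≤ X := by rcases hX with rfl | rfl <;> simp
  obtain ⟨a2, a3⟩ := two_three hA hH h1 h2 hp hq hl p1 q1 hn
  let f : α → orbitRel.Quotient (N3 H) α := Quotient.mk _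
  have hf : f.Surjective := Quotient.mk_surjective
  have m : ∀ {x y}, f y = f x ↔ y ∈ orbit (N3 H) x := Quotient.eq
  have m' : ∀ x y, y ∈ Finset.univ.filter (fun y => f y = f x) ↔ y ∈ orbit (N3 H) x := fun x y => by simp [m]
  have b1 : H ≤ Wf f := fun g hg x y => by
    have : ∀ g ∈ H, ∀ x y, f x = f y → f (g x) = f (g y) := fun g hg x y e => by
      obtain ⟨k, rfl⟩ := m.1 e
      exact m.2 ⟨⟨_, N3_conj hg k.2⟩, by simp [Subgroup.smul_def]⟩
    exact ⟨this g hg x y, fun e => by simpa using this g⁻¹ (inv_mem hg) _ _ e⟩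
  have b2 : ∀ k ∈ ty f, k = 1 ∨ (3 ≤ k ∧ ∀ q, q.Prime → q ≤ k → q ∈ π) := fun k hk => by
    obtain ⟨i, rfl⟩ := mem_ty.1 hk
    have := sz_pos hf i
    obtain ⟨x, rfl⟩ := hf i
    by_cases e : sz f (f x) = 1
    · exact .inl e
    rw [sz_eq] at *
    obtain ⟨c1, c2⟩ := AS_le (m' x) (by omega)
    refine .inr ⟨c1, fun q c3 c4 => ?_⟩
    by_cases q2 : q = 2
    · rwa [q2]
    obtain ⟨c, c5, c6⟩ := ex_pc c3.two_le c4
    refine h1 q c3 ?_
    rw [← c5.2, ← c5.1.orderOf]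
    exact H.orderOf_dvd_natCard (c2 (mem_AS.2 ⟨c6, mem_alt_of_odd (c3.odd_of_ne_two q2) c5.pow⟩))
  have three : ∀ {c : Perm α}, c ∈ H → PC 3 c → c ∈ N3 H := fun a b =>
    Subgroup.subset_closure ⟨card_support_eq_three_iff.1 b.2, a⟩
  have b3 : (ty f).count 1 ≤ 2 := by
    by_contra e
    let R := Finset.univ.filter fun x => ∀ g ∈ N3 H, g x = x
    obtain ⟨c, c1, c2, c3⟩ := cyc hA Nat.prime_three (by omega) hH (h2 3 Nat.prime_three a3) (R := R)
      (fun g hg => mem_stab.2 fun x hx => Finset.mem_filter.2 ⟨by simp, fun k hk => by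
        simpa [Equiv.symm_apply_eq] using (Finset.mem_filter.1 hx).2 _ (N3_conj (inv_mem hg) hk)⟩) (by
      refine le_trans ?_ (Finset.card_image_le (f := f))
      rw [count_ty, sz_eq] at e
      refine (not_le.1 e).trans_le (Finset.card_le_card fun i hi => ?_)
      obtain ⟨x, rfl⟩ := hf i
      refine Finset.mem_image_of_mem _ (Finset.mem_filter.2 ⟨by simp, fun g hg => ?_⟩)
      have := (Finset.mem_filter.1 hi).2
      rw [sz_eq] at this
      exact Finset.card_le_one.1 this.le _ ((m' _ _).2 ⟨⟨g, hg⟩, rfl⟩) _ (by simp))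
    obtain ⟨x, hx⟩ := c2.1.nonempty_support
    exact mem_support.1 hx ((Finset.mem_filter.1 (c3 hx)).2 c (three c1 c2))
  have b4 : ∃ k ∈ ty f, 3 ≤ k := by
    obtain ⟨c, c1, c2, -⟩ := cyc hA Nat.prime_three (by omega) hH (h2 3 Nat.prime_three a3) (R := Finset.univ)
      (fun g _ => mem_stab.2 (by simp)) (by have := hp.two_le; rw [Finset.card_univ]; omega)
    obtain ⟨x, hx⟩ := c2.1.nonempty_support
    refine ⟨_, mem_ty.2 ⟨f x, rfl⟩, ((b2 _ (mem_ty.2 ⟨f x, rfl⟩)).resolve_left fun e => mem_support.1 hx ?_).1⟩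
    rw [sz_eq] at e
    exact Finset.card_le_one.1 e.le _ ((m' _ _).2 ⟨⟨c, three c1 c2⟩, rfl⟩) _ (by simp)
  have b5 : ∀ q, q.Prime → q ∈ π → ¬ q ∣ (ty f).bell := fun q c1 c2 c3 => by
    obtain ⟨k, d1, d2⟩ := b4
    rw [← relIndex_Wf hX hf d1 (by omega), ← Subgroup.inf_relIndex_left] at c3
    exact h2 q c1 c2 (c3.trans ⟨_, (Subgroup.relIndex_mul_relIndex H _ X (le_inf hH b1) inf_le_left).symm.trans (mul_comm _ _)⟩)
  have b8 := cs_of a2 a3 hr r1 r2 b2 b3 b4 b5 (sum_ty f)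
  obtain ⟨g, g1, g2, g3⟩ := to_bool hf b8.card
  exact ⟨g, g1, g2 ▸ le_of_hall (le_inf hH b1) inf_le_left (hall_W hX hf b8).1 h2, g3 ▸ b8⟩

end CfsgH8.Hs
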