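import Cfsg.Agent.H8.Hs4
import Cfsg.Agent.H1.Hall
import Cfsg.Prelude.Def_HallClasses

/-! Existence and conjugacy of Hall subgroups of symmetric and alternating groups. -/

set_option autoImplicit false

namespace CfsgH8.Hs

open Equiv Equiv.Perm MulAction CfsgH5.Sy CfsgH1.Sn CfsgH1 Cfsg
open scoped Pointwise Nat

section General
variable {G : Type*} [Group G] [Finite G] {π : Set ℕ}

theorem triv_D (h : (∀ r s : ℕ, r.Prime → s.Prime → r ∈ π → s ∈ π → r ∣ Nat.card G → s ∣ Nat.card G → r = s) ∨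
    ∀ r : ℕ, r.Prime → r ∣ Nat.card G → r ∈ π) : IsDPiGroup π G := by
  intro H K hH hK
  rcases h with h | h
  · by_cases e : ∃ p : ℕ, p.Prime ∧ p ∈ π ∧ p ∣ Nat.card G
    · obtain ⟨p, p1, p2, p3⟩ := e
      have := Fact.mk p1
      have a : ∀ L : Subgroup G, IsPiSubgroup π L ↔ IsPGroup p L := fun L => by
        rw [← piNum_singleton_card_iff]
        exact ⟨fun b r c d => h r p c p1 (b r c d) p2 (d.trans L.card_subgroup_dvd_card) p3, fun b r c d => b r c d ▸ p2⟩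
      obtain ⟨g, hg⟩ := exists_smul_eq G (⟨H, (a H).1 hH.1, fun b c => le_antisymm (hH.2 ((a _).2 b) c) c⟩ : Sylow p G)
        ⟨K, (a K).1 hK.1, fun b c => le_antisymm (hK.2 ((a _).2 b) c) c⟩
      exact ⟨g, (congrArg Sylow.toSubgroup hg).symm⟩
    · have a : ∀ L : Subgroup G, IsPiSubgroup π L → L = ⊥ := fun L b => Subgroup.card_eq_one.1 (by_contra fun c => by
        obtain ⟨p, p1, p2⟩ := Nat.exists_prime_and_dvd c
        exact e ⟨p, p1, b p p1 p2, p2.trans L.card_subgroup_dvd_card⟩)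
      exact ⟨1, by rw [a H hH.1, a K hK.1, Subgroup.map_bot]⟩
  · have a : IsPiSubgroup π (⊤ : Subgroup G) := fun r b c => h r b (by simpa using c)
    exact ⟨1, by rw [top_unique (hH.2 a le_top), top_unique (hK.2 a le_top), Subgroup.map_top_of_surjective _ (MulEquiv.surjective _)]⟩

theorem ex_max {K : Subgroup G} (h : IsPiSubgroup π K) : ∃ M, K ≤ M ∧ Maximal (IsPiSubgroup π) M :=
  Finite.exists_le_maximal h

theorem hall_of_D (h : IsDPiGroup π G) {M : Subgroup G} (hM : Maximal (IsPiSubgroup π) M) : IsPiHall π M := by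
  refine ⟨hM.1, fun p a b c => ?_⟩
  have := Fact.mk a
  obtain ⟨P⟩ : Nonempty (Sylow p G) := inferInstance
  obtain ⟨N, d, e⟩ := ex_max (π := π) (K := (P : Subgroup G)) fun r f g => piNum_singleton_card_iff.2 P.2 r f g ▸ b
  obtain ⟨g, rfl⟩ := h M N hM e
  rw [← Subgroup.index_map_equiv M (MulAut.conj g)] at c
  exact P.not_dvd_index (c.trans (Subgroup.index_dvd_of_le d))

theorem C_of_D (h : IsDPiGroup π G) : IsCPiGroup π G := by
  obtain ⟨M, -, b⟩ := ex_max (π := π) (K := (⊥ : Subgroup G)) fun r f g => absurd (by simpa using g) f.ne_one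
  have : ∀ H : Subgroup G, IsPiHall π H → Maximal (IsPiSubgroup π) H := fun H a =>
    ⟨a.1, fun K b c => ((hallIn_top_iff.2 a).eq_of_le b c le_top).le⟩
  exact ⟨⟨M, hall_of_D h b⟩, fun H K c d => h H K (this H c) (this K d)⟩

end General

variable {α : Type*} [Fintype α] [DecidableEq α] {H K X : Subgroup (Perm α)} {π : Set ℕ}

/-- The nontrivial case. -/
def NT (π : Set ℕ) (n : ℕ) : Prop :=
  (∃ r s : ℕ, r.Prime ∧ s.Prime ∧ r ≠ s ∧ r ∈ π ∧ s ∈ π ∧ r ≤ n ∧ s ≤ n) ∧ ∃ r : ℕ, r.Prime ∧ r ≤ n ∧ r ∉ π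

theorem C_of_not {G : Type*} [Group G] [Finite G] {n : ℕ} (h : ¬ NT π n) (hG : Nat.card G ∣ n !) : IsCPiGroup π G := by
  refine C_of_D (triv_D (by_contra fun e => h ?_))
  push Not at e
  obtain ⟨⟨r, s, a, b, c, d, e, f, g⟩, t, h, i, j⟩ := e
  exact ⟨⟨r, s, a, b, g, c, d, a.dvd_factorial.1 (e.trans hG), b.dvd_factorial.1 (f.trans hG)⟩, t, h,
    h.dvd_factorial.1 (i.trans hG), j⟩

theorem CL' (hX : X = ⊤ ∨ X = alternatingGroup α) (h : HallIn π H X) (hn : NT π (Fintype.card α)) :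
    ∃ f : α → Bool, f.Surjective ∧ H = X ⊓ Wf f ∧ Cs π (Fintype.card α) (ty f) := by
  obtain ⟨⟨r, s, a, b, c, d, e, f, g⟩, t, i, j, k⟩ := hn
  obtain ⟨h0, h1, h2⟩ := hallIn_iff.1 h
  rcases lt_or_gt_of_ne c with c | c
  · exact CL hX h0 h1 h2 a b c d e g i k j
  · exact CL hX h0 h1 h2 b a c e d f i k j

theorem Cs.uniq {n : ℕ} {M M' : Multiset ℕ} (h : Cs π n M) (h' : Cs π n M') : M = M' := by
  have p5 : (5 : ℕ).Prime := by decide
  rcases h with ⟨e0, e, e1, rfl⟩ | ⟨e, ⟨e1, rfl⟩ | ⟨e1, rfl⟩⟩ <;>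
    rcases h' with ⟨f0, f, f1, rfl⟩ | ⟨f, ⟨f1, rfl⟩ | ⟨f1, rfl⟩⟩ <;>
    first | rfl | omega | exact absurd ((e 5 p5 (by omega)).symm.trans (f 5 p5 (by omega))) (by omega)

omit [DecidableEq α] in
theorem ex_f {a b : ℕ} (ha : 0 < a) (hb : 0 < b) (h : a + b = Fintype.card α) :
    ∃ f : α → Bool, f.Surjective ∧ ty f = {a, b} := by
  classical
  obtain ⟨A, -, c⟩ := Finset.exists_subset_card_eq (s := (Finset.univ : Finset α)) (n := a) (by rw [Finset.card_univ]; omega)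
  have a1 : sz (fun x => decide (x ∈ A)) true = a := by simp [sz_eq, c]
  have a2 : sz (fun x => decide (x ∈ A)) false = b := by
    have := A.card_compl
    simp only [sz_eq, decide_eq_false_iff_not, ← Finset.mem_compl, Finset.filter_mem_eq_inter, Finset.univ_inter]
    omega
  refine ⟨fun x => decide (x ∈ A), fun i => ?_, by rw [← a1, ← a2]; rfl⟩
  have : 0 < sz (fun x => decide (x ∈ A)) i := by cases i <;> omega
  obtain ⟨x⟩ := Fintype.card_pos_iff.1 this
  exact ⟨x.1, x.2⟩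

theorem ex_hall (hX : X = ⊤ ∨ X = alternatingGroup α) {M : Multiset ℕ} (h : Cs π (Fintype.card α) M) :
    ∃ H, HallIn π H X := by
  obtain ⟨f, a, rfl⟩ : ∃ f : α → Bool, f.Surjective ∧ ty f = M := by
    rcases h with ⟨-, -, e1, rfl⟩ | ⟨-, ⟨e1, rfl⟩ | ⟨e1, rfl⟩⟩ <;> exact ex_f (by omega) (by omega) (by omega)
  exact ⟨_, hallIn_iff.2 ⟨inf_le_left, hall_W hX a h⟩⟩

theorem conj_hall (hX : X = ⊤ ∨ X = alternatingGroup α) (h : HallIn π H X) (h' : HallIn π K X)
    (hn : NT π (Fintype.card α)) : ∃ e ∈ alternatingGroup α, ∀ x, x ∈ K ↔ e⁻¹ * x * e ∈ H := by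
  obtain ⟨f, -, rfl, a⟩ := CL' hX h hn
  obtain ⟨g, -, rfl, b⟩ := CL' hX h' hn
  obtain ⟨σ, e, c⟩ := conj_ty (a.uniq b)
  obtain ⟨e, d, c⟩ : ∃ e ∈ alternatingGroup α, ∀ x, g (e x) = σ (f x) := by
    obtain ⟨u, v, i, j⟩ : ∃ u v, u ≠ v ∧ f u = f v := by
      rcases a with ⟨-, -, e1, a⟩ | ⟨-, ⟨e1, a⟩ | ⟨e1, a⟩⟩
      · exact ex_pair (k := Fintype.card α - 1) (by simp [a]) (by omega)
      all_goals exact ex_pair (k := 4) (by simp [a]) (by omega)
    rcases Int.units_eq_one_or (sign e) with s | s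
    · exact ⟨e, s, c⟩
    · exact ⟨e * swap u v, mem_alternatingGroup.2 (by simp [s, i]), fun x => by rw [Perm.mul_apply, c, f_swap f j]⟩
  have : X.Normal := by rcases hX with rfl | rfl <;> infer_instance
  refine ⟨e, d, fun x => and_congr ⟨fun a => by simpa using this.conj_mem x a e⁻¹, fun a => by
    simpa [mul_assoc] using this.conj_mem _ a e⟩ (e.forall_congr_right.symm.trans (forall_congr' fun u =>
      e.forall_congr_right.symm.trans (forall_congr' fun v => ?_)))⟩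
  rw [← σ.injective.eq_iff (a := f ((e⁻¹ * x * e) u)), ← σ.injective.eq_iff (a := f u), ← c, ← c, ← c, ← c]
  simp

theorem C_perm (h : IsEPiGroup π (Perm α)) : IsCPiGroup π (Perm α) := by
  by_cases hn : NT π (Fintype.card α)
  · refine ⟨h, fun H K a b => ?_⟩
    obtain ⟨e, -, c⟩ := conj_hall (.inl rfl) (hallIn_top_iff.2 a) (hallIn_top_iff.2 b) hn
    exact ⟨e, Subgroup.ext fun x => (c x).trans (by rw [Subgroup.mem_map_equiv]; rfl)⟩
  · exact C_of_not hn (by simp [Fintype.card_perm])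

theorem card_alt_dvd : Nat.card (alternatingGroup α) ∣ (Fintype.card α)! := by
  simpa [Fintype.card_perm] using (alternatingGroup α).card_subgroup_dvd_card

theorem C_alt (h : IsEPiGroup π (alternatingGroup α)) : IsCPiGroup π (alternatingGroup α) := by
  by_cases hn : NT π (Fintype.card α)
  · refine ⟨h, fun H K a b => ?_⟩
    obtain ⟨e, d, c⟩ := conj_hall (.inr rfl) (hallIn_top_iff.2 a).map_subtype (hallIn_top_iff.2 b).map_subtype hn
    refine ⟨⟨e, d⟩, Subgroup.ext fun x => Iff.trans ?_ Subgroup.mem_map_equiv.symm⟩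
    rw [← Subgroup.mem_map_iff_mem (alternatingGroup α).subtype_injective, c,
      ← Subgroup.mem_map_iff_mem (alternatingGroup α).subtype_injective]
    rfl
  · exact C_of_not hn card_alt_dvd

theorem hall_inf (h : IsPiHall π H) : IsPiHall π (H.subgroupOf (alternatingGroup α)) := by
  rw [← Subgroup.inf_subgroupOf_right]
  exact hallIn_top_iff.1 ((hallIn_top_iff.2 h).inf_normal _).subgroupOf_top

theorem E_iff : IsEPiGroup π (Perm α) ↔ IsEPiGroup π (alternatingGroup α) := by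
  refine ⟨fun ⟨H, a⟩ => ⟨_, hall_inf a⟩, fun ⟨H, a⟩ => ?_⟩
  by_cases hn : NT π (Fintype.card α)
  · obtain ⟨f, -, -, b⟩ := CL' (.inr rfl) (hallIn_top_iff.2 a).map_subtype hn
    obtain ⟨K, c⟩ := ex_hall (.inl rfl) b
    exact ⟨K, hallIn_top_iff.1 c⟩
  · exact (C_of_not hn (by simp [Fintype.card_perm])).1

end CfsgH8.Hs
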