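import Cfsg.Agent.H8.FC6
import Cfsg.Agent.H8.Zsig
import Cfsg.Agent.H8.GL2a
import Cfsg.Agent.H8.Klein
import Cfsg.Agent.H1.BG3a

/-! Linear groups transitive on the non-zero vectors. -/

set_option autoImplicit false
open Subgroup Cfsg CfsgH2 CfsgH1 CfsgH3 CfsgH4 Function Module MulAction
open scoped commutatorElement

namespace CfsgH8.Hu
open FC

variable {G : Type*} [Group G] {A H K N P Q S T U E : Subgroup G} {a b x y z g : G} {m n p q r u : ℕ}
variable {V : Type*} [AddCommGroup V] [DistribMulAction G V] {W : AddSubgroup V}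

/-- subgroups acting freely on the non-zero vectors. -/
def Fr (V : Type*) [AddCommGroup V] [DistribMulAction G V] (K : Subgroup G) : Prop :=
  ∀ g ∈ K, ∀ v : V, g • v = v → g = 1 ∨ v = 0

/-- invariant subgroups. -/
def Iv (K : Subgroup G) (W : AddSubgroup V) : Prop := ∀ g ∈ K, ∀ v ∈ W, g • v ∈ W

/-- irreducible subgroups. -/
def Irr (V : Type*) [AddCommGroup V] [DistribMulAction G V] (K : Subgroup G) : Prop :=
  ∀ W : AddSubgroup V, Iv K W → W = ⊥ ∨ W = ⊤

/-- semilinear groups of dimension one. -/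
def SL1 (G V : Type*) [Group G] [AddCommGroup V] [DistribMulAction G V] : Prop :=
  ∃ (F : Type) (_ : Field F) (_ : Fintype F) (e : V ≃+ F),
    ∀ g : G, ∃ (a : F) (σ : F ≃+* F), ∀ v : V, e (g • v) = a * σ (e v)

theorem Fr.mono (h : Fr V K) (l : H ≤ K) : Fr V H := fun g hg => h g (l hg)

theorem Iv.mono (h : Iv K W) (l : H ≤ K) : Iv H W := fun g hg => h g (l hg)

theorem Irr.mono (h : Irr V H) (l : H ≤ K) : Irr V K := fun W i => h W (i.mono l)

theorem Fr.card_dvd [Finite V] (h : Fr V K) (i : Iv K W) : o[K] ∣ Nat.card W - 1 := by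
  let X : SubMulAction K V := ⟨W \ {0}, fun g v hv => ⟨i g g.2 v hv.1, fun e => hv.2
    ((smul_eq_zero_iff_eq g).1 e)⟩⟩
  have e := Nat.card_congr (selfEquivOrbitsQuotientProd (G := K) (X := X) fun v => eq_bot_iff.2
    fun g hg => Subtype.ext ((h g g.2 v (congrArg Subtype.val hg)).resolve_right v.2.2))
  rw [Nat.card_prod] at e
  have : Nat.card X = Nat.card W - 1 := Set.ncard_sdiff_singleton_of_mem W.zero_mem
  exact this ▸ Dvd.intro_left _ e.symm

/-- The action on an abelian group, written multiplicatively. -/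
def toAut (G V : Type*) [Group G] [AddCommGroup V] [DistribMulAction G V] :
    G →* MulAut (Multiplicative V) where
  toFun g := AddEquiv.toMultiplicative (DistribMulAction.toAddEquiv V g)
  map_one' := MulEquiv.ext fun v => one_smul G v.toAdd
  map_mul' g h := MulEquiv.ext fun v => mul_smul g h v.toAdd

theorem Fr.fc [Finite G] [Finite V] [Nontrivial V] (h : Fr V K) : FC ℂ K :=
  fc_of_aut ((toAut G V).comp K.subtype) fun g g1 v e =>
    (h g g.2 v.toAdd e).resolve_left fun e => g1 (Subtype.ext e)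

theorem semilin [Finite V] [Nontrivial V] [A.Normal] (hA : Ab[A]) (i : Irr V A) : SL1 G V := by
  let ρ := DistribMulAction.toAddMonoidEnd G V
  have h0 := exists_field_of_irreducible_add (ρ '' A) (by
    rintro _ ⟨a, ha, rfl⟩ _ ⟨b, hb, rfl⟩
    rw [← map_mul, comm_of_isMulComm hA ha hb, map_mul]) fun W hW => i W fun g hg => hW _ ⟨g, hg, rfl⟩
  generalize hR : Subring.closure (ρ '' A) = R at h0
  obtain ⟨hf, ev, hb⟩ := h0
  letI := hf.toField
  haveI : Finite R := Finite.of_equiv _ ev.toEquiv.symm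
  have c : ∀ g : G, ∀ r ∈ R, ρ g * r * ρ g⁻¹ ∈ R := fun g r hr => by
    subst hR
    induction hr using Subring.closure_induction with
    | mem x hx =>
      obtain ⟨x, hx, rfl⟩ := hx
      exact (by simp only [map_mul] : ρ (g * x * g⁻¹) = ρ g * ρ x * ρ g⁻¹) ▸
        Subring.subset_closure ⟨_, Normal.conj_mem inferInstance _ hx g, rfl⟩
    | zero => simp
    | one => simp [← map_mul]
    | add x y _ _ h1 h2 => rw [mul_add, add_mul]; exact add_mem h1 h2
    | neg x _ h1 => rw [mul_neg, neg_mul]; exact neg_mem h1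
    | mul x y _ _ h1 h2 =>
      convert mul_mem h1 h2 using 1
      simp only [mul_assoc]
      rw [← mul_assoc (ρ g⁻¹), ← map_mul, inv_mul_cancel, map_one, one_mul]
  let φ := (Shrink.ringEquiv.{0} R).symm
  haveI : Finite (Shrink.{0} R) := Finite.of_equiv _ φ.toEquiv
  refine ⟨Shrink.{0} R, inferInstance, Fintype.ofFinite _, ev.symm.trans φ.toAddEquiv, fun g => ?_⟩
  have t : ∀ (g : G) r, ρ g⁻¹ * (ρ g * r) = r := fun g r => by
    rw [← mul_assoc, ← map_mul, inv_mul_cancel, map_one, one_mul]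
  let σ : R ≃+* R :=
    { toFun := fun r => ⟨_, c g r r.2⟩
      invFun := fun r => ⟨_, c g⁻¹ r r.2⟩
      left_inv := fun r => Subtype.ext (by simp only [mul_assoc, t, ← map_mul]; simp)
      right_inv := fun r => Subtype.ext (by
        have := t g⁻¹; simp only [inv_inv] at this
        simp only [mul_assoc, inv_inv, this, ← map_mul]; simp)
      map_mul' := fun r s => Subtype.ext (by simp [mul_assoc, t])
      map_add' := fun r s => Subtype.ext (by simp [mul_add, add_mul]) }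
  refine ⟨φ (ev.symm (g • ev 1)), (φ.symm.trans σ).trans φ, fun v => ?_⟩
  obtain ⟨r, rfl⟩ := ev.surjective v
  have : g • ev r = ev (σ r * ev.symm (g • ev 1)) := by
    rw [hb]
    change _ = g • r.1 (g⁻¹ • ev (ev.symm (g • ev 1)))
    rw [AddEquiv.apply_symm_apply, inv_smul_smul, ← hb, mul_one]
  rw [this, mul_comm]
  simp

/-- the vectors fixed by a subgroup. -/
def Fx (V : Type*) [AddCommGroup V] [DistribMulAction G V] (K : Subgroup G) : AddSubgroup V where
  carrier := {v | ∀ g ∈ K, g • v = v}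
  zero_mem' := fun g _ => smul_zero g
  add_mem' := fun h1 h2 g hg => by rw [smul_add, h1 g hg, h2 g hg]
  neg_mem' := fun h g hg => by rw [smul_neg, h g hg]

theorem Fx_iv (h : H ≤ N[K]) : Iv H (Fx V K) := fun g hg v hv k hk => by
  rw [← inv_smul_eq_iff, smul_smul, smul_smul]; exact hv _ (conj_mem_of_norm' (h hg) hk)

theorem mem_Fx {v : V} (h : g • v = v) : v ∈ Fx V (zpowers g) := fun _ hk =>
  (zpowers_le.2 (mem_stabilizer_iff.2 h) : _ ≤ stabilizer G v) hk

variable [Finite G] [Finite V]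

theorem Fx_modEq [Fact p.Prime] (h : IsPGroup p K) : Nat.card V ≡ Nat.card (Fx V K) [MOD p] :=
  (h.card_modEq_card_fixedPoints V).trans (by
    rw [show MulAction.fixedPoints K V = Fx V K from Set.ext fun v => ⟨fun h g hg => h ⟨g, hg⟩,
      fun h g => h g g.2⟩]; rfl)

theorem amb (ex : ∀ v : V, q • v = 0) : ∃ (X : Type (max u_1 u_2)) (_ : Group X) (_ : Finite X) (M : Subgroup X)
    (_ : M.Normal) (j : G →* X), Injective j ∧ IsElementaryAbelian q M ∧ o[M] = Nat.card V ∧
      (∀ g, j g ∈ C[M] → ∀ v : V, g • v = v) ∧ ∀ K, Fx V K = ⊥ → M ⊓ C[map j K] = ⊥ := by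
  obtain ⟨X, _, _, i, j, hi, hj, c, nn, -, -⟩ := exists_ambient (toAut G V)
  have k : ∀ (g : G) v, i v * j g = j g * i v → g • v.toAdd = v.toAdd := fun g v e => by
    have := c g v
    rw [← e, mul_inv_cancel_right] at this
    exact (hi this).symm
  refine ⟨X, inferInstance, inferInstance, _, nn, j, hj, elem_map i ⟨isMulComm_iff.2 fun a _ b _ => mul_comm a b,
    fun a _ => ex a.toAdd⟩, by rw [card_map_of_injective hi, card_top]; rfl,
    fun g e v => k g (.ofAdd v) (mem_cent_iff.1 e _ ⟨_, mem_top _, rfl⟩), fun K e => eq_bot_iff.2 ?_⟩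
  rintro _ ⟨⟨v, -, rfl⟩, hv⟩
  have : v.toAdd ∈ Fx V K := fun g hg => k g v (mem_cent_iff.1 hv _ ⟨g, hg, rfl⟩).symm
  rw [e, AddSubgroup.mem_bot] at this
  rw [show v = 1 from this, map_one]
  exact one_mem _

omit [Finite G] in
theorem card_pow (hq : q.Prime) (ex : ∀ v : V, q • v = 0) (W : AddSubgroup V) : ∃ n, Nat.card W = q ^ n := by
  haveI := Fact.mk hq
  exact (IsPGroup.iff_card (G := Multiplicative W)).1
    fun v => ⟨1, by rw [pow_one]; exact Subtype.ext (ex v.toAdd.1)⟩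

/-- faithful linear groups transitive on the non-zero vectors. -/
structure TR (q : ℕ) (G V : Type*) [Group G] [AddCommGroup V] [DistribMulAction G V] : Prop where
  hq : q.Prime
  ex : ∀ v : V, q • v = 0
  fa : ∀ g : G, (∀ v : V, g • v = v) → g = 1
  tr : ∀ v w : V, v ≠ 0 → w ≠ 0 → ∃ g : G, g • v = w
  nt : Nontrivial V

theorem mem_fit [Group.IsSolvable G] (h : ∀ (p : ℕ) [Fact p.Prime], O[{p}, (⊤ : Subgroup G)] ≠ ⊥ → T ≤ C[O[{p}, ⊤]]) :
    T ≤ F[⊤] := by
  refine (le_inf le_top (le_centralizer_iff.1 (fit_le_of_cores fun p _ _ => ?_))).trans (cent_fit_le inferInstance)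
  by_cases e : O[{p}, (⊤ : Subgroup G)] = ⊥
  · exact e ▸ bot_le
  · exact le_centralizer_iff.1 (h p e)

namespace TR

omit [Finite G] [Finite V] in
theorem irr (h : TR q G V) : Irr V (⊤ : Subgroup G) := fun W i => or_iff_not_imp_left.2 fun e => by
  obtain ⟨⟨w, hw⟩, w0⟩ := AddSubgroup.ne_bot_iff_exists_ne_zero.1 e
  refine eq_top_iff.2 fun v _ => ?_
  by_cases v0 : v = 0
  · exact v0 ▸ W.zero_mem
  · obtain ⟨g, rfl⟩ := h.tr w v (by simpa using w0) v0
    exact i g trivial w hw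

omit [Finite G] [Finite V] in
theorem Fx_top (h : TR q G V) (e : Fx V K = ⊤) : K = ⊥ :=
  eq_bot_iff.2 fun g hg => h.fa g fun v => (e.ge (AddSubgroup.mem_top v)) g hg

theorem dvd (h : TR q G V) [Fact p.Prime] [N.Normal] (hN : IsPGroup p N) (h0 : N ≠ ⊥) : p ∣ Nat.card V - 1 := by
  have := Fx_modEq (V := V) hN
  rw [(h.irr _ (Fx_iv le_normalizer_of_normal)).resolve_right (mt h.Fx_top h0), AddSubgroup.card_bot] at this
  exact (Nat.modEq_iff_dvd' Nat.card_pos).1 this.symm

omit [Finite G] in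
theorem card (h : TR q G V) : ∃ n, 0 < n ∧ Nat.card V = q ^ n := by
  obtain ⟨n, e⟩ := card_pow h.hq h.ex ⊤
  rw [AddSubgroup.card_top] at e
  haveI := h.nt
  exact ⟨n, Nat.pos_of_ne_zero fun z => (Finite.one_lt_card (α := V)).ne' (by rw [e, z, pow_zero]), e⟩

omit [Finite G] in
theorem ne (h : TR q G V) (d : p ∣ Nat.card V - 1) : q ≠ p := by
  rintro rfl
  obtain ⟨n, n0, e⟩ := h.card
  exact h.hq.ne_one (Nat.dvd_one.1 ((Nat.dvd_add_right d).1 (by
    rw [Nat.sub_add_cancel Nat.card_pos, e]; exact dvd_pow_self _ n0.ne')))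

omit [Finite G] in
theorem card_eq (h : TR q G V) {v : V} (v0 : v ≠ 0) : (stabilizer G v).index = Nat.card V - 1 := by
  rw [index_stabilizer, show orbit G v = Set.univ \ {0} from Set.ext fun w => ⟨by
    rintro ⟨g, rfl⟩; exact ⟨trivial, mt (smul_eq_zero_iff_eq g).1 v0⟩, fun e => h.tr v w v0 e.2⟩,
    Set.ncard_sdiff_singleton_of_mem (Set.mem_univ _), Set.ncard_univ]

omit [Finite G] in
theorem card_dvd (h : TR q G V) : Nat.card V - 1 ∣ Nat.card G := by
  haveI := h.nt
  obtain ⟨v, v0⟩ := exists_ne (0 : V)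
  exact h.card_eq v0 ▸ index_dvd_card _

omit [Finite G] in
theorem le (h : TR q G V) (e : Nat.card V = q ^ n) (c : Nat.card W = q ^ m) : m ≤ n :=
  (Nat.pow_le_pow_iff_right h.hq.one_lt).1 (by rw [← c, ← e]; exact W.card_le_card_addGroup)

theorem odd (h : TR q G V) [hu : Fact u.Prime] [hr : Fact r.Prime] (uq : q ≠ u) (rq : q ≠ r) (ru : u ≠ r)
    (u2 : u ≠ 2) (r2 : r ≠ 2) (o : o[T] = u) (pE : IsPGroup r E) (n : T ≤ N[E]) (f0 : Fx V T = ⊥) : T ≤ C[E] := by
  haveI := Fact.mk h.hq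
  obtain ⟨X, _, _, M, _, j, hj, e, -, c, f⟩ := amb (G := G) h.ex
  have k : ∀ p : ℕ, p.Prime → p ≠ u → p ≠ r → ¬ p ∣ o[map j E ⊔ map j T] := fun p hp h1 h2 d => by
    rcases hp.dvd_mul.1 (d.trans (CfsgH2.card_sup_dvd (.inr (map_le_norm_map j n)))) with d | d
    · obtain ⟨k, hk⟩ := exists_card_eq_pow (pE.map j)
      exact h2 ((Nat.prime_dvd_prime_iff_eq hp hr.out).1 (hp.dvd_of_dvd_pow (hk ▸ d)))
    · exact h1 ((Nat.prime_dvd_prime_iff_eq hp hu.out).1 (by rwa [card_map_of_injective hj, o] at d))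
  have o' : o[map j T] = u := (card_map_of_injective hj).trans o
  have := bg34 (o' ▸ hu.out) (map_le_norm_map j n) (coprime_of_not_dvd (o' ▸ fun d => ru
    ((Nat.prime_dvd_prime_iff_eq hr.out hu.out).1 d).symm) (pE.map j)) (isSolvable_of_pgroup (pE.map j))
    (Nat.odd_iff.2 (Nat.two_dvd_ne_zero.1 (k 2 Nat.prime_two u2.symm r2.symm))) le_normalizer_of_normal
    (coprime_of_not_dvd (k q h.hq uq rq) (elem_pgroup e)) (f T f0)
  rw [← map_commutator] at this
  exact le_centralizer_iff.1 (comm_eq_bot_iff.1 (eq_bot_iff.2 fun g hg => h.fa g (c g (this ⟨g, hg, rfl⟩))))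

theorem ppd (h : TR q G V) [Group.IsSolvable G] (e : Nat.card V = q ^ n) (n1 : 1 < n) (hu : u.Prime)
    (o : orderOf (q : ZMod u) = n) (H : ∀ U T : Subgroup G, Syl u U ⊤ → Cyc[U] → T ≤ U → o[T] = u →
      Fr V C[T] → q ≠ 2 → T ≤ C[O[{2}, ⊤]]) : SL1 G V := by
  haveI := Fact.mk hu
  haveI := h.nt
  have q0 := h.hq.pos
  have d : u ∣ Nat.card V - 1 := e ▸ (dvd_iff_ord q0).2 o.dvd
  have u2 : u ≠ 2 := by
    have := Nat.le_of_dvd (by have := hu.two_le; omega) (ord_dvd_sub hu (o ▸ n1.le)); omega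
  obtain ⟨U, hU⟩ := exists_syl u (⊤ : Subgroup G)
  obtain ⟨T, l, c, oT⟩ := exists_central_card_p hU.pg le_normalizer (hU.dvd_card (card_top (G := G) ▸ d.trans h.card_dvd))
  have t0 := ne_bot_of_card_prime (oT ▸ hu)
  have f0 : Fx V T = ⊥ := by
    obtain ⟨k, hk⟩ := card_pow h.hq h.ex (Fx V T)
    obtain ⟨s, rfl⟩ := Nat.exists_eq_add_of_le (h.le e hk)
    have := Fx_modEq (V := V) (hU.pg.to_le l)
    rw [e, hk, pow_add] at this
    have := Nat.ModEq.cancel_left_of_coprime (((Nat.coprime_primes hu h.hq).2 (h.ne d).symm).pow_right k)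
      (this.trans (by rw [mul_one] : q ^ k ≡ q ^ k * 1 [MOD u]))
    have := o ▸ (dvd_iff_ord q0).1 ((Nat.modEq_iff_dvd' (Nat.one_le_pow _ _ q0)).1 this.symm)
    rcases Nat.eq_zero_or_pos s with rfl | s0
    · exact absurd (h.Fx_top (AddSubgroup.eq_top_of_card_eq _ (hk.trans e.symm))) t0
    · have := Nat.le_of_dvd s0 this
      exact AddSubgroup.card_eq_one.1 (by rw [hk, show k = 0 by omega, pow_zero])
  have fT : Fr V T := fun g hg v e => or_iff_not_imp_left.2 fun g1 =>
    AddSubgroup.mem_bot.1 (f0.le (zpowers_eq_of_prime (oT ▸ hu) hg g1 ▸ mem_Fx e))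
  have iT : Irr V T := fun W i => by
    obtain ⟨k, hk⟩ := card_pow h.hq h.ex W
    have := fT.card_dvd i
    rw [oT, hk, dvd_iff_ord q0, o] at this
    rcases Nat.eq_zero_or_pos k with rfl | k0
    · exact .inl (AddSubgroup.card_eq_one.1 hk)
    · exact .inr (AddSubgroup.eq_top_of_card_eq _ (by rw [hk, e, (h.le e hk).antisymm (Nat.le_of_dvd k0 this)]))
  have fC : Fr V C[T] := fun g hg v e => (iT _ (Fx_iv (le_norm_of_le_cent (by
    rw [cent_zpowers, le_cent1_iff]; exact hg)))).symm.imp (fun t => by simpa using h.Fx_top t)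
      fun t => AddSubgroup.mem_bot.1 (t.le (mem_Fx e))
  have cU : Cyc[U] := by
    have := (fC.mono (le_centralizer_iff.1 c)).fc.cyc_odd u2 (hU.pg.to_subgroup ⊤)
    exact isCyclic_of_surjective _ topEquiv.surjective
  have lF : T ≤ F[⊤] := mem_fit fun p hp p0 => by
    have qp := h.ne (h.dvd isPGroup_piCoreOf p0)
    by_cases pu : u = p
    · subst pu; exact c.trans (cent_anti hU.pCoreOf_le)
    by_cases p2 : p = 2
    · subst p2; exact H U T hU cU l oT fC qp
    · exact h.odd (h.ne d) qp pu u2 p2 oT isPGroup_piCoreOf le_normalizer_of_normal f0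
  have lO : T ≤ O[{u}, ⊤] := core_fit (p := u) (H := (⊤ : Subgroup G)) ▸
    nil_le_core fit_nil lF (isPGroup_iff_piN.1 (hU.pg.to_le l))
  haveI : T.Normal := normal_of_top_le_norm (le_normalizer_of_normal.trans
    (norm_le_norm_of_cyclic (CfsgH2.isCyclic_of_le cU hU.pCoreOf_le) lO))
  exact semilin (isMulComm_of_le_cent (l.trans (le_centralizer_iff.1 c))) iT

end TR

end CfsgH8.Hu
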