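import Cfsg.Agent.H8.Hup1

/-! Solvable linear groups transitive on the non-zero vectors: dimensions one and two, and `2 ^ 6` vectors. -/

set_option autoImplicit false
open Subgroup Cfsg CfsgH2 CfsgH1 CfsgH3 CfsgH4 Function Module MulAction Matrix
open scoped commutatorElement

namespace CfsgH8.Hu
open FC

variable {G : Type*} [Group G] {A H K N P Q S T U E : Subgroup G} {a b x y z g : G} {m n p q r u : ℕ}
variable {V : Type*} [AddCommGroup V] [DistribMulAction G V] {W : AddSubgroup V} [Finite V]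

theorem coord [hq : Fact q.Prime] (ex : ∀ v : V, q • v = 0) (e : Nat.card V = q ^ n) :
    ∃ (ε : V ≃+ (Fin n → ZMod q)) (ψ : G →* GL (Fin n) (ZMod q)), ∀ g v, ε (g • v) = (ψ g).1 *ᵥ ε v := by
  obtain ⟨_⟩ : Nonempty (Module (ZMod q) V) := ⟨AddCommGroup.zmodModule ex⟩
  haveI : Module.Finite (ZMod q) V := Module.Finite.of_finite
  have d : finrank (ZMod q) V = n := by
    have := Module.natCard_eq_pow_finrank (K := ZMod q) (V := V)
    rw [e, Nat.card_zmod] at this
    exact (Nat.pow_right_injective hq.out.two_le this).symm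
  let B := finBasisOfFinrankEq (ZMod q) V d
  let L : G →* Module.End (ZMod q) V :=
    { toFun g := (DistribSMul.toAddMonoidHom V g).toZModLinearMap q
      map_one' := LinearMap.ext fun v => one_smul G v
      map_mul' g h := LinearMap.ext fun v => mul_smul g h v }
  refine ⟨B.equivFun.toAddEquiv, ((LinearMap.toMatrixAlgEquiv B).toMulEquiv.toMonoidHom.comp L).toHomUnits, fun g v => ?_⟩
  exact (LinearMap.toMatrix_mulVec_repr B B (L g) v).symm

theorem dim1 [Nontrivial V] (h : (Nat.card V).Prime) : SL1 G V :=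
  haveI := Fact.mk h
  semilin (A := ⊥) inferInstance fun W _ => W.eq_bot_or_eq_top_of_prime_card

theorem card_aut_dvd {M : Type*} [Group M] [Finite M] : Nat.card (MulAut M) ∣ (Nat.card M - 1).factorial := by
  classical
  have := Fintype.ofFinite M
  have i : Function.Injective (MonoidHom.mk' (M := MulAut M) (fun φ => Equiv.Perm.subtypePerm
      φ.toEquiv (p := fun v => ¬ v = 1) fun _ => φ.map_eq_one_iff.not) fun _ _ => rfl) := by
    refine (injective_iff_map_eq_one _).2 fun φ e => MulEquiv.ext fun v => ?_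
    by_cases h1 : v = 1
    · rw [h1, map_one, map_one]
    · exact congrArg Subtype.val (DFunLike.congr_fun e ⟨v, h1⟩)
  refine (card_dvd_of_injective _ i).trans ?_
  rw [Nat.card_eq_fintype_card, Fintype.card_perm, Fintype.card_subtype_compl,
    Fintype.card_subtype_eq, ← Nat.card_eq_fintype_card]

theorem index_cent_dvd (A : Subgroup G) [A.Normal] : C[A].index ∣ Nat.card (MulAut A) := by
  have : (MulAut.conjNormal (H := A)).ker = C[A] := by
    ext g
    rw [MonoidHom.mem_ker, mem_centralizer_iff]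
    exact ⟨fun h a ha => (mul_inv_eq_iff_eq_mul.1 (show g * a * g⁻¹ = a from
      (congrArg Subtype.val (DFunLike.congr_fun h ⟨a, ha⟩) :))).symm,
      fun h => MulEquiv.ext fun a => Subtype.ext (mul_inv_eq_iff_eq_mul.2 (h a a.2).symm)⟩
  rw [← this, index_ker]; exact card_subgroup_dvd_card _

variable [Finite G]

namespace TR

omit [Finite G] in
theorem coord (h : TR q G V) [Fact q.Prime] (e : Nat.card V = q ^ n) :
    ∃ (ε : V ≃+ (Fin n → ZMod q)) (ψ : G →* GL (Fin n) (ZMod q)), Injective ψ ∧ ∀ g v, ε (g • v) = (ψ g).1 *ᵥ ε v := by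
  obtain ⟨ε, ψ, c⟩ := Hu.coord (G := G) h.ex e
  exact ⟨ε, ψ, (injective_iff_map_eq_one ψ).2 fun g e => h.fa g fun v => ε.injective (by simp [c, e]), c⟩

omit [Finite G] in
theorem eig (h : TR q G V) (e : Nat.card V = q ^ 2) [A.Normal] (i : ¬ Irr V A) (ha : a ∈ A) (v : V) :
    ∃ k : ℤ, a • v = k • v := by
  simp only [Irr, not_forall, not_or] at i
  obtain ⟨W, i, h0, h1⟩ := i
  obtain ⟨k, hk⟩ := card_pow h.hq h.ex W
  have l := h.le e hk
  obtain rfl : k = 1 := by
    have : k ≠ 0 := fun z => h0 (AddSubgroup.card_eq_one.1 (by rw [hk, z, pow_zero]))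
    have : k ≠ 2 := fun z => h1 (AddSubgroup.eq_top_of_card_eq _ (by rw [hk, z, e]))
    omega
  haveI := Fact.mk ((hk.trans (pow_one q)) ▸ h.hq : (Nat.card W).Prime)
  obtain ⟨⟨w, hw⟩, w0⟩ := AddSubgroup.ne_bot_iff_exists_ne_zero.1 h0
  by_cases v0 : v = 0
  · exact ⟨0, by simp [v0]⟩
  obtain ⟨g, rfl⟩ := h.tr w v (by simpa using w0) v0
  obtain ⟨k, hk⟩ := AddSubgroup.mem_zmultiples_iff.1 (mem_zmultiples_of_prime_card rfl w0
    (g' := ⟨_, i _ (Normal.conj_mem' inferInstance a ha g) w hw⟩))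
  refine ⟨k, ?_⟩
  rw [← smul_comm g k, show k • w = _ from congrArg Subtype.val hk, smul_smul, smul_smul]
  simp [mul_assoc]

theorem free (h : TR q G V) [A.Normal] (hA : Ab[A]) : Fr V A := by
  have c : ∀ v w : V, v ≠ 0 → w ≠ 0 → A ⊓ stabilizer G v ≤ stabilizer G w → A ⊓ stabilizer G w ≤ stabilizer G v :=
    fun v w v0 w0 l => by
      obtain ⟨g, rfl⟩ := h.tr v w v0 w0
      refine (eq_of_le_of_card_le (le_inf inf_le_left l) (le_of_eq ?_)).ge.trans inf_le_right
      rw [stabilizer_smul_eq_stabilizer_map_conj, cj_def, ← card_map_cj g (A ⊓ stabilizer G v), map_cj_inf,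
        map_cj_normal g A]
  have i : ∀ v : V, ∀ g ∈ A, g • v - v ∈ Fx V (A ⊓ stabilizer G v) := fun v g hg =>
    have : v ∈ Fx V (A ⊓ stabilizer G v) := fun _ h => h.2
    sub_mem (Fx_iv (le_norm_of_le_cent (le_cent_of_comm hA inf_le_left)) g hg v this) this
  refine fun g hg v e => or_iff_not_imp_right.2 fun v0 => h.fa g fun w => by_contra fun n => ?_
  have w0 : w ≠ 0 := fun z => n (by rw [z, smul_zero])
  have s0 : v + w ≠ 0 := fun z => n (by rw [eq_neg_of_add_eq_zero_right z, smul_neg, e])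
  have l : A ⊓ stabilizer G (v + w) ≤ stabilizer G v := fun k hk => by_contra fun m => by
    have u0 : k • v - v ≠ 0 := sub_ne_zero.2 m
    have e1 : k • v - v = -(k • w - w) := by
      have : k • v + k • w = v + w := (smul_add k v w).symm.trans hk.2
      linear_combination (norm := abel_nf) this
    exact n (c w _ w0 u0 (fun j hj => by rw [e1]; exact neg_mem (i w k hk.1) j hj) ⟨hg, i v k hk.1 g ⟨hg, e⟩⟩)
  have := c _ _ s0 v0 l ⟨hg, e⟩
  rw [mem_stabilizer_iff, smul_add, e] at this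
  exact n (add_left_cancel this)

theorem dim2 (h : TR q G V) [hs : Group.IsSolvable G] (e : Nat.card V = q ^ 2) : SL1 G V ∨ q + 1 ∣ 24 := by
  refine or_iff_not_imp_left.2 fun n => ?_
  haveI := Fact.mk h.hq
  haveI := h.nt
  have ni : ∀ A : Subgroup G, A.Normal → Ab[A] → ¬ Irr V A := fun A _ a i => n (semilin a i)
  obtain ⟨ε, ψ, hψ, c⟩ := h.coord e
  let Z := (sc.range).comap ψ
  have mZ : ∀ g, g ∈ Z ↔ IsSc (ψ g).1 := fun g => ⟨fun ⟨a, e⟩ => e ▸ isSc_sc a, fun h =>
    h.exists_sc.imp fun _ => Eq.symm⟩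
  have cZ : ∀ z ∈ Z, ∀ g, z * g = g * z := fun z hz g => hψ (Units.ext (by simpa using ((mZ z).1 hz).comm _))
  haveI nZ : Z.Normal := ⟨fun z hz g => by rwa [← cZ z hz, mul_inv_cancel_right]⟩
  have lZ : ∀ A : Subgroup G, A.Normal → Ab[A] → A ≤ Z := fun A _ hA a ha => by
    have k : ∀ w, ∃ k : ZMod q, (ψ a).1 *ᵥ w = k • w := fun w => by
      obtain ⟨v, rfl⟩ := ε.surjective w
      obtain ⟨k, hk⟩ := h.eig e (ni A inferInstance hA) ha v
      exact ⟨k, by rw [← c, hk, map_zsmul, Int.cast_smul_eq_zsmul]⟩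
    obtain ⟨_, h1⟩ := k ![1, 0]
    obtain ⟨_, h2⟩ := k ![0, 1]
    obtain ⟨_, h3⟩ := k ![1, 1]
    have a1 := congrFun h1 1
    have a2 := congrFun h2 0
    have a3 := (congrFun h3 0).trans (congrFun h3 1).symm
    simp [mulVec, dotProduct] at a1 a2 a3
    exact (mZ a).2 ⟨a2, a1, by simpa [a1, a2] using a3⟩
  let π := QuotientGroup.mk' Z
  have kπ : ∀ g, π g = 1 ↔ g ∈ Z := fun g => QuotientGroup.eq_one_iff g
  have t0 : (⊤ : Subgroup (G ⧸ Z)) ≠ ⊥ := fun t => ni ⊤ inferInstance (isMulComm_iff.2 fun a _ b _ =>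
    cZ a ((kπ a).1 (t.le (mem_top _))) b) h.irr
  obtain ⟨r, _, M, -, m0, nM, eM, -⟩ := exists_min_norm (M := ⊤) inferInstance t0 le_normalizer
  haveI := normal_of_top_le_norm nM
  obtain ⟨a, ha, b, hb, ab⟩ := exists_not_commute (P := M.comap π) fun k => m0 (eq_bot_iff.2 fun x hx => by
    obtain ⟨x, rfl⟩ := QuotientGroup.mk'_surjective Z x
    exact (kπ x).2 (lZ _ inferInstance k hx))
  let Ω := (zpowers (-1)).comap ψ
  have o2 : o[Ω] ≤ 2 := by
    rw [← card_map_of_injective hψ]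
    exact (card_le_of_le (map_comap_le _ _)).trans (by
      rw [Nat.card_zpowers]; exact orderOf_le_of_pow_eq_one two_pos neg_one_sq)
  have cm : ∀ x ∈ M.comap π, ∀ g ∈ C[M].comap π, ψ ⁅g, x⁆ = 1 ∨ ψ ⁅g, x⁆ = -1 := fun x hx g hg => by
    obtain ⟨l, hl⟩ := (kπ ⁅g, x⁆).1 (by
      rw [map_commutatorElement, commutatorElement_eq_one_iff_mul_comm]; exact (mem_cent_iff.1 hg _ hx).symm)
    have d := congrArg (fun x => (GeneralLinearGroup.det x : ZMod q)) hl
    simp only [map_commutatorElement] at d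
    rw [commutatorElement_eq_one_iff_mul_comm.2 (mul_comm _ _), GeneralLinearGroup.val_det_apply, sc_val,
      det_fin_two_of] at d
    rw [← hl]
    refine (mul_self_eq_one_iff.1 (by simpa using d : (l : ZMod q) * l = 1)).imp (fun e => Units.ext ?_)
      fun e => Units.ext ?_ <;> rw [sc_val', e] <;> simp
  have cm' : ∀ x ∈ M.comap π, ∀ g ∈ C[M].comap π, ⁅g, x⁆ ∈ Ω := fun x hx g hg =>
    (cm x hx g hg).elim (fun e => by rw [mem_comap, e]; exact one_mem _)
      fun e => by rw [mem_comap, e]; exact Subgroup.mem_zpowers _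
  have lc : C1[a] ⊓ C1[b] ≤ Z := fun x hx => (mZ x).2 (by_contra fun k => ab (hψ (Units.ext (by
    simpa using comm_of_comm k (by simpa using congrArg (fun g => (ψ g).1) (mem_centralizer_singleton_iff.1 hx.1).symm)
      (by simpa using congrArg (fun g => (ψ g).1) (mem_centralizer_singleton_iff.1 hx.2).symm)))))
  have c4 : o[C[M]] ≤ 4 := by
    have := (relIndex_le_of_le_left lc (CfsgH2.relIndex_pos _ _).ne').trans
      ((relIndex_cent_pair_le (cm' a ha) (cm' b hb)).trans (Nat.mul_le_mul o2 o2))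
    have e := relIndex_ker (C[M].comap π) π
    rw [QuotientGroup.ker_mk', map_comap_eq_self_of_surjective (QuotientGroup.mk'_surjective Z)] at e
    exact e ▸ this
  have lM := le_cent_self eM.1
  have sq : ∀ x ∈ M.comap π, ⁅a ^ 2, x⁆ = 1 := fun x hx => by
    rw [commutator_pow_left (cZ _ ((kπ _).1 (by
      rw [map_commutatorElement, commutatorElement_eq_one_iff_mul_comm]; exact comm_of_isMulComm eM.1 ha hx)) a)]
    exact hψ (by rcases cm x hx a (lM ha) with e | e <;> simp [-map_commutatorElement, e])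
  have d2 : 2 ∣ o[C[M]] := (orderOf_eq_prime (by
    rw [← map_pow, kπ]
    exact lc ⟨mem_centralizer_singleton_iff.2 (commutatorElement_eq_one_iff_mul_comm.1 (sq a ha)),
      mem_centralizer_singleton_iff.2 (commutatorElement_eq_one_iff_mul_comm.1 (sq b hb))⟩)
      fun k => ab (cZ a ((kπ a).1 k) b) : orderOf (π a) = 2) ▸ CfsgH2.orderOf_dvd_of_mem (lM ha)
  have d4 : o[C[M]] ∣ 4 := by
    have := CfsgH2.card_pos' C[M]
    generalize o[C[M]] = k at *
    interval_cases k <;> simp at *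
  have d6 : C[M].index ∣ 6 := (index_cent_dvd M).trans (card_aut_dvd.trans (Nat.factorial_dvd_factorial (n := 3)
    (by have := card_le_of_le lM; omega)))
  have d24 : Z.index ∣ 24 := by
    rw [index_eq_card, ← C[M].card_mul_index]; exact Nat.mul_dvd_mul d4 d6
  refine Dvd.dvd.trans ?_ d24
  obtain ⟨v, v0⟩ := exists_ne (0 : V)
  have z1 : o[Z] ∣ q - 1 := by
    have := card_dvd_of_injective (sc (F := ZMod q)).rangeRestrict fun _ _ e => sc_injective (congrArg Subtype.val e)
    rw [← card_map_of_injective hψ]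
    refine (card_dvd_of_le (map_comap_le _ _)).trans ?_
    rw [← Nat.card_congr (MonoidHom.ofInjective sc_injective).toEquiv, Nat.card_units, Nat.card_zmod]
  obtain ⟨t, ht⟩ := z1
  have e1 := h.card_dvd
  rw [e, show q ^ 2 - 1 = (q + 1) * (q - 1) from Nat.sq_sub_sq q 1, ht, ← Z.card_mul_index, mul_left_comm] at e1
  exact Dvd.dvd.trans (Dvd.intro _ rfl) (Nat.dvd_of_mul_dvd_mul_left (CfsgH2.card_pos' Z) e1)

theorem d64 (h : TR 2 G V) [hs : Group.IsSolvable G] (e : Nat.card V = 2 ^ 6) : SL1 G V := by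
  haveI := h.nt
  haveI : Fact (Nat.Prime 7) := ⟨by norm_num⟩
  obtain ⟨-, ψ, hψ, -⟩ := h.coord e
  have c := card_dvd_of_injective ψ hψ
  rw [card_GL_field] at c
  simp only [Fin.prod_univ_six, ZMod.card] at c
  have pw : ∀ (p k : ℕ) [Fact p.Prime] (P : Subgroup G), IsPGroup p P → ¬ p ^ (k + 1) ∣ 20158709760 →
      o[P] ∣ p ^ k := fun p k hp P hP n => by
    obtain ⟨j, hj⟩ := exists_card_eq_pow hP
    refine hj ▸ pow_dvd_pow p (by_contra fun l => n ((pow_dvd_pow p (by omega)).trans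
      (hj ▸ (card_subgroup_dvd_card P).trans c)))
  have d := h.card_dvd
  rw [e] at d
  obtain ⟨Y, hY⟩ := exists_syl 7 (⊤ : Subgroup G)
  have aY := isMulComm_of_card_dvd_sq (pw 7 2 Y hY.pg (by norm_num))
  obtain ⟨T, l, -, oT⟩ := exists_central_card_p hY.pg le_normalizer
    (hY.dvd_card (card_top (G := G) ▸ Dvd.dvd.trans (by norm_num) d))
  have pT := hY.pg.to_le l
  have r37 : ∀ (p : ℕ) [Fact p.Prime], O[{p}, (⊤ : Subgroup G)] ≠ ⊥ → p = 3 ∨ p = 7 := fun p hp p0 => by
    have := h.dvd isPGroup_piCoreOf p0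
    rw [e, show 2 ^ 6 - 1 = 3 ^ 2 * 7 from rfl, hp.out.dvd_mul] at this
    exact this.imp (fun d => (Nat.prime_dvd_prime_iff_eq hp.out Nat.prime_three).1 (hp.out.dvd_of_dvd_pow d))
      (Nat.prime_dvd_prime_iff_eq hp.out Fact.out).1
  have lF : T ≤ F[⊤] := mem_fit fun p hp p0 => by
    rcases r37 p p0 with rfl | rfl
    · have c1 := card_modEq_inf_cent pT (le_normalizer_of_normal : T ≤ N[O[{3}, ⊤]])
      have c2 := card_dvd_of_le (inf_le_left : O[{3}, ⊤] ⊓ C[T] ≤ _)
      have c3 := pw 3 4 O[{3}, ⊤] isPGroup_piCoreOf (by norm_num)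
      refine le_centralizer_iff.1 ((eq_of_le_of_card_le inf_le_left (le_of_eq ?_)).ge.trans inf_le_right)
      obtain ⟨i, hi, e1⟩ := (Nat.dvd_prime_pow Nat.prime_three).1 c3
      obtain ⟨j, hj, e2⟩ := (Nat.dvd_prime_pow Nat.prime_three).1 (e1 ▸ c2)
      rw [e1, e2] at c1 ⊢
      revert c1
      interval_cases i <;> interval_cases j <;> decide
    · exact l.trans ((le_cent_self aY).trans (cent_anti hY.pCoreOf_le))
  have lO : T ≤ O[{7}, ⊤] := core_fit (p := 7) (H := (⊤ : Subgroup G)) ▸ nil_le_core fit_nil lF (isPGroup_iff_piN.1 pT)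
  have aO := isMulComm_of_le aY hY.pCoreOf_le
  have fO := h.free aO
  have c7 : ∀ W : AddSubgroup V, Iv O[{7}, (⊤ : Subgroup G)] W → W = ⊥ ∨ W = ⊤ ∨ Nat.card W = 8 := fun W i => by
    obtain ⟨k, hk⟩ := card_pow h.hq h.ex W
    have l := h.le e hk
    have := (fO.mono lO).card_dvd (i.mono lO)
    rw [oT, hk] at this
    rw [← AddSubgroup.card_eq_one, ← AddSubgroup.card_eq_iff_eq_top, hk, e]
    interval_cases k <;> simp at this ⊢
  have cc : O[{7}, ⊤] ≤ C[O[{3}, (⊤ : Subgroup G)]] := le_cent_of_inf_eq_bot le_normalizer_of_normal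
    le_normalizer_of_normal (inf_eq_bot_of_piN piN_piCoreOf (piN_piCoreOf.mono (by simp)))
  have fP : Fr V O[{3}, (⊤ : Subgroup G)] := fun g hg v e' => by
    rcases c7 _ (Fx_iv (le_norm_of_le_cent (cc.trans (cent_anti (zpowers_le.2 hg))))) with t | t | t
    · exact .inr (AddSubgroup.mem_bot.1 (t.le (mem_Fx e')))
    · exact .inl (by simpa using h.Fx_top t)
    · have := Fx_modEq (V := V) (isPGroup_piCoreOf.to_le (zpowers_le.2 hg))
      rw [e, t] at this
      exact absurd this (by decide)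
  have tp : ∀ K : Subgroup G, Fr V K → o[K] ∣ 63 := fun K f => by
    simpa [e] using f.card_dvd (W := ⊤) fun _ _ _ _ => trivial
  have aF : Ab[F[(⊤ : Subgroup G)]] := nil_ab_of_cores fit_nil fun p _ _ => core_fit (p := p) (H := (⊤ : Subgroup G)) ▸ by
    by_cases p0 : O[{p}, (⊤ : Subgroup G)] = ⊥
    · rw [p0]; infer_instance
    rcases r37 p p0 with rfl | rfl
    · exact isMulComm_of_card_dvd_sq (p := 3) ((coprime_of_pgroup isPGroup_piCoreOf
        (by norm_num : ¬ 3 ∣ 7)).dvd_of_dvd_mul_right (tp _ fP))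
    · exact aO
  haveI := normal_of_top_le_norm (le_norm_fit (H := (⊤ : Subgroup G)))
  refine semilin aF fun W i => (c7 W (i.mono core_le_fit)).imp_right fun t => t.resolve_right fun t => ?_
  have := fP.card_dvd (i.mono core_le_fit)
  rw [t] at this
  have p0 := eq_bot_of_pgroup_of_not_dvd (isPGroup_piCoreOf (p := 3) (M := (⊤ : Subgroup G))) fun d => by
    simpa using d.trans this
  have o7 : o[F[(⊤ : Subgroup G)]] = 7 := by
    rw [le_antisymm (fit_le_of_cores fun p _ _ => ?_) (core_le_fit (p := 7))]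
    · exact Nat.dvd_antisymm ((coprime_of_pgroup isPGroup_piCoreOf
        (by norm_num : ¬ 7 ∣ 9)).dvd_of_dvd_mul_left (tp _ fO)) (oT.symm.dvd.trans (card_dvd_of_le lO))
    · by_cases p1 : O[{p}, (⊤ : Subgroup G)] = ⊥
      · exact p1 ▸ bot_le
      · rcases r37 p p1 with rfl | rfl
        exacts [absurd p0 p1, le_rfl]
  haveI := isCyclic_of_prime_card o7
  have := d.trans (C[F[(⊤ : Subgroup G)]].card_mul_index ▸ Nat.mul_dvd_mul (card_dvd_of_le
    ((le_inf le_top le_rfl).trans (cent_fit_le inferInstance))) (index_cent_dvd F[⊤]))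
  rw [IsCyclic.card_mulAut, o7] at this
  exact absurd this (by decide)

end TR

end CfsgH8.Hu
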