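import Cfsg.Agent.H8.Pres
import Cfsg.Agent.H8.SL2g
import Cfsg.Agent.H8.PslC
import Cfsg.Agent.H5.GrpAux

/-! A presentation of `PSL₂(7)`. -/

set_option autoImplicit false

namespace CfsgH8

/-- Coset representatives. -/
def l7W : List (List ℕ) := [
  [],[0],[2],[3],[2,0],[3,0],[0,2],[2,2],[0,3],[3,3],[0,2,0],[2,2,0],[0,3,0],[3,3,0],[3,0,2],
  [0,2,2],[2,2,2],[2,0,3],[0,3,3],[3,3,3],[3,0,2,0],[0,2,2,0],[2,2,2,0],[2,0,3,0],[0,3,3,0],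
  [3,3,3,0],[0,3,0,2],[3,3,0,2],[3,0,2,2],[0,2,2,2],[0,2,0,3],[2,2,0,3],[2,0,3,3],[0,3,3,3],
  [0,3,0,2,0],[3,3,0,2,0],[3,0,2,2,0],[0,2,2,2,0],[0,2,0,3,0],[2,2,0,3,0],[2,0,3,3,0],[0,3,3,3,0],
  [2,0,3,0,2],[0,3,3,0,2],[3,3,3,0,2],[0,3,0,2,2],[3,3,0,2,2],[3,0,2,2,2],[3,0,2,0,3],[0,2,2,0,3],
  [2,2,2,0,3],[0,2,0,3,3],[2,2,0,3,3],[2,0,3,3,3],[2,0,3,0,2,0],[0,3,3,0,2,0],[0,3,0,2,2,0],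
  [3,3,0,2,2,0],[3,0,2,2,2,0],[3,0,2,0,3,0],[0,2,2,0,3,0],[0,2,0,3,3,0],[2,2,0,3,3,0],
  [2,0,3,3,3,0],[0,2,0,3,0,2],[2,2,0,3,0,2],[2,0,3,3,0,2],[0,3,3,3,0,2],[2,0,3,0,2,2],
  [0,3,3,0,2,2],[3,3,3,0,2,2],[3,3,0,2,2,2],[0,3,0,2,0,3],[3,3,0,2,0,3],[3,0,2,2,0,3],
  [0,2,2,2,0,3],[3,0,2,0,3,3],[0,2,2,0,3,3],[2,2,2,0,3,3],[2,2,0,3,3,3],[0,2,0,3,0,2,0],
  [2,2,0,3,0,2,0],[2,0,3,3,0,2,0],[2,0,3,0,2,2,0],[0,3,3,0,2,2,0],[3,3,3,0,2,2,0],[3,3,0,2,2,2,0],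
  [0,3,0,2,0,3,0],[3,3,0,2,0,3,0],[3,0,2,2,0,3,0],[3,0,2,0,3,3,0],[0,2,2,0,3,3,0],[2,2,2,0,3,3,0],
  [2,2,0,3,3,3,0],[3,0,2,0,3,0,2],[0,2,2,0,3,0,2],[0,2,0,3,3,0,2],[2,2,0,3,3,0,2],[2,0,3,3,3,0,2],
  [0,2,0,3,0,2,2],[2,2,0,3,0,2,2],[2,0,3,3,0,2,2],[0,3,3,3,0,2,2],[0,3,3,0,2,2,2],[3,3,3,0,2,2,2],
  [2,0,3,0,2,0,3],[0,3,3,0,2,0,3],[0,3,0,2,2,0,3],[3,3,0,2,2,0,3],[3,0,2,2,2,0,3],[0,3,0,2,0,3,3],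
  [3,3,0,2,0,3,3],[3,0,2,2,0,3,3],[0,2,2,2,0,3,3],[0,2,2,0,3,3,3],[2,2,2,0,3,3,3],
  [3,0,2,0,3,0,2,0],[0,2,2,0,3,0,2,0],[2,2,0,3,3,0,2,0],[0,2,0,3,0,2,2,0],[2,2,0,3,0,2,2,0],
  [2,0,3,3,0,2,2,0],[0,3,3,3,0,2,2,0],[0,3,3,0,2,2,2,0],[3,3,3,0,2,2,2,0],[2,0,3,0,2,0,3,0],
  [0,3,3,0,2,0,3,0],[3,3,0,2,2,0,3,0],[0,3,0,2,0,3,3,0],[3,3,0,2,0,3,3,0],[3,0,2,2,0,3,3,0],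
  [0,2,2,2,0,3,3,0],[0,2,2,0,3,3,3,0],[2,2,2,0,3,3,3,0],[3,0,2,2,0,3,0,2],[3,0,2,0,3,3,0,2],
  [0,2,2,0,3,3,0,2],[2,2,2,0,3,3,0,2],[2,2,0,3,3,3,0,2],[0,2,0,3,3,0,2,2],[2,2,0,3,3,0,2,2],
  [2,0,3,3,3,0,2,2],[2,0,3,3,0,2,2,2],[0,3,3,3,0,2,2,2],[2,0,3,3,0,2,0,3],[2,0,3,0,2,2,0,3],
  [0,3,3,0,2,2,0,3],[3,3,3,0,2,2,0,3],[3,3,0,2,2,2,0,3],[0,3,0,2,2,0,3,3],[3,3,0,2,2,0,3,3],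
  [3,0,2,2,2,0,3,3],[3,0,2,2,0,3,3,3],[0,2,2,2,0,3,3,3],[0,2,2,0,3,3,0,2,0],[0,2,0,3,3,0,2,2,0],
  [2,0,3,3,3,0,2,2,0],[2,0,3,3,0,2,2,2,0],[0,3,3,3,0,2,2,2,0],[0,3,3,0,2,2,0,3,0],
  [0,3,0,2,2,0,3,3,0],[3,0,2,2,2,0,3,3,0],[3,0,2,2,0,3,3,3,0],[0,2,2,2,0,3,3,3,0],
  [3,0,2,2,0,3,3,0,2],[2,2,0,3,3,3,0,2,2],[3,0,2,2,0,3,3,0,2,0],[2,2,0,3,3,3,0,2,2,0],
  [0,3,0,2,0,3,0,2],[0,2,0,3,0,2,0,3],[2,2,0,3,0,2,0,3]]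

/-- Deductions. -/
def l7L : List TCStep := [
  ⟨0,[],0,1,[]⟩,⟨1,[(1,0)],0,0,[]⟩,⟨0,[],2,2,[]⟩,⟨0,[],3,3,[]⟩,⟨1,[],2,4,[]⟩,⟨1,[],3,5,[]⟩,
  ⟨2,[],0,6,[]⟩,⟨6,[(6,0)],0,2,[]⟩,⟨2,[],2,7,[]⟩,⟨3,[],0,8,[]⟩,⟨8,[(8,0)],0,3,[]⟩,⟨3,[],3,9,[]⟩,
  ⟨4,[],0,10,[]⟩,⟨10,[(10,0)],0,4,[]⟩,⟨10,[(10,0),(4,2),(1,0),(0,2),(3,0)],2,8,[]⟩,⟨4,[],2,11,[]⟩,
  ⟨5,[],0,12,[]⟩,⟨12,[(12,0)],0,5,[]⟩,⟨5,[(5,0)],2,12,[(6,0),(2,2),(0,0),(1,2)]⟩,⟨5,[],3,13,[]⟩,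
  ⟨6,[],3,14,[]⟩,⟨7,[],0,15,[]⟩,⟨15,[(15,0)],0,7,[]⟩,⟨7,[],2,16,[]⟩,⟨8,[],2,17,[]⟩,⟨9,[],0,18,[]⟩,
  ⟨18,[(18,0)],0,9,[]⟩,⟨9,[],3,19,[]⟩,⟨9,[(9,2)],2,19,[(16,2),(7,2),(2,2),(0,2),(3,2)]⟩,
  ⟨10,[],3,20,[]⟩,⟨11,[],0,21,[]⟩,⟨21,[(21,0)],0,11,[]⟩,⟨11,[],2,22,[]⟩,⟨12,[],2,23,[]⟩,
  ⟨13,[],0,24,[]⟩,⟨24,[(24,0)],0,13,[]⟩,⟨13,[],3,25,[]⟩,
  ⟨13,[(13,2)],2,25,[(22,2),(11,2),(4,2),(1,2),(5,2)]⟩,⟨14,[],0,26,[]⟩,⟨26,[(26,0)],0,14,[]⟩,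
  ⟨14,[(14,0)],2,26,[(15,0),(7,2),(2,0),(6,2)]⟩,⟨14,[],3,27,[]⟩,⟨15,[],3,28,[]⟩,⟨16,[],0,29,[]⟩,
  ⟨29,[(29,0)],0,16,[]⟩,⟨17,[],0,30,[]⟩,⟨30,[(30,0)],0,17,[]⟩,
  ⟨30,[(30,0),(17,2),(8,0),(3,2),(9,0)],2,18,[]⟩,⟨17,[],2,31,[]⟩,⟨18,[],2,32,[]⟩,⟨19,[],0,33,[]⟩,
  ⟨33,[(33,0)],0,19,[]⟩,⟨20,[],0,34,[]⟩,⟨34,[(34,0)],0,20,[]⟩,
  ⟨20,[(20,0)],2,34,[(21,0),(11,2),(4,0),(10,2)]⟩,⟨20,[],3,35,[]⟩,⟨21,[],3,36,[]⟩,⟨22,[],0,37,[]⟩,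
  ⟨37,[(37,0)],0,22,[]⟩,⟨23,[],0,38,[]⟩,⟨38,[(38,0)],0,23,[]⟩,
  ⟨38,[(38,0),(23,2),(12,0),(5,2),(13,0)],2,24,[]⟩,⟨23,[],2,39,[]⟩,⟨24,[],2,40,[]⟩,⟨25,[],0,41,[]⟩,
  ⟨41,[(41,0)],0,25,[]⟩,⟨26,[],2,42,[]⟩,⟨27,[],0,43,[]⟩,⟨43,[(43,0)],0,27,[]⟩,⟨27,[],3,44,[]⟩,
  ⟨27,[(27,2)],2,44,[(39,2),(23,2),(12,2),(6,2),(14,2)]⟩,⟨28,[],0,45,[]⟩,⟨45,[(45,0)],0,28,[]⟩,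
  ⟨28,[(28,0)],2,45,[(29,0),(16,2),(7,0),(15,2)]⟩,⟨28,[],3,46,[]⟩,⟨29,[],3,47,[]⟩,⟨30,[],3,48,[]⟩,
  ⟨31,[],0,49,[]⟩,⟨49,[(49,0)],0,31,[]⟩,⟨31,[],2,50,[]⟩,
  ⟨50,[(50,2),(31,2),(17,2),(8,2),(10,2),(20,2)],2,35,[]⟩,⟨32,[],0,51,[]⟩,⟨51,[(51,0)],0,32,[]⟩,
  ⟨51,[(51,0),(32,2),(18,0),(9,2),(19,0)],2,33,[]⟩,⟨32,[],2,52,[]⟩,⟨33,[],2,53,[]⟩,
  ⟨47,[],0,47,[(53,2),(33,0),(19,2),(16,0),(29,2)]⟩,⟨47,[(47,0)],0,53,[]⟩,⟨34,[],2,54,[]⟩,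
  ⟨35,[],0,55,[]⟩,⟨55,[(55,0)],0,35,[]⟩,⟨36,[],0,56,[]⟩,⟨56,[(56,0)],0,36,[]⟩,
  ⟨36,[(36,0)],2,56,[(37,0),(22,2),(11,0),(21,2)]⟩,⟨36,[],3,57,[]⟩,⟨37,[],3,58,[]⟩,⟨38,[],3,59,[]⟩,
  ⟨39,[],0,60,[]⟩,⟨60,[(60,0)],0,39,[]⟩,⟨40,[],0,61,[]⟩,⟨61,[(61,0)],0,40,[]⟩,
  ⟨61,[(61,0),(40,2),(24,0),(13,2),(25,0)],2,41,[]⟩,⟨40,[],2,62,[]⟩,⟨41,[],2,63,[]⟩,
  ⟨58,[],0,58,[(63,2),(41,0),(25,2),(22,0),(37,2)]⟩,⟨58,[(58,0)],0,63,[]⟩,⟨42,[],0,64,[]⟩,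
  ⟨64,[(64,0)],0,42,[]⟩,⟨64,[(64,0),(42,2),(26,0),(14,2),(27,0)],2,43,[]⟩,⟨42,[],2,65,[]⟩,
  ⟨43,[],2,66,[]⟩,⟨44,[],0,67,[]⟩,⟨67,[(67,0)],0,44,[]⟩,⟨45,[],2,68,[]⟩,⟨46,[],0,69,[]⟩,
  ⟨69,[(69,0)],0,46,[]⟩,⟨46,[],3,70,[]⟩,⟨46,[(46,2)],2,70,[(65,2),(42,2),(26,2),(15,2),(28,2)]⟩,
  ⟨47,[],3,71,[]⟩,⟨48,[],0,72,[]⟩,⟨72,[(72,0)],0,48,[]⟩,
  ⟨48,[(48,0)],2,72,[(49,0),(31,2),(17,0),(30,2)]⟩,⟨48,[],3,73,[]⟩,⟨49,[],3,74,[]⟩,⟨50,[],0,75,[]⟩,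
  ⟨75,[(75,0)],0,50,[]⟩,⟨51,[],3,76,[]⟩,⟨52,[],0,77,[]⟩,⟨77,[(77,0)],0,52,[]⟩,⟨52,[],2,78,[]⟩,
  ⟨78,[(78,2),(52,2),(32,2),(18,2),(30,2),(48,2)],2,73,[]⟩,⟨53,[],2,79,[]⟩,⟨54,[],0,80,[]⟩,
  ⟨80,[(80,0)],0,54,[]⟩,⟨80,[(80,0),(54,2),(34,0),(20,2),(35,0)],2,55,[]⟩,⟨54,[],2,81,[]⟩,
  ⟨55,[],2,82,[]⟩,⟨56,[],2,83,[]⟩,⟨57,[],0,84,[]⟩,⟨84,[(84,0)],0,57,[]⟩,⟨57,[],3,85,[]⟩,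
  ⟨57,[(57,2)],2,85,[(81,2),(54,2),(34,2),(21,2),(36,2)]⟩,⟨58,[],3,86,[]⟩,⟨59,[],0,87,[]⟩,
  ⟨87,[(87,0)],0,59,[]⟩,⟨59,[(59,0)],2,87,[(60,0),(39,2),(23,0),(38,2)]⟩,⟨59,[],3,88,[]⟩,
  ⟨60,[],3,89,[]⟩,⟨61,[],3,90,[]⟩,⟨62,[],0,91,[]⟩,⟨91,[(91,0)],0,62,[]⟩,⟨62,[],2,92,[]⟩,
  ⟨92,[(92,2),(62,2),(40,2),(24,2),(38,2),(59,2)],2,88,[]⟩,⟨63,[],2,93,[]⟩,⟨64,[],3,94,[]⟩,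
  ⟨65,[],0,95,[]⟩,⟨95,[(95,0)],0,65,[]⟩,⟨66,[],0,96,[]⟩,⟨96,[(96,0)],0,66,[]⟩,
  ⟨96,[(96,0),(66,2),(43,0),(27,2),(44,0)],2,67,[]⟩,⟨66,[],2,97,[]⟩,⟨67,[],2,98,[]⟩,
  ⟨89,[],0,89,[(98,2),(67,0),(44,2),(39,0),(60,2)]⟩,⟨89,[(89,0)],0,98,[]⟩,⟨68,[],0,99,[]⟩,
  ⟨99,[(99,0)],0,68,[]⟩,⟨99,[(99,0),(68,2),(45,0),(28,2),(46,0)],2,69,[]⟩,⟨68,[],2,100,[]⟩,
  ⟨69,[],2,101,[]⟩,⟨70,[],0,102,[]⟩,⟨102,[(102,0)],0,70,[]⟩,⟨71,[],0,103,[]⟩,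
  ⟨103,[(103,0)],0,71,[]⟩,⟨71,[],3,104,[]⟩,
  ⟨71,[(71,2)],2,104,[(100,2),(68,2),(45,2),(29,2),(47,2)]⟩,⟨72,[],2,105,[]⟩,⟨73,[],0,106,[]⟩,
  ⟨106,[(106,0)],0,73,[]⟩,⟨74,[],0,107,[]⟩,⟨107,[(107,0)],0,74,[]⟩,
  ⟨74,[(74,0)],2,107,[(75,0),(50,2),(31,0),(49,2)]⟩,⟨74,[],3,108,[]⟩,⟨75,[],3,109,[]⟩,
  ⟨50,[(50,0),(75,2)],0,109,[(82,2),(55,0),(35,2)]⟩,⟨109,[(109,0)],0,82,[]⟩,⟨76,[],0,110,[]⟩,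
  ⟨110,[(110,0)],0,76,[]⟩,⟨76,[(76,0)],2,110,[(77,0),(52,2),(32,0),(51,2)]⟩,⟨76,[],3,111,[]⟩,
  ⟨77,[],3,112,[]⟩,⟨78,[],0,113,[]⟩,⟨113,[(113,0)],0,78,[]⟩,⟨79,[],0,114,[]⟩,
  ⟨114,[(114,0)],0,79,[]⟩,⟨114,[(114,0),(79,2),(53,0),(47,2),(71,0)],2,103,[]⟩,⟨79,[],2,115,[]⟩,
  ⟨115,[(115,2),(79,2),(53,2),(33,2),(51,2),(76,2)],2,111,[]⟩,⟨80,[],3,116,[]⟩,⟨81,[],0,117,[]⟩,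
  ⟨117,[(117,0)],0,81,[]⟩,⟨82,[],2,118,[]⟩,⟨83,[],0,119,[]⟩,⟨119,[(119,0)],0,83,[]⟩,
  ⟨119,[(119,0),(83,2),(56,0),(36,2),(57,0)],2,84,[]⟩,⟨83,[],2,120,[]⟩,⟨84,[],2,121,[]⟩,
  ⟨85,[],0,122,[]⟩,⟨122,[(122,0)],0,85,[]⟩,⟨86,[],0,123,[]⟩,⟨123,[(123,0)],0,86,[]⟩,
  ⟨86,[],3,124,[]⟩,⟨86,[(86,2)],2,124,[(120,2),(83,2),(56,2),(37,2),(58,2)]⟩,
  ⟨22,[(22,0),(37,2),(58,2),(86,2),(124,2)],0,120,[(111,2),(115,2),(79,2),(53,2),(33,0),(19,2),(16,2),(7,2),(2,2),(0,0),(1,2),(5,2),(13,2),(25,2)]⟩,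
  ⟨120,[(120,0)],0,111,[]⟩,⟨111,[(111,0),(120,2),(83,0)],2,119,[(110,0),(76,2)]⟩,⟨87,[],2,125,[]⟩,
  ⟨88,[],0,126,[]⟩,⟨126,[(126,0)],0,88,[]⟩,⟨89,[],3,127,[]⟩,⟨90,[],0,128,[]⟩,
  ⟨128,[(128,0)],0,90,[]⟩,⟨90,[(90,0)],2,128,[(91,0),(62,2),(40,0),(61,2)]⟩,⟨90,[],3,129,[]⟩,
  ⟨58,[(58,0),(63,2),(41,2),(61,2),(90,2)],0,129,[(100,2),(68,2),(45,2),(29,2),(47,0),(53,2),(33,2),(51,2),(76,2),(111,0),(120,2),(83,2),(56,2),(37,2)]⟩,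
  ⟨129,[(129,0)],0,100,[]⟩,⟨129,[(129,0),(100,2),(68,0)],2,99,[(128,0),(90,2)]⟩,⟨91,[],3,130,[]⟩,
  ⟨92,[],0,131,[]⟩,⟨131,[(131,0)],0,92,[]⟩,⟨93,[],0,132,[]⟩,⟨132,[(132,0)],0,93,[]⟩,
  ⟨132,[(132,0),(93,2),(63,0),(58,2),(86,0)],2,123,[]⟩,⟨93,[],2,133,[]⟩,
  ⟨133,[(133,2),(93,2),(63,2),(41,2),(61,2),(90,2)],2,129,[]⟩,⟨94,[],0,168,[]⟩,
  ⟨168,[(168,0)],0,94,[]⟩,⟨94,[(94,0)],2,168,[(95,0),(65,2),(42,0),(64,2)]⟩,⟨95,[],3,134,[]⟩,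
  ⟨65,[(65,0),(95,2)],2,134,[(118,2),(82,2),(55,0),(35,2),(50,2),(31,2),(17,2),(8,0),(3,2),(9,2),(19,2),(16,2),(7,0),(15,2),(28,2),(46,2),(70,2)]⟩,
  ⟨134,[(134,2),(118,2),(82,2),(55,2)],2,80,[(168,2),(95,2)]⟩,⟨168,[],4,168,[(116,3),(80,2)]⟩,
  ⟨116,[],4,116,[(168,4)]⟩,⟨116,[],1,116,[(94,0),(168,5)]⟩,⟨116,[],0,116,[(94,1),(168,5)]⟩,
  ⟨116,[],2,116,[(95,3),(168,5)]⟩,⟨116,[(116,0)],2,94,[(117,0),(81,2),(54,0),(80,2)]⟩,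
  ⟨96,[],3,135,[]⟩,⟨97,[],0,136,[]⟩,⟨136,[(136,0)],0,97,[]⟩,⟨97,[],2,137,[]⟩,
  ⟨137,[(137,2),(97,2),(66,2),(43,2),(64,2),(94,2)],2,117,[]⟩,⟨98,[],2,138,[]⟩,⟨101,[],0,139,[]⟩,
  ⟨139,[(139,0)],0,101,[]⟩,⟨139,[(139,0),(101,2),(69,0),(46,2),(70,0)],2,102,[]⟩,⟨101,[],2,140,[]⟩,
  ⟨140,[(140,2),(101,2),(69,2),(99,2),(128,2),(91,2)],2,130,[]⟩,⟨102,[],2,141,[]⟩,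
  ⟨134,[],0,134,[(141,2),(102,0),(70,2),(65,0),(95,2)]⟩,⟨134,[(134,0)],0,141,[]⟩,⟨103,[],2,142,[]⟩,
  ⟨104,[],0,143,[]⟩,⟨143,[(143,0)],0,104,[]⟩,⟨105,[],0,169,[]⟩,⟨169,[(169,0)],0,105,[]⟩,
  ⟨169,[(169,0),(105,2),(72,0),(48,2),(73,0)],2,106,[]⟩,⟨105,[],2,170,[]⟩,⟨106,[],2,144,[]⟩,
  ⟨39,[(39,0),(60,2),(89,2)],2,127,[(144,2),(106,0),(73,2),(78,2),(52,2),(32,2),(18,0),(9,2),(19,2),(16,2),(7,2),(2,0),(6,2),(14,2),(27,2),(44,2)]⟩,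
  ⟨127,[(127,2),(144,2)],2,106,[(125,2),(87,2),(60,2),(89,2)]⟩,⟨125,[],4,125,[(169,3),(106,2)]⟩,
  ⟨125,[],1,125,[(105,0),(169,5)]⟩,⟨125,[],0,125,[(105,1),(169,5)]⟩,
  ⟨105,[(105,0),(125,2),(87,0),(59,2)],0,88,[(170,2)]⟩,⟨170,[],4,170,[(126,1),(88,0)]⟩,
  ⟨126,[],4,126,[(170,4)]⟩,⟨126,[],2,126,[(105,3),(170,5)]⟩,⟨107,[],2,145,[]⟩,
  ⟨104,[(104,0)],2,143,[(145,2),(107,2),(75,2),(109,0),(82,2),(55,2),(80,2),(116,2),(95,0),(65,2),(42,2),(26,2),(15,2),(28,0),(45,2),(29,2),(47,2),(71,2)]⟩,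
  ⟨104,[(104,0),(143,2)],0,145,[(142,2),(103,0),(71,2)]⟩,⟨145,[(145,0)],0,142,[]⟩,
  ⟨108,[],0,146,[]⟩,⟨146,[(146,0)],0,108,[]⟩,
  ⟨108,[(108,0)],2,146,[(142,0),(145,2),(107,0),(74,2)]⟩,⟨108,[],3,147,[]⟩,
  ⟨108,[(108,2)],2,147,[(126,2),(105,2),(72,2),(49,2),(74,2)]⟩,⟨109,[],3,148,[]⟩,⟨112,[],0,149,[]⟩,
  ⟨149,[(149,0)],0,112,[]⟩,⟨112,[(112,0)],2,149,[(113,0),(78,2),(52,0),(77,2)]⟩,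
  ⟨134,[(134,0),(141,2),(102,2)],2,139,[(149,2),(113,0),(78,2),(52,2),(32,2),(18,2),(30,0),(17,2),(8,2),(10,2),(20,2),(35,0),(55,2),(80,2),(116,2),(95,2)]⟩,
  ⟨112,[],3,150,[]⟩,⟨112,[(112,2)],2,150,[(121,2),(84,2),(119,2),(110,2),(77,2)]⟩,
  ⟨149,[(149,0),(112,2)],0,150,[(140,2),(101,0),(139,2)]⟩,⟨150,[(150,0)],0,140,[]⟩,
  ⟨113,[],3,151,[]⟩,⟨78,[(78,0),(113,2)],0,151,[(144,2),(106,0),(73,2)]⟩,⟨151,[(151,0)],0,144,[]⟩,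
  ⟨114,[],3,152,[]⟩,⟨115,[],0,153,[]⟩,⟨153,[(153,0)],0,115,[]⟩,
  ⟨153,[(153,0),(115,2),(79,2),(53,2),(33,2),(51,0),(32,2),(18,2),(30,2),(48,2),(73,0),(106,2),(125,2),(87,2),(60,2),(89,0),(98,2),(67,2),(96,2)],2,135,[]⟩,
  ⟨152,[],0,152,[(135,2),(153,0),(115,2),(79,0),(114,2)]⟩,⟨152,[(152,0)],0,135,[]⟩,
  ⟨135,[(135,0)],2,152,[(136,0),(97,2),(66,0),(96,2)]⟩,⟨118,[],0,154,[]⟩,⟨154,[(154,0)],0,118,[]⟩,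
  ⟨121,[],0,155,[]⟩,⟨155,[(155,0)],0,121,[]⟩,⟨155,[(155,0),(121,2),(84,0),(57,2),(85,0)],2,122,[]⟩,
  ⟨122,[],2,156,[]⟩,⟨137,[],0,137,[(156,2),(122,0),(85,2),(81,0),(117,2)]⟩,
  ⟨137,[(137,0)],0,156,[]⟩,⟨123,[],2,157,[]⟩,⟨124,[],0,158,[]⟩,⟨158,[(158,0)],0,124,[]⟩,
  ⟨158,[(158,0),(124,2),(120,0),(111,2),(115,0)],2,153,[]⟩,
  ⟨153,[(153,2)],2,158,[(138,2),(98,2),(67,2),(96,2),(135,2)]⟩,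
  ⟨124,[(124,0),(158,2)],0,138,[(157,2),(123,0),(86,2)]⟩,⟨138,[(138,0)],0,157,[]⟩,
  ⟨127,[],0,159,[]⟩,⟨159,[(159,0)],0,127,[]⟩,⟨127,[(127,0)],2,159,[(157,0),(138,2),(98,0),(89,2)]⟩,
  ⟨130,[],0,160,[]⟩,⟨160,[(160,0)],0,130,[]⟩,
  ⟨160,[(160,0),(130,2),(140,0),(150,2),(121,0)],2,155,[]⟩,
  ⟨137,[(137,0),(156,2),(122,2),(155,2)],2,160,[(131,0),(92,2),(62,2),(40,2),(24,2),(38,0),(23,2),(12,2),(6,2),(14,2),(27,0),(43,2),(64,2),(94,2),(117,2)]⟩,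
  ⟨131,[],3,161,[]⟩,⟨92,[(92,0),(131,2)],0,161,[(147,2),(126,0),(88,2)]⟩,⟨161,[(161,0)],0,147,[]⟩,
  ⟨132,[],3,162,[]⟩,
  ⟨138,[(138,0),(157,2),(123,2),(132,2)],2,162,[(154,0),(118,2),(82,2),(55,2),(80,2),(116,0),(94,2),(117,2),(137,2),(97,2),(66,0),(96,2),(135,2),(153,2),(158,2)]⟩,
  ⟨148,[],0,148,[(162,2),(154,0),(118,2),(82,0),(109,2)]⟩,⟨148,[(148,0)],0,162,[]⟩,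
  ⟨133,[],0,163,[]⟩,⟨163,[(163,0)],0,133,[]⟩,
  ⟨163,[(163,0),(133,2),(93,0),(132,2),(162,0)],2,148,[]⟩,
  ⟨148,[(148,2)],2,163,[(143,2),(145,2),(107,2),(75,2),(109,2)]⟩,⟨136,[],3,164,[]⟩,
  ⟨136,[(136,2)],2,164,[(146,2),(142,2),(103,2),(114,2),(152,2)]⟩,⟨141,[],2,165,[]⟩,
  ⟨165,[(165,2),(141,2),(102,2),(139,2),(149,2),(113,2)],2,151,[]⟩,⟨154,[],3,166,[]⟩,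
  ⟨154,[(154,2)],2,166,[(159,2),(157,2),(123,2),(132,2),(162,2)]⟩,
  ⟨118,[(118,0),(154,2)],0,166,[(165,2),(141,0),(134,2)]⟩,⟨166,[(166,0)],0,165,[]⟩,
  ⟨156,[],2,167,[]⟩,⟨167,[(167,2),(156,2),(122,2),(155,2),(160,2),(131,2)],2,161,[]⟩,
  ⟨164,[],0,164,[(167,2),(156,0),(137,2),(97,0),(136,2)]⟩,⟨164,[(164,0)],0,167,[]⟩]

/-- Relators. -/
def l7R : List (List ℕ) := [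
  [0,0],[2,2,2,2,2,2,2],[0,2,0,2,0,2],[0,2,2,2,2,0,2,2,2,2,0,2,2,2,2,0,2,2,2,2],[],[0,1],[1,0],
  [2,3],[3,2]]

theorem l7_chk : (l7W.getD 0 [] == [] && Nat.blt 0 168 && Nat.ble 168 171 &&
    tcF 171 2 168 (tcR 171 2 l7R [] l7W l7L 0)) = true := by
  decide +kernel


instance fact7 : Fact (Nat.Prime 7) := ⟨by norm_num⟩

variable {G : Type*} [Group G]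

theorem exists_hom_L27 {K : Type*} [Field K] [Fintype K] (hK : Fintype.card K = 7) {x y : G} (h1 : x ^ 2 = 1)
    (h2 : y ^ 7 = 1) (h3 : (x * y) ^ 3 = 1) (h4 : (x * y ^ 4) ^ 4 = 1) (h5 : x ≠ 1) :
    ∃ φ : Matrix.ProjectiveSpecialLinearGroup (Fin 2) K →* G, Function.Injective φ ∧ x ∈ φ.range ∧ y ∈ φ.range := by
  obtain ⟨e⟩ := psl_congr (ι := Fin 2) (hK.trans (ZMod.card 7).symm)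
  let s : Matrix.SpecialLinearGroup (Fin 2) (ZMod 7) := ⟨!![0, -1; 1, 0], by decide⟩
  let t : Matrix.SpecialLinearGroup (Fin 2) (ZMod 7) := ⟨!![1, 1; 0, 1], by decide⟩
  have pf : commutator (Matrix.SpecialLinearGroup (Fin 2) (ZMod 7)) = ⊤ :=
    Matrix.SL2.commutator_eq_top (a := 2) (by decide) (by decide)
  haveI := CfsgH5.PSL_isSimpleGroup_of_perfect pf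
  obtain ⟨φ, h⟩ := tc_hom (fun k => πS ([s, t].getD k 1)) (fun k => [x, y].getD k 1)
    (fun r hr => (map_wp _ _ r).symm.trans (πS_eq_one.2 (isSc_SL2.2 (by revert r; decide +kernel)))) (by
      simp only [pow_succ, pow_zero, one_mul, mul_assoc, mul_inv_rev] at h1 h2 h3 h4
      simp [l7R, lt, h1, h2, h3, h4]) (map_one _) rfl l7_chk (by
      have := card_PSL2 (F := ZMod 7)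
      rw [ZMod.card] at this
      exact Nat.le_of_mul_le_mul_left (c := 2) this.ge two_pos) (by
      rw [← Set.image_image, ← MonoidHom.map_closure, eq_top_of_triS_loS (H := Subgroup.closure _), Subgroup.map_top_of_surjective _ πS_surj]
      all_goals
        intro a
        have hs : s ∈ Subgroup.closure ((fun k => [s, t].getD k 1) '' Set.Iio 2) := Subgroup.subset_closure ⟨0, by simp, rfl⟩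
        have ht : t ∈ Subgroup.closure ((fun k => [s, t].getD k 1) '' Set.Iio 2) := Subgroup.subset_closure ⟨1, by simp, rfl⟩
      · rw [show triS 1 a = t ^ a.val by revert a; decide +kernel]
        exact pow_mem ht _
      · rw [show loS a = s⁻¹ * (t ^ a.val)⁻¹ * s by revert a; decide +kernel]
        exact mul_mem (mul_mem (inv_mem hs) (inv_mem (pow_mem ht _))) hs)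
  have a := h 0 (by norm_num)
  exact ⟨φ.comp e.toMonoidHom, (injective_of_simple φ (a.trans_ne h5)).comp e.injective, ⟨e.symm _, by simpa using a⟩,
    e.symm _, by simpa using h 1 (by norm_num)⟩

end CfsgH8
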