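import Cfsg.Agent.S4429

/-! The character table of a simple group of order 7920: the relations needed for local data. -/

set_option autoImplicit false
open Cfsg CfsgSm CfsgH4 CfsgH3
open scoped ComplexConjugate

namespace CfsgH8.M11

local notation "C[" Q "]" => Subgroup.centralizer (SetLike.coe (Q : Subgroup _))
local notation "N[" Q "]" => Subgroup.normalizer (SetLike.coe (Q : Subgroup _))
local notation "Z[" u "]" => Subgroup.zpowers u
local notation "C1[" u "]" => Subgroup.centralizer (singleton u)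

theorem ex_equiv {α β : Type*} [Fintype α] [Fintype β] (f : α → ℕ) (g : β → ℕ)
    (h : ∑ a, ({f a} : Multiset ℕ) = ∑ b, ({g b} : Multiset ℕ)) : ∃ e : β ≃ α, ∀ b, f (e b) = g b := by
  classical
  have key : ∀ n, Nonempty ({b // g b = n} ≃ {a // f a = n}) := fun n => by
    have := congrArg (Multiset.count n) h
    simp only [Multiset.count_sum', Multiset.count_singleton, Finset.sum_boole, Nat.cast_id] at this
    refine ⟨Fintype.equivOfCardEq ?_⟩
    rw [Fintype.card_subtype, Fintype.card_subtype]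
    simp only [eq_comm (a := n)] at this
    exact this.symm
  exact ⟨Equiv.ofFiberEquiv fun n => (key n).some, fun b => Equiv.ofFiberEquiv_map _ b⟩

def D : Fin 10 → ℕ := ![1, 10, 10, 10, 11, 16, 16, 44, 45, 55]

variable {G : Type*} [Group G] [Finite G]

theorem orth_sS [Fintype G] (u g : G) (h : ∀ v ∈ Z[u], v ≠ 1 → ¬ IsConj g v) :
    ∑ χ : IrrCharacter G, χ.1 g * sS u χ.1 = 0 := by
  have : ∀ χ : IrrCharacter G, χ.1 g * sS u χ.1 = sS u fun v => χ.1 g * conj (χ.1 v) := fun χ => by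
    obtain ⟨k, hk⟩ := exists_int_sS χ.2.isCharacter u
    rw [sS_mul, ← conj_sS, hk, map_intCast]
  rw [Finset.sum_congr rfl fun χ _ => this χ, ← sS_sum, sS_congr (b := fun _ => 0) fun v hv h1 =>
    column_orthogonality_of_not_isConj (h v hv h1), sS_const, mul_zero]

theorem not_dvd_cent {p : ℕ} [Fact p.Prime] {M : Ideal AlgInt} [PMod p M] {u : G} {e : ℕ}
    {X : Finset (IrrCharacter G)} {y : (Z[u] →* ℂˣ) → IrrCharacter G} {ε : IrrCharacter G → ℤ} {δ : ℤ}
    (H : PB M p u e X y ε δ) (hC : C[Z[u]] = Z[u]) {g : G} (h1 : g ≠ 1) (hg : ¬ p ∣ orderOf g) :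
    ¬ p ∣ Nat.card C1[g] := fun hd => by
  obtain ⟨k, hk, ok⟩ := CfsgH2.exists_prime_order_mem (Fact.out : p.Prime) hd
  have hkp : IsPGroup p Z[k] := IsPGroup.of_card (n := 1) (by rw [Nat.card_zpowers, ok, pow_one])
  obtain ⟨Q, hQ⟩ := hkp.exists_le_sylow
  obtain ⟨x, hx⟩ := MulAction.exists_smul_eq G Q H.sy
  have h2 : x * k * x⁻¹ ∈ Z[u] := by
    rw [← H.coe_sy, ← hx]
    exact Subgroup.smul_mem_pointwise_smul _ (MulAut.conj x) _ (hQ (Subgroup.mem_zpowers k))
  have h3 : x * k * x⁻¹ ≠ 1 := fun h => by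
    have : k = 1 := by simpa using h
    rw [this, orderOf_one] at ok
    exact (Fact.out : p.Prime).one_lt.ne ok
  have h4 : x * g * x⁻¹ ∈ Z[u] := by
    rw [← hC, ← H.cent_eq h2 h3, Subgroup.mem_centralizer_singleton_iff]
    have := Subgroup.mem_centralizer_singleton_iff.1 hk
    calc x * g * x⁻¹ * (x * k * x⁻¹) = x * (g * k) * x⁻¹ := by group
      _ = _ := by rw [← this]; group
  have h5 := dvd_ord_of_mem H.ord h4 (fun h => h1 (by simpa using h))
  apply hg
  rw [← h5]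
  exact ((MulAut.conj x).orderOf_eq g).dvd

variable [IsSimpleGroup G]

theorem tab (h : Nat.card G = 7920) : ∃ χ : Fin 10 ≃ IrrCharacter G, (∀ i, charDegree (χ i).1 = D i) ∧
    χ 0 = irrOne G ∧
    (∀ g : G, g ≠ 1 → ¬ 11 ∣ orderOf g → ¬ 11 ∣ Nat.card C1[g]) ∧
    (∀ g : G, g ≠ 1 → ¬ 5 ∣ orderOf g → ¬ 5 ∣ Nat.card C1[g]) ∧
    (∀ g : G, ¬ 11 ∣ orderOf g → (χ 5).1 g = (χ 6).1 g ∧
      1 + (χ 8).1 g - (χ 1).1 g - (χ 2).1 g - (χ 3).1 g - (χ 5).1 g = 0) ∧
    (∀ g : G, ¬ 5 ∣ orderOf g → 1 + (χ 4).1 g + (χ 5).1 g + (χ 6).1 g - (χ 7).1 g = 0) ∧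
    (∀ t : G, orderOf t = 2 → 90 + 2 * (χ 8).1 t ^ 2 -
      9 * ((χ 1).1 t ^ 2 + (χ 2).1 t ^ 2 + (χ 3).1 t ^ 2) = 0) := by
  classical
  haveI := Fintype.ofFinite G
  haveI : Fact (Nat.Prime 11) := ⟨by norm_num⟩
  haveI : Fact (Nat.Prime 5) := ⟨by norm_num⟩
  obtain ⟨χ, hχ⟩ := ex_equiv _ D ((Cfsg.Agent.S4429.main h).trans (by decide))
  have hG := nc (G := G) (by rw [h]; norm_num)
  have hne : ∀ i, i ≠ 0 → χ i ≠ irrOne G := fun i hi e => by
    have := hχ i
    rw [e, deg_irrOne] at this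
    revert this; fin_cases i <;> simp_all [D]
  have h0 : χ 0 = irrOne G := by
    obtain ⟨i, hi⟩ := χ.surjective (irrOne G)
    by_cases e : i = 0
    · rw [← hi, e]
    · exact absurd hi (hne i e)
  obtain ⟨M, _, u, e, X, y, ε, δ, n, c, H, h1, h2, h3, h4, h5, h6, h7⟩ := setup (p := 11) (m := 720)
    hG (by rw [h]) (by norm_num)
  have bf : ∀ k, k < 7 → n ≠ k * 11 + 1 := fun k a b => by
    obtain ⟨-, -, ⟨a, -⟩ | ⟨a, -⟩⟩ := brc_of H.ord H.syl (perf hG) (core_bot (by rw [h]; norm_num)) (h1.trans b)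
      (fun e => by have := e.le; omega) <;> rw [h] at a <;> norm_num at a
  have hn : n = 144 := by
    have := Cfsg.Agent.S4429.n1 n (Nat.mem_divisors.2 ⟨⟨e * c, by rw [← h3]; ring⟩, by norm_num⟩) h4
    have := bf 1 (by norm_num); have := bf 4 (by norm_num); omega
  have le := Nat.le_of_dvd (by norm_num) h5
  obtain ⟨rfl, rfl⟩ : e = 5 ∧ c = 1 := by subst hn; interval_cases e <;> omega
  have hC := eqC H h2
  have c11 := fun (g : G) => not_dvd_cent H hC (g := g)
  have s11 : ∀ i, sS u (χ i).1 = (![10, -10, -10, -10, 0, -5, -5, 0, 10, 0] : Fin 10 → ℤ) i ∧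
      (D i = 16 → χ i ∈ exc y) := fun i => by
    by_cases i0 : i = 0
    · rw [i0, h0, H.sX H.one, H.eps_one]; simp [D]; norm_num
    have e1 := hχ i
    by_cases a : χ i ∈ X
    · have := (dX hG H a (hne i i0)).2.2.2
      rw [H.sX a]
      rw [e1] at this
      rcases this with ⟨b, c⟩ | ⟨b, c⟩ <;> rw [b] <;> revert c i0 <;> fin_cases i <;> simp [D] <;> norm_num
    by_cases b : χ i ∈ exc y
    · have := (dY hG H b).2.2.2
      rw [H.sY b]
      rw [e1] at this
      refine ⟨?_, fun _ => b⟩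
      rcases this with ⟨b, c⟩ | ⟨b, c⟩ <;> rw [b] <;> revert c i0 <;> fin_cases i <;> simp [D]
    · have : 11 ∣ D i := by
        by_contra c
        exact (mem_of_not_dvd H hC (e1 ▸ c)).elim a b
      rw [H.sOut hC a b]
      revert this; fin_cases i <;> simp [D]
  obtain ⟨M', _, u', e', X', y', ε', δ', n', c', H', k1, k2, k3, k4, k5, k6, k7⟩ := setup (p := 5) (m := 1584)
    hG (by rw [h]) (by norm_num)
  have dz : ∀ i, χ i ∈ principalBlock M' G → ¬ 5 ∣ D i := fun i a b =>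
    not_principal_of_dz (M := M') (by rw [h]; norm_num) (χ := χ i) (by
      rw [hχ, h]; revert b; fin_cases i <;> simp [D]) a
  have he' : e' = 4 := by
    have := Nat.le_of_dvd (by norm_num) k5
    have h24 : e' = 2 ∨ e' = 4 := by interval_cases e' <;> simp_all
    refine h24.resolve_left ?_
    rintro rfl
    obtain ⟨θ, hθ⟩ := Finset.card_eq_one.1 (Nat.add_right_cancel (card_erase H' : _ = 1 + 1))
    obtain ⟨ψ, ψ', hψ, hψ', hne'⟩ := Finset.one_lt_card_iff.1 (show 1 < (exc y').card by have := H'.cardY; omega)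
    have r := rel' H' hψ
    rw [hθ, Finset.sum_singleton] at r
    have r2 := H'.degY_eq hψ hψ'
    obtain ⟨i, rfl⟩ := χ.surjective ψ
    obtain ⟨j, rfl⟩ := χ.surjective ψ'
    obtain ⟨l, rfl⟩ := χ.surjective θ
    have r3 := dz i (H'.memY hψ)
    rw [hχ, hχ] at r r2
    have r4 : D i = 16 := by
      have : i ≠ j := fun e => hne' (by rw [e])
      exact (by decide : ∀ i j, D i = D j → ¬ 5 ∣ D i → i ≠ j → D i = 16) i j r2 r3 this
    rw [r4] at r
    have r5 : D l = 15 ∨ D l = 17 := by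
      rcases H'.sgn (χ l) with a | a <;> rcases H'.sgn' with b | b <;> rw [a, b] at r <;> omega
    exact (by decide : ∀ l, ¬ (D l = 15 ∨ D l = 17)) l r5
  subst he'
  have h5mem : χ 5 ∈ X' ∨ χ 5 ∈ exc y' := by
    by_contra hcon
    have c1 : (X' ∪ exc y').card = 5 := by
      rw [Finset.card_union_of_disjoint H'.disj, H'.cardX]; have := H'.cardY; omega
    have c2 : X' ∪ exc y' ⊆ ({0, 4, 6, 7} : Finset (Fin 10)).image χ := fun φ hφ => by
      obtain ⟨i, rfl⟩ := χ.surjective φ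
      refine Finset.mem_image_of_mem _ ?_
      have a := dz i ((Finset.mem_union.1 hφ).elim H'.memX H'.memY)
      have b : i ≠ 5 := fun e => hcon (Finset.mem_union.1 (e ▸ hφ))
      clear hφ; revert a b; revert i; decide
    have := (Finset.card_le_card c2).trans Finset.card_image_le
    rw [c1] at this
    revert this; decide
  have d1 : 16 ∣ 4 * n' := by
    rw [← k1, ← show D 5 = 16 from rfl, ← hχ]
    exact h5mem.elim H'.dvdX H'.dvdY
  obtain ⟨-, hn'⟩ := Cfsg.Agent.S4429.n4 4 (by simp) n' (Nat.mem_divisors.2 ⟨⟨c', by rw [mul_assoc] at k3; omega⟩, by norm_num⟩) k4 d1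
  obtain rfl : c' = 1 := by
    rcases hn' with rfl | rfl
    · exfalso
      refine c11 u' H'.ne_one (by rw [H'.ord]; norm_num) ?_
      rw [H'.cent_eq (Subgroup.mem_zpowers _) H'.ne_one, k2, show c' = 11 by omega]; norm_num
    · omega
  have hC' := eqC H' k2
  have s5 : ∀ i, sS u' (χ i).1 = (![4, 0, 0, 0, 4, 4, 4, -4, 0, 0] : Fin 10 → ℤ) i := fun i => by
    by_cases i0 : i = 0
    · rw [i0, h0, H'.sX H'.one, H'.eps_one]; simp; norm_num
    have e1 := hχ i
    by_cases a : χ i ∈ X'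
    · have := (dX hG H' a (hne i i0)).2.2.2
      rw [H'.sX a]
      rw [e1] at this
      rcases this with ⟨b, c⟩ | ⟨b, c⟩ <;> rw [b] <;> revert c i0 <;> fin_cases i <;> simp [D] <;> norm_num
    by_cases b : χ i ∈ exc y'
    · have := (dY hG H' b).2.2.2
      rw [H'.sY b]
      rw [e1] at this
      rcases this with ⟨b, c⟩ | ⟨b, c⟩ <;> rw [b] <;> revert c i0 <;> fin_cases i <;> simp [D]
    · have : 5 ∣ D i := by
        by_contra c
        exact (mem_of_not_dvd H' hC' (e1 ▸ c)).elim a b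
      rw [H'.sOut hC' a b]
      revert this; fin_cases i <;> simp [D]
  have nc : ∀ {p : ℕ} [Fact p.Prime] {w : G}, orderOf w = p → ∀ g : G, ¬ p ∣ orderOf g →
      ∀ v ∈ Z[w], v ≠ 1 → ¬ IsConj g v := fun {p} _ {w} hw g hg v hv h1 hc => by
    obtain ⟨x, rfl⟩ := isConj_iff.1 hc
    apply hg
    rw [← dvd_ord_of_mem hw hv h1]
    exact ((MulAut.conj x).orderOf_eq g).dvd
  have e56 : ∀ g : G, ¬ 11 ∣ orderOf g → (χ 5).1 g = (χ 6).1 g := fun g hg =>
    H.regY ((s11 5).2 rfl) ((s11 6).2 rfl) hg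
  have one : ∀ g, (χ 0).1 g = 1 := fun g => by rw [h0]; rfl
  refine ⟨χ, hχ, h0, c11, fun g => not_dvd_cent H' hC', fun g hg => ⟨e56 g hg, ?_⟩, fun g hg => ?_, fun t ht => ?_⟩
  · have := orth_sS u g (nc H.ord g hg)
    rw [← χ.sum_comp] at this
    simp only [fun i => (s11 i).1, Fin.sum_univ_succ, Fin.sum_univ_zero] at this
    simp [one] at this
    have e := e56 g hg
    linear_combination (1 / 10 : ℂ) * this + (-1 / 2 : ℂ) * e
  · have := orth_sS u' g (nc H'.ord g hg)
    rw [← χ.sum_comp] at this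
    simp only [s5, Fin.sum_univ_succ, Fin.sum_univ_zero] at this
    simp [one] at this
    linear_combination (1 / 4 : ℂ) * this
  · have tt : t * t = 1 := CfsgL0.inv_mul_self ht
    have P := H.sS_pairs hC t t
    rw [sS_congr (b := fun _ => 0) (fun v hv h1 => by
      rw [Nat.cast_eq_zero, Nat.card_eq_zero]
      refine Or.inl ⟨fun z => ?_⟩
      have a1 := (H.card_pairs_le hC tt tt hv h1).2 z.1 z.2
      have a2 := H.mem_norm hv h1 (a1 ▸ Subgroup.inv_mem _ hv)
      have a3 := Subgroup.orderOf_dvd_natCard _ a2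
      obtain ⟨x, hx⟩ := isConj_iff.1 z.2.1
      rw [← hx, show orderOf (x * t * x⁻¹) = orderOf t from (MulAut.conj x).orderOf_eq t, ht] at a3
      have a4 := (N[Z[u]]).card_mul_index
      rw [‹(N[Z[u]]).index = n›, hn, h] at a4
      omega), sS_const, mul_zero, zero_mul, eq_comm, mul_eq_zero, mul_self_eq_zero] at P
    have P' := P.resolve_left (by exact_mod_cast Subgroup.index_ne_zero_of_finite)
    rw [← χ.sum_comp] at P'
    have z5 : ∀ i, D i = 16 → (χ i).1 t = 0 := fun i hi =>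
      (χ i).2.eq_zero_of_defect_zero (p := 2) Nat.prime_two (coe_deg _).symm (by rw [hχ, hi, h]; norm_num) ht.symm.dvd
    simp only [fun i => (s11 i).1, ← coe_deg, hχ, Fin.sum_univ_succ, Fin.sum_univ_zero] at P'
    simp [one, D, z5 5 rfl, z5 6 rfl] at P'
    linear_combination 9 * P'

end CfsgH8.M11
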