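import Cfsg.Agent.H8.M11a
import Cfsg.Agent.H3.Coh6

/-! Involutions and elements of order 3 of a simple group of order 7920. -/

set_option autoImplicit false
open Cfsg CfsgSm CfsgH4 CfsgH3
open scoped ComplexConjugate

namespace CfsgH8.M11

local notation "C[" Q "]" => Subgroup.centralizer (SetLike.coe (Q : Subgroup _))
local notation "N[" Q "]" => Subgroup.normalizer (SetLike.coe (Q : Subgroup _))
local notation "Z[" u "]" => Subgroup.zpowers u
local notation "C1[" u "]" => Subgroup.centralizer (singleton u)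

theorem num1 : ∀ x ∈ Finset.Icc (-9 : ℤ) 9, ∀ y ∈ Finset.Icc (-9 : ℤ) 9, ∀ z ∈ Finset.Icc (-9 : ℤ) 9,
    90 + 2 * (x + y + z - 1) ^ 2 = 9 * (x ^ 2 + y ^ 2 + z ^ 2) →
      x + y + z = -2 ∧ x ^ 2 = 4 ∧ y ^ 2 = 4 ∧ z ^ 2 = 4 := by decide +kernel

theorem num2 : ∀ b ∈ Finset.Icc (-10 : ℤ) 10, 3 * b ^ 2 - 2 * b + 27 ∣ 7920 → ¬ 5 ∣ 3 * b ^ 2 - 2 * b + 27 → b = 3 := by
  decide +kernel

variable {G : Type*} [Group G] [Finite G] [IsSimpleGroup G]

theorem main (h : Nat.card G = 7920) :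
    (∀ g : G, g ≠ 1 → ¬ 11 ∣ orderOf g → ¬ 11 ∣ Nat.card C1[g]) ∧
    (∀ g : G, g ≠ 1 → ¬ 5 ∣ orderOf g → ¬ 5 ∣ Nat.card C1[g]) ∧
    (∀ t : G, orderOf t = 2 → Nat.card C1[t] = 48) ∧
    (∀ t s : G, orderOf t = 2 → orderOf s = 2 → IsConj t s) ∧
    ∀ x : G, orderOf x = 3 → 2 ∣ Nat.card C1[x] := by
  classical
  haveI := Fintype.ofFinite G
  obtain ⟨χ, hχ, h0, c11, c5, r11, r5, rr⟩ := tab h
  have hG := nc (G := G) (by rw [h]; norm_num)
  have one : ∀ g, (χ 0).1 g = 1 := fun g => by rw [h0]; rfl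
  have hne : ∀ i, i ≠ 0 → χ i ≠ irrOne G := fun i hi e => hi (χ.injective (e.trans h0.symm))
  have r1 : ∀ g : G, g ≠ 1 → 1 + 10 * ((χ 1).1 g + (χ 2).1 g + (χ 3).1 g) + 11 * (χ 4).1 g +
      16 * ((χ 5).1 g + (χ 6).1 g) + 44 * (χ 7).1 g + 45 * (χ 8).1 g + 55 * (χ 9).1 g = 0 := fun g hg => by
    have := sum_irr_deg_mul g
    rw [regChar_of_ne hg, ← χ.sum_comp] at this
    simp only [← coe_deg, hχ, Fin.sum_univ_succ, Fin.sum_univ_zero] at this
    simp [one, D] at this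
    linear_combination this
  have z : ∀ i (p : ℕ), p.Prime → ¬ p ∣ 7920 / D i → ∀ g : G, p ∣ orderOf g → (χ i).1 g = 0 := fun i p hp hi g hg =>
    (χ i).2.eq_zero_of_defect_zero hp (coe_deg _).symm (by rw [hχ, h]; exact hi) hg
  have inv : ∀ t : G, orderOf t = 2 → ∃ v : Fin 10 → ℤ, (∀ i, (χ i).1 t = v i) ∧ v 0 = 1 ∧ v 1 ^ 2 = 4 ∧
      v 2 ^ 2 = 4 ∧ v 3 ^ 2 = 4 ∧ v 4 = 3 ∧ v 5 = 0 ∧ v 6 = 0 ∧ v 7 = 4 ∧ v 8 = -3 ∧ v 9 = -1 ∧
      Nat.card C1[t] = 48 := fun t ht => by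
    have t1 := CfsgL0.inv_ne_one ht
    choose v hv using fun i => exists_int_of_sq (χ i).2.isGen (CfsgL0.inv_mul_self ht)
    have a0 : v 0 = 1 := by have := one t; rw [hv] at this; exact_mod_cast this
    have a5 : v 5 = 0 := by have := z 5 2 Nat.prime_two (by decide) t ht.symm.dvd; rw [hv] at this; exact_mod_cast this
    have a6 : v 6 = 0 := by have := z 6 2 Nat.prime_two (by decide) t ht.symm.dvd; rw [hv] at this; exact_mod_cast this
    have b1 := (r11 t (by rw [ht]; norm_num)).2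
    have b2 := r5 t (by rw [ht]; norm_num)
    have b3 := rr t ht
    have b4 := r1 t t1
    simp only [hv] at b1 b2 b3 b4
    have b1' : 1 + v 8 - v 1 - v 2 - v 3 - v 5 = 0 := by exact_mod_cast b1
    have b2' : 1 + v 4 + v 5 + v 6 - v 7 = 0 := by exact_mod_cast b2
    have b3' : 90 + 2 * v 8 ^ 2 - 9 * (v 1 ^ 2 + v 2 ^ 2 + v 3 ^ 2) = 0 := by exact_mod_cast b3
    have b4' : 1 + 10 * (v 1 + v 2 + v 3) + 11 * v 4 + 16 * (v 5 + v 6) + 44 * v 7 + 45 * v 8 + 55 * v 9 = 0 := by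
      exact_mod_cast b4
    have bd : ∀ i, i ≠ 0 → |v i| < D i := fun i hi => by
      have := abs_lt hG (hne i hi) t1 (hv i); rwa [hχ] at this
    have d1 := abs_lt.1 (bd 1 (by decide))
    have d2 := abs_lt.1 (bd 2 (by decide))
    have d3 := abs_lt.1 (bd 3 (by decide))
    have d4 := abs_lt.1 (bd 4 (by decide))
    simp only [D, Matrix.cons_val] at d1 d2 d3 d4
    obtain ⟨e1, e2, e3, e4⟩ := num1 (v 1) (Finset.mem_Icc.2 (by omega)) (v 2) (Finset.mem_Icc.2 (by omega))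
      (v 3) (Finset.mem_Icc.2 (by omega)) (by rw [show v 1 + v 2 + v 3 - 1 = v 8 by omega]; linarith)
    have cc := column_orthogonality_self t
    rw [← χ.sum_comp] at cc
    simp only [hv, Complex.norm_intCast, sq_abs, Fin.sum_univ_succ, Fin.sum_univ_zero] at cc
    have cc' : v 0 ^ 2 + v 1 ^ 2 + v 2 ^ 2 + v 3 ^ 2 + v 4 ^ 2 + v 5 ^ 2 + v 6 ^ 2 + v 7 ^ 2 + v 8 ^ 2 + v 9 ^ 2 =
        Nat.card C1[t] := by
      apply Int.cast_injective (α := ℝ)
      push_cast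
      rw [← cc]; simp; ring
    have a8 : v 8 = -3 := by omega
    have f1 : (Nat.card C1[t] : ℤ) = 3 * v 4 ^ 2 - 2 * v 4 + 27 := by
      rw [← cc', a0, e2, e3, e4, a5, a6, a8, show v 7 = 1 + v 4 by omega, show v 9 = 2 - v 4 by omega]; ring
    have a4 := num2 (v 4) (Finset.mem_Icc.2 (by omega)) (by
      rw [← f1]; exact_mod_cast h ▸ Subgroup.card_subgroup_dvd_card _) (by
      rw [← f1]; exact_mod_cast c5 t t1 (by rw [ht]; norm_num))
    rw [a4] at f1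
    exact ⟨v, hv, a0, e2, e3, e4, a4, a5, a6, by omega, a8, by omega, by omega⟩
  refine ⟨c11, c5, fun t ht => ?_, fun t s ht hs => ?_, fun x hx => ?_⟩
  · obtain ⟨v, -, -, -, -, -, -, -, -, -, -, -, h⟩ := inv t ht
    exact h
  · by_contra hc
    obtain ⟨v, hv, a0, a1, a2, a3, a4, a5, a6, a7, a8, a9, -⟩ := inv t ht
    obtain ⟨w, hw, b0, b1, b2, b3, b4, b5, b6, b7, b8, b9, -⟩ := inv s hs
    have cc := column_orthogonality_of_not_isConj hc
    rw [← χ.sum_comp] at cc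
    simp only [hv, hw, map_intCast, Fin.sum_univ_succ, Fin.sum_univ_zero] at cc
    have cc' : v 0 * w 0 + v 1 * w 1 + v 2 * w 2 + v 3 * w 3 + v 4 * w 4 + v 5 * w 5 + v 6 * w 6 + v 7 * w 7 +
        v 8 * w 8 + v 9 * w 9 = 0 := by
      apply Int.cast_injective (α := ℂ)
      push_cast
      rw [← cc]; simp; ring
    rw [a0, a4, a5, a6, a7, a8, a9, b0, b4, b7, b8, b9] at cc'
    nlinarith [sq_nonneg (v 1 + w 1), sq_nonneg (v 2 + w 2), sq_nonneg (v 3 + w 3)]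
  · have x1 : x ≠ 1 := by rintro rfl; simp at hx
    have x3 : x ^ 3 = 1 := hx ▸ pow_orderOf_eq_one x
    have hint : ∀ i, (χ i).1 x⁻¹ = (χ i).1 x → ∃ n : ℤ, (χ i).1 x = n := fun i hi => by
      have hz : ∀ z ∈ Z[x], z ≠ 1 → (χ i).1 z = (χ i).1 x := fun z hz z1 => by
        obtain ⟨k, rfl⟩ := (mem_powers_iff_mem_zpowers (x := x)).2 hz
        simp only at z1 ⊢
        rw [← pow_mod_orderOf, hx] at z1 ⊢
        have : k % 3 < 3 := Nat.mod_lt _ (by norm_num)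
        interval_cases k % 3
        · simp at z1
        · rw [pow_one]
        · rw [← hi, show x ^ 2 = x⁻¹ from eq_inv_of_mul_eq_one_left (by rw [← pow_succ, x3])]
      exact (χ i).2.isGen.exists_int_of_const (Z := Z[x]) (fun a ha b hb a1 b1 => (hz a ha a1).trans (hz b hb b1).symm)
        (Subgroup.mem_zpowers x)
    have hconj : ∀ i, ∃ j, D j = D i ∧ (χ i).1 x⁻¹ = (χ j).1 x := fun i => by
      obtain ⟨j, hj⟩ := χ.surjective ⟨_, (χ i).2.conj⟩
      refine ⟨j, ?_, by rw [hj, (χ i).2.isCharacter.apply_inv]⟩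
      have e1 := coe_deg (χ j)
      rw [hχ, hj] at e1
      simp only [← coe_deg, hχ, map_natCast] at e1
      exact_mod_cast e1
    have e56 := (r11 x (by rw [hx]; norm_num)).1
    obtain ⟨b, hb⟩ := hint 4 (by
      obtain ⟨j, h1, h2⟩ := hconj 4
      rw [h2, (by decide : ∀ j, D j = D 4 → j = 4) j h1])
    obtain ⟨a, ha⟩ := hint 5 (by
      obtain ⟨j, h1, h2⟩ := hconj 5
      rcases (by decide : ∀ j, D j = D 5 → j = 5 ∨ j = 6) j h1 with rfl | rfl
      · exact h2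
      · exact h2.trans e56.symm)
    haveI : Fact (Nat.Prime 3) := ⟨by norm_num⟩
    have m4 := dvd_sub_of_pelt (p := 3) (χ 4).2.isCharacter ⟨1, hx⟩ hb (irr_one_eq _)
    have m5 := dvd_sub_of_pelt (p := 3) (χ 5).2.isCharacter ⟨1, hx⟩ ha (irr_one_eq _)
    rw [hχ] at m4 m5
    simp only [D, Matrix.cons_val] at m4 m5
    have b1 := (r11 x (by rw [hx]; norm_num)).2
    have b2 := r5 x (by rw [hx]; norm_num)
    have b4 := r1 x x1
    have z8 := z 8 3 (by norm_num) (by decide) x hx.symm.dvd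
    have v7 : (χ 7).1 x = ((1 + b + 2 * a : ℤ) : ℂ) := by
      push_cast; rw [← e56, ha, hb] at b2; linear_combination -b2
    have v9 : (χ 9).1 x = ((-(1 + b + 2 * a) : ℤ) : ℂ) := by
      rw [← e56, v7, z8, ha, hb] at b4
      rw [z8, ha] at b1
      push_cast at b4 ⊢
      linear_combination (1 / 55 : ℂ) * b4 + (10 / 55 : ℂ) * b1
    have cc := column_orthogonality_self x
    rw [← χ.sum_comp] at cc
    simp only [Fin.sum_univ_succ, Fin.sum_univ_zero] at cc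
    have cc' : 1 + b ^ 2 + 2 * a ^ 2 + 2 * (1 + b + 2 * a) ^ 2 ≤ (Nat.card C1[x] : ℤ) := by
      have h6 : (χ 6).1 x = a := by rw [← e56, ha]
      simp only [Fin.succ_zero_eq_one, Fin.succ_one_eq_two, Fin.reduceSucc, one, hb, ha, h6, v7, v9,
        Complex.norm_intCast, sq_abs, norm_one] at cc
      have : ((1 + b ^ 2 + 2 * a ^ 2 + 2 * (1 + b + 2 * a) ^ 2 : ℤ) : ℝ) ≤ ((Nat.card C1[x] : ℤ) : ℝ) := by
        push_cast at cc ⊢
        nlinarith [sq_nonneg ‖(χ 1).1 x‖, sq_nonneg ‖(χ 2).1 x‖, sq_nonneg ‖(χ 3).1 x‖, sq_nonneg ‖(χ 8).1 x‖]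
      exact_mod_cast this
    by_contra h2
    have h3 : Nat.card C1[x] ∣ 9 := by
      have h4 : Nat.card C1[x] ∣ 9 * (2 ^ 4 * 5 * 11) :=
        (Subgroup.card_subgroup_dvd_card _).trans (by rw [h]; norm_num)
      refine Nat.Coprime.dvd_of_dvd_mul_right ?_ h4
      refine Nat.Coprime.mul_right (Nat.Coprime.mul_right (Nat.Coprime.pow_right _ ?_) ?_) ?_
      · exact ((Nat.Prime.coprime_iff_not_dvd Nat.prime_two).2 h2).symm
      · exact ((Nat.Prime.coprime_iff_not_dvd Nat.prime_five).2 (c5 x x1 (by rw [hx]; norm_num))).symm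
      · exact ((Nat.Prime.coprime_iff_not_dvd (by norm_num)).2 (c11 x x1 (by rw [hx]; norm_num))).symm
    have h4 : (Nat.card C1[x] : ℤ) ≤ 9 := by exact_mod_cast Nat.le_of_dvd (by norm_num) h3
    have h5 : b ^ 2 ≤ 8 := by nlinarith [sq_nonneg a, sq_nonneg (1 + b + 2 * a)]
    have h6 : a ^ 2 ≤ 4 := by nlinarith [sq_nonneg b, sq_nonneg (1 + b + 2 * a)]
    have h7 : -3 < b ∧ b < 3 := by constructor <;> nlinarith
    have h8 : -3 < a ∧ a < 3 := by constructor <;> nlinarith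
    obtain ⟨h7, h7'⟩ := h7
    obtain ⟨h8, h8'⟩ := h8
    interval_cases b <;> interval_cases a <;> omega

end CfsgH8.M11
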