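import Cfsg.Agent.H8.M11b
import Cfsg.Agent.S0434

/-! The 3-local structure of a simple group of order 7920. -/

set_option autoImplicit false
open Cfsg CfsgSm CfsgH4 CfsgH3
open scoped ComplexConjugate

namespace CfsgH8.M11

local notation "C[" Q "]" => Subgroup.centralizer (SetLike.coe (Q : Subgroup _))
local notation "N[" Q "]" => Subgroup.normalizer (SetLike.coe (Q : Subgroup _))
local notation "Z[" u "]" => Subgroup.zpowers u
local notation "C1[" u "]" => Subgroup.centralizer (singleton u)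

instance fact3 : Fact (Nat.Prime 3) := ⟨by norm_num⟩

theorem num3 : ∀ a ∈ Finset.Icc (-6 : ℤ) 6, ∀ b ∈ Finset.Icc (-9 : ℤ) 9, ∀ x ∈ Finset.Icc (-9 : ℤ) 9,
    3 ∣ b - 11 → 1 + (-1 - 3 * a - 2 * b) ^ 2 + x ^ 2 + (2 + 2 * a + 2 * b - x) ^ 2 + b ^ 2 + 2 * a ^ 2 +
      2 * (1 + b + 2 * a) ^ 2 ≠ 72 := by decide +kernel

theorem num4 {u1 u2 u3 v1 v2 v3 a b : ℤ} (e1 : u1 + u2 + u3 = -2) (e2 : u1 ^ 2 = 4) (e3 : u2 ^ 2 = 4)
    (e4 : u3 ^ 2 = 4) (b1 : v1 + v2 + v3 = 1 - a) (cc : 1 + u1 * v1 + u2 * v2 + u3 * v3 + 3 * b + 5 * (1 + b + 2 * a) = 0)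
    (m4 : 3 ∣ b - 11) (b4 : 1 + v1 ^ 2 + v2 ^ 2 + v3 ^ 2 + b ^ 2 + 2 * a ^ 2 + 2 * (1 + b + 2 * a) ^ 2 = 72) : False := by
  have s : ∀ k : ℤ, k ^ 2 = 4 → k = 2 ∨ k = -2 := fun k hk => by
    have : (k - 2) * (k + 2) = 0 := by linarith
    rcases mul_eq_zero.1 this with e | e <;> omega
  have bb : ∀ k : ℤ, k ^ 2 ≤ 72 → k ∈ Finset.Icc (-9 : ℤ) 9 := fun k hk => Finset.mem_Icc.2 ⟨by nlinarith, by nlinarith⟩
  have bb' : ∀ k : ℤ, k ^ 2 ≤ 36 → k ∈ Finset.Icc (-6 : ℤ) 6 := fun k hk => Finset.mem_Icc.2 ⟨by nlinarith, by nlinarith⟩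
  have := sq_nonneg v1
  have := sq_nonneg v2
  have := sq_nonneg v3
  have := sq_nonneg a
  have := sq_nonneg b
  have := sq_nonneg (1 + b + 2 * a)
  have q5 := bb' a (by linarith)
  have q4 := bb b (by linarith)
  have q1 := bb v1 (by linarith)
  have q2 := bb v2 (by linarith)
  rcases s _ e2 with rfl | rfl <;> rcases s _ e3 with rfl | rfl <;> rcases s _ e4 with rfl | rfl <;> try omega
  · refine num3 _ q5 _ q4 _ q2 m4 ?_
    rw [show -1 - 3 * a - 2 * b = v1 by omega, show 2 + 2 * a + 2 * b - v2 = v3 by omega]; linarith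
  · refine num3 _ q5 _ q4 _ q1 m4 ?_
    rw [show -1 - 3 * a - 2 * b = v2 by omega, show 2 + 2 * a + 2 * b - v1 = v3 by omega]; linarith
  · refine num3 _ q5 _ q4 _ q1 m4 ?_
    rw [show -1 - 3 * a - 2 * b = v3 by omega, show 2 + 2 * a + 2 * b - v1 = v2 by omega]; linarith

variable {G : Type*} [Group G] [Finite G] [IsSimpleGroup G]

theorem ne72 (h : Nat.card G = 7920) {x : G} (hx : orderOf x = 3) (hr : IsConj x x⁻¹) : Nat.card C1[x] ≠ 72 := by
  classical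
  intro h72
  haveI := Fintype.ofFinite G
  obtain ⟨χ, hχ, h0, c11, c5, r11, r5, rr⟩ := tab h
  have hG := nc (G := G) (by rw [h]; norm_num)
  have one : ∀ g, (χ 0).1 g = 1 := fun g => by rw [h0]; rfl
  have hne : ∀ i, i ≠ 0 → χ i ≠ irrOne G := fun i hi e => hi (χ.injective (e.trans h0.symm))
  have r1 : ∀ g : G, g ≠ 1 → 1 + 10 * ((χ 1).1 g + (χ 2).1 g + (χ 3).1 g) + 11 * (χ 4).1 g +
      16 * ((χ 5).1 g + (χ 6).1 g) + 44 * (χ 7).1 g + 45 * (χ 8).1 g + 55 * (χ 9).1 g = 0 := fun g hg => by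
    have := sum_irr_deg_mul g
    rw [regChar_of_ne hg, ← χ.sum_comp] at this
    simp only [← coe_deg, hχ, Fin.sum_univ_succ, Fin.sum_univ_zero] at this
    simp [one, D] at this
    linear_combination this
  have z : ∀ i (p : ℕ), p.Prime → ¬ p ∣ 7920 / D i → ∀ g : G, p ∣ orderOf g → (χ i).1 g = 0 := fun i p hp hi g hg =>
    (χ i).2.eq_zero_of_defect_zero hp (coe_deg _).symm (by rw [hχ, h]; exact hi) hg
  have gen : ∀ g : G, g ≠ 1 → ¬ 11 ∣ orderOf g → ¬ 5 ∣ orderOf g → ∀ v : Fin 10 → ℤ, (∀ i, (χ i).1 g = v i) →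
      v 0 = 1 ∧ v 5 = v 6 ∧ 1 + v 8 - v 1 - v 2 - v 3 - v 5 = 0 ∧ 1 + v 4 + v 5 + v 6 - v 7 = 0 ∧
      1 + 10 * (v 1 + v 2 + v 3) + 11 * v 4 + 16 * (v 5 + v 6) + 44 * v 7 + 45 * v 8 + 55 * v 9 = 0 ∧
      v 0 ^ 2 + v 1 ^ 2 + v 2 ^ 2 + v 3 ^ 2 + v 4 ^ 2 + v 5 ^ 2 + v 6 ^ 2 + v 7 ^ 2 + v 8 ^ 2 + v 9 ^ 2 =
        Nat.card C1[g] := fun g g1 g11 g5 v hv => by
    have a0 := one g
    obtain ⟨b0, b1⟩ := r11 g g11
    have b2 := r5 g g5
    have b4 := r1 g g1
    simp only [hv] at a0 b0 b1 b2 b4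
    refine ⟨by exact_mod_cast a0, by exact_mod_cast b0, by exact_mod_cast b1, by exact_mod_cast b2,
      by exact_mod_cast b4, ?_⟩
    have cc := column_orthogonality_self g
    rw [← χ.sum_comp] at cc
    simp only [hv, Complex.norm_intCast, sq_abs, Fin.sum_univ_succ, Fin.sum_univ_zero] at cc
    apply Int.cast_injective (α := ℝ)
    push_cast
    rw [← cc]; simp; ring
  obtain ⟨t, -, ht⟩ := CfsgH2.exists_prime_order_mem (H := (⊤ : Subgroup G)) Nat.prime_two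
    (by rw [Subgroup.card_top, h]; norm_num)
  have t1 := CfsgL0.inv_ne_one ht
  choose u hu using fun i => exists_int_of_sq (χ i).2.isGen (CfsgL0.inv_mul_self ht)
  obtain ⟨a0, a56, a1, a2, a3, a4⟩ := gen t t1 (by rw [ht]; norm_num) (by rw [ht]; norm_num) u hu
  have a5 : u 5 = 0 := by have := z 5 2 Nat.prime_two (by decide) t ht.symm.dvd; rw [hu] at this; exact_mod_cast this
  have b3 := rr t ht
  simp only [hu] at b3
  have b3' : 90 + 2 * u 8 ^ 2 - 9 * (u 1 ^ 2 + u 2 ^ 2 + u 3 ^ 2) = 0 := by exact_mod_cast b3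
  have bd : ∀ i, i ≠ 0 → |u i| < D i := fun i hi => by
    have := abs_lt hG (hne i hi) t1 (hu i); rwa [hχ] at this
  have d1 := abs_lt.1 (bd 1 (by decide))
  have d2 := abs_lt.1 (bd 2 (by decide))
  have d3 := abs_lt.1 (bd 3 (by decide))
  simp only [D, Matrix.cons_val] at d1 d2 d3
  obtain ⟨e1, e2, e3, e4⟩ := num1 (u 1) (Finset.mem_Icc.2 (by omega)) (u 2) (Finset.mem_Icc.2 (by omega))
    (u 3) (Finset.mem_Icc.2 (by omega)) (by rw [show u 1 + u 2 + u 3 - 1 = u 8 by omega]; linarith)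
  rw [(main h).2.2.1 t ht] at a4
  have a8 : u 8 = -3 := by omega
  have f4 : u 4 = 3 := by
    rw [a0, e2, e3, e4, ← a56, a5, a8, show u 7 = 1 + u 4 by omega, show u 9 = 2 - u 4 by omega] at a4
    have : (u 4 - 3) * (3 * u 4 + 7) = 0 := by push_cast at a4; linarith
    rcases mul_eq_zero.1 this with e | e <;> omega
  have x1 : x ≠ 1 := by rintro rfl; simp at hx
  have x3 : x ^ 3 = 1 := hx ▸ pow_orderOf_eq_one x
  choose v hv using fun i => exists_int_of_rational (χ i).2.isGen (g := x) fun k hk => by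
    rw [← pow_mod_orderOf, hx]
    rw [hx] at hk
    have : k % 3 < 3 := Nat.mod_lt _ (by norm_num)
    have : k % 3 ≠ 0 := fun e => by
      have := Nat.eq_one_of_dvd_coprimes hk (Nat.dvd_of_mod_eq_zero e) dvd_rfl
      omega
    interval_cases k % 3
    · omega
    · rw [pow_one]
    · rwa [show x ^ 2 = x⁻¹ from eq_inv_of_mul_eq_one_left (by rw [← pow_succ, x3])]
  obtain ⟨b0, b56, b1, b2, b3, b4⟩ := gen x x1 (by rw [hx]; norm_num) (by rw [hx]; norm_num) v hv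
  have b8 : v 8 = 0 := by have := z 8 3 (by norm_num) (by decide) x hx.symm.dvd; rw [hv] at this; exact_mod_cast this
  have m4 := dvd_sub_of_pelt (p := 3) (χ 4).2.isCharacter ⟨1, hx⟩ (hv 4) (irr_one_eq _)
  rw [hχ] at m4
  simp only [D, Matrix.cons_val] at m4
  have cc := column_orthogonality_of_not_isConj (g := t) (h := x) fun hc => by
    obtain ⟨g, rfl⟩ := isConj_iff.1 hc
    rw [show orderOf (g * t * g⁻¹) = orderOf t from (MulAut.conj g).orderOf_eq t, ht] at hx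
    omega
  rw [← χ.sum_comp] at cc
  simp only [hu, hv, map_intCast, Fin.sum_univ_succ, Fin.sum_univ_zero] at cc
  have cc' : u 0 * v 0 + u 1 * v 1 + u 2 * v 2 + u 3 * v 3 + u 4 * v 4 + u 5 * v 5 + u 6 * v 6 + u 7 * v 7 +
      u 8 * v 8 + u 9 * v 9 = 0 := by
    apply Int.cast_injective (α := ℂ)
    push_cast
    rw [← cc]; simp; ring
  have v7 : v 7 = 1 + v 4 + 2 * v 5 := by omega
  have v9 : v 9 = -(1 + v 4 + 2 * v 5) := by omega
  have u7 : u 7 = 4 := by omega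
  have u9 : u 9 = -1 := by omega
  have v123 : v 1 + v 2 + v 3 = 1 - v 5 := by omega
  rw [h72, b0, ← b56, b8, v7, v9] at b4
  rw [a0, ← a56, a5, f4, b8, u7, u9, b0, v7, v9] at cc'
  exact num4 (b := v 4) e1 e2 e3 e4 v123 (by linear_combination cc') (by simpa using m4) (by push_cast at b4; linear_combination b4)

/-- `z` is an involution inverting `P`. -/
def Inv (z : G) (P : Sylow 3 G) : Prop := z * z = 1 ∧ ∀ x ∈ (P : Subgroup G), z * x * z⁻¹ = x⁻¹

variable (h : Nat.card G = 7920)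
include h

omit [IsSimpleGroup G] in
theorem cP (P : Sylow 3 G) : Nat.card (P : Subgroup G) = 9 := by
  rw [P.card_eq_multiplicity, fact_eq (k := 2) (m := 880) (by norm_num) (by rw [h]; norm_num) (by norm_num)]
  norm_num

omit [IsSimpleGroup G] in
theorem comm (P : Sylow 3 G) {x y : G} (hx : x ∈ (P : Subgroup G)) (hy : y ∈ (P : Subgroup G)) : x * y = y * x := by
  letI := IsPGroup.commGroupOfCardEqPrimeSq (p := 3) (G := (P : Subgroup G)) (by rw [cP h]; norm_num)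
  exact congrArg Subtype.val (mul_comm (⟨x, hx⟩ : (P : Subgroup G)) ⟨y, hy⟩)

theorem cN (P : Sylow 3 G) : Nat.card N[(P : Subgroup G)] = 144 := Cfsg.Agent.S0434.result ⟨‹_›, h⟩ P

theorem cC (P : Sylow 3 G) {g : G} (hg : ∀ x ∈ (P : Subgroup G), x * g = g * x) : g ∈ (P : Subgroup G) := by
  have hPC : (P : Subgroup G) ≤ C[(P : Subgroup G)] := fun x hx => Subgroup.mem_centralizer_iff.2 fun y hy => comm h P hy hx
  have hC2 : ¬ 2 ∣ Nat.card C[(P : Subgroup G)] := fun hd => by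
    obtain ⟨t, ht, ot⟩ := CfsgH2.exists_prime_order_mem Nat.prime_two hd
    have : (P : Subgroup G) ≤ C1[t] := fun x hx =>
      Subgroup.mem_centralizer_singleton_iff.2 (Subgroup.mem_centralizer_iff.1 ht x hx)
    have := Subgroup.card_dvd_of_le this
    rw [(main h).2.2.1 t ot, cP h] at this
    norm_num at this
  have h1 : Nat.card C[(P : Subgroup G)] ∣ 9 * 2 ^ 4 :=
    (Subgroup.card_dvd_of_le (Subgroup.centralizer_le_normalizer _)).trans (cN h P).dvd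
  have h2 := Nat.le_of_dvd (by norm_num) (Nat.Coprime.dvd_of_dvd_mul_right
      (((Nat.Prime.coprime_iff_not_dvd Nat.prime_two).2 hC2).symm.pow_right _) h1)
  rw [Subgroup.eq_of_le_of_card_ge hPC (by rw [cP h]; exact h2)]
  exact Subgroup.mem_centralizer_iff.2 hg

theorem o3 (P : Sylow 3 G) {x : G} (hx : x ∈ (P : Subgroup G)) (x1 : x ≠ 1) : orderOf x = 3 := by
  have hnc : ¬ IsCyclic (P : Subgroup G) := fun hc => by
    have h1 : ((P : Subgroup G).normalizerMonoidHom).ker.index ∣ 6 := by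
      rw [Subgroup.index_ker]
      have := ((P : Subgroup G).normalizerMonoidHom).range.card_subgroup_dvd_card
      rwa [IsCyclic.card_mulAut, cP h] at this
    have h2 := ((P : Subgroup G).normalizerMonoidHom).ker.card_mul_index
    have h3 : Nat.card ((P : Subgroup G).normalizerMonoidHom).ker ≤ 9 := by
      rw [Subgroup.normalizerMonoidHom_ker, Nat.card_congr
        (Subgroup.subgroupOfEquivOfLe (Subgroup.centralizer_le_normalizer _)).toEquiv, ← cP h P]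
      exact Subgroup.card_le_of_le fun g hg => cC h P (Subgroup.mem_centralizer_iff.1 hg)
    rw [cN h] at h2
    have := Nat.mul_le_mul h3 (Nat.le_of_dvd (by norm_num) h1)
    omega
  obtain ⟨k, hk, e⟩ := (Nat.dvd_prime_pow Nat.prime_three (m := 2)).1 (cP h P ▸ Subgroup.orderOf_dvd_natCard _ hx)
  interval_cases k
  · exact absurd (orderOf_eq_one_iff.1 e) x1
  · exact e
  · exact absurd (isCyclic_of_orderOf_eq_card (⟨x, hx⟩ : (P : Subgroup G)) (by
      rw [← Subgroup.orderOf_coe, cP h]; exact e)) hnc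

theorem p3 (P : Sylow 3 G) {x : G} (hx : x ∈ (P : Subgroup G)) : x * x = x⁻¹ := by
  by_cases x1 : x = 1
  · simp [x1]
  · exact eq_inv_of_mul_eq_one_left (by rw [← pow_three', ← o3 h P hx x1, pow_orderOf_eq_one])

theorem sub3 (P : Sylow 3 G) {K : Subgroup G} (hK : K < P) {a : G} (ha : a ∈ K) (a1 : a ≠ 1) {x : G} (hx : x ∈ K) :
    x = 1 ∨ x = a ∨ x = a⁻¹ := by
  have oa := o3 h P (hK.le ha) a1
  have h1 : Nat.card K ≤ 3 := by
    obtain ⟨k, hk, e⟩ := (Nat.dvd_prime_pow Nat.prime_three (m := 2)).1 (cP h P ▸ Subgroup.card_dvd_of_le hK.le)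
    interval_cases k
    · omega
    · omega
    · exact absurd (Subgroup.eq_of_le_of_card_ge hK.le (by rw [cP h, e]; norm_num)) hK.ne
  rw [← Subgroup.eq_of_le_of_card_ge (Subgroup.zpowers_le.2 ha) (by rwa [Nat.card_zpowers, oa])] at hx
  obtain ⟨k, rfl⟩ := (mem_powers_iff_mem_zpowers (x := a)).2 hx
  simp only
  rw [← pow_mod_orderOf, oa]
  have : k % 3 < 3 := Nat.mod_lt _ (by norm_num)
  interval_cases k % 3
  · simp
  · simp
  · right; right; rw [pow_two, p3 h P (hK.le ha)]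

theorem refl (P : Sylow 3 G) {y : G} (hy : y ∈ N[(P : Subgroup G)]) (y2 : y * y = 1) (y1 : y ≠ 1) (hi : ¬ Inv y P) :
    ∃ a ∈ (P : Subgroup G), ∃ b ∈ (P : Subgroup G), a ≠ 1 ∧ b ≠ 1 ∧ y * a * y⁻¹ = a ∧ y * b * y⁻¹ = b⁻¹ ∧
      (∀ x ∈ (P : Subgroup G), y * x * y⁻¹ = x → x = 1 ∨ x = a ∨ x = a⁻¹) ∧
      (∀ x ∈ (P : Subgroup G), y * x * y⁻¹ = x⁻¹ → x = 1 ∨ x = b ∨ x = b⁻¹) ∧
      ∀ r : G, r * a * r⁻¹ = a → r * b * r⁻¹ = b → r ∈ (P : Subgroup G) := by
  have hn : ∀ x ∈ (P : Subgroup G), y * x * y⁻¹ ∈ (P : Subgroup G) := fun x hx =>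
    (Subgroup.mem_normalizer_iff.1 hy x).1 hx
  have yy : ∀ x : G, y * (y * x * y⁻¹) * y⁻¹ = x := fun x => by
    calc _ = (y * y) * x * (y * y)⁻¹ := by group
      _ = x := by rw [y2]; group
  have yP : y ∉ (P : Subgroup G) := fun e => by
    have := p3 h P e
    rw [y2] at this
    exact y1 (inv_eq_one.1 this.symm)
  obtain ⟨x0, hx0, h0⟩ : ∃ x ∈ (P : Subgroup G), y * x * y⁻¹ ≠ x⁻¹ := by
    by_contra hc; push Not at hc; exact hi ⟨y2, hc⟩
  obtain ⟨x1, hx1, h1⟩ : ∃ x ∈ (P : Subgroup G), y * x * y⁻¹ ≠ x := by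
    by_contra hc; push Not at hc
    exact yP (cC h P fun x hx => (mul_inv_eq_iff_eq_mul.1 (hc x hx)).symm)
  let A : Subgroup G := (P : Subgroup G) ⊓ C1[y]
  have hA : ∀ x, x ∈ A ↔ x ∈ (P : Subgroup G) ∧ y * x * y⁻¹ = x := fun x => by
    rw [Subgroup.mem_inf, Subgroup.mem_centralizer_singleton_iff, mul_inv_eq_iff_eq_mul, eq_comm]
  let B : Subgroup G :=
    { carrier := {x | x ∈ (P : Subgroup G) ∧ y * x * y⁻¹ = x⁻¹}
      one_mem' := ⟨one_mem _, by simp⟩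
      mul_mem' := fun {a b} ha hb => ⟨mul_mem ha.1 hb.1, by
        rw [comm h P ha.1 hb.1, mul_inv_rev, ← ha.2, ← hb.2, comm h P (hn a ha.1) (hn b hb.1)]; group⟩
      inv_mem' := fun {a} ha => ⟨inv_mem ha.1, by
        calc y * a⁻¹ * y⁻¹ = (y * a * y⁻¹)⁻¹ := by group
          _ = _ := by rw [ha.2]⟩ }
  have hAP : A < P := lt_of_le_of_ne inf_le_left fun e => h1 ((hA x1).1 (e ▸ hx1)).2
  have hBP : B < P := lt_of_le_of_ne (fun x hx => hx.1) fun e => h0 (show x0 ∈ B from e ▸ hx0).2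
  have ha : x0 * (y * x0 * y⁻¹) ∈ A := (hA _).2 ⟨mul_mem hx0 (hn _ hx0), by
    conv_rhs => rw [comm h P hx0 (hn _ hx0)]
    calc _ = y * x0 * y⁻¹ * (y * (y * x0 * y⁻¹) * y⁻¹) := by group
      _ = _ := by rw [yy]⟩
  have hb : x1⁻¹ * (y * x1 * y⁻¹) ∈ B := ⟨mul_mem (inv_mem hx1) (hn _ hx1), by
    calc _ = (y * x1 * y⁻¹)⁻¹ * (y * (y * x1 * y⁻¹) * y⁻¹) := by group
      _ = _ := by rw [yy]; group⟩
  have a1 : x0 * (y * x0 * y⁻¹) ≠ 1 := fun e => h0 (eq_inv_of_mul_eq_one_right e)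
  have b1 : x1⁻¹ * (y * x1 * y⁻¹) ≠ 1 := fun e => h1 (inv_mul_eq_one.1 e).symm
  set a := x0 * (y * x0 * y⁻¹)
  set b := x1⁻¹ * (y * x1 * y⁻¹)
  refine ⟨a, hAP.le ha, b, hBP.le hb, a1, b1, ((hA a).1 ha).2, hb.2, fun x hx e => sub3 h P hAP ha a1 ((hA x).2 ⟨hx, e⟩),
    fun x hx e => sub3 h P hBP hb b1 ⟨hx, e⟩, fun r r1 r2 => cC h P ?_⟩
  by_contra hc
  have hK : (P : Subgroup G) ⊓ C1[r] < P := lt_of_le_of_ne inf_le_left fun e => hc fun x hx =>
    Subgroup.mem_centralizer_singleton_iff.1 (inf_eq_left.1 e hx)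
  have e1 := ((hA a).1 ha).2
  have e2 := hb.2
  have e3 : b⁻¹ ≠ b := fun e => by
    have := p3 h P (hBP.le hb)
    rw [e] at this
    exact b1 (by simpa using this)
  rcases sub3 h P hK (a := a) ⟨hAP.le ha, Subgroup.mem_centralizer_singleton_iff.2 (mul_inv_eq_iff_eq_mul.1 r1).symm⟩ a1
    (x := b) ⟨hBP.le hb, Subgroup.mem_centralizer_singleton_iff.2 (mul_inv_eq_iff_eq_mul.1 r2).symm⟩ with e | e | e
  · exact b1 e
  · rw [← e, e2] at e1; exact e3 e1
  · apply e3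
    rw [← e2, e]
    calc y * a⁻¹ * y⁻¹ = (y * a * y⁻¹)⁻¹ := by group
      _ = _ := by rw [e1]

theorem le4 (P : Sylow 3 G) {y : G} (y2 : y * y = 1) (y1 : y ≠ 1) (hi : ¬ Inv y P) {R : Subgroup G}
    (hy : y ∈ R) (hR : R ≤ N[(P : Subgroup G)]) (hc : ∀ r ∈ R, r * y = y * r) (hd : R ⊓ P = ⊥) :
    Nat.card R ≤ 4 ∧ ∀ w ∈ (P : Subgroup G), w ≠ 1 → (∀ r ∈ R, r * w * r⁻¹ = w) → Nat.card R ≤ 2 := by
  classical
  obtain ⟨a, ha, b, hb, a1, b1, e1, e2, h1, h2, h3⟩ := refl h P (hR hy) y2 y1 hi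
  have k : ∀ r ∈ R, ∀ x : G, y * (r * x * r⁻¹) * y⁻¹ = r * (y * x * y⁻¹) * r⁻¹ := fun r hr x => by
    calc _ = (y * r) * x * (y * r)⁻¹ := by group
      _ = _ := by rw [← hc r hr]; group
  have ka : ∀ r ∈ R, r * a * r⁻¹ = a ∨ r * a * r⁻¹ = a⁻¹ := fun r hr =>
    (h1 _ ((Subgroup.mem_normalizer_iff.1 (hR hr) a).1 ha) (by rw [k r hr, e1])).resolve_left
      fun e => a1 (by simpa using e)
  have kb : ∀ r ∈ R, r * b * r⁻¹ = b ∨ r * b * r⁻¹ = b⁻¹ := fun r hr =>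
    (h2 _ ((Subgroup.mem_normalizer_iff.1 (hR hr) b).1 hb) (by rw [k r hr, e2]; group)).resolve_left
      fun e => b1 (by simpa using e)
  have inj : ∀ r s : R, (r : G) * a * (r : G)⁻¹ = s * a * (s : G)⁻¹ → (r : G) * b * (r : G)⁻¹ = s * b * (s : G)⁻¹ → r = s :=
    fun r s f1 f2 => by
      have : (s : G)⁻¹ * r ∈ R ⊓ P := ⟨R.mul_mem (R.inv_mem s.2) r.2, h3 _ (by
        calc _ = (s : G)⁻¹ * (r * a * (r : G)⁻¹) * s := by group
          _ = _ := by rw [f1]; group) (by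
        calc _ = (s : G)⁻¹ * (r * b * (r : G)⁻¹) * s := by group
          _ = _ := by rw [f2]; group)⟩
      rw [hd, Subgroup.mem_bot, inv_mul_eq_one] at this
      exact Subtype.ext this.symm
  have key : ∀ {c u v : G}, (u = c ∨ u = c⁻¹) → (v = c ∨ v = c⁻¹) → (decide (u = c) = decide (v = c)) → u = v :=
    fun {c u v} hu hv e => by
      by_cases f : u = c
      · rw [f] at e ⊢; simpa [eq_comm] using e
      · have : v ≠ c := by simpa [f] using e
        rw [hu.resolve_left f, hv.resolve_left this]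
  refine ⟨?_, fun w hw w1 hwR => ?_⟩
  · refine (Nat.card_le_card_of_injective (fun r : R => (decide ((r : G) * a * (r : G)⁻¹ = a),
      decide ((r : G) * b * (r : G)⁻¹ = b))) fun r s e => ?_).trans (by simp)
    exact inj r s (key (ka r r.2) (ka s s.2) (congrArg Prod.fst e)) (key (kb r r.2) (kb s s.2) (congrArg Prod.snd e))
  · have fa : ∀ r ∈ R, r * a * r⁻¹ = a := fun r hr => by
      rcases (h1 w hw (hwR y hy)).resolve_left w1 with e | e
      · rw [← e]; exact hwR r hr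
      · have := hwR r hr
        rw [e] at this
        calc r * a * r⁻¹ = (r * a⁻¹ * r⁻¹)⁻¹ := by group
          _ = _ := by rw [this, inv_inv]
    refine (Nat.card_le_card_of_injective (fun r : R => decide ((r : G) * b * (r : G)⁻¹ = b)) fun r s e => ?_).trans (by simp)
    exact inj r s (by rw [fa r r.2, fa s s.2]) (key (kb r r.2) (kb s s.2) e)

omit h [IsSimpleGroup G] in
theorem ex_central {R : Subgroup G} (hR : IsPGroup 2 R) (h1 : Nat.card R ≠ 1) :
    ∃ y ∈ R, y * y = 1 ∧ y ≠ 1 ∧ ∀ r ∈ R, r * y = y * r := by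
  haveI : Nontrivial R := Finite.one_lt_card_iff_nontrivial.1 (by have := Nat.card_pos (α := R); omega)
  haveI := hR.center_nontrivial
  have h2 : 2 ∣ Nat.card (Subgroup.center R) := by
    obtain ⟨k, hk, e⟩ := (hR.to_subgroup (Subgroup.center R)).nontrivial_iff_card.1 inferInstance
    rw [e]; exact dvd_pow_self 2 hk.ne'
  obtain ⟨y, hy, oy⟩ := CfsgH2.exists_prime_order_mem Nat.prime_two h2
  exact ⟨y, y.2, congrArg Subtype.val (CfsgL0.inv_mul_self oy), fun e => CfsgL0.inv_ne_one oy (Subtype.ext e),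
    fun r hr => congrArg Subtype.val (Subgroup.mem_center_iff.1 hy ⟨r, hr⟩)⟩

omit [IsSimpleGroup G] in
theorem disj2 (P : Sylow 3 G) {R : Subgroup G} (hR : IsPGroup 2 R) : R ⊓ P = ⊥ := by
  obtain ⟨k, hk⟩ := hR.exists_card_eq
  exact Subgroup.inf_eq_bot_of_coprime (by rw [hk, cP h]; exact Nat.Coprime.pow_left _ (by norm_num))

omit h [IsSimpleGroup G] in
theorem ex_sub (K : Subgroup G) (k : ℕ) (hk : 2 ^ k ∣ Nat.card K) : ∃ R ≤ K, Nat.card R = 2 ^ k := by
  obtain ⟨R, hR⟩ := Sylow.exists_subgroup_card_pow_prime 2 hk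
  exact ⟨R.map K.subtype, Subgroup.map_subtype_le _, by rw [Subgroup.card_subtype, hR]⟩

theorem ex_inv (P : Sylow 3 G) : ∃ z, Inv z P := by
  obtain ⟨R, h1, h2⟩ := ex_sub N[(P : Subgroup G)] 4 (by rw [cN h]; norm_num)
  have hR : IsPGroup 2 R := IsPGroup.of_card h2
  obtain ⟨y, hy, y2, y1, hc⟩ := ex_central hR (by rw [h2]; norm_num)
  by_contra hcon
  have := (le4 h P y2 y1 (fun e => hcon ⟨y, e⟩) hy h1 hc (disj2 h P hR)).1
  omega

theorem c18 (P : Sylow 3 G) {w : G} (hw : w ∈ (P : Subgroup G)) (w1 : w ≠ 1) :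
    Nat.card C1[w] = 18 ∧ C1[w] ≤ N[(P : Subgroup G)] := by
  classical
  have ow := o3 h P hw w1
  set K := C1[w] with hK
  set N := N[(P : Subgroup G)] with hN
  have hPK : (P : Subgroup G) ≤ K := fun x hx => Subgroup.mem_centralizer_singleton_iff.2 (comm h P hx hw)
  have h4 : ¬ 4 ∣ Nat.card (K ⊓ N : Subgroup G) := fun hd => by
    obtain ⟨R, h1, h2⟩ := ex_sub (K ⊓ N) 2 hd
    have hR : IsPGroup 2 R := IsPGroup.of_card h2
    obtain ⟨y, hy, y2, y1, hc⟩ := ex_central hR (by rw [h2]; norm_num)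
    have fix : ∀ r ∈ R, r * w * r⁻¹ = w := fun r hr =>
      mul_inv_eq_iff_eq_mul.2 (Subgroup.mem_centralizer_singleton_iff.1 (h1 hr).1)
    have := (le4 h P y2 y1 (fun e => by
      have e1 := p3 h P hw
      rw [← e.2 w hw, fix y hy] at e1
      exact w1 (by simpa using e1)) hy (h1.trans inf_le_right) hc (disj2 h P hR)).2 w hw w1 fix
    omega
  have h8 : ((K ⊓ N).subgroupOf N).index ≤ 8 := by
    haveI := Fintype.ofFinite G
    have e8 : ((Finset.univ.filter (· ∈ (P : Subgroup G))).erase 1).card = 8 := by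
      rw [Finset.card_erase_of_mem (by simp), ← Fintype.card_subtype, ← Nat.card_eq_fintype_card]
      exact congrArg (· - 1) (cP h P)
    rw [← e8, Subgroup.index, ← Nat.card_eq_finsetCard]
    refine Nat.card_le_card_of_injective (fun q => ⟨(q.out : G) * w * (q.out : G)⁻¹, by
      simp only [Finset.mem_erase, Finset.mem_filter, Finset.mem_univ, true_and]
      exact ⟨fun e => w1 (by simpa using e), (Subgroup.mem_normalizer_iff.1 q.out.2 w).1 hw⟩⟩) fun q r e => ?_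
    rw [← q.out_eq, ← r.out_eq]
    refine Quotient.sound (QuotientGroup.leftRel_apply.2 ⟨Subgroup.mem_centralizer_singleton_iff.2 ?_, (q.out⁻¹ * r.out).2⟩)
    have e1 : (q.out : G) * w * (q.out : G)⁻¹ = r.out * w * (r.out : G)⁻¹ := congrArg Subtype.val e
    show (q.out : G)⁻¹ * r.out * w = w * ((q.out : G)⁻¹ * r.out)
    calc _ = (q.out : G)⁻¹ * (r.out * w * (r.out : G)⁻¹) * r.out := by group
      _ = _ := by rw [← e1]; group
  have h1 := ((K ⊓ N).subgroupOf N).card_mul_index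
  rw [Nat.card_congr (Subgroup.subgroupOfEquivOfLe inf_le_right).toEquiv, cN h] at h1
  have h9 : 9 ∣ Nat.card (K ⊓ N : Subgroup G) := cP h P ▸ Subgroup.card_dvd_of_le (le_inf hPK Subgroup.le_normalizer)
  have h18 : Nat.card (K ⊓ N : Subgroup G) = 18 := by
    have key : ∀ d ∈ Nat.divisors 144, 9 ∣ d → ¬ 4 ∣ d → 18 ≤ d → d = 18 := by decide +kernel
    exact key _ (Nat.mem_divisors.2 ⟨Dvd.intro _ h1, by norm_num⟩) h9 h4 (by nlinarith)
  have hs := card_sylow_modEq_one 3 K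
  rw [(P.subtype hPK).card_eq_index_normalizer] at hs
  change N[(P : Subgroup G).subgroupOf K].index ≡ 1 [MOD 3] at hs
  rw [← Subgroup.subgroupOf_normalizer_eq hPK, ← Subgroup.inf_subgroupOf_left] at hs
  have h2 := ((K ⊓ N).subgroupOf K).card_mul_index
  rw [Nat.card_congr (Subgroup.subgroupOfEquivOfLe inf_le_left).toEquiv, h18] at h2
  have hK144 : Nat.card K ∣ 144 := by
    have h4 : Nat.card K ∣ 144 * (5 * 11) := (Subgroup.card_subgroup_dvd_card _).trans (by rw [h])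
    exact Nat.Coprime.dvd_of_dvd_mul_right (Nat.Coprime.mul_right
      ((Nat.Prime.coprime_iff_not_dvd Nat.prime_five).2 ((main h).2.1 w w1 (by rw [ow]; norm_num))).symm
      ((Nat.Prime.coprime_iff_not_dvd (by norm_num)).2 ((main h).1 w w1 (by rw [ow]; norm_num))).symm) h4
  obtain ⟨z, hz⟩ := ex_inv h P
  have h72 := ne72 h ow (isConj_iff.2 ⟨z, hz.2 w hw⟩)
  have hK18 : Nat.card K = 18 := by
    have hs' : ((K ⊓ N).subgroupOf K).index % 3 = 1 := hs
    rw [← h2] at hK144 h72 ⊢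
    generalize ((K ⊓ N).subgroupOf K).index = m at *
    have := Nat.le_of_dvd (by norm_num) hK144
    have : m ≤ 8 := by omega
    interval_cases m <;> omega
  exact ⟨hK18, inf_eq_left.1 (Subgroup.eq_of_le_of_card_ge inf_le_left (by omega))⟩

omit h [IsSimpleGroup G] in
theorem mem_of_norm (P : Sylow 3 G) {K : Subgroup G} (hK : IsPGroup 3 K) (hn : K ≤ N[(P : Subgroup G)]) :
    K ≤ P := by
  have : K ⊓ N[(P : Subgroup G)] = K ⊓ P := hK.inf_normalizer_sylow P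
  rw [inf_eq_left.2 hn] at this
  exact this.le.trans inf_le_right

theorem ti {P Q : Sylow 3 G} {x : G} (hP : x ∈ (P : Subgroup G)) (hQ : x ∈ (Q : Subgroup G)) (x1 : x ≠ 1) : P = Q := by
  have h1 : (Q : Subgroup G) ≤ P := mem_of_norm P Q.isPGroup' fun y hy =>
    (c18 h P hP x1).2 (Subgroup.mem_centralizer_singleton_iff.2 (comm h Q hy hQ))
  exact Sylow.ext (Subgroup.eq_of_le_of_card_ge h1 (by rw [cP h, cP h])).symm

end CfsgH8.M11
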