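import Cfsg.Agent.H8.M11c

/-! Triangles of Sylow 3-subgroups in a simple group of order 7920. -/

set_option autoImplicit false
open Cfsg CfsgSm CfsgH4 CfsgH3
open scoped Pointwise

namespace CfsgH8.M11

local notation "C[" Q "]" => Subgroup.centralizer (SetLike.coe (Q : Subgroup _))
local notation "N[" Q "]" => Subgroup.normalizer (SetLike.coe (Q : Subgroup _))
local notation "Z[" u "]" => Subgroup.zpowers u
local notation "C1[" u "]" => Subgroup.centralizer (singleton u)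

variable {G : Type*} [Group G]

theorem mem_sm {g x : G} {P : Sylow 3 G} : x ∈ ((g • P : Sylow 3 G) : Subgroup G) ↔ g⁻¹ * x * g ∈ (P : Subgroup G) := by
  rw [Sylow.coe_subgroup_smul, Subgroup.mem_pointwise_smul_iff_inv_smul_mem]
  simp

theorem sm_iff {g : G} {P : Sylow 3 G} : g • P = P ↔ g ∈ N[(P : Subgroup G)] := Sylow.smul_eq_iff_mem_normalizer

theorem Inv.smul {z : G} {P : Sylow 3 G} (hz : Inv z P) (g : G) : Inv (g * z * g⁻¹) (g • P) :=
  ⟨by rw [conj_mul, hz.1]; group, fun x hx => by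
    have := hz.2 _ (mem_sm.1 hx)
    calc _ = g * (z * (g⁻¹ * x * g) * z⁻¹) * g⁻¹ := by group
      _ = _ := by rw [this]; group⟩

theorem Inv.smul' {z k : G} {P : Sylow 3 G} (hz : Inv z P) (hk : k ∈ C1[z]) : Inv z (k • P) := by
  have := hz.smul k
  rwa [mul_inv_eq_iff_eq_mul.2 (Subgroup.mem_centralizer_singleton_iff.1 hk)] at this

theorem Inv.norm {z : G} {P : Sylow 3 G} (hz : Inv z P) : z ∈ N[(P : Subgroup G)] := by
  refine Subgroup.mem_normalizer_iff.2 fun x => ⟨fun hx => hz.2 x hx ▸ inv_mem hx, fun hx => ?_⟩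
  have := hz.2 _ hx
  rw [show z * (z * x * z⁻¹) * z⁻¹ = (z * z) * x * (z * z)⁻¹ by group, hz.1] at this
  rw [show x = (z * x * z⁻¹)⁻¹ by rw [← this]; group]
  exact inv_mem hx

theorem mod_p {E : Set G} [Finite E] (p : ℕ) [Fact p.Prime] (f : G → G) (hf : ∀ e ∈ E, f e ∈ E)
    (hp : ∀ e, f^[p] e = e) : Nat.card E ≡ Nat.card {e // e ∈ E ∧ f e = e} [MOD p] := by
  classical
  haveI := Fintype.ofFinite E
  let F : Function.End E := fun e => ⟨f e, hf e e.2⟩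
  have hF : ∀ k (e : E), ((F ^ k) e : G) = f^[k] e := fun k => by
    induction k with
    | zero => intro e; rfl
    | succ k ih => intro e; rw [pow_succ, Function.iterate_succ_apply]; exact ih (F e)
  have := Equiv.Perm.card_fixedPoints_modEq (f := F) (p := p) (n := 1) (by
    funext e; exact Subtype.ext (by rw [pow_one, hF, hp]; rfl))
  rw [← Nat.card_eq_fintype_card, ← Nat.card_eq_fintype_card] at this
  refine this.trans (by
    rw [Nat.card_congr (β := {e // e ∈ E ∧ f e = e}) ⟨fun e => ⟨e.1.1, e.1.2, congrArg Subtype.val e.2⟩,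
      fun e => ⟨⟨e.1, e.2.1⟩, Subtype.ext e.2.2⟩, fun _ => rfl, fun _ => rfl⟩])

variable [Finite G] [IsSimpleGroup G] (h : Nat.card G = 7920)
include h

omit [IsSimpleGroup G] in
theorem ex_ne (P : Sylow 3 G) : ∃ y ∈ (P : Subgroup G), y ≠ 1 := by
  by_contra hc
  push Not at hc
  have h1 := cP h P
  rw [(Subgroup.eq_bot_iff_forall _).2 hc, Subgroup.card_bot] at h1
  norm_num at h1

theorem Inv.cent {z y : G} {P : Sylow 3 G} (hz : Inv z P) (hy : y ∈ (P : Subgroup G)) (e : z * y * z⁻¹ = y) : y = 1 := by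
  have e1 := p3 h P hy
  rw [← hz.2 y hy, e] at e1
  simpa using e1

theorem Inv.ne {z : G} {P : Sylow 3 G} (hz : Inv z P) : z ≠ 1 := fun e => by
  obtain ⟨y, hy, y1⟩ := ex_ne h P
  exact y1 (hz.cent h hy (by rw [e]; group))

theorem Inv.ord {z : G} {P : Sylow 3 G} (hz : Inv z P) : orderOf z = 2 :=
  orderOf_eq_prime (by rw [pow_two, hz.1]) (hz.ne h)

theorem Inv.mul {z z' : G} {P : Sylow 3 G} (hz : Inv z P) (hz' : Inv z' P) : z' * z ∈ (P : Subgroup G) :=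
  cC h P fun x hx => by
    have := hz'.2 _ (inv_mem hx)
    rw [← hz.2 x hx] at this
    rw [hz.2 x hx, inv_inv] at this
    calc x * (z' * z) = (z' * x⁻¹ * z'⁻¹) * (z' * z) := by rw [this]
      _ = z' * (z * x * z⁻¹) * z := by rw [hz.2 x hx]; group
      _ = _ := by group

theorem Inv.conj {z z' : G} {P : Sylow 3 G} (hz : Inv z P) (hz' : Inv z' P) :
    ∃ y ∈ (P : Subgroup G), z' = y * z * y⁻¹ := by
  have hx := hz.mul h hz'
  refine ⟨(z' * z)⁻¹, inv_mem hx, ?_⟩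
  have e1 := hz.2 _ hx
  have e2 := p3 h P (inv_mem hx)
  calc z' = (z' * z)⁻¹⁻¹ * z := by rw [inv_inv, mul_assoc, hz.1, mul_one]
    _ = (z' * z)⁻¹ * (z * (z' * z) * z⁻¹) * z := by rw [← e2, e1]
    _ = _ := by group

theorem Inv.uniq {z z' : G} {P Q : Sylow 3 G} (h1 : Inv z P) (h2 : Inv z Q) (h3 : Inv z' P) (h4 : Inv z' Q)
    (hne : P ≠ Q) : z' = z := by
  have : z' * z = 1 := by
    by_contra e
    exact hne (ti h (h1.mul h h3) (h2.mul h h4) e)
  calc z' = z' * (z * z) := by rw [h1.1, mul_one]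
    _ = _ := by rw [← mul_assoc, this, one_mul]

theorem semi {P Q : Sylow 3 G} (hne : P ≠ Q) {x : G} (hx : x ∈ (P : Subgroup G)) (e : x • Q = Q) : x = 1 := by
  by_contra x1
  exact hne (ti h hx (mem_of_norm Q (P.isPGroup'.to_le (Subgroup.zpowers_le.2 hx))
    (Subgroup.zpowers_le.2 (sm_iff.1 e)) (Subgroup.mem_zpowers x)) x1)

theorem c16 {z : G} {P : Sylow 3 G} (hz : Inv z P) : Nat.card (C1[z] ⊓ N[(P : Subgroup G)] : Subgroup G) = 16 := by
  have e : Nat.card (↥(P : Subgroup G) × ↥(C1[z] ⊓ N[(P : Subgroup G)])) = Nat.card N[(P : Subgroup G)] := by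
    refine Nat.card_eq_of_bijective (fun q => ⟨q.1 * q.2, mul_mem (Subgroup.le_normalizer q.1.2) q.2.2.2⟩) ⟨?_, ?_⟩
    · rintro ⟨⟨a, ha⟩, ⟨b, hb⟩⟩ ⟨⟨c, hc⟩, ⟨d, hd⟩⟩ e
      have e1 : a * b = c * d := congrArg Subtype.val e
      have e2 : c⁻¹ * a = d * b⁻¹ := by
        calc c⁻¹ * a = c⁻¹ * (a * b) * b⁻¹ := by group
          _ = _ := by rw [e1]; group
      have e3 := hz.cent h (mul_mem (inv_mem hc) ha) (by
        rw [e2, mul_inv_eq_iff_eq_mul]
        exact (Subgroup.mem_centralizer_singleton_iff.1 (mul_mem hd.1 (inv_mem hb.1))).symm)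
      obtain rfl : c = a := inv_mul_eq_one.1 e3
      obtain rfl : b = d := mul_left_cancel e1
      rfl
    · rintro ⟨n, hn⟩
      have := hz.smul n
      rw [sm_iff.2 hn] at this
      obtain ⟨y, hy, e⟩ := hz.conj h this
      refine ⟨(⟨y, hy⟩, ⟨y⁻¹ * n, Subgroup.mem_centralizer_singleton_iff.2 ?_,
        Subgroup.mul_mem _ (Subgroup.inv_mem _ (Subgroup.le_normalizer hy)) hn⟩), Subtype.ext (by simp)⟩
      calc y⁻¹ * n * z = y⁻¹ * (n * z * n⁻¹) * n := by group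
        _ = _ := by rw [e]; group
  rw [Nat.card_prod, cP h, cN h] at e
  omega

omit h [IsSimpleGroup G] in
theorem orb (K : Subgroup G) (P : Sylow 3 G) :
    Nat.card (K ⊓ N[(P : Subgroup G)] : Subgroup G) * (MulAction.orbit K P).ncard = Nat.card K := by
  rw [← MulAction.index_stabilizer, ← (MulAction.stabilizer K P).card_mul_index]
  congr 1
  exact Nat.card_congr ⟨fun x => ⟨⟨x.1, x.2.1⟩, sm_iff.2 x.2.2⟩, fun x => ⟨x.1.1, x.1.2, sm_iff.1 x.2⟩,
    fun _ => rfl, fun _ => rfl⟩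

theorem tri {z : G} {α : Sylow 3 G} (hz : Inv z α) : ∃ β γ : Sylow 3 G, α ≠ β ∧ α ≠ γ ∧ β ≠ γ ∧
    ∀ δ, Inv z δ ↔ δ = α ∨ δ = β ∨ δ = γ := by
  have h1 := orb C1[z] α
  rw [c16 h hz, (main h).2.2.1 z (hz.ord h)] at h1
  have h2 : MulAction.orbit C1[z] α = {δ | Inv z δ} := by
    ext δ
    refine ⟨by rintro ⟨k, rfl⟩; exact hz.smul' k.2, fun hδ => ?_⟩
    obtain ⟨g, rfl⟩ := MulAction.exists_smul_eq G α δ
    have := Inv.smul hδ g⁻¹
    rw [inv_smul_smul] at this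
    obtain ⟨y, hy, e⟩ := hz.conj h this
    refine ⟨⟨g * y, Subgroup.mem_centralizer_singleton_iff.2 ?_⟩, ?_⟩
    · calc g * y * z = g * (y * z * y⁻¹) * y := by group
        _ = _ := by rw [← e]; group
    · show (g * y) • α = g • α
      rw [mul_smul, sm_iff.2 (Subgroup.le_normalizer hy)]
  rw [h2] at h1
  obtain ⟨a, b, c, ab, ac, bc, e⟩ := Set.ncard_eq_three.1 (show {δ | Inv z δ}.ncard = 3 by omega)
  have e' : ∀ δ, Inv z δ ↔ δ = a ∨ δ = b ∨ δ = c := fun δ => by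
    have := Set.ext_iff.1 e δ
    simpa using this
  rcases (e' α).1 hz with rfl | rfl | rfl
  · exact ⟨b, c, ab, ac, bc, e'⟩
  · exact ⟨a, c, ab.symm, bc, ac, fun δ => by rw [e']; tauto⟩
  · exact ⟨a, b, ac.symm, bc.symm, ab, fun δ => by rw [e']; tauto⟩

theorem mod3 {z : G} {α : Sylow 3 G} (hz : Inv z α) {R : Subgroup G} (hR : IsPGroup 2 R) (hzR : z ∈ R)
    {E : Set G} (hE : E ⊆ R) (h1 : 1 ∈ E) (h2 : z ∈ E) (hn : ∀ k ∈ C1[z], ∀ e ∈ E, k * e * k⁻¹ ∈ E) :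
    Nat.card E % 3 = 2 := by
  obtain ⟨w, hw, ow⟩ := CfsgH2.exists_prime_order_mem (H := C1[z]) Nat.prime_three
    (by rw [(main h).2.2.1 z (hz.ord h)]; norm_num)
  have w3 : w ^ 3 = 1 := ow ▸ pow_orderOf_eq_one w
  have := mod_p (E := E) 3 (fun e => w * e * w⁻¹) (hn w hw) fun e => by
    calc _ = w ^ 3 * e * (w ^ 3)⁻¹ := by
          show w * (w * (w * e * w⁻¹) * w⁻¹) * w⁻¹ = _
          rw [pow_three']; group
      _ = e := by rw [w3]; group
  obtain ⟨P, hP⟩ := (IsPGroup.of_card (p := 3) (n := 1) (G := Z[w]) (by rw [Nat.card_zpowers, ow, pow_one])).exists_le_sylow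
  have c := (c18 h P (hP (Subgroup.mem_zpowers w)) (by rintro rfl; simp at ow)).1
  have hc : Nat.card (R ⊓ C1[w] : Subgroup G) ≤ 2 := by
    obtain ⟨k, hk⟩ := (hR.to_inf_left (K := C1[w])).exists_card_eq
    have h3 : Nat.card (R ⊓ C1[w] : Subgroup G) ∣ 2 * 9 := (Subgroup.card_dvd_of_le inf_le_right).trans c.dvd
    exact Nat.le_of_dvd (by norm_num) (Nat.Coprime.dvd_of_dvd_mul_right (by
      rw [hk]; exact Nat.Coprime.pow_left _ (by norm_num)) h3)
  have hzw : z ∈ R ⊓ C1[w] := ⟨hzR, Subgroup.mem_centralizer_singleton_iff.2 (Subgroup.mem_centralizer_singleton_iff.1 hw).symm⟩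
  have h4 := Subgroup.eq_of_le_of_card_ge (Subgroup.zpowers_le.2 hzw) (by rwa [Nat.card_zpowers, hz.ord h])
  have h5 : Nat.card {e // e ∈ E ∧ w * e * w⁻¹ = e} = 2 := by
    rw [← hz.ord h, ← Nat.card_zpowers]
    refine Nat.card_congr (Equiv.subtypeEquivRight fun e => ⟨fun he => h4 ▸ ⟨hE he.1,
      Subgroup.mem_centralizer_singleton_iff.2 (mul_inv_eq_iff_eq_mul.1 he.2).symm⟩, fun he => ?_⟩)
    refine ⟨?_, mul_inv_eq_iff_eq_mul.2 (Subgroup.mem_centralizer_singleton_iff.1 (h4 ▸ he : e ∈ R ⊓ C1[w]).2).symm⟩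
    obtain ⟨k, rfl⟩ := (mem_powers_iff_mem_zpowers (x := z)).2 he
    simp only
    rw [← pow_mod_orderOf, hz.ord h]
    rcases Nat.mod_two_eq_zero_or_one k with e | e <;> rw [e] <;> simpa
  rw [h5] at this
  exact this

section Tri
variable {z : G} {α β γ : Sylow 3 G} (ab : α ≠ β) (ac : α ≠ γ) (bc : β ≠ γ)
  (hT : ∀ δ, Inv z δ ↔ δ = α ∨ δ = β ∨ δ = γ)
include ab ac bc hT

omit h [IsSimpleGroup G] [Finite G] bc in
theorem fixall {k : G} (hk : k ∈ C1[z]) (h1 : k • α = α) (h2 : k • β = β) : ∀ δ, Inv z δ → k • δ = δ := by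
  intro δ hδ
  rcases (hT δ).1 hδ with rfl | rfl | rfl
  · exact h1
  · exact h2
  · by_cases e : β = δ
    · exact e ▸ h2
    rcases (hT _).1 (hδ.smul' hk) with e1 | e1 | e1
    · exact absurd (smul_left_cancel k (h1.trans e1.symm)) ac
    · exact absurd (smul_left_cancel k (h2.trans e1.symm)) e
    · exact e1

omit h [IsSimpleGroup G] [Finite G] bc in
theorem nrm {k q : G} (hk : k ∈ C1[z]) (hq : q ∈ C1[z] ⊓ N[(α : Subgroup G)] ⊓ N[(β : Subgroup G)]) :
    k * q * k⁻¹ ∈ C1[z] ⊓ N[(α : Subgroup G)] ⊓ N[(β : Subgroup G)] := by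
  have f := fixall ab ac hT hq.1.1 (sm_iff.2 hq.1.2) (sm_iff.2 hq.2)
  have g : ∀ δ, Inv z δ → (k * q * k⁻¹) • δ = δ := fun δ hδ => by
    rw [mul_smul, mul_smul, f _ (hδ.smul' (inv_mem hk)), smul_inv_smul]
  exact ⟨⟨Subgroup.mul_mem _ (Subgroup.mul_mem _ hk hq.1.1) (Subgroup.inv_mem _ hk), sm_iff.1 (g α ((hT α).2 (by simp)))⟩,
    sm_iff.1 (g β ((hT β).2 (by simp)))⟩

theorem swap : ∃ s ∈ C1[z], s • α = α ∧ s • β = γ ∧ s • γ = β := by
  have hα := (hT α).2 (by simp)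
  have hβ := (hT β).2 (by simp)
  have hγ := (hT γ).2 (by simp)
  by_contra hc
  have h1 : C1[z] ⊓ N[(α : Subgroup G)] ≤ N[(β : Subgroup G)] := fun s hs => by
    have e := sm_iff.2 hs.2
    rcases (hT _).1 (hβ.smul' hs.1) with e1 | e1 | e1
    · exact absurd (smul_left_cancel s (e.trans e1.symm)) ab
    · exact sm_iff.1 e1
    · refine absurd ⟨s, hs.1, e, e1, ?_⟩ hc
      rcases (hT _).1 (hγ.smul' hs.1) with e2 | e2 | e2
      · exact absurd (smul_left_cancel s (e.trans e2.symm)) ac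
      · exact e2
      · exact absurd (smul_left_cancel s (e1.trans e2.symm)) bc
  have h2 := c16 h hα
  have hz : z ∈ C1[z] ⊓ N[(α : Subgroup G)] := ⟨Subgroup.mem_centralizer_singleton_iff.2 rfl, hα.norm⟩
  have := mod3 h hα (IsPGroup.of_card (n := 4) h2) hz (E := (C1[z] ⊓ N[(α : Subgroup G)] : Subgroup G)) subset_rfl
    (one_mem _) hz fun k hk e he => (nrm ab ac hT hk ⟨he, h1 he⟩).1
  have h3 : Nat.card ((C1[z] ⊓ N[(α : Subgroup G)] : Subgroup G) : Set G) = 16 := h2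
  omega

theorem c8 : Nat.card (C1[z] ⊓ N[(α : Subgroup G)] ⊓ N[(β : Subgroup G)] : Subgroup G) = 8 := by
  have h1 := orb (C1[z] ⊓ N[(α : Subgroup G)]) β
  obtain ⟨s, hs, s1, s2, s3⟩ := swap h ab ac bc hT
  have h2 : MulAction.orbit (C1[z] ⊓ N[(α : Subgroup G)] : Subgroup G) β = {β, γ} := by
    ext δ
    constructor
    · rintro ⟨k, rfl⟩
      rcases (hT _).1 (((hT β).2 (by simp)).smul' k.2.1) with e1 | e1 | e1
      · exact absurd (smul_left_cancel (k : G) ((sm_iff.2 k.2.2).trans e1.symm)) ab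
      · exact Or.inl e1
      · exact Or.inr e1
    · rintro (rfl | rfl)
      · exact MulAction.mem_orbit_self _
      · exact ⟨⟨s, hs, sm_iff.1 s1⟩, s2⟩
  rw [h2, Set.ncard_pair bc, c16 h ((hT α).2 (by simp))] at h1
  omega

theorem uinv {y : G} (hy : y ∈ C1[z] ⊓ N[(α : Subgroup G)] ⊓ N[(β : Subgroup G)]) (y2 : y * y = 1) :
    y = 1 ∨ y = z := by
  classical
  by_contra hc
  push Not at hc
  have hα := (hT α).2 (by simp)
  set Q := C1[z] ⊓ N[(α : Subgroup G)] ⊓ N[(β : Subgroup G)] with hQ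
  have h8 : Nat.card Q = 8 := c8 h ab ac bc hT
  have hQ2 : IsPGroup 2 Q := IsPGroup.of_card (n := 3) h8
  have hz : z ∈ Q := ⟨⟨Subgroup.mem_centralizer_singleton_iff.2 rfl, hα.norm⟩, ((hT β).2 (by simp)).norm⟩
  let E : Set G := {q | q ∈ Q ∧ q * q = 1}
  have h1 := mod3 h hα hQ2 hz (E := E) (fun q hq => hq.1) ⟨one_mem _, by simp⟩ ⟨hz, hα.1⟩
    fun k hk e he => ⟨nrm ab ac hT hk he.1, by rw [conj_mul, he.2]; group⟩
  have h2 := mod_p (E := E) 2 (fun e => z * e) (fun e he => ⟨mul_mem hz he.1, by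
      have := Subgroup.mem_centralizer_singleton_iff.1 he.1.1.1
      calc z * e * (z * e) = z * (e * z) * e := by group
        _ = (z * z) * (e * e) := by rw [this]; group
        _ = 1 := by rw [hα.1, he.2, one_mul]⟩) fun e => by
    show z * (z * e) = e
    rw [← mul_assoc, hα.1, one_mul]
  haveI : IsEmpty {e // e ∈ E ∧ z * e = e} := ⟨fun e => hα.ne h (by simpa using e.2.2)⟩
  rw [Nat.card_of_isEmpty (α := {e // e ∈ E ∧ z * e = e})] at h2
  have h3 : E.ncard ≤ 8 := by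
    rw [← h8]; exact Set.ncard_le_ncard (fun q hq => hq.1 : E ⊆ Q)
  have h4 : 2 < E.ncard := (Set.two_lt_ncard_iff).2 ⟨1, z, y, ⟨one_mem _, by simp⟩, ⟨hz, hα.1⟩, ⟨hy, y2⟩,
    (hα.ne h).symm, hc.1.symm, hc.2.symm⟩
  have h5 : E.ncard = 8 := by
    have : Nat.card E = E.ncard := rfl
    have : Nat.card E % 2 = 0 := h2
    omega
  have h6 : E = Q := Set.eq_of_subset_of_ncard_le (fun q hq => hq.1) (by rw [h5]; exact h8.le)
  have h7 : ∀ q ∈ Q, q⁻¹ = q := fun q hq => inv_eq_of_mul_eq_one_right (show q ∈ E from h6 ▸ hq).2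
  have := (le4 h α y2 hc.1 (fun e => hc.2 (by
      have e1 : y * z ∈ Q ⊓ α := ⟨mul_mem hy hz, hα.mul h e⟩
      rw [disj2 h α hQ2, Subgroup.mem_bot] at e1
      rw [eq_inv_of_mul_eq_one_left e1, h7 z hz])) hy (fun q hq => hq.1.2) (fun r hr => by
      rw [← h7 _ (mul_mem hr hy), mul_inv_rev, h7 r hr, h7 y hy]) (disj2 h α hQ2)).1
  omega

theorem reg {x x' : G} (hx : x ∈ (α : Subgroup G)) (x1 : x ≠ 1) (hx' : x' ∈ (α : Subgroup G)) (x1' : x' ≠ 1) :
    ∃ q ∈ C1[z] ⊓ N[(α : Subgroup G)] ⊓ N[(β : Subgroup G)], q * x * q⁻¹ = x' := by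
  classical
  set Q := C1[z] ⊓ N[(α : Subgroup G)] ⊓ N[(β : Subgroup G)] with hQ
  have h8 : Nat.card Q = 8 := c8 h ab ac bc hT
  have hQ2 : IsPGroup 2 Q := IsPGroup.of_card (n := 3) h8
  let f : Q → {u : (α : Subgroup G) // u ≠ 1} := fun q => ⟨⟨q * x * (q : G)⁻¹,
    (Subgroup.mem_normalizer_iff.1 q.2.1.2 x).1 hx⟩, fun e => x1 (by simpa using congrArg Subtype.val e)⟩
  have hf : Function.Injective f := fun q r e => by
    have e1 : (q : G) * x * (q : G)⁻¹ = r * x * (r : G)⁻¹ := congrArg (fun u => u.1.1) e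
    by_contra hne
    have h1 : Nat.card (Q ⊓ C1[x] : Subgroup G) ≠ 1 := fun e2 => hne (by
      have : (r : G)⁻¹ * q ∈ Q ⊓ C1[x] := ⟨Q.mul_mem (Q.inv_mem r.2) q.2, Subgroup.mem_centralizer_singleton_iff.2 (by
        calc (r : G)⁻¹ * q * x = (r : G)⁻¹ * (q * x * (q : G)⁻¹) * q := by group
          _ = _ := by rw [e1]; group)⟩
      rw [Subgroup.card_eq_one.1 e2, Subgroup.mem_bot, inv_mul_eq_one] at this
      exact Subtype.ext this.symm)
    obtain ⟨y, hy, y2, y1, -⟩ := ex_central (hQ2.to_inf_left (K := C1[x])) h1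
    obtain rfl := (uinv h ab ac bc hT hy.1 y2).resolve_left y1
    exact x1 (((hT α).2 (by simp)).cent h hx (mul_inv_eq_iff_eq_mul.2 (Subgroup.mem_centralizer_singleton_iff.1 hy.2)))
  have hc : Nat.card {u : (α : Subgroup G) // u ≠ 1} = 8 := by
    haveI := Fintype.ofFinite (α : Subgroup G)
    rw [Nat.card_eq_fintype_card, Fintype.card_subtype_compl, ← Nat.card_eq_fintype_card, cP h]
    simp
  obtain ⟨q, hq⟩ := (hf.bijective_of_nat_card_le (by rw [hc, h8])).2 ⟨⟨x', hx'⟩, fun e => x1' (congrArg Subtype.val e)⟩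
  exact ⟨q, q.2, congrArg (fun u => u.1.1) hq⟩

end Tri

end CfsgH8.M11
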