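import Cfsg.Agent.H8.M11d

/-! A simple group of order 7920 has a subgroup of index 11. -/

set_option autoImplicit false
open Cfsg CfsgSm CfsgH4 CfsgH3
open scoped Pointwise

namespace CfsgH8.M11

local notation "C[" Q "]" => Subgroup.centralizer (SetLike.coe (Q : Subgroup _))
local notation "N[" Q "]" => Subgroup.normalizer (SetLike.coe (Q : Subgroup _))
local notation "Z[" u "]" => Subgroup.zpowers u
local notation "C1[" u "]" => Subgroup.centralizer (singleton u)

instance fact89 : Fact (Nat.Prime 89) := ⟨by norm_num⟩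
instance fact19 : Fact (Nat.Prime 19) := ⟨by norm_num⟩

theorem no_srg {V : Type*} [Fintype V] [DecidableEq V] (Γ : SimpleGraph V) [DecidableRel Γ.Adj] {l m : ℕ}
    (h : Γ.IsSRGWith 55 18 l m) : ¬ (l = 1 ∧ m = 8) ∧ ¬ (l = 17 ∧ m = 0) := by
  constructor
  · rintro ⟨rfl, rfl⟩
    have e := h.matrix_eq (α := ZMod 89)
    set A := Γ.adjMatrix (ZMod 89) with hA
    set J : Matrix V V (ZMod 89) := Matrix.of fun _ _ => 1 with hJ
    have hc : Γᶜ.adjMatrix (ZMod 89) = J - 1 - A := by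
      ext i j
      by_cases a : i = j
      · simp [a, hA, hJ]
      · by_cases b : Γ.Adj i j <;> simp [a, b, hA, hJ]
    have h1 : A * J = (18 : ZMod 89) • J := by
      ext i j
      simp [hA, hJ, h.regular i]
    have h2 : J * A = (18 : ZMod 89) • J := by
      ext i j
      simp [hA, hJ, h.regular j]
    have h3 : J * J = (55 : ZMod 89) • J := by
      ext i j
      simp [hJ, Matrix.mul_apply, h.card]
    rw [hc, pow_two] at e
    have h4 : IsNilpotent ((110 : ZMod 89) • A + (385 : ZMod 89) • (1 : Matrix V V (ZMod 89)) - (43 : ZMod 89) • J) := by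
      refine ⟨2, ?_⟩
      rw [pow_two]
      simp only [mul_sub, sub_mul, mul_add, add_mul, smul_mul_assoc, mul_smul_comm, one_mul, mul_one, h1, h2, h3, e,
        ← Nat.cast_smul_eq_nsmul (ZMod 89)]
      match_scalars
      all_goals decide +kernel
    have h5 := (Matrix.isNilpotent_trace_of_isNilpotent h4).eq_zero
    rw [Matrix.trace_sub, Matrix.trace_add, Matrix.trace_smul, Matrix.trace_smul, Matrix.trace_smul, hA,
      SimpleGraph.trace_adjMatrix, Matrix.trace_one, h.card, show J.trace = 55 by simp [hJ, Matrix.trace, h.card]] at h5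
    revert h5; decide +kernel
  · rintro ⟨rfl, rfl⟩
    have e := h.matrix_eq (α := ZMod 19)
    set A := Γ.adjMatrix (ZMod 19) with hA
    rw [pow_two, zero_smul, add_zero] at e
    have h4 : IsNilpotent (A + 1) := by
      refine ⟨2, ?_⟩
      rw [pow_two]
      simp only [mul_add, add_mul, one_mul, mul_one, e, ← Nat.cast_smul_eq_nsmul (ZMod 19)]
      match_scalars
      all_goals decide +kernel
    have h5 := (Matrix.isNilpotent_trace_of_isNilpotent h4).eq_zero
    rw [Matrix.trace_add, hA, SimpleGraph.trace_adjMatrix, Matrix.trace_one, h.card] at h5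
    revert h5; decide +kernel

variable {G : Type*} [Group G]

/-- Two Sylow 3-subgroups are adjacent when one involution inverts both. -/
def gr (G : Type*) [Group G] : SimpleGraph (Sylow 3 G) where
  Adj a b := a ≠ b ∧ ∃ z, Inv z a ∧ Inv z b
  symm := ⟨fun _ _ ⟨h, z, h1, h2⟩ => ⟨h.symm, z, h2, h1⟩⟩
  loopless := ⟨fun _ h => h.1 rfl⟩

theorem adj_smul (g : G) {a b : Sylow 3 G} : (gr G).Adj (g • a) (g • b) ↔ (gr G).Adj a b := by
  have : ∀ (g : G) {a b : Sylow 3 G}, (gr G).Adj a b → (gr G).Adj (g • a) (g • b) :=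
    fun g a b ⟨h, z, h1, h2⟩ => ⟨fun e => h (smul_left_cancel g e), _, h1.smul g, h2.smul g⟩
  exact ⟨fun h => by simpa using this g⁻¹ h, this g⟩

theorem cn_smul (g : G) (a b : Sylow 3 G) :
    Nat.card ((gr G).commonNeighbors (g • a) (g • b)) = Nat.card ((gr G).commonNeighbors a b) :=
  (Nat.card_congr ((MulAction.toPerm g).subtypeEquiv fun c => by
    simp only [SimpleGraph.mem_commonNeighbors, MulAction.toPerm_apply, adj_smul])).symm

variable [Finite G] [IsSimpleGroup G] (h : Nat.card G = 7920)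
include h

section Tri
variable {z : G} {α β γ : Sylow 3 G} (ab : α ≠ β) (ac : α ≠ γ) (bc : β ≠ γ)
  (hT : ∀ δ, Inv z δ ↔ δ = α ∨ δ = β ∨ δ = γ)
include ab ac hT

theorem nbr {δ : Sylow 3 G} : (gr G).Adj α δ ↔ ∃ x ∈ (α : Subgroup G), δ = x • β ∨ δ = x • γ := by
  have hα := (hT α).2 (by simp)
  constructor
  · rintro ⟨hne, z', h1, h2⟩
    obtain ⟨y, hy, rfl⟩ := hα.conj h h1
    have := h2.smul y⁻¹
    rw [show y⁻¹ * (y * z * y⁻¹) * y⁻¹⁻¹ = z by group] at this
    rcases (hT _).1 this with e | e | e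
    · exact absurd (by rw [inv_smul_eq_iff.1 e, sm_iff.2 (Subgroup.le_normalizer hy)]) hne
    · exact ⟨y, hy, Or.inl (inv_smul_eq_iff.1 e)⟩
    · exact ⟨y, hy, Or.inr (inv_smul_eq_iff.1 e)⟩
  · rintro ⟨x, hx, rfl | rfl⟩ <;> rw [← sm_iff.2 (Subgroup.le_normalizer hx), adj_smul]
    · exact ⟨ab, z, hα, (hT _).2 (by simp)⟩
    · exact ⟨ac, z, hα, (hT _).2 (by simp)⟩

include bc in
theorem finj : Function.Injective fun q : ↥(α : Subgroup G) × Bool => (q.1 : G) • (if q.2 then β else γ) := by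
  have hα := (hT α).2 (by simp)
  have k : ∀ x ∈ (α : Subgroup G), x • β ≠ γ := fun x hx e => by
    have h1 := hα.smul x
    have h2 := ((hT β).2 (by simp)).smul x
    rw [sm_iff.2 (Subgroup.le_normalizer hx)] at h1
    rw [e] at h2
    have h3 := Inv.uniq h hα ((hT γ).2 (by simp)) h1 h2 ac
    have h4 := hα.cent h hx (by rw [mul_inv_eq_iff_eq_mul] at h3 ⊢; exact h3.symm)
    rw [h4, one_smul] at e
    exact bc e
  rintro ⟨x, b⟩ ⟨y, c⟩ e
  have e1 : ((y : G)⁻¹ * x) • (if b then β else γ) = if c then β else γ := by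
    rw [mul_smul, inv_smul_eq_iff]; exact e
  have hm : (y : G)⁻¹ * x ∈ (α : Subgroup G) := Subgroup.mul_mem _ (Subgroup.inv_mem _ y.2) x.2
  cases b <;> cases c <;> simp only [if_true, Bool.false_eq_true, if_false] at e1
  · rw [Subtype.ext (inv_mul_eq_one.1 (semi h ac hm e1))]
  · exact absurd (by rw [← e1, inv_smul_smul]) (k _ (Subgroup.inv_mem _ hm))
  · exact absurd e1 (k _ hm)
  · rw [Subtype.ext (inv_mul_eq_one.1 (semi h ab hm e1))]

include bc in
theorem cnt (p : Sylow 3 G → Prop) : Nat.card {δ // (gr G).Adj α δ ∧ p δ} =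
    Nat.card {x : (α : Subgroup G) // p ((x : G) • β)} + Nat.card {x : (α : Subgroup G) // p ((x : G) • γ)} := by
  rw [← Nat.card_sum]
  symm
  refine Nat.card_eq_of_bijective (Sum.elim (fun x => ⟨(x.1 : G) • β, (nbr h ab ac hT).2 ⟨_, x.1.2, Or.inl rfl⟩, x.2⟩)
    (fun x => ⟨(x.1 : G) • γ, (nbr h ab ac hT).2 ⟨_, x.1.2, Or.inr rfl⟩, x.2⟩)) ⟨?_, ?_⟩
  · have f := finj h ab ac bc hT
    rintro (x | x) (y | y) e <;> have e1 := congrArg Subtype.val e
    · rw [Subtype.ext (congrArg Prod.fst (f (a₁ := (x.1, true)) (a₂ := (y.1, true)) e1))]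
    · exact absurd (congrArg Prod.snd (f (a₁ := (x.1, true)) (a₂ := (y.1, false)) e1)) (by simp)
    · exact absurd (congrArg Prod.snd (f (a₁ := (x.1, false)) (a₂ := (y.1, true)) e1)) (by simp)
    · rw [Subtype.ext (congrArg Prod.fst (f (a₁ := (x.1, false)) (a₂ := (y.1, false)) e1))]
  · rintro ⟨δ, h1, h2⟩
    obtain ⟨x, hx, rfl | rfl⟩ := (nbr h ab ac hT).1 h1
    · exact ⟨Sum.inl ⟨⟨x, hx⟩, h2⟩, rfl⟩
    · exact ⟨Sum.inr ⟨⟨x, hx⟩, h2⟩, rfl⟩

end Tri

theorem deg (a : Sylow 3 G) : Nat.card {δ // (gr G).Adj a δ} = 18 := by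
  obtain ⟨z, hz⟩ := ex_inv h a
  obtain ⟨β, γ, ab, ac, bc, hT⟩ := tri h hz
  have := cnt h ab ac bc hT fun _ => True
  simp only [and_true, Nat.card_congr (Equiv.subtypeUnivEquiv fun _ => trivial), cP h] at this
  exact this

theorem c55 : Nat.card (Sylow 3 G) = 55 := by
  obtain ⟨P⟩ : Nonempty (Sylow 3 G) := inferInstance
  have := (N[(P : Subgroup G)]).card_mul_index
  rw [cN h, h] at this
  rw [P.card_eq_index_normalizer]
  change (N[(P : Subgroup G)]).index = 55
  omega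

theorem nonadj {a δ δ' : Sylow 3 G} (h1 : a ≠ δ) (h2 : ¬ (gr G).Adj a δ) (h3 : a ≠ δ') (h4 : ¬ (gr G).Adj a δ') :
    ∃ n : G, n • a = a ∧ n • δ = δ' := by
  classical
  set R := N[(a : Subgroup G)] ⊓ N[(δ : Subgroup G)] with hR
  have h5 : ¬ 3 ∣ Nat.card R := fun hd => by
    obtain ⟨x, hx, ox⟩ := CfsgH2.exists_prime_order_mem Nat.prime_three hd
    have hp : IsPGroup 3 Z[x] := IsPGroup.of_card (n := 1) (by rw [Nat.card_zpowers, ox, pow_one])
    exact h1 (ti h (mem_of_norm a hp (Subgroup.zpowers_le.2 hx.1) (Subgroup.mem_zpowers x))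
      (mem_of_norm δ hp (Subgroup.zpowers_le.2 hx.2) (Subgroup.mem_zpowers x)) (by rintro rfl; simp at ox))
  have h6 : Nat.card R ∣ 2 ^ 4 := by
    have : Nat.card R ∣ 2 ^ 4 * 3 ^ 2 := (Subgroup.card_dvd_of_le inf_le_left).trans (cN h a).dvd
    exact Nat.Coprime.dvd_of_dvd_mul_right (((Nat.Prime.coprime_iff_not_dvd Nat.prime_three).2 h5).symm.pow_right _) this
  obtain ⟨k, -, hk⟩ := (Nat.dvd_prime_pow Nat.prime_two).1 h6
  have hR2 : IsPGroup 2 R := IsPGroup.of_card hk
  have h7 : Nat.card R ≤ 4 := by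
    by_contra hc
    obtain ⟨y, hy, y2, y1, hcc⟩ := ex_central hR2 (by omega)
    by_cases e1 : Inv y a
    · by_cases e2 : Inv y δ
      · exact h2 ⟨h1, y, e1, e2⟩
      · exact hc (le4 h δ y2 y1 e2 hy inf_le_right hcc (disj2 h δ hR2)).1
    · exact hc (le4 h a y2 y1 e1 hy inf_le_left hcc (disj2 h a hR2)).1
  have h8 := orb N[(a : Subgroup G)] δ
  rw [cN h, ← hR] at h8
  have h9 : MulAction.orbit N[(a : Subgroup G)] δ ⊆ {c | a ≠ c ∧ ¬ (gr G).Adj a c} := by
    rintro _ ⟨n, rfl⟩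
    have e := sm_iff.2 n.2
    refine ⟨fun e1 => h1 (smul_left_cancel (n : G) (e.trans e1)), fun e1 => h2 ?_⟩
    rw [← adj_smul (n : G), e]; exact e1
  have h10 : {c | a ≠ c ∧ ¬ (gr G).Adj a c}.ncard = 36 := by
    have e1 := Set.ncard_add_ncard_compl {c | a ≠ c ∧ ¬ (gr G).Adj a c}
    have e2 : {c | a ≠ c ∧ ¬ (gr G).Adj a c}ᶜ = insert a {c | (gr G).Adj a c} := by
      ext c; simp only [Set.mem_compl_iff, Set.mem_insert_iff, Set.mem_ofPred_eq]; tauto
    have e3 : {c | (gr G).Adj a c}.ncard = 18 := deg h a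
    rw [e2, Set.ncard_insert_of_notMem (by simp), e3, c55 h] at e1
    omega
  have h11 := Set.eq_of_subset_of_ncard_le h9 (by rw [h10]; nlinarith)
  obtain ⟨n, hn⟩ : δ' ∈ MulAction.orbit N[(a : Subgroup G)] δ := h11 ▸ ⟨h3, h4⟩
  exact ⟨n, sm_iff.2 n.2, hn⟩

theorem ex_M : ∃ M : Subgroup G, M.index = 11 := by
  classical
  obtain ⟨α⟩ : Nonempty (Sylow 3 G) := inferInstance
  obtain ⟨z, hz⟩ := ex_inv h α
  obtain ⟨β, γ, ab, ac, bc, hT⟩ := tri h hz
  obtain ⟨x0, hx0, x1⟩ := ex_ne h α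
  have hβγ : (gr G).Adj β γ := ⟨bc, z, (hT _).2 (by simp), (hT _).2 (by simp)⟩
  have hp : ∀ δ, Inv z δ → ∀ x ∈ (α : Subgroup G), x ≠ 1 → ((gr G).Adj β (x • δ) ↔ (gr G).Adj β (x0 • δ)) :=
    fun δ hδ x hx hx1 => by
      obtain ⟨q, hq, rfl⟩ := reg h ab ac bc hT hx0 x1 hx hx1
      have f := fixall ab ac hT hq.1.1 (sm_iff.2 hq.1.2) (sm_iff.2 hq.2)
      rw [← adj_smul q (a := β) (b := x0 • δ), sm_iff.2 hq.2, mul_smul, mul_smul, inv_smul_eq_iff.2 (f δ hδ).symm]
  have hc : ∀ (δ : Sylow 3 G) (hδ : Inv z δ), Nat.card {x : (α : Subgroup G) // (gr G).Adj β ((x : G) • δ)} =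
      (if (gr G).Adj β δ then 1 else 0) + if (gr G).Adj β (x0 • δ) then 8 else 0 := fun δ hδ => by
    haveI := Fintype.ofFinite (α : Subgroup G)
    rw [Nat.card_eq_fintype_card, Fintype.card_subtype, Finset.card_filter,
      ← Finset.add_sum_erase _ _ (Finset.mem_univ 1), Finset.sum_congr rfl (g := fun _ => if (gr G).Adj β (x0 • δ) then 1 else 0)
        fun x hx => by simp only [hp δ hδ x x.2 fun e => Finset.ne_of_mem_erase hx (Subtype.ext e)],
      Finset.sum_const, Finset.card_erase_of_mem (Finset.mem_univ _), Finset.card_univ, ← Nat.card_eq_fintype_card, cP h]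
    simp
  obtain ⟨s, hs, s1, s2, s3⟩ := swap h ab ac bc hT
  haveI := Fintype.ofFinite (Sylow 3 G)
  obtain ⟨δ0, d1, d2⟩ : ∃ δ, α ≠ δ ∧ ¬ (gr G).Adj α δ := by
    by_contra hcon
    push Not at hcon
    have e1 : (Set.univ : Set (Sylow 3 G)) = insert α {c | (gr G).Adj α c} := by
      ext c; simp only [Set.mem_univ, Set.mem_insert_iff, Set.mem_ofPred_eq, true_iff]
      by_cases e : α = c
      · exact Or.inl e.symm
      · exact Or.inr (hcon c e)
    have e3 : {c | (gr G).Adj α c}.ncard = 18 := deg h α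
    have := congrArg Set.ncard e1
    rw [Set.ncard_univ, Set.ncard_insert_of_notMem (by simp), e3, c55 h] at this
    omega
  have srg : (gr G).IsSRGWith 55 18 (Nat.card ((gr G).commonNeighbors α β)) (Nat.card ((gr G).commonNeighbors α δ0)) := by
    refine ⟨by rw [← Nat.card_eq_fintype_card, c55 h], fun a => ?_, fun a b hab => ?_, fun a b hne hab => ?_⟩
    · rw [← SimpleGraph.card_neighborSet_eq_degree, ← Nat.card_eq_fintype_card]; exact deg h a
    · obtain ⟨g, rfl⟩ := MulAction.exists_smul_eq G α a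
      obtain ⟨b, rfl⟩ := MulAction.surjective g b
      simp only at hab ⊢
      rw [← Nat.card_eq_fintype_card, cn_smul]
      obtain ⟨x, hx, rfl | rfl⟩ := (nbr h ab ac hT).1 ((adj_smul g).1 hab)
      · rw [← cn_smul x α β, sm_iff.2 (Subgroup.le_normalizer hx)]
      · rw [← cn_smul (x * s) α β, mul_smul, mul_smul, s1, s2, sm_iff.2 (Subgroup.le_normalizer hx)]
    · obtain ⟨g, rfl⟩ := MulAction.exists_smul_eq G α a
      obtain ⟨b, rfl⟩ := MulAction.surjective g b
      simp only at hab hne ⊢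
      rw [← Nat.card_eq_fintype_card, cn_smul]
      obtain ⟨n, n1, n2⟩ := nonadj h d1 d2 (fun e => hne (by rw [e])) (fun e => hab ((adj_smul g).2 e))
      rw [← cn_smul n α δ0, n1, n2]
  have hl : Nat.card ((gr G).commonNeighbors α β) = (if (gr G).Adj β (x0 • β) then 8 else 0) +
      (1 + if (gr G).Adj β (x0 • γ) then 8 else 0) := by
    have := cnt h ab ac bc hT ((gr G).Adj β)
    rw [hc β ((hT _).2 (by simp)), hc γ ((hT _).2 (by simp)), if_neg (gr G).irrefl, if_pos hβγ, zero_add] at this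
    exact this
  have pe := srg.param_eq _ (by norm_num)
  have ns := no_srg _ srg
  have good : (gr G).Adj β (x0 • β) ∧ ¬ (gr G).Adj β (x0 • γ) := by
    by_cases p1 : (gr G).Adj β (x0 • β) <;> by_cases p2 : (gr G).Adj β (x0 • γ) <;>
      simp only [p1, p2, if_true, if_false] at hl <;> rw [hl] at pe ns
    · exact absurd ⟨rfl, by omega⟩ ns.2
    · exact ⟨p1, p2⟩
    · exfalso
      have h1 := srg.of_not_adj (show β ≠ x0 • β from fun e => x1 (semi h ab hx0 e.symm)) p1
      have all : ∀ x ∈ (α : Subgroup G), (gr G).Adj β (x • γ) := fun x hx => by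
        by_cases e : x = 1
        · rw [e, one_smul]; exact hβγ
        · exact (hp γ ((hT _).2 (by simp)) x hx e).2 p2
      have h2 := Nat.card_le_card_of_injective (fun x : (α : Subgroup G) => (⟨(x : G) • γ, all x x.2, by
        have := (adj_smul x0).2 (all (x0⁻¹ * x) (Subgroup.mul_mem _ (Subgroup.inv_mem _ hx0) x.2))
        rwa [← mul_smul, mul_inv_cancel_left] at this⟩ : (gr G).commonNeighbors β (x0 • β))) fun x y e =>
        congrArg Prod.fst (finj h ab ac bc hT (a₁ := (x, false)) (a₂ := (y, false)) (congrArg Subtype.val e))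
      rw [cP h, Nat.card_eq_fintype_card, h1] at h2
      omega
    · exact absurd ⟨rfl, by omega⟩ ns.1
  let C : Set (Sylow 3 G) := {δ | δ = α ∨ ∃ x ∈ (α : Subgroup G), δ = x • β}
  have hC : ∀ δ, δ ∈ C ↔ δ = α ∨ δ = β ∨ ((gr G).Adj α δ ∧ (gr G).Adj β δ ∧ δ ≠ γ) := fun δ => by
    constructor
    · rintro (e | ⟨x, hx, rfl⟩)
      · exact Or.inl e
      · by_cases e : x = 1
        · exact Or.inr (Or.inl (by rw [e, one_smul]))
        · refine Or.inr (Or.inr ⟨(nbr h ab ac hT).2 ⟨x, hx, Or.inl rfl⟩, (hp β ((hT _).2 (by simp)) x hx e).2 good.1, fun e1 => ?_⟩)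
          exact absurd (congrArg Prod.snd (finj h ab ac bc hT (a₁ := (⟨x, hx⟩, true)) (a₂ := (1, false))
            (by simpa using e1))) (by simp)
    · rintro (e | e | ⟨e1, e2, e3⟩)
      · exact Or.inl e
      · exact Or.inr ⟨1, one_mem _, by rw [e, one_smul]⟩
      · obtain ⟨x, hx, rfl | rfl⟩ := (nbr h ab ac hT).1 e1
        · exact Or.inr ⟨x, hx, rfl⟩
        · by_cases e : x = 1
          · exact absurd (by rw [e, one_smul]) e3
          · exact absurd ((hp γ ((hT _).2 (by simp)) x hx e).1 e2) good.2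
  let M := MulAction.stabilizer G C
  have hM : ∀ g : G, (∀ δ ∈ C, g • δ ∈ C) → g ∈ M := fun g hg =>
    Set.eq_of_subset_of_ncard_le (by rintro _ ⟨δ, hδ, rfl⟩; exact hg δ hδ) (Set.ncard_smul_set g C).ge
  have hM' : ∀ g ∈ M, ∀ δ ∈ C, g • δ ∈ C := fun g hg δ hδ => (show g • C = C from hg) ▸ Set.smul_mem_smul_set hδ
  have hαM : (α : Subgroup G) ≤ M := fun y hy => hM y (by
    rintro _ (rfl | ⟨x, hx, rfl⟩)
    · exact Or.inl (sm_iff.2 (Subgroup.le_normalizer hy))
    · exact Or.inr ⟨y * x, Subgroup.mul_mem _ hy hx, (mul_smul _ _ _).symm⟩)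
  have hQM : C1[z] ⊓ N[(α : Subgroup G)] ⊓ N[(β : Subgroup G)] ≤ M := fun q hq => hM q (by
    rintro _ (rfl | ⟨x, hx, rfl⟩)
    · exact Or.inl (sm_iff.2 hq.1.2)
    · refine Or.inr ⟨q * x * q⁻¹, (Subgroup.mem_normalizer_iff.1 hq.1.2 x).1 hx, ?_⟩
      rw [mul_smul, mul_smul, sm_iff.2 (Subgroup.inv_mem _ hq.2)])
  obtain ⟨t, -, t1, t2, t3⟩ := swap h ac.symm bc.symm ab (z := z) fun δ => by rw [hT]; tauto
  have htM : t ∈ M := hM t fun δ hδ => by
    rw [hC] at hδ ⊢
    rcases hδ with rfl | rfl | ⟨e1, e2, e3⟩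
    · exact Or.inr (Or.inl t2)
    · exact Or.inl t3
    · refine Or.inr (Or.inr ⟨?_, ?_, fun e => e3 (smul_left_cancel t (e.trans t1.symm))⟩)
      · rw [← t3, adj_smul]; exact e2
      · rw [← t2, adj_smul]; exact e1
  have ho : MulAction.orbit M α = C := by
    ext δ
    refine ⟨by rintro ⟨g, rfl⟩; exact hM' g g.2 α (Or.inl rfl), ?_⟩
    rintro (rfl | ⟨x, hx, rfl⟩)
    · exact MulAction.mem_orbit_self _
    · exact ⟨⟨x * t, M.mul_mem (hαM hx) htM⟩, by show (x * t) • α = _; rw [mul_smul, t2]⟩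
  have hC10 : C.ncard = 10 := by
    have e : C = insert α (Set.range fun x : (α : Subgroup G) => (x : G) • β) := by
      ext δ; simp [C, eq_comm]
    rw [e, Set.ncard_insert_of_notMem (by
      rintro ⟨x, hx⟩
      exact ((nbr h ab ac hT).2 ⟨x, x.2, Or.inl rfl⟩).ne hx.symm), Set.ncard_range_of_injective (f := fun x : (α : Subgroup G) => (x : G) • β) (fun x y e =>
        congrArg Prod.fst (finj h ab ac bc hT (a₁ := (x, true)) (a₂ := (y, true)) e)), cP h]
  have h1 := orb M α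
  rw [ho, hC10] at h1
  have h2 : Nat.card (M ⊓ N[(α : Subgroup G)] : Subgroup G) = 72 := by
    have e9 : 9 ∣ Nat.card (M ⊓ N[(α : Subgroup G)] : Subgroup G) :=
      cP h α ▸ Subgroup.card_dvd_of_le (le_inf hαM Subgroup.le_normalizer)
    have e8 : 8 ∣ Nat.card (M ⊓ N[(α : Subgroup G)] : Subgroup G) :=
      c8 h ab ac bc hT ▸ Subgroup.card_dvd_of_le (le_inf hQM (inf_le_left.trans inf_le_right))
    have e1 : Nat.card (M ⊓ N[(α : Subgroup G)] : Subgroup G) ∣ 144 := cN h α ▸ Subgroup.card_dvd_of_le inf_le_right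
    have e2 : Nat.card (M ⊓ N[(α : Subgroup G)] : Subgroup G) ≠ 144 := fun e => by
      have := inf_eq_right.1 (Subgroup.eq_of_le_of_card_ge (inf_le_right : M ⊓ N[(α : Subgroup G)] ≤ _) (by rw [e, cN h]))
      have := hM' s (this (sm_iff.1 s1)) β ((hC _).2 (by simp))
      rw [s2, hC] at this
      rcases this with e | e | e
      · exact ac e.symm
      · exact bc e.symm
      · exact e.2.2 rfl
    have := Nat.le_of_dvd (by norm_num) e1
    have := Nat.card_pos (α := (M ⊓ N[(α : Subgroup G)] : Subgroup G))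
    omega
  have h3 := M.card_mul_index
  rw [← h1, h2, h] at h3
  exact ⟨M, by omega⟩

end CfsgH8.M11
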