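import Cfsg.Agent.H8.M11e
import Cfsg.Agent.S0411
import Cfsg.Agent.S0426

/-! A simple group of order 7920 is the automorphism group of a Steiner system `S(4, 5, 11)`. -/

set_option autoImplicit false
open Cfsg CfsgSm CfsgH4 CfsgH3
open scoped Pointwise

namespace CfsgH8.M11

local notation "C[" Q "]" => Subgroup.centralizer (SetLike.coe (Q : Subgroup _))
local notation "N[" Q "]" => Subgroup.normalizer (SetLike.coe (Q : Subgroup _))
local notation "Z[" u "]" => Subgroup.zpowers u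
local notation "C1[" u "]" => Subgroup.centralizer (singleton u)

variable {G : Type*} [Group G] {Ω : Type*} [MulAction G Ω]

/-- The fixed points of a Sylow 3-subgroup. -/
def Fx (Ω : Type*) [MulAction G Ω] (P : Sylow 3 G) : Set Ω := {ω | ∀ y ∈ (P : Subgroup G), y • ω = ω}

theorem fx_smul (g : G) (P : Sylow 3 G) {ω : Ω} : g • ω ∈ Fx Ω (g • P) ↔ ω ∈ Fx Ω P := by
  refine ⟨fun e y hy => ?_, fun e y hy => ?_⟩
  · have := e (g * y * g⁻¹) (mem_sm.2 (by simpa [mul_assoc] using hy))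
    rw [mul_smul, mul_smul, inv_smul_smul] at this
    exact smul_left_cancel g this
  · have := e _ (mem_sm.1 hy)
    rwa [mul_smul, mul_smul, inv_smul_eq_iff] at this

/-- Ordered blocks. -/
def RB (G : Type*) [Group G] [MulAction G Ω] (v : Fin 5 → Ω) : Prop :=
  Function.Injective v ∧ ∃ y : G, orderOf y = 2 ∧ y • v 0 = v 0 ∧ y • v 1 = v 1 ∧ y • v 2 = v 2 ∧ y • v 3 = v 4

variable [Finite G] [IsSimpleGroup G] (h : Nat.card G = 7920) [Finite Ω] [MulAction.IsPretransitive G Ω]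
  (hΩ : Nat.card Ω = 11)
include h hΩ

omit [IsSimpleGroup G] [Finite Ω] in
theorem cstab (ω : Ω) : Nat.card (MulAction.stabilizer G ω) = 720 := by
  have := (MulAction.stabilizer G ω).card_mul_index
  rw [MulAction.index_stabilizer_of_transitive, hΩ, h] at this
  omega

omit [Finite Ω] in
theorem faith {g : G} (hg : ∀ ω : Ω, g • ω = ω) : g = 1 := by
  rcases (inferInstance : (MulAction.toPermHom G Ω).ker.Normal).eq_bot_or_eq_top with e | e
  · exact Subgroup.mem_bot.1 (e ▸ (show g ∈ (MulAction.toPermHom G Ω).ker from Equiv.ext hg))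
  · obtain ⟨ω⟩ : Nonempty Ω := (Nat.card_pos_iff.1 (by omega)).1
    have h1 := cstab h hΩ ω
    rw [(Subgroup.eq_top_iff' (MulAction.stabilizer G ω)).2 fun x => show x • ω = ω from congrArg (fun σ : Equiv.Perm Ω => σ ω)
      (show x ∈ (MulAction.toPermHom G Ω).ker from e ▸ Subgroup.mem_top x), Subgroup.card_top, h] at h1
    omega

omit [Finite Ω] in
theorem fx_of {P : Sylow 3 G} {x : G} (hx : x ∈ (P : Subgroup G)) (x1 : x ≠ 1) {ω : Ω} (e : x • ω = ω) : ω ∈ Fx Ω P := by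
  set S := MulAction.stabilizer G ω
  have o : orderOf (⟨x, e⟩ : S) = 3 := by rw [← Subgroup.orderOf_coe]; exact o3 h P hx x1
  obtain ⟨R, hR⟩ := (IsPGroup.of_card (p := 3) (n := 1) (G := Z[(⟨x, e⟩ : S)])
    (by rw [Nat.card_zpowers, o, pow_one])).exists_le_sylow
  have hRc : Nat.card (R : Subgroup S) = 9 := by
    rw [R.card_eq_multiplicity, fact_eq (k := 2) (m := 80) (by norm_num) (by rw [cstab h hΩ]; norm_num) (by norm_num)]
    norm_num
  obtain ⟨Q, hQ⟩ := (R.isPGroup'.map S.subtype).exists_le_sylow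
  have e1 := Subgroup.eq_of_le_of_card_ge hQ (by rw [cP h, Subgroup.card_subtype, hRc])
  obtain rfl := ti h hx (hQ ⟨_, hR (Subgroup.mem_zpowers _), rfl⟩) x1
  intro y hy
  rw [← e1] at hy
  exact Subgroup.map_subtype_le _ hy

theorem fx2 (P : Sylow 3 G) : (Fx Ω P).ncard = 2 := by
  classical
  haveI := Fintype.ofFinite Ω
  haveI := Fintype.ofFinite (P : Subgroup G)
  have e := MulAction.sum_card_fixedBy_eq_card_orbits_mul_card_group (P : Subgroup G) Ω
  rw [← Finset.add_sum_erase _ _ (Finset.mem_univ 1), Finset.sum_congr rfl (g := fun _ => (Fx Ω P).ncard)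
    fun x hx => by
      rw [← Nat.card_eq_fintype_card]
      exact Nat.card_congr (Equiv.subtypeEquivRight fun ω => ⟨fun e => fx_of h hΩ x.2
        (fun e => Finset.ne_of_mem_erase hx (Subtype.ext e)) e, fun e => e x x.2⟩),
    Finset.sum_const, Finset.card_erase_of_mem (Finset.mem_univ _), Finset.card_univ,
    ← Nat.card_eq_fintype_card (α := (P : Subgroup G)), cP h, ← Nat.card_eq_fintype_card,
    MulAction.fixedBy_one_eq_univ, Nat.card_coe_set_eq, Set.ncard_univ, hΩ, smul_eq_mul] at e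
  have h1 : (Fx Ω P).ncard < 11 := by
    rw [← hΩ, ← Set.ncard_univ]
    refine Set.ncard_lt_ncard ⟨Set.subset_univ _, fun e => ?_⟩
    obtain ⟨y, hy, y1⟩ := ex_ne h P
    exact y1 (faith h hΩ fun ω => e trivial y hy)
  omega

theorem trans9 (P : Sylow 3 G) {c d : Ω} (hc : c ∉ Fx Ω P) (hd : d ∉ Fx Ω P) : ∃ x ∈ (P : Subgroup G), x • c = d := by
  let f : ↥(P : Subgroup G) → ↥((Fx Ω P)ᶜ : Set Ω) := fun x => ⟨(x : G) • c, fun e => hc
    ((fx_smul (x : G) P).1 (by rw [sm_iff.2 (Subgroup.le_normalizer x.2)]; exact e))⟩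
  have hf : Function.Injective f := fun x y e => by
    by_contra hne
    refine hc (fx_of h hΩ (Subgroup.mul_mem _ (Subgroup.inv_mem _ y.2) x.2)
      (fun e => hne (Subtype.ext (inv_mul_eq_one.1 e).symm)) ?_)
    rw [mul_smul, inv_smul_eq_iff]; exact congrArg Subtype.val e
  have h1 := Set.ncard_add_ncard_compl (Fx Ω P)
  rw [fx2 h hΩ, hΩ] at h1
  obtain ⟨x, hx⟩ := (hf.bijective_of_nat_card_le (by rw [cP h, Nat.card_coe_set_eq]; omega)).2 ⟨d, hd⟩
  exact ⟨x, x.2, congrArg Subtype.val hx⟩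

theorem ex_P {a b : Ω} (ab : a ≠ b) : ∃ P : Sylow 3 G, Fx Ω P = {a, b} := by
  obtain ⟨P0⟩ : Nonempty (Sylow 3 G) := inferInstance
  obtain ⟨a0, h0⟩ := Set.nonempty_of_ncard_ne_zero (s := Fx Ω P0) (by rw [fx2 h hΩ]; norm_num)
  obtain ⟨g, rfl⟩ := MulAction.exists_smul_eq G a0 a
  set a := g • a0
  have key : ∀ (P : Sylow 3 G) (c : Ω), a ∈ Fx Ω P → c ∈ Fx Ω P → a ≠ c → Fx Ω P = {a, c} := fun P c h1 h2 h3 =>
    (Set.eq_of_subset_of_ncard_le (by rintro _ (rfl | rfl) <;> assumption) (by rw [fx2 h hΩ, Set.ncard_pair h3])).symm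
  have h1 : a ∈ Fx Ω (g • P0) := (fx_smul g P0).2 h0
  obtain ⟨b1, h2, h3⟩ := Set.exists_ne_of_one_lt_ncard (s := Fx Ω (g • P0)) (by rw [fx2 h hΩ]; norm_num) a
  by_cases e : b ∈ Fx Ω (g • P0)
  · exact ⟨_, key _ b h1 e ab⟩
  obtain ⟨k, k1, k2⟩ : ∃ k : G, k • a = a ∧ k • b1 ≠ b1 := by
    by_contra hc
    push Not at hc
    have e1 := Subgroup.eq_of_le_of_card_ge (show MulAction.stabilizer G a ≤ MulAction.stabilizer G b1 from hc)
      (by rw [cstab h hΩ, cstab h hΩ])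
    obtain ⟨n, hn⟩ := MulAction.exists_smul_eq G a b1
    have e2 : n ∈ N[MulAction.stabilizer G a] := Subgroup.mem_normalizer_iff.2 fun x => by
      conv_rhs => rw [e1, ← hn]
      simp [mul_smul]
    have e3 := Subgroup.relIndex_mul_index (Subgroup.le_normalizer (H := MulAction.stabilizer G a))
    rw [MulAction.index_stabilizer_of_transitive, hΩ] at e3
    rcases (Nat.dvd_prime (by norm_num)).1 (Dvd.intro_left _ e3) with e4 | e4
    · have := cstab h hΩ a
      rcases (Subgroup.normalizer_eq_top_iff.1 (Subgroup.index_eq_one.1 e4)).eq_bot_or_eq_top with e5 | e5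
      · rw [e5, Subgroup.card_bot] at this; omega
      · rw [e5, Subgroup.card_top, h] at this; omega
    · rw [e4] at e3
      have e5 : (MulAction.stabilizer G a).relIndex N[MulAction.stabilizer G a] = 1 := by omega
      exact h3 (hn.symm.trans (Subgroup.relIndex_eq_one.1 e5 e2))
  have h4 : k • b1 ∉ Fx Ω (g • P0) := fun e1 => by
    rw [key _ b1 h1 h2 h3.symm] at e1
    rcases e1 with e1 | e1
    · exact h3 (smul_left_cancel k (e1.trans k1.symm))
    · exact k2 e1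
  obtain ⟨x, hx, x2⟩ := trans9 h hΩ _ h4 e
  refine ⟨(x * k) • g • P0, key _ b ?_ ?_ ab⟩
  · have := (fx_smul (x * k) _).2 h1
    rwa [mul_smul x k a, k1, h1 x hx] at this
  · have := (fx_smul (x * k) _).2 h2
    rwa [mul_smul x k b1, x2] at this

theorem fx_inj : Function.Injective (Fx (G := G) Ω) := by
  classical
  haveI := Fintype.ofFinite Ω
  let f : Sylow 3 G → {s : Finset Ω // s.card = 2} := fun P => ⟨(Fx Ω P).toFinset, by
    rw [← Set.ncard_eq_toFinset_card', fx2 h hΩ]⟩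
  have hf : Function.Surjective f := fun s => by
    obtain ⟨a, b, ab, e⟩ := Finset.card_eq_two.1 s.2
    obtain ⟨P, hP⟩ := ex_P h hΩ ab
    exact ⟨P, Subtype.ext (by simp [f, hP, e])⟩
  have := (hf.bijective_of_nat_card_le (by
    rw [c55 h, Nat.card_eq_fintype_card, Fintype.card_finset_len, ← Nat.card_eq_fintype_card, hΩ]; decide)).1
  exact fun P Q e => this (Subtype.ext (by simp [f, e]))

theorem fix3 {y : G} (hy : orderOf y = 2) : (MulAction.fixedBy Ω y).ncard ≤ 3 ∧ (MulAction.fixedBy Ω y).ncard % 2 = 1 := by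
  classical
  constructor
  · obtain ⟨P0⟩ : Nonempty (Sylow 3 G) := inferInstance
    obtain ⟨z, hz⟩ := ex_inv h P0
    obtain ⟨g, rfl⟩ := isConj_iff.1 ((main h).2.2.2.1 z y (hz.ord h) hy)
    have h1 := hz.smul g
    generalize g * z * g⁻¹ = y at *
    generalize g • P0 = P at *
    have h2 : (MulAction.fixedBy Ω y \ Fx Ω P).ncard ≤ 1 := (Set.ncard_le_one_iff (Set.toFinite _)).2 fun {u v} hu hv => by
      obtain ⟨x, hx, rfl⟩ := trans9 h hΩ P hu.2 hv.2
      have e1 : y • u = u := hu.1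
      have e2 : y • x • u = x • u := hv.1
      have e3 : x⁻¹ • u = x • u := by
        rw [← h1.2 x hx, mul_smul, mul_smul, inv_smul_eq_iff.2 e1.symm, e2]
      by_cases x1 : x = 1
      · rw [x1, one_smul]
      · refine absurd (fx_of h hΩ (Subgroup.inv_mem _ hx) (inv_ne_one.2 x1) ?_) hu.2
        rw [← p3 h P hx, mul_smul, ← e3, smul_inv_smul]
    have h3 := Set.ncard_le_ncard_diff_add_ncard (MulAction.fixedBy Ω y) (Fx Ω P)
    rw [fx2 h hΩ] at h3
    omega
  · haveI := Fintype.ofFinite Ω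
    have := Equiv.Perm.card_fixedPoints_modEq (f := fun ω : Ω => y • ω) (p := 2) (n := 1) (by
      funext ω
      show y • y • ω = ω
      rw [← mul_smul, CfsgL0.inv_mul_self hy, one_smul])
    rw [← Nat.card_eq_fintype_card, ← Nat.card_eq_fintype_card, hΩ] at this
    exact this.symm

theorem no4 {y : G} (hy : orderOf y = 2) (u : Fin 4 → Ω) (hu : Function.Injective u) : ¬ ∀ i, y • u i = u i := fun e => by
  have h1 := Set.ncard_le_ncard (show Set.range u ⊆ MulAction.fixedBy Ω y by rintro _ ⟨i, rfl⟩; exact e i)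
  rw [Set.ncard_range_of_injective hu] at h1
  have := (fix3 h hΩ hy).1
  simp at h1
  omega

theorem third {y : G} (hy : orderOf y = 2) {a b : Ω} (ab : a ≠ b) (ha : y • a = a) (hb : y • b = b) :
    ∃ c, c ∉ ({a, b} : Set Ω) ∧ y • c = c := by
  by_contra hc
  push Not at hc
  have : MulAction.fixedBy Ω y = {a, b} := Set.Subset.antisymm (fun c e => by_contra fun e' => hc c e' e)
    (by rintro _ (rfl | rfl) <;> assumption)
  have h1 := (fix3 h hΩ hy).2
  rw [this, Set.ncard_pair ab] at h1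
  omega

theorem inv_of_fix {P : Sylow 3 G} {a b : Ω} (ab : a ≠ b) (hP : Fx Ω P = {a, b}) {y : G} (hy : orderOf y = 2)
    (ha : y • a = a) (hb : y • b = b) : Inv y P := by
  by_contra hi
  have hn : y • P = P := fx_inj h hΩ (by
    ext ω
    rw [← smul_inv_smul y ω, fx_smul, hP]
    simp only [Set.mem_insert_iff, Set.mem_singleton_iff, inv_smul_eq_iff, smul_inv_smul, ha, hb])
  obtain ⟨w, hw, -, -, w1, -, e, -⟩ := refl h P (sm_iff.1 hn) (CfsgL0.inv_mul_self hy) (CfsgL0.inv_ne_one hy) hi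
  obtain ⟨c, hc, yc⟩ := third h hΩ hy ab ha hb
  have h1 : w • c ∉ Fx Ω P := fun e => hc (by rwa [← sm_iff.2 (Subgroup.le_normalizer hw), fx_smul, hP] at e)
  have h2 : w • c ≠ c := fun e => hc (hP ▸ fx_of h hΩ hw w1 e)
  rw [hP] at h1
  simp only [Set.mem_insert_iff, Set.mem_singleton_iff, not_or] at hc h1
  refine no4 h hΩ hy ![a, b, c, w • c] (by
    rw [← List.nodup_ofFn]
    simp [ab, Ne.symm hc.1, Ne.symm hc.2, Ne.symm h1.1, Ne.symm h1.2, h2.symm]) ?_
  simp only [Fin.forall_fin_succ, Matrix.cons_val_zero, Matrix.cons_val_succ, ha, hb, yc, true_and, IsEmpty.forall_iff, and_true]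
  rw [← mul_smul, mul_inv_eq_iff_eq_mul.1 e, mul_smul, yc]

theorem ex3 {a b c : Ω} (ab : a ≠ b) (ca : c ≠ a) (cb : c ≠ b) :
    ∃ y : G, orderOf y = 2 ∧ y • a = a ∧ y • b = b ∧ y • c = c := by
  obtain ⟨P, hP⟩ := ex_P h hΩ ab
  have h1 : 2 ∣ Nat.card (MulAction.stabilizer G a ⊓ MulAction.stabilizer G b : Subgroup G) := by
    have e1 := Subgroup.index_inf_le (H := MulAction.stabilizer G a) (K := MulAction.stabilizer G b)
    rw [MulAction.index_stabilizer_of_transitive, MulAction.index_stabilizer_of_transitive, hΩ] at e1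
    have e2 := (MulAction.stabilizer G a ⊓ MulAction.stabilizer G b).card_mul_index
    have e3 : Nat.card (MulAction.stabilizer G a ⊓ MulAction.stabilizer G b : Subgroup G) ∣ 2 ^ 4 * 45 :=
      (Subgroup.card_dvd_of_le inf_le_left).trans (cstab h hΩ a).dvd
    by_contra e4
    have := Nat.le_of_dvd (by norm_num) (Nat.Coprime.dvd_of_dvd_mul_left
      (((Nat.Prime.coprime_iff_not_dvd Nat.prime_two).2 e4).symm.pow_right _) e3)
    have := Nat.mul_le_mul this e1
    omega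
  obtain ⟨y, hy, oy⟩ := CfsgH2.exists_prime_order_mem Nat.prime_two h1
  obtain ⟨c0, hc, yc⟩ := third h hΩ oy ab hy.1 hy.2
  obtain ⟨x, hx, rfl⟩ := trans9 h hΩ P (c := c0) (d := c) (hP ▸ hc) (by rw [hP]; simp [ca, cb])
  have ha : a ∈ Fx Ω P := by rw [hP]; simp
  have hb : b ∈ Fx Ω P := by rw [hP]; simp
  refine ⟨x * y * x⁻¹, ((MulAut.conj x).orderOf_eq y).trans oy, ?_, ?_, ?_⟩ <;> rw [mul_smul, mul_smul]
  · rw [ha _ (Subgroup.inv_mem _ hx), show y • a = a from hy.1, ha x hx]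
  · rw [hb _ (Subgroup.inv_mem _ hx), show y • b = b from hy.2, hb x hx]
  · rw [inv_smul_smul, yc]

theorem un3 {a b c : Ω} (ab : a ≠ b) (ca : c ≠ a) (cb : c ≠ b) {y y' : G} (hy : orderOf y = 2) (hy' : orderOf y' = 2)
    (h1 : y • a = a) (h2 : y • b = b) (h3 : y • c = c) (k1 : y' • a = a) (k2 : y' • b = b) (k3 : y' • c = c) : y' = y := by
  obtain ⟨P, hP⟩ := ex_P h hΩ ab
  have e1 := inv_of_fix h hΩ ab hP hy h1 h2
  have e2 : y' * y = 1 := by
    by_contra e
    have := fx_of h hΩ (e1.mul h (inv_of_fix h hΩ ab hP hy' k1 k2)) e (by rw [mul_smul, h3, k3])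
    rw [hP] at this
    simp [ca, cb] at this
  calc y' = y' * (y * y) := by rw [e1.1, mul_one]
    _ = _ := by rw [← mul_assoc, e2, one_mul]

theorem rb_perm (σ : Equiv.Perm (Fin 5)) : ∀ v : Fin 5 → Ω, RB G v → RB G (v ∘ σ) := by
  have hσ : σ ∈ Submonoid.closure (Set.range fun i : Fin 4 => Equiv.swap i.castSucc i.succ) := by
    rw [Equiv.Perm.mclosure_swap_castSucc_succ]; trivial
  induction hσ using Submonoid.closure_induction with
  | one => exact fun v hv => hv
  | mul σ τ _ _ h1 h2 => exact fun v hv => h2 _ (h1 v hv)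
  | mem σ hσ =>
    obtain ⟨i, rfl⟩ := hσ
    rintro v ⟨hv, y, oy, h0, h1, h2, h3⟩
    refine ⟨hv.comp (Equiv.injective _), ?_⟩
    fin_cases i
    · exact ⟨y, oy, h1, h0, h2, h3⟩
    · exact ⟨y, oy, h0, h2, h1, h3⟩
    · have ab : v 0 ≠ v 1 := hv.ne (by decide)
      obtain ⟨P, hP⟩ := ex_P h hΩ ab
      have hi := inv_of_fix h hΩ ab hP oy h0 h1
      obtain ⟨x, hx, e⟩ := trans9 h hΩ P (c := v 2) (d := v 3) (by rw [hP]; simp [hv.eq_iff]) (by rw [hP]; simp [hv.eq_iff])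
      have ha : v 0 ∈ Fx Ω P := by rw [hP]; simp
      have hb : v 1 ∈ Fx Ω P := by rw [hP]; simp
      have k : ∀ u ∈ (P : Subgroup G), y • u • v 2 = u⁻¹ • v 2 := fun u hu => by
        rw [← hi.2 u hu, mul_smul, mul_smul, inv_smul_eq_iff.2 h2.symm]
      refine ⟨x * y * x⁻¹, ((MulAut.conj x).orderOf_eq y).trans oy, ?_, ?_, ?_, ?_⟩ <;> rw [mul_smul, mul_smul]
      · show x • y • x⁻¹ • v 0 = v 0
        rw [ha _ (Subgroup.inv_mem _ hx), h0, ha x hx]
      · show x • y • x⁻¹ • v 1 = v 1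
        rw [hb _ (Subgroup.inv_mem _ hx), h1, hb x hx]
      · show x • y • x⁻¹ • v 3 = v 3
        rw [← e, inv_smul_smul, h2]
      · show x • y • x⁻¹ • v 2 = v 4
        rw [k _ (Subgroup.inv_mem _ hx), inv_inv, ← mul_smul, p3 h P hx, ← h3, ← e, k x hx]
    · refine ⟨y, oy, h0, h1, h2, ?_⟩
      show y • v 4 = v 3
      rw [← h3, ← mul_smul, CfsgL0.inv_mul_self oy, one_smul]

theorem steiner [DecidableEq Ω] : IsSteinerSystem 4 5 {s : Finset Ω | ∃ v, RB G v ∧ s = Finset.univ.image v} := by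
  refine ⟨?_, fun s hs => ?_⟩
  · rintro _ ⟨v, hv, rfl⟩
    rw [Finset.card_image_of_injective _ hv.1]; simp
  let u : Fin 4 → Ω := fun i => (s.equivFinOfCardEq hs).symm i
  have hu : Function.Injective u := Subtype.val_injective.comp (Equiv.injective _)
  have hs' : ∀ x ∈ s, ∃ i, u i = x := fun x hx => ⟨s.equivFinOfCardEq hs ⟨x, hx⟩, by simp [u]⟩
  obtain ⟨y, oy, h0, h1, h2⟩ := ex3 h hΩ (a := u 0) (b := u 1) (c := u 2) (hu.ne (by decide)) (hu.ne (by decide))
    (hu.ne (by decide))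
  have key : ∀ t, (∃ v, RB G v ∧ t = Finset.univ.image v) → s ⊆ t →
      t = Finset.univ.image ![u 0, u 1, u 2, u 3, y • u 3] := by
    rintro _ ⟨v, hv, rfl⟩ hst
    choose f hf using fun i => Finset.mem_image.1 (hst ((s.equivFinOfCardEq hs).symm i).2)
    have hf' : ∀ i, v (f i) = u i := fun i => (hf i).2
    have hfi : Function.Injective f := fun i j e => hu (by rw [← hf', ← hf', e])
    obtain ⟨σ, hσ⟩ := Equiv.Perm.exists_extending_pair _ _ (Fin.castSucc_injective 4) hfi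
    obtain ⟨-, y', oy', k0, k1, k2, k3⟩ := rb_perm h hΩ σ v hv
    have e : ∀ i : Fin 4, (v ∘ σ) i.castSucc = u i := fun i => by rw [Function.comp_apply, hσ, hf']
    have e0 : (v ∘ σ) 0 = u 0 := e 0
    have e1 : (v ∘ σ) 1 = u 1 := e 1
    have e2 : (v ∘ σ) 2 = u 2 := e 2
    have e3 : (v ∘ σ) 3 = u 3 := e 3
    rw [e0] at k0; rw [e1] at k1; rw [e2] at k2; rw [e3] at k3
    rw [un3 h hΩ (hu.ne (by decide)) (hu.ne (by decide)) (hu.ne (by decide)) oy oy' h0 h1 h2 k0 k1 k2] at k3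
    rw [show ![u 0, u 1, u 2, u 3, y • u 3] = v ∘ σ by
      funext i; fin_cases i
      exacts [e0.symm, e1.symm, e2.symm, e3.symm, k3], ← Finset.image_image, Finset.image_univ_equiv]
  refine ⟨_, ⟨⟨![u 0, u 1, u 2, u 3, y • u 3], ⟨?_, y, oy, h0, h1, h2, rfl⟩, rfl⟩, fun x hx => ?_⟩,
    fun t ht => key t ht.1 ht.2⟩
  · have a0 : u 0 ≠ y • u 3 := fun e => hu.ne (by decide) (smul_left_cancel y (h0.trans e))
    have a1 : u 1 ≠ y • u 3 := fun e => hu.ne (by decide) (smul_left_cancel y (h1.trans e))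
    have a2 : u 2 ≠ y • u 3 := fun e => hu.ne (by decide) (smul_left_cancel y (h2.trans e))
    have a3 : u 3 ≠ y • u 3 := fun e => no4 h hΩ oy u hu fun i => by
      fin_cases i
      exacts [h0, h1, h2, e.symm]
    rw [← List.nodup_ofFn]
    simp [hu.eq_iff, a0, a1, a2, a3]
  · obtain ⟨i, rfl⟩ := hs' x hx
    exact Finset.mem_image.2 ⟨i.castSucc, Finset.mem_univ _, by fin_cases i <;> rfl⟩

theorem iso_aut [DecidableEq Ω] :
    ∃ B : Set (Finset Ω), IsSteinerSystem 4 5 B ∧ Nonempty (G ≃* setSystemAut B) := by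
  haveI := Fintype.ofFinite Ω
  refine ⟨_, steiner h hΩ, ⟨MulEquiv.ofBijective ((MulAction.toPermHom G Ω).codRestrict _ fun g => ?_) ?_⟩⟩
  · refine Set.eq_of_subset_of_ncard_le ?_ (Set.ncard_smul_set _ _).ge
    rintro _ ⟨_, ⟨v, ⟨hv, y, oy, h0, h1, h2, h3⟩, rfl⟩, rfl⟩
    refine ⟨fun i => g • v i, ⟨(MulAction.injective g).comp hv, g * y * g⁻¹,
      ((MulAut.conj g).orderOf_eq y).trans oy, ?_⟩, ?_⟩
    · simp [mul_smul, h0, h1, h2, h3]
    · ext x; simp [Finset.mem_smul_finset]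
  · refine Function.Injective.bijective_of_nat_card_le ((injective_iff_map_eq_one _).2 fun g hg =>
      faith h hΩ fun ω => congrArg (fun σ : Equiv.Perm Ω => σ ω) (congrArg Subtype.val hg)) ?_
    rw [h, (Cfsg.Agent.S0426.result (by rw [← Nat.card_eq_fintype_card, hΩ]) (steiner h hΩ)).1.2]

omit hΩ in
theorem uniq {H : Type*} [Group H] [Finite H] [IsSimpleGroup H] (h' : Nat.card H = 7920) : Nonempty (G ≃* H) := by
  classical
  obtain ⟨M, hM⟩ := ex_M h
  obtain ⟨M', hM'⟩ := ex_M h'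
  obtain ⟨B, hB, ⟨e⟩⟩ := iso_aut (Ω := G ⧸ M) h hM
  obtain ⟨B', hB', ⟨e'⟩⟩ := iso_aut (Ω := H ⧸ M') h' hM'
  haveI := Fintype.ofFinite (G ⧸ M)
  haveI := Fintype.ofFinite (H ⧸ M')
  obtain ⟨φ, hφ⟩ := Cfsg.Agent.S0411.result (Nat.card_eq_fintype_card.symm.trans hM)
    (Nat.card_eq_fintype_card.symm.trans hM') hB hB'
  let ψ : setSystemAut B →* setSystemAut B' :=
    (φ.permCongrHom.toMonoidHom.comp (setSystemAut B).subtype).codRestrict _ fun σ => by
      refine Set.eq_of_subset_of_ncard_le ?_ (Set.ncard_smul_set _ _).ge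
      rintro _ ⟨t, ht, rfl⟩
      rw [← hφ] at ht ⊢
      obtain ⟨b, hb, rfl⟩ := ht
      have := Set.smul_mem_smul_set (a := σ.1) hb
      rw [show σ.1 • B = B from σ.2] at this
      refine ⟨σ.1 • b, this, ?_⟩
      ext x; simp [Finset.mem_smul_finset]
  have hψ : Function.Injective ψ := fun a b e => Subtype.ext (φ.permCongrHom.injective (congrArg Subtype.val e))
  exact ⟨e.trans ((MulEquiv.ofBijective ψ (hψ.bijective_of_nat_card_le (by
    rw [← Nat.card_congr e.toEquiv, ← Nat.card_congr e'.toEquiv, h, h']))).trans e'.symm)⟩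

end CfsgH8.M11
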