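import Mathlib
import Cfsg.Agent.H8.Basic

set_option autoImplicit false

namespace CfsgH8

open MulAction

/-- An abelian minimal normal subgroup of a group, if finite, is elementary abelian. -/
theorem elementary_of_minimal_normal_comm {G : Type*} [Group G] (M : Subgroup G) [Finite M]
    [hMn : M.Normal] (hM : M ≠ ⊥) (hmin : ∀ L : Subgroup G, L.Normal → L ≤ M → L = ⊥ ∨ L = M)
    (hab : IsMulCommutative M) : ∃ p : ℕ, p.Prime ∧ ∀ m ∈ M, m ^ p = 1 := by
  have hnt : Nontrivial M := (Subgroup.nontrivial_iff_ne_bot M).mpr hM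
  obtain ⟨p, hp, hpd⟩ := Nat.exists_prime_and_dvd (Finite.one_lt_card (α := M)).ne'
  have := Fact.mk hp
  obtain ⟨x, hx⟩ := exists_prime_orderOf_dvd_card' (G := M) p hpd
  let L : Subgroup G :=
    { carrier := {m | m ∈ M ∧ m ^ p = 1}
      one_mem' := ⟨M.one_mem, one_pow _⟩
      mul_mem' := fun {a b} ha hb => ⟨M.mul_mem ha.1 hb.1, by
        have : Commute a b := congrArg Subtype.val (hab.is_comm.comm ⟨a, ha.1⟩ ⟨b, hb.1⟩)
        rw [this.mul_pow, ha.2, hb.2, one_mul]⟩
      inv_mem' := fun {a} ha => ⟨M.inv_mem ha.1, by rw [inv_pow, ha.2, inv_one]⟩ }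
  have hLn : L.Normal := ⟨fun a ha g => ⟨hMn.conj_mem _ ha.1 g, by
    rw [conj_pow, ha.2]; simp⟩⟩
  rcases hmin L hLn (fun a ha => ha.1) with h | h
  · exfalso
    have : (x : G) ∈ L := ⟨x.2, by
      have := pow_orderOf_eq_one x
      rw [hx] at this
      exact congrArg Subtype.val this⟩
    rw [h, Subgroup.mem_bot] at this
    have h1 : x = 1 := Subtype.ext this
    rw [h1, orderOf_one] at hx
    exact hp.one_lt.ne hx
  · exact ⟨p, hp, fun m hm => (show m ∈ L from h ▸ hm).2⟩

/-- Distinct minimal normal subgroups commute. -/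
theorem commute_of_minimal_normal_ne {G : Type*} [Group G] (M L : Subgroup G) [hMn : M.Normal]
    [hLn : L.Normal] (hL : L ≠ ⊥) (hM : M ≠ ⊥)
    (hmin : ∀ K : Subgroup G, K.Normal → K ≤ M → K = ⊥ ∨ K = M)
    (hminL : ∀ K : Subgroup G, K.Normal → K ≤ L → K = ⊥ ∨ K = L) (hne : L ≠ M) :
    ∀ x ∈ L, ∀ y ∈ M, Commute x y := by
  have hd : Disjoint L M := by
    rw [disjoint_iff]
    rcases hmin (L ⊓ M) inferInstance inf_le_right with h | h
    · exact h
    · rcases hminL M hMn (h ▸ inf_le_left) with h2 | h2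
      · exact (hM h2).elim
      · exact (hne h2.symm).elim
  intro x hx y hy
  exact Subgroup.commute_of_normal_of_disjoint L M hLn hMn hd x y hx hy

/-- An element commuting with a transitive subgroup and fixing a point acts trivially. -/
theorem smul_eq_of_commute_of_transitive {G Ω : Type*} [Group G] [MulAction G Ω]
    (M : Subgroup G) (ht : IsPretransitive M Ω) {c : G} (hc : ∀ m ∈ M, Commute c m) {a : Ω}
    (ha : c • a = a) (b : Ω) : c • b = b := by
  obtain ⟨m, rfl⟩ := ht.exists_smul_eq a b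
  show c • (m : G) • a = (m : G) • a
  rw [← mul_smul, (hc m m.2).eq, mul_smul, ha]

theorem perm_eq_one_of_commute_of_transitive {α : Type*} {G : Subgroup (Equiv.Perm α)}
    (M : Subgroup G) (ht : IsPretransitive M α) {c : Equiv.Perm α}
    (hc : ∀ m ∈ M, Commute c (m : Equiv.Perm α)) {a : α} (ha : c a = a) : c = 1 := by
  ext b
  obtain ⟨m, rfl⟩ := ht.exists_smul_eq a b
  have := congrArg (fun f : Equiv.Perm α => f a) (hc m m.2).eq
  simp only [Equiv.Perm.mul_apply, ha] at this
  exact this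

/-- every nontrivial normal subgroup of a finite group contains a minimal normal subgroup -/
theorem exists_minimal_normal_le {G : Type*} [Group G] (N : Subgroup G) [Finite N]
    [hN : N.Normal] (hne : N ≠ ⊥) : ∃ M : Subgroup G, M.Normal ∧ M ≠ ⊥ ∧ M ≤ N ∧
      ∀ K : Subgroup G, K.Normal → K ≤ M → K = ⊥ ∨ K = M := by
  have hex : ∃ n, ∃ M : Subgroup G, M.Normal ∧ M ≠ ⊥ ∧ M ≤ N ∧ Nat.card M = n :=
    ⟨_, N, hN, hne, le_rfl, rfl⟩
  classical
  obtain ⟨M, h1, h2, h3, h4⟩ := Nat.find_spec hex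
  refine ⟨M, h1, h2, h3, fun K hK hKM => ?_⟩
  by_cases hb : K = ⊥
  · exact Or.inl hb
  right
  have : Finite M := Finite.of_injective _ (Subgroup.inclusion_injective h3)
  have := Nat.find_min' hex ⟨K, hK, hb, hKM.trans h3, rfl⟩
  exact Subgroup.eq_of_le_of_card_ge hKM (h4 ▸ this)

/-- a nontrivial normal subgroup of a primitive permutation group is transitive -/
theorem transitive_of_normal_of_primitive {G Ω : Type*} [Group G] [MulAction G Ω]
    [FaithfulSMul G Ω] [IsPreprimitive G Ω] (N : Subgroup G) [N.Normal] (hN : N ≠ ⊥) :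
    IsPretransitive N Ω := by
  apply IsQuasiPreprimitive.isPretransitive_of_normal
  intro h
  apply hN
  rw [eq_bot_iff]
  intro x hx
  rw [Subgroup.mem_bot]
  apply eq_of_smul_eq_smul (α := Ω)
  intro a
  have : a ∈ fixedPoints N Ω := h ▸ Set.mem_univ a
  rw [one_smul]
  exact this ⟨x, hx⟩

end CfsgH8
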