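import Cfsg.Agent.H8.Pg2
import Cfsg.Agent.H8.M11f
import Cfsg.Agent.H7.Gol.M24
import Cfsg.Prelude.Def_Spor_Mathieu

/-! Recognition of the simple group of order 7920. -/

set_option autoImplicit false
open Cfsg CfsgH1
open scoped Pointwise

namespace CfsgH8.Pg

local notation "C[" Q "]" => Subgroup.centralizer (SetLike.coe (Q : Subgroup _))
local notation "N[" Q "]" => Subgroup.normalizer (SetLike.coe (Q : Subgroup _))
local notation "Z[" u "]" => Subgroup.zpowers u
local notation "C1[" u "]" => Subgroup.centralizer (singleton u)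

theorem isoK : Nonempty (CfsgH7.Gol.K11 ≃* Spor.M11) := by
  refine ⟨(CfsgH7.Gol.K11.equivMapOfInjective _ M24.subtype_injective).trans (MulEquiv.subgroupCongr ?_)⟩
  unfold Spor.M11 Spor.M12
  rw [CfsgH7.Gol.sqD]
  ext x
  exact ⟨by rintro ⟨y, h, rfl⟩; exact ⟨⟨y.2, h.1⟩, h.2⟩, fun h => ⟨⟨x, h.1.1⟩, ⟨h.1.2, h.2⟩, rfl⟩⟩

theorem cM : Nat.card Spor.M11 = 7920 := isoK.elim fun e => (Nat.card_congr e.symm.toEquiv).trans CfsgH7.Gol.card11

theorem sM : IsSimpleGroup Spor.M11 := isoK.elim fun e => have := CfsgH7.Gol.simple11; e.symm.isSimpleGroup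

variable {G : Type*} [Group G] [Finite G] (h : Nat.card G = 7920)
include h

theorem cnt11 : Nat.card {g : G // orderOf g = 11} = 10 * Nat.card (Sylow 11 G) := by
  classical
  haveI := Fintype.ofFinite (Sylow 11 G)
  have ho : ∀ (P : Sylow 11 G) (a : G), a ∈ (P : Subgroup G) → a ≠ 1 → orderOf a = 11 := fun P a ha a1 =>
    ((Nat.dvd_prime (by norm_num)).1 (cP h P ▸ Subgroup.orderOf_dvd_natCard _ ha)).resolve_left
      fun e => a1 (orderOf_eq_one_iff.1 e)
  rw [← Nat.card_eq_of_bijective (α := Σ P : Sylow 11 G, {g : (P : Subgroup G) // g ≠ 1})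
    (fun x => ⟨x.2.1.1, ho x.1 _ x.2.1.2 fun e => x.2.2 (Subtype.ext e)⟩) ⟨?_, ?_⟩, Nat.card_sigma,
    Finset.sum_congr rfl (g := fun _ => 10) fun P _ => ?_]
  · simp [mul_comm]
  · haveI := Fintype.ofFinite (P : Subgroup G)
    rw [Nat.card_eq_fintype_card, Fintype.card_subtype_compl, Fintype.card_subtype_eq, ← Nat.card_eq_fintype_card, cP h]
  · rintro ⟨P, ⟨a, ha⟩, a1⟩ ⟨Q, ⟨b, hb⟩, b1⟩ e
    obtain rfl : a = b := congrArg Subtype.val e
    have oa := ho P a ha fun e => a1 (Subtype.ext e)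
    obtain rfl : P = Q := Sylow.ext ((eqZ h P oa (Subgroup.le_normalizer ha)).trans (eqZ h Q oa (Subgroup.le_normalizer hb)).symm)
    rfl
  · rintro ⟨y, hy⟩
    obtain ⟨P, hP⟩ := exP h hy
    refine ⟨⟨P, ⟨y, hP ▸ Subgroup.mem_zpowers y⟩, fun e => ?_⟩, rfl⟩
    rw [show y = 1 from congrArg Subtype.val e, orderOf_one] at hy
    omega

theorem simple144 (hn : Nat.card (Sylow 11 G) = 144) : IsSimpleGroup G := by
  haveI : Nontrivial G := Finite.one_lt_card_iff_nontrivial.1 (by omega)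
  refine ⟨fun N hN => ?_⟩
  by_contra hc
  push Not at hc
  obtain ⟨-, -, g, hg⟩ := case2 h hn hc.1 hc.2
  obtain ⟨P, hP⟩ := exP h (y := g ^ 5) (by rw [orderOf_pow' _ (by norm_num), hg]; norm_num)
  have h1 := cN h P
  rw [hn] at h1
  have h2 : g ∈ C[(P : Subgroup G)] := by
    rw [hP]
    rintro _ ⟨k, rfl⟩
    exact ((Commute.refl g).pow_left 5).zpow_left k
  have h3 := Nat.le_of_dvd Nat.card_pos (Subgroup.orderOf_dvd_natCard _ h2)
  obtain ⟨u, hu⟩ := burn h P (N := ⊤) le_top (inf_le_right.trans (Subgroup.eq_of_le_of_card_ge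
    (Subgroup.centralizer_le_normalizer _) (by omega)).ge) (by rw [Subgroup.card_top, h]; norm_num)
  exact absurd (hn ▸ noE h (by norm_num) hu) (by norm_num)

variable [IsSimpleGroup G]

theorem c11 {g : G} (g1 : g ≠ 1) (h1 : 11 ∣ Nat.card C1[g]) {b : ℕ} (hb : b.Prime) (b1 : b ≠ 11) : ¬ b ∣ Nat.card C1[g] := by
  intro h2
  have h3 : 11 ∣ orderOf g := by_contra fun e => (M11.main h).1 g g1 e h1
  obtain ⟨z, hz, oz⟩ := CfsgH2.exists_prime_order_mem hb h2
  refine (M11.main h).1 z (by rintro rfl; rw [orderOf_one] at oz; exact hb.one_lt.ne oz)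
    (by rw [oz, Nat.prime_dvd_prime_iff_eq (by norm_num) hb]; exact b1.symm) (h3.trans (Subgroup.orderOf_dvd_natCard _ ?_))
  exact Subgroup.mem_centralizer_singleton_iff.2 (Subgroup.mem_centralizer_singleton_iff.1 hz).symm

theorem n144 : Nat.card (Sylow 11 G) = 144 := by
  have : ¬ ∃ g : G, orderOf g = 11 * 2 := fun ⟨g, hg⟩ => by
    have h1 := Subgroup.orderOf_dvd_natCard C1[g] (Subgroup.mem_centralizer_singleton_iff.2 rfl)
    rw [hg] at h1
    exact c11 h (g := g) (by rintro rfl; simp at hg) (Dvd.dvd.trans (by norm_num) h1) Nat.prime_two (by norm_num)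
      (Dvd.dvd.trans (by norm_num) h1)
  rcases or_assoc.2 (nS h) with e | e | e
  exacts [absurd (case1 h e).1 this, absurd (case3 h e).1 this, e]

theorem nse (n : ℕ) : Nat.card {g : G // orderOf g = n} = 1 ∨ 11 ∣ Nat.card {g : G // orderOf g = n} ∨
    Nat.card {g : G // orderOf g = n} = 1440 := by
  by_cases h1 : n = 1
  · left
    simp [h1]
  by_cases h2 : n = 11
  · right; right
    rw [h2, cnt11 h, n144 h]
  right; left
  obtain ⟨P⟩ : Nonempty (Sylow 11 G) := inferInstance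
  obtain ⟨y, oy, -⟩ := exy h P
  have e1 : ∀ k e, (fun x => y * x * y⁻¹)^[k] e = y ^ k * e * (y ^ k)⁻¹ := fun k e => by
    induction k with
    | zero => simp
    | succ k ih => rw [Function.iterate_succ_apply', ih]; group
  have := M11.mod_p (E := {g : G | orderOf g = n}) 11 (fun x => y * x * y⁻¹)
    (fun e he => ((MulAut.conj y).orderOf_eq e).trans he) fun e => by rw [e1, ← oy, pow_orderOf_eq_one]; simp
  rw [show Nat.card {e // e ∈ {g : G | orderOf g = n} ∧ y * e * y⁻¹ = e} = 0 from Nat.card_eq_zero.2 (Or.inl ⟨?_⟩)] at this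
  · exact (Nat.modEq_zero_iff_dvd).1 this
  rintro ⟨g, hg, e⟩
  have hg' : orderOf g = n := hg
  have g1 : g ≠ 1 := by rintro rfl; exact h1 (hg'.symm.trans orderOf_one)
  have a1 : 11 ∣ Nat.card C1[g] := oy ▸ Subgroup.orderOf_dvd_natCard _
    (Subgroup.mem_centralizer_singleton_iff.2 (mul_inv_eq_iff_eq_mul.1 e))
  have a2 := Subgroup.orderOf_dvd_natCard C1[g] (Subgroup.mem_centralizer_singleton_iff.2 rfl)
  have a3 : orderOf g ∣ 720 * 11 := (orderOf_dvd_natCard g).trans h.dvd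
  have a4 : orderOf g ∣ 11 := Nat.Coprime.dvd_of_dvd_mul_left (Nat.Coprime.symm (Nat.coprime_of_dvd fun b hb b1 b2 =>
    c11 h g1 a1 hb (by rintro rfl; norm_num at b1) (b2.trans a2))) a3
  rcases (Nat.dvd_prime (by norm_num)).1 a4 with e | e
  exacts [h1 (hg'.symm.trans e), h2 (hg'.symm.trans e)]

end CfsgH8.Pg
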