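import Cfsg.Agent.H1.Frob
import Cfsg.Agent.H9.Sgn

/-! Edges of the prime graph of a group of order 7920. -/

set_option autoImplicit false
open Cfsg CfsgH1
open scoped Pointwise

namespace CfsgH8.Pg

local notation "C[" Q "]" => Subgroup.centralizer (SetLike.coe (Q : Subgroup _))
local notation "N[" Q "]" => Subgroup.normalizer (SetLike.coe (Q : Subgroup _))
local notation "Z[" u "]" => Subgroup.zpowers u
local notation "C1[" u "]" => Subgroup.centralizer (singleton u)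

instance f2 : Fact (Nat.Prime 2) := ⟨by norm_num⟩
instance f3 : Fact (Nat.Prime 3) := ⟨by norm_num⟩
instance f5 : Fact (Nat.Prime 5) := ⟨by norm_num⟩
instance f11 : Fact (Nat.Prime 11) := ⟨by norm_num⟩

variable {G : Type*} [Group G] [Finite G]

theorem ex_pow {p : ℕ} [hp : Fact p.Prime] {R : Subgroup G} (hR : IsPGroup p R) {x : G} (hx : x ∈ R) (x1 : x ≠ 1) :
    ∃ k : ℕ, orderOf (x ^ k) = p := by
  obtain ⟨n, hn⟩ := IsPGroup.iff_orderOf.1 hR ⟨x, hx⟩
  rw [← Subgroup.orderOf_coe] at hn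
  refine ⟨orderOf x / p, orderOf_pow_orderOf_div (orderOf_pos x).ne' ?_⟩
  rw [show orderOf x = p ^ n from hn]
  refine dvd_pow_self _ ?_
  rintro rfl
  exact x1 (orderOf_eq_one_iff.1 hn)

theorem edgeF {r q : ℕ} [hr : Fact r.Prime] [hq : Fact q.Prime] (rq : r ≠ q) {R K : Subgroup G} (hR : IsPGroup r R)
    (hK : IsPGroup q K) (hn : R ≤ N[K]) (K1 : K ≠ ⊥) (hd : ¬ Nat.card R ∣ Nat.card K - 1) :
    ∃ g : G, orderOf g = r * q := by
  by_contra hc
  refine hd (Frob.card_dvd (L := K ⊔ R) ⟨hn, rfl, K1, ?_, fun x hx x1 => ?_⟩)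
  · rintro rfl
    simp at hd
  · by_contra e
    obtain ⟨⟨k, hk, hk'⟩, k1⟩ := Subgroup.ne_bot_iff_exists_ne_one.1 e
    obtain ⟨a, ha⟩ := ex_pow hR hx x1
    obtain ⟨b, hb⟩ := ex_pow hK hk fun e => k1 (Subtype.ext e)
    have : Commute k x := Subgroup.mem_centralizer_singleton_iff.1 hk'
    refine hc ⟨x ^ a * k ^ b, ?_⟩
    rw [(this.symm.pow_pow a b).orderOf_mul_eq_mul_orderOf_of_coprime
      (by rw [ha, hb]; exact (Nat.coprime_primes hr.out hq.out).2 rq), ha, hb]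

theorem edgeB {r q : ℕ} [hr : Fact r.Prime] [hq : Fact q.Prime] {y : G} (hy : orderOf y = r) {K : Subgroup G}
    (hn : y ∈ N[K]) (hK : ¬ r ∣ Nat.card K) (hqK : q ∣ Nat.card K)
    (hd : ∀ k, 0 < k → q ^ k ∣ Nat.card G → ¬ r ∣ q ^ k - 1) : ∃ g : G, orderOf g = r * q := by
  have hc : Nat.card Z[y] = r := by rw [Nat.card_zpowers, hy]
  obtain ⟨Q, hQ, h1⟩ := coprime_exists_invariant_sylow (A := Z[y]) (K := K) (Subgroup.zpowers_le.2 hn)
    (by rw [hc]; exact (Nat.Prime.coprime_iff_not_dvd hr.out).2 hK) (Or.inl inferInstance) q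
  have Q1 : Q ≠ ⊥ := by
    rintro rfl
    exact hQ.not_dvd (by rwa [Subgroup.relIndex_bot_left])
  obtain ⟨k, hk⟩ := IsPGroup.iff_card.1 hQ.isPGroup
  refine edgeF (fun e => hK (e ▸ hqK)) (IsPGroup.of_card (n := 1) (by rw [hc, pow_one])) hQ.isPGroup h1 Q1 ?_
  rw [hc, hk]
  refine hd k (Nat.pos_of_ne_zero ?_) (hk ▸ Subgroup.card_subgroup_dvd_card Q)
  rintro rfl
  exact Q1 (Subgroup.card_eq_one.1 hk)

variable (h : Nat.card G = 7920)
include h

omit [Finite G] in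
theorem k3 {r : ℕ} (h1 : ¬ r ∣ 2) (h2 : ¬ r ∣ 8) : ∀ k, 0 < k → 3 ^ k ∣ Nat.card G → ¬ r ∣ 3 ^ k - 1 := by
  intro k h0 hk
  have : k < 3 := by
    by_contra e
    exact absurd (((pow_dvd_pow 3 (not_lt.1 e)).trans hk).trans h.dvd) (by norm_num)
  interval_cases k <;> simpa

omit [Finite G] in
theorem k2 : ∀ k, 0 < k → 2 ^ k ∣ Nat.card G → ¬ 11 ∣ 2 ^ k - 1 := by
  intro k h0 hk
  have : k < 5 := by
    by_contra e
    exact absurd (((pow_dvd_pow 2 (not_lt.1 e)).trans hk).trans h.dvd) (by norm_num)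
  interval_cases k <;> norm_num

theorem cS {p k m : ℕ} [hp : Fact p.Prime] (e : 7920 = p ^ k * m) (hm : ¬ p ∣ m) (P : Sylow p G) :
    Nat.card (P : Subgroup G) = p ^ k := by
  rw [P.card_eq_multiplicity, h, e, Nat.factorization_mul (pow_ne_zero _ hp.out.ne_zero) (by rintro rfl; simp at hm),
    hp.out.factorization_pow]
  simp [Nat.factorization_eq_zero_of_not_dvd hm]

theorem cP (P : Sylow 11 G) : Nat.card (P : Subgroup G) = 11 := cS h (k := 1) (m := 720) (by norm_num) (by norm_num) P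

theorem eqZ (P : Sylow 11 G) {y : G} (hy : orderOf y = 11) (hn : y ∈ N[(P : Subgroup G)]) : (P : Subgroup G) = Z[y] := by
  have h1 : IsPGroup 11 Z[y] := IsPGroup.of_card (n := 1) (by rw [Nat.card_zpowers, hy, pow_one])
  have h2 := (inf_eq_left.2 (Subgroup.zpowers_le.2 hn)).symm.trans (h1.inf_normalizer_sylow P)
  exact (Subgroup.eq_of_le_of_card_ge (h2.le.trans inf_le_right) (by rw [cP h, Nat.card_zpowers, hy])).symm

theorem exP {y : G} (hy : orderOf y = 11) : ∃ P : Sylow 11 G, (P : Subgroup G) = Z[y] := by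
  obtain ⟨P, hP⟩ := (IsPGroup.of_card (p := 11) (n := 1) (G := Z[y]) (by rw [Nat.card_zpowers, hy, pow_one])).exists_le_sylow
  exact ⟨P, eqZ h P hy (Subgroup.le_normalizer (hP (Subgroup.mem_zpowers y)))⟩

theorem exy (P : Sylow 11 G) : ∃ y : G, orderOf y = 11 ∧ (P : Subgroup G) = Z[y] := by
  obtain ⟨y, hy, oy⟩ := CfsgH2.exists_prime_order_mem (H := (P : Subgroup G)) (p := 11) (by norm_num) (by rw [cP h])
  exact ⟨y, oy, eqZ h P oy (Subgroup.le_normalizer hy)⟩

theorem cN (P : Sylow 11 G) : Nat.card N[(P : Subgroup G)] * Nat.card (Sylow 11 G) = 7920 := by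
  rw [P.card_eq_index_normalizer, ← h]
  exact Subgroup.card_mul_index _

theorem noE {q : ℕ} (hq : q ≠ 0) {g : G} (hg : orderOf g = 11 * q) : 11 * q * Nat.card (Sylow 11 G) ∣ 7920 := by
  obtain ⟨P, hP⟩ := exP h (y := g ^ q) (by rw [orderOf_pow' _ hq, hg, Nat.gcd_mul_left_left, Nat.mul_div_cancel _ (by omega)])
  rw [← cN h P, ← hg]
  refine Nat.mul_dvd_mul_right (Subgroup.orderOf_dvd_natCard _ ?_) _
  rw [hP]
  exact Subgroup.centralizer_le_normalizer _ fun x hx => by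
    obtain ⟨k, rfl⟩ := hx
    exact ((Commute.refl g).pow_left q).zpow_left k

theorem frat (P : Sylow 11 G) {N : Subgroup G} [N.Normal] (hP : (P : Subgroup G) ≤ N) :
    N.index * Nat.card (Sylow 11 G) ∣ 7920 := by
  rw [← cN h P, ← Subgroup.relIndex_top_right, ← P.normalizer_sup_eq_top' hP, Subgroup.relIndex_sup_right]
  exact Nat.mul_dvd_mul_right (Subgroup.relIndex_dvd_card _ _) _

theorem burn (P : Sylow 11 G) {N : Subgroup G} (hP : (P : Subgroup G) ≤ N)
    (hc : N ⊓ N[(P : Subgroup G)] ≤ C[(P : Subgroup G)]) (h3 : 3 ∣ Nat.card N) : ∃ g : G, orderOf g = 11 * 3 := by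
  have h1 : Subgroup.normalizer ((P.subtype hP : Subgroup N) : Set N) ≤ Subgroup.centralizer ((P.subtype hP : Subgroup N) : Set N) := by
    intro x hx u hu
    rw [Sylow.coe_subtype, ← Subgroup.subgroupOf_normalizer_eq hP] at hx
    exact Subtype.ext (hc ⟨x.2, hx⟩ u hu)
  have h2 := (MonoidHom.ker_transferSylow_isComplement' _ h1).card_mul_card
  rw [show Nat.card (P.subtype hP : Subgroup N) = 11 from
    (Nat.card_congr (Subgroup.subgroupOfEquivOfLe hP).toEquiv).trans (cP h P)] at h2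
  obtain ⟨y, oy, hy⟩ := exy h P
  set K := (MonoidHom.transferSylow _ h1).ker
  have h4 := Subgroup.card_subgroup_dvd_card N
  refine edgeB (K := K.map N.subtype) oy ?_ ?_ ?_ (k3 h (by norm_num) (by norm_num))
  · have := Subgroup.le_normalizer_map (H := K) N.subtype
    rw [Subgroup.normalizer_eq_top, ← MonoidHom.range_eq_map, Subgroup.range_subtype] at this
    exact this (hP (hy ▸ Subgroup.mem_zpowers y))
  · rw [Subgroup.card_subtype]
    rintro ⟨c, e⟩
    rw [← h2, e, h] at h4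
    exact absurd ((show 121 ∣ 11 * c * 11 from ⟨c, by ring⟩).trans h4) (by norm_num)
  · rw [Subgroup.card_subtype]
    omega

theorem nc (P : Sylow 11 G) : ∃ d, d ∣ 10 ∧ C[(P : Subgroup G)].relIndex N[(P : Subgroup G)] = d ∧
    Nat.card C[(P : Subgroup G)] * d = Nat.card N[(P : Subgroup G)] := by
  refine ⟨_, ?_, rfl, ?_⟩
  · haveI : IsCyclic (P : Subgroup G) := isCyclic_of_prime_card (cP h P)
    rw [Subgroup.relIndex, ← Subgroup.normalizerMonoidHom_ker, Subgroup.index_ker]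
    have := Subgroup.card_subgroup_dvd_card (P : Subgroup G).normalizerMonoidHom.range
    rwa [IsCyclic.card_mulAut, cP h] at this
  · rw [← Nat.card_congr (Subgroup.subgroupOfEquivOfLe (Subgroup.centralizer_le_normalizer _)).toEquiv]
    exact Subgroup.card_mul_index _

theorem edgeC (P : Sylow 11 G) {q : ℕ} (hq : q.Prime) (h1 : q ≠ 11) (hd : q ∣ Nat.card C[(P : Subgroup G)]) :
    ∃ g : G, orderOf g = 11 * q := by
  obtain ⟨y, oy, hy⟩ := exy h P
  obtain ⟨z, hz, oz⟩ := CfsgH2.exists_prime_order_mem hq hd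
  have : Commute y z := hz y (hy ▸ Subgroup.mem_zpowers y)
  exact ⟨y * z, by rw [this.orderOf_mul_eq_mul_orderOf_of_coprime
    (by rw [oy, oz]; exact (Nat.coprime_primes (by norm_num) hq).2 h1.symm), oy, oz]⟩

theorem nS : Nat.card (Sylow 11 G) = 1 ∨ Nat.card (Sylow 11 G) = 12 ∨ Nat.card (Sylow 11 G) = 45 ∨
    Nat.card (Sylow 11 G) = 144 := by
  obtain ⟨P⟩ : Nonempty (Sylow 11 G) := inferInstance
  have h1 := P.card_dvd_index
  have h2 := (P : Subgroup G).card_mul_index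
  rw [cP h, h] at h2
  rw [show (P : Subgroup G).index = 720 by omega] at h1
  exact (by decide +kernel : ∀ d ∈ Nat.divisors 720, d % 11 = 1 → d = 1 ∨ d = 12 ∨ d = 45 ∨ d = 144) _
    (Nat.mem_divisors.2 ⟨h1, by norm_num⟩) (card_sylow_modEq_one 11 G)

theorem case1 (hn : Nat.card (Sylow 11 G) = 1 ∨ Nat.card (Sylow 11 G) = 12) :
    (∃ g : G, orderOf g = 11 * 2) ∧ (∃ g : G, orderOf g = 11 * 3) ∧
      ((∃ g : G, orderOf g = 11 * 5) ∨ ∃ g : G, orderOf g = 5 * 3) := by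
  obtain ⟨P⟩ : Nonempty (Sylow 11 G) := inferInstance
  obtain ⟨d, hd, -, e⟩ := nc h P
  have h1 := cN h P
  have hd' : d = 1 ∨ d = 2 ∨ d = 5 ∨ d = 10 := by
    have := Nat.le_of_dvd (by norm_num) hd
    interval_cases d <;> simp_all
  have h3 : 3 ∣ Nat.card C[(P : Subgroup G)] := by
    rcases hn with hn | hn <;> rw [hn] at h1 <;> rcases hd' with rfl | rfl | rfl | rfl <;> omega
  refine ⟨edgeC h P (by norm_num) (by norm_num) ?_, edgeC h P (by norm_num) (by norm_num) h3, ?_⟩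
  · rcases hn with hn | hn <;> rw [hn] at h1 <;> rcases hd' with rfl | rfl | rfl | rfl <;> omega
  by_cases h5 : 5 ∣ Nat.card C[(P : Subgroup G)]
  · exact Or.inl (edgeC h P (by norm_num) (by norm_num) h5)
  obtain ⟨x, hx, ox⟩ := CfsgH2.exists_prime_order_mem (H := N[(P : Subgroup G)]) (p := 5) (by norm_num)
    (by rcases hn with hn | hn <;> rw [hn] at h1 <;> omega)
  exact Or.inr (edgeB ox (CfsgH2.norm_le_norm_cent _ hx) h5 h3 (k3 h (by norm_num) (by norm_num)))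

theorem case2 (hn : Nat.card (Sylow 11 G) = 144) {N : Subgroup G} [N.Normal] (h0 : N ≠ ⊥) (h1 : N ≠ ⊤) :
    (∃ g : G, orderOf g = 2 * 5) ∧ (∃ g : G, orderOf g = 3 * 5) ∧ (∃ g : G, orderOf g = 11 * 5) := by
  have n2 : ¬ ∃ g : G, orderOf g = 11 * 2 := fun ⟨g, hg⟩ => absurd (hn ▸ noE h (by norm_num) hg) (by norm_num)
  have n3 : ¬ ∃ g : G, orderOf g = 11 * 3 := fun ⟨g, hg⟩ => absurd (hn ▸ noE h (by norm_num) hg) (by norm_num)
  have e1 := N.card_mul_index
  rw [h] at e1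
  by_cases h11 : 11 ∣ Nat.card N
  · obtain ⟨y, hy, oy⟩ := CfsgH2.exists_prime_order_mem (by norm_num) h11
    obtain ⟨P, hP⟩ := exP h oy
    have hPN : (P : Subgroup G) ≤ N := hP ▸ Subgroup.zpowers_le.2 hy
    have e2 := frat h P hPN
    have e3 := cN h P
    rw [hn] at e2 e3
    have e4 : N.index ∣ 55 := Nat.dvd_of_mul_dvd_mul_right (by norm_num : 0 < 144) e2
    have e5 : N.index ≠ 1 := fun e => h1 (Subgroup.index_eq_one.1 e)
    have e6 : N.index = 5 := by
      rcases (by decide +kernel : ∀ d ∈ Nat.divisors 55, d = 1 ∨ d = 5 ∨ d = 11 ∨ d = 55) _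
        (Nat.mem_divisors.2 ⟨e4, by norm_num⟩) with e | e | e | e <;> rw [e] at e1 <;> omega
    rw [e6] at e1
    refine absurd (burn h P hPN ?_ (by omega)) n3
    have e7 : Nat.card (N ⊓ N[(P : Subgroup G)] : Subgroup G) ∣ Nat.gcd 1584 55 := Nat.dvd_gcd
      ((Subgroup.card_dvd_of_le inf_le_left).trans (by omega : _ = 1584).dvd)
      ((Subgroup.card_dvd_of_le inf_le_right).trans (by omega : _ = 55).dvd)
    rw [← Subgroup.eq_of_le_of_card_ge (le_inf hPN Subgroup.le_normalizer) (by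
      rw [cP h]; exact Nat.le_of_dvd (by norm_num) e7), hP]
    rintro _ ⟨a, rfl⟩ _ ⟨b, rfl⟩
    exact ((Commute.refl y).zpow_zpow b a)
  obtain ⟨P⟩ : Nonempty (Sylow 11 G) := inferInstance
  obtain ⟨y, oy, -⟩ := exy h P
  have hy : y ∈ N[N] := by rw [Subgroup.normalizer_eq_top]; trivial
  have a2 : ¬ 2 ∣ Nat.card N := fun e => n2 (edgeB oy hy h11 e (k2 h))
  have a3 : ¬ 3 ∣ Nat.card N := fun e => n3 (edgeB oy hy h11 e (k3 h (by norm_num) (by norm_num)))
  have e5 : Nat.card N = 5 := by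
    have : Nat.card N ∣ 5 := Nat.Coprime.dvd_of_dvd_mul_left (m := 2 ^ 4 * 3 ^ 2 * 11) (by
      refine Nat.Coprime.mul_right (Nat.Coprime.mul_right (Nat.Coprime.pow_right _ ?_) (Nat.Coprime.pow_right _ ?_)) ?_ <;>
        exact ((Nat.Prime.coprime_iff_not_dvd (by norm_num)).2 (by assumption)).symm) (Dvd.intro _ e1)
    exact ((Nat.dvd_prime (by norm_num)).1 this).resolve_left fun e => h0 (Subgroup.card_eq_one.1 e)
  have hN : IsPGroup 5 N := IsPGroup.of_card (n := 1) e5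
  obtain ⟨R⟩ : Nonempty (Sylow 2 G) := inferInstance
  obtain ⟨Q⟩ : Nonempty (Sylow 3 G) := inferInstance
  refine ⟨edgeF (by norm_num) R.isPGroup' hN ?_ h0 ?_, edgeF (by norm_num) Q.isPGroup' hN ?_ h0 ?_,
    edgeF (by norm_num) P.isPGroup' hN ?_ h0 ?_⟩
  · rw [Subgroup.normalizer_eq_top]; exact le_top
  · rw [e5, cS h (k := 4) (m := 495) (by norm_num) (by norm_num)]; norm_num
  · rw [Subgroup.normalizer_eq_top]; exact le_top
  · rw [e5, cS h (k := 2) (m := 880) (by norm_num) (by norm_num)]; norm_num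
  · rw [Subgroup.normalizer_eq_top]; exact le_top
  · rw [e5, cP h]; norm_num

end CfsgH8.Pg
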