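import Cfsg.Agent.H8.Pg1

/-! Groups of order 7920 with 45 Sylow 11-subgroups have connected prime graph. -/

set_option autoImplicit false
open Cfsg CfsgH1
open scoped Pointwise

namespace CfsgH8.Pg

local notation "C[" Q "]" => Subgroup.centralizer (SetLike.coe (Q : Subgroup _))
local notation "N[" Q "]" => Subgroup.normalizer (SetLike.coe (Q : Subgroup _))
local notation "Z[" u "]" => Subgroup.zpowers u

variable {G : Type*} [Group G] [Finite G]

/-- The subgroup generated by the elements of order 11. -/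
def L (G : Type*) [Group G] : Subgroup G := Subgroup.closure {y | orderOf y = 11}

omit [Finite G] in
instance L_normal : (L G).Normal := ⟨fun n hn g => by
  have : (L G).map (MulAut.conj g).toMonoidHom ≤ L G := by
    rw [L, MonoidHom.map_closure]
    refine Subgroup.closure_mono ?_
    rintro _ ⟨y, hy, rfl⟩
    exact ((MulAut.conj g).orderOf_eq y).trans hy
  exact this ⟨n, hn, rfl⟩⟩

omit [Finite G] in
theorem sgn {Ω : Type*} [Fintype Ω] [DecidableEq Ω] [MulAction G Ω] {w : G} (hw : w ∈ L G) :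
    Equiv.Perm.sign (MulAction.toPermHom G Ω w) = 1 := by
  have : L G ≤ (Equiv.Perm.sign.comp (MulAction.toPermHom G Ω)).ker := (Subgroup.closure_le _).2 fun y hy => by
    have e : (Equiv.Perm.sign.comp (MulAction.toPermHom G Ω)) y ^ 11 = 1 := by
      rw [← map_pow, ← show orderOf y = 11 from hy, pow_orderOf_eq_one, map_one]
    rcases Int.units_eq_one_or ((Equiv.Perm.sign.comp (MulAction.toPermHom G Ω)) y) with e1 | e1
    · exact e1
    · rw [e1] at e; exact absurd e (by decide)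
  exact this hw

omit [Finite G] in
theorem inv4 {Ω : Type*} [Finite Ω] [MulAction G Ω] {w : G} (hw : w ∈ L G) (w2 : w * w = 1) :
    Nat.card (MulAction.fixedBy Ω w) ≤ Nat.card Ω ∧ (Nat.card Ω - Nat.card (MulAction.fixedBy Ω w)) / 2 % 2 = 0 := by
  classical
  haveI := Fintype.ofFinite Ω
  refine ⟨Nat.card_le_card_of_injective _ Subtype.val_injective, ?_⟩
  have e := Equiv.Perm.sign_of_pow_two_eq_one (σ := MulAction.toPermHom G Ω w) (by rw [← map_pow, pow_two, w2, map_one])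
  rw [sgn hw, ← Nat.card_eq_fintype_card, ← Nat.card_eq_fintype_card] at e
  by_contra e1
  change 1 = (-1 : ℤˣ) ^ ((Nat.card Ω - Nat.card (MulAction.fixedBy Ω w)) / 2) at e
  rw [Odd.neg_one_pow (Nat.odd_iff.2 (Nat.mod_two_ne_zero.1 e1))] at e
  exact absurd e (by decide)

theorem sm {g : G} {P : Sylow 11 G} : g • P = P ↔ g ∈ N[(P : Subgroup G)] := Sylow.smul_eq_iff_mem_normalizer

variable (h : Nat.card G = 7920) (hn : Nat.card (Sylow 11 G) = 45)
include h hn

theorem fix1 (hc : ¬ ((∃ g : G, orderOf g = 3 * 2) ∧ ∃ g : G, orderOf g = 5 * 2)) (P : Sylow 11 G)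
    (h88 : Nat.card C[(P : Subgroup G)] = 88) {s : G} (hs : s ∈ L G) (sC : s ∈ C[(P : Subgroup G)]) (s2 : s * s = 1)
    (s1 : s ≠ 1) {Q : Sylow 11 G} (hQ : s • Q = Q) : Q = P := by
  let F : SubMulAction (P : Subgroup G) (Sylow 11 G) := ⟨MulAction.fixedBy _ s, fun c x hx => by
    show s • (c : G) • x = (c : G) • x
    rw [← mul_smul, ← sC c c.2, mul_smul, show s • x = x from hx]⟩
  have hP : s • P = P := sm.2 (Subgroup.centralizer_le_normalizer _ sC)
  have h1 := P.isPGroup'.card_modEq_card_fixedPoints F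
  have h2 : Nat.card (MulAction.fixedPoints (P : Subgroup G) F) = 1 := by
    refine Nat.card_eq_one_iff_exists.2 ⟨⟨⟨P, hP⟩, fun c => Subtype.ext (sm.2 (Subgroup.le_normalizer c.2))⟩, fun x => ?_⟩
    obtain ⟨y, oy, hy⟩ := exy h P
    refine Subtype.ext (Subtype.ext (Sylow.ext ?_))
    exact (eqZ h x.1.1 oy (sm.1 (congrArg Subtype.val (x.2 ⟨y, hy ▸ Subgroup.mem_zpowers y⟩)))).trans hy.symm
  rw [h2] at h1
  obtain ⟨h3, h4⟩ := inv4 (Ω := Sylow 11 G) hs s2
  change Nat.card (MulAction.fixedBy (Sylow 11 G) s) % 11 = 1 at h1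
  rw [hn] at h3 h4
  by_cases h6 : Nat.card (MulAction.fixedBy (Sylow 11 G) s) = 1
  · exact congrArg Subtype.val ((Nat.card_eq_one_iff_unique.1 h6).1.elim ⟨Q, hQ⟩ ⟨P, hP⟩)
  exfalso
  have h7 : Nat.card (MulAction.fixedBy (Sylow 11 G) s) % 2 = 1 := by
    classical
    haveI := Fintype.ofFinite (Sylow 11 G)
    have := Equiv.Perm.card_fixedPoints_modEq (f := fun ω : Sylow 11 G => s • ω) (p := 2) (n := 1) (by
      funext ω
      show s • s • ω = ω
      rw [← mul_smul, s2, one_smul])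
    rw [← Nat.card_eq_fintype_card, ← Nat.card_eq_fintype_card, hn] at this
    exact this.symm
  have h8 : MulAction.fixedBy (Sylow 11 G) s = Set.univ :=
    Set.eq_of_subset_of_ncard_le (Set.subset_univ _) (by rw [Set.ncard_univ, hn, ← Nat.card_coe_set_eq]; omega)
  set K := (MulAction.toPermHom G (Sylow 11 G)).ker
  have k1 : ∀ k ∈ K, ∀ R : Sylow 11 G, k • R = R := fun k hk R => congrArg (fun σ : Equiv.Perm _ => σ R) hk
  have k2 : ¬ 11 ∣ Nat.card K := fun e => by
    obtain ⟨y, hy, oy⟩ := CfsgH2.exists_prime_order_mem (by norm_num) e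
    haveI : Subsingleton (Sylow 11 G) := ⟨fun a b => Sylow.ext
      ((eqZ h a oy (sm.1 (k1 y hy a))).trans (eqZ h b oy (sm.1 (k1 y hy b))).symm)⟩
    have := Nat.card_of_subsingleton P
    omega
  have k3 : K ≤ C[(P : Subgroup G)] := fun k hk y hy => by
    have e : K ⊓ (P : Subgroup G) = ⊥ := Subgroup.inf_eq_bot_of_coprime (by
      rw [cP h]; exact ((Nat.Prime.coprime_iff_not_dvd (by norm_num)).2 k2).symm)
    have : y * k * y⁻¹ * k⁻¹ ∈ K ⊓ (P : Subgroup G) := ⟨Subgroup.mul_mem _ (Subgroup.Normal.conj_mem inferInstance k hk y)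
      (Subgroup.inv_mem _ hk), by
        rw [mul_assoc, mul_assoc, ← mul_assoc k]
        exact Subgroup.mul_mem _ hy ((Subgroup.mem_normalizer_iff.1 (sm.1 (k1 k hk P)) _).1 (Subgroup.inv_mem _ hy))⟩
    rw [e, Subgroup.mem_bot, mul_inv_eq_one, mul_inv_eq_iff_eq_mul] at this
    exact this
  have k4 : Nat.card K ∣ 2 ^ 3 := Nat.Coprime.dvd_of_dvd_mul_left (m := 11)
    ((Nat.Prime.coprime_iff_not_dvd (by norm_num)).2 k2).symm ((Subgroup.card_dvd_of_le k3).trans h88.dvd)
  have k5 : K ≠ ⊥ := fun e => s1 (Subgroup.mem_bot.1 (e ▸ (show s ∈ K from Equiv.ext fun R => h8.ge trivial)))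
  obtain ⟨j, hj, k6⟩ := (Nat.dvd_prime_pow Nat.prime_two).1 k4
  have k7 : j ≠ 0 := by
    rintro rfl
    exact k5 (Subgroup.card_eq_one.1 k6)
  obtain ⟨R⟩ : Nonempty (Sylow 3 G) := inferInstance
  obtain ⟨S⟩ : Nonempty (Sylow 5 G) := inferInstance
  refine hc ⟨edgeF (by norm_num) R.isPGroup' (IsPGroup.of_card k6) ?_ k5 ?_,
    edgeF (by norm_num) S.isPGroup' (IsPGroup.of_card k6) ?_ k5 ?_⟩
  · rw [Subgroup.normalizer_eq_top]; exact le_top
  · rw [k6, cS h (k := 2) (m := 880) (by norm_num) (by norm_num)]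
    interval_cases j <;> simp_all
  · rw [Subgroup.normalizer_eq_top]; exact le_top
  · rw [k6, cS h (k := 1) (m := 1584) (by norm_num) (by norm_num)]
    interval_cases j <;> simp_all

theorem case3 : (∃ g : G, orderOf g = 11 * 2) ∧ (∃ g : G, orderOf g = 3 * 2) ∧ ∃ g : G, orderOf g = 5 * 2 := by
  classical
  obtain ⟨P⟩ : Nonempty (Sylow 11 G) := inferInstance
  obtain ⟨d, hd, e0, e⟩ := nc h P
  have h1 := cN h P
  rw [hn] at h1
  have hd' : d = 1 ∨ d = 2 ∨ d = 5 ∨ d = 10 := by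
    have := Nat.le_of_dvd (by norm_num) hd
    interval_cases d <;> simp_all
  refine ⟨edgeC h P (by norm_num) (by norm_num) (by rcases hd' with rfl | rfl | rfl | rfl <;> omega), ?_⟩
  by_contra hc
  have n3 : ¬ ∃ g : G, orderOf g = 11 * 3 := fun ⟨g, hg⟩ => absurd (hn ▸ noE h (by norm_num) hg) (by norm_num)
  have hPL : (P : Subgroup G) ≤ L G := by
    obtain ⟨y, oy, hy⟩ := exy h P
    exact hy ▸ Subgroup.zpowers_le.2 (Subgroup.subset_closure oy)
  have e1 := frat h P hPL
  have e2 := (L G).card_mul_index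
  rw [hn] at e1
  have e3 : (L G).index ∣ 176 := Nat.dvd_of_mul_dvd_mul_right (by norm_num : 0 < 45) e1
  have e4 : 3 ∣ Nat.card (L G) := Nat.Coprime.dvd_of_dvd_mul_right
    (Nat.Coprime.coprime_dvd_right e3 (by norm_num : Nat.Coprime 3 176)) (by rw [e2, h]; norm_num)
  obtain ⟨u, ⟨uL, uN⟩, uC⟩ := SetLike.not_le_iff_exists.1 fun e => n3 (burn h P hPL e e4)
  obtain rfl : d = 2 := by
    have : d ≠ 1 := fun e => uC (Subgroup.relIndex_eq_one.1 (e0.trans e) uN)
    rcases hd' with rfl | rfl | rfl | rfl <;> omega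
  have h88 : Nat.card C[(P : Subgroup G)] = 88 := by omega
  have sq : ∀ x ∈ N[(P : Subgroup G)], x * x ∈ C[(P : Subgroup G)] := fun x hx =>
    Subgroup.mul_self_mem_of_index_two e0 ⟨x, hx⟩
  have wC : u ^ 11 ∉ C[(P : Subgroup G)] := fun e => uC (by
    rw [show u ^ 11 = (u * u) ^ 5 * u by rw [← pow_two, ← pow_mul, ← pow_succ]] at e
    exact (Subgroup.mul_mem_cancel_left _ (Subgroup.pow_mem _ (sq u uN) 5)).1 e)
  have wo : orderOf (u ^ 11) ∣ 2 ^ 4 := orderOf_dvd_of_pow_eq_one (by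
    rw [← pow_mul]
    exact orderOf_dvd_iff_pow_eq_one.1 ((Subgroup.orderOf_dvd_natCard _ uN).trans (by omega : _ = 11 * 2 ^ 4).dvd))
  have wL := Subgroup.pow_mem _ uL 11
  have wN := Subgroup.pow_mem _ uN 11
  generalize u ^ 11 = w at wC wo wL wN
  by_cases w2 : w * w = 1
  · obtain ⟨a1, a2⟩ := inv4 (Ω := G ⧸ C[(P : Subgroup G)]) wL w2
    have a3 := C[(P : Subgroup G)].card_mul_index
    rw [h88, h] at a3
    rw [show Nat.card (G ⧸ C[(P : Subgroup G)]) = 90 by rw [← Subgroup.index]; omega] at a2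
    obtain ⟨⟨x, hx⟩⟩ : Nonempty (MulAction.fixedBy (G ⧸ C[(P : Subgroup G)]) w) :=
      (Nat.card_pos_iff.1 (by omega)).1
    obtain ⟨g, rfl⟩ := QuotientGroup.mk_surjective x
    have b1 : g⁻¹ * w * g ∈ C[(P : Subgroup G)] := by
      have := QuotientGroup.eq.1 (show ((w * g : G) : G ⧸ C[(P : Subgroup G)]) = g from hx).symm
      rwa [← mul_assoc] at this
    have b2 : g⁻¹ • P = P := fix1 h hn hc P h88 (by simpa using (L_normal (G := G)).conj_mem w wL g⁻¹) b1
      (by rw [show g⁻¹ * w * g * (g⁻¹ * w * g) = g⁻¹ * (w * w) * g by group, w2]; simp)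
      (fun e => wC (by rw [show w = 1 by simpa [mul_assoc, mul_eq_one_iff_eq_inv] using congrArg (fun t => g * t * g⁻¹) e]; exact Subgroup.one_mem _))
      (by rw [mul_smul, mul_smul, smul_inv_smul, sm.2 wN])
    refine wC ((Subgroup.mem_normalizer_iff.1 (CfsgH2.norm_le_norm_cent _ (sm.1 b2)) w).2 (by simpa using b1))
  · obtain ⟨j, hj, oj⟩ := (Nat.dvd_prime_pow Nat.prime_two).1 wo
    have a1 : 4 ∣ orderOf w := by
      have : ¬ orderOf w ∣ 2 := fun e => w2 (by rw [← pow_two]; exact orderOf_dvd_iff_pow_eq_one.1 e)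
      rw [oj] at this ⊢
      interval_cases j <;> simp_all
    have a2 := orderOf_pow_orderOf_div (orderOf_pos w).ne' a1
    have vL := Subgroup.pow_mem _ wL (orderOf w / 4)
    have vN := Subgroup.pow_mem _ wN (orderOf w / 4)
    generalize w ^ (orderOf w / 4) = v at a2 vL vN
    have v4 : v ^ 4 = 1 := a2 ▸ pow_orderOf_eq_one v
    haveI := Fintype.ofFinite (Sylow 11 G)
    have b1 : ∀ Q : Sylow 11 G, (v * v) • Q = Q → Q = P := fun Q hQ => fix1 h hn hc P h88 (Subgroup.mul_mem _ vL vL) (sq v vN)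
      (by rw [← v4, ← pow_two, ← pow_two, ← pow_mul]) (fun e => absurd (a2 ▸ orderOf_dvd_of_pow_eq_one (n := 2) (by rw [pow_two, e])) (by norm_num)) hQ
    have b2 : ∀ Q, MulAction.toPermHom G (Sylow 11 G) v Q ≠ P ↔ Q ≠ P := fun Q => not_congr
      ⟨fun e => smul_left_cancel v (e.trans (sm.2 vN).symm), fun e => by rw [e]; exact sm.2 vN⟩
    have b3 := Equiv.Perm.sign_subtypePerm (MulAction.toPermHom G (Sylow 11 G) v) (p := fun Q => Q ≠ P) b2
      (fun Q hQ e => hQ (by rw [e]; exact sm.2 vN))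
    rw [sgn vL, CfsgH9.sign_of_free _ (n := 4) (m := 11) (by decide) (by norm_num) (fun x k => ?_) (by decide) ?_] at b3
    · exact absurd b3 (by decide)
    · rw [Fintype.card_subtype_compl, Fintype.card_subtype_eq, ← Nat.card_eq_fintype_card, hn]
    · rw [Equiv.Perm.subtypePerm_pow, Subtype.ext_iff, Equiv.Perm.subtypePerm_apply]
      change (MulAction.toPermHom G (Sylow 11 G) v ^ k) x.1 = x.1 ↔ _
      rw [← map_pow]
      change v ^ k • x.1 = x.1 ↔ _
      rw [← pow_mod_orderOf, a2]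
      refine ⟨fun e => ?_, fun e => by rw [Nat.mod_eq_zero_of_dvd e, pow_zero, one_smul]⟩
      by_contra e'
      refine x.2 (b1 _ ?_)
      have c1 : k % 4 = 1 ∨ k % 4 = 2 ∨ k % 4 = 3 := by omega
      rcases c1 with c1 | c1 | c1 <;> rw [c1] at e
      · rw [pow_one] at e
        rw [mul_smul, e, e]
      · rwa [pow_two] at e
      · rw [show v * v = v ^ 3 * v ^ 3 by rw [← mul_one (v * v), ← v4, ← pow_two, ← pow_add, ← pow_add], mul_smul, e, e]

end CfsgH8.Pg
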