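import Mathlib
import Cfsg.Agent.H8.SL2e
import Cfsg.Prelude.Def_DegreeGraph

/-! Character degrees of `PSL₂`. -/

set_option autoImplicit false
set_option linter.unusedSectionVars false

open Cfsg CfsgH3 Matrix

namespace CfsgH8

theorem charDegree_of_eq {G : Type*} [Group G] {χ : G → ℂ} {d : ℕ} (h : χ 1 = d) :
    charDegree χ = d := by simp [charDegree, h]

theorem mem_charDegrees {G : Type*} [Group G] {d : ℕ} :
    d ∈ charDegrees G ↔ ∃ χ, IsIrrCharacter G χ ∧ χ 1 = d := by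
  constructor
  · rintro ⟨χ, rfl⟩
    obtain ⟨d, hd⟩ := χ.2.isCharacter.exists_nat_apply_one
    exact ⟨χ, χ.2, by rw [charDegree_of_eq hd, hd]⟩
  · rintro ⟨χ, h, hd⟩
    exact ⟨⟨χ, h⟩, charDegree_of_eq hd⟩

theorem charDegrees_subset_of_surjective {G H : Type*} [Group G] [Group H] (f : G →* H)
    (hf : Function.Surjective f) : charDegrees H ⊆ charDegrees G := fun d hd => by
  obtain ⟨χ, h, hd⟩ := mem_charDegrees.1 hd
  exact mem_charDegrees.2 ⟨_, h.comp_of_surjective f hf, by simpa using hd⟩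

variable {F : Type*} [Field F] [Fintype F]

local notation "SL2" => Matrix.SpecialLinearGroup (Fin 2) F
local notation "PSL2" => Matrix.ProjectiveSpecialLinearGroup (Fin 2) F
local notation "toGL" => Matrix.SpecialLinearGroup.toGL
local notation "q" => Fintype.card F

theorem toGL_neg_one : (toGL (-1 : SL2) : GL (Fin 2) F) = sc (-1) := by
  apply gl2_ext <;> simp [toGL_val]

theorem exists_deflation_PSL2 {χ : SL2 → ℂ} (hχ : IsIrrCharacter SL2 χ) (h : χ (-1) = χ 1) :
    ∃ χ' : PSL2 → ℂ, IsIrrCharacter PSL2 χ' ∧ ∀ g : SL2, χ' (QuotientGroup.mk g) = χ g := by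
  classical
  obtain ⟨χ', -, h1, h2⟩ := hχ.isCharacter.exists_deflation (Subgroup.center SL2) fun z hz => by
    rcases isSc_SL2.1 (mem_center_SL2.1 hz) with rfl | rfl
    exacts [rfl, h]
  exact ⟨χ', h1 hχ, h2⟩

theorem St0_neg_one [Fintype (GL (Fin 2) F)] [Fintype SL2] : St0 F (-1) = St0 F 1 := by
  rw [St0_one, St0, res, toGL_neg_one, St_sc, MulChar.one_apply_coe]; simp

theorem mem_charDegrees_SL2 {d : ℕ} (h : d ∈ charDegrees SL2) :
    d = 1 ∨ d = q ∨ d = q + 1 ∨ d = q - 1 ∨ q % 2 = 1 ∧ (d = (q + 1) / 2 ∨ d = (q - 1) / 2) := by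
  classical
  obtain ⟨χ, hχ, hd⟩ := mem_charDegrees.1 h
  obtain ⟨g0, h0⟩ := exists_ell (F := F)
  have := irr_SL2_deg h0 hχ hd
  tauto

theorem exists_pow_four_ne_one {A : Type*} [Group A] [IsCyclic A] (h : ¬ Nat.card A ∣ 4) :
    ∃ a : A, (a ^ 2) ^ 2 ≠ 1 := by
  obtain ⟨a, ha⟩ := IsCyclic.exists_generator (α := A)
  refine ⟨a, fun e => h ?_⟩
  rw [← orderOf_eq_card_of_forall_mem_zpowers ha, orderOf_dvd_iff_pow_eq_one, ← e, ← pow_mul]

theorem mem_charDegrees_PSL2 (h4 : 4 ≤ q) (h5 : q ≠ 5) :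
    q ∈ charDegrees PSL2 ∧ q + 1 ∈ charDegrees PSL2 ∧ q - 1 ∈ charDegrees PSL2 := by
  classical
  have key : ∀ (χ : SL2 → ℂ) (d : ℕ), IsIrrCharacter SL2 χ → χ (-1) = χ 1 → χ 1 = d →
      d ∈ charDegrees PSL2 := fun χ d h1 h2 h3 => by
    obtain ⟨χ', a, b⟩ := exists_deflation_PSL2 h1 h2
    exact mem_charDegrees.2 ⟨χ', a, (b 1).trans h3⟩
  refine ⟨key _ _ isIrr_St0 St0_neg_one St0_one, ?_, ?_⟩
  · have := isCyclic_mulChar (F := F)
    obtain ⟨β, hβ⟩ := exists_pow_four_ne_one (A := MulChar F ℂ) (by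
      rw [card_mulChar]
      intro h
      have := Nat.le_of_dvd four_pos h
      have : q - 1 = 3 := by omega
      rw [this] at h; omega)
    refine key _ _ ((isIrr_P0_iff _).2 hβ) ?_ (by rw [P0_one]; simp)
    rw [P0_one, P0, res, toGL_neg_one, PS_sc, MulChar.pow_apply_coe, MulChar.one_apply_coe,
      ← map_pow]
    simp
  · obtain ⟨g0, h0⟩ := exists_ell (F := F)
    have := isCyclic_homC0 h0
    obtain ⟨β, hβ⟩ := exists_pow_four_ne_one (A := C0 g0 →* ℂˣ) (by
      rw [card_homC0 h0]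
      intro h
      have := Nat.le_of_dvd four_pos h
      omega)
    refine key _ _ (isIrr_Cu0 h0 hβ) ?_ (by rw [Cu0_one, cast_q_sub_one])
    have h1 : (-1 : SL2) ∈ C0 g0 := by
      rw [Subgroup.mem_comap, toGL_neg_one]; exact sc_mem_centralizer _ _
    have := Cu0_central h0 (β ^ 2) ⟨-1, h1⟩ (isSc_SL2.2 (Or.inr rfl)) 1
    rw [mul_one, MonoidHom.pow_apply, ← map_pow,
      show (⟨-1, h1⟩ : C0 g0) ^ 2 = 1 from Subtype.ext (by simp), map_one, Units.val_one,
      one_mul] at this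
    exact this

theorem charDegrees_of_equiv {S : Type*} [Group S] (hS : Nonempty (S ≃* PSL2) ∨ Nonempty (S ≃* SL2)) :
    charDegrees PSL2 ⊆ charDegrees S ∧ charDegrees S ⊆ charDegrees SL2 := by
  have h := charDegrees_subset_of_surjective (QuotientGroup.mk' (Subgroup.center SL2))
    (QuotientGroup.mk'_surjective _)
  rcases hS with ⟨⟨e⟩⟩ | ⟨⟨e⟩⟩
  · exact ⟨charDegrees_subset_of_surjective e.toMonoidHom e.surjective,
      (charDegrees_subset_of_surjective e.symm.toMonoidHom e.symm.surjective).trans h⟩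
  · exact ⟨h.trans (charDegrees_subset_of_surjective e.toMonoidHom e.surjective),
      charDegrees_subset_of_surjective e.symm.toMonoidHom e.symm.surjective⟩

end CfsgH8
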