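import Cfsg.Agent.H8.FC6

/-! Trivial intersection Hall subgroups. -/

set_option autoImplicit false
open Subgroup Cfsg CfsgH2 CfsgH1 CfsgH3 CfsgH4 CfsgH8.FC Function
open scoped commutatorElement

namespace CfsgH8.TI

variable {G : Type*} [Group G] {A H K N O P Q R : Subgroup G} {g x : G} {π : Set ℕ}

theorem ti_norm (t : IsTISubset (H : Set G)) (hx : x ∈ H) (x1 : x ≠ 1) (e : g * x * g⁻¹ ∈ H) : g ∈ N[H] :=
  by_contra fun n => x1 (t g n x hx e)

theorem ti_norm_le (t : IsTISubset (H : Set G)) (l : P ≤ H) (h0 : P ≠ ⊥) : N[P] ≤ N[H] := fun _ hg =>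
  let ⟨_, hx, x1⟩ := exists_ne_one h0; ti_norm t (l hx) x1 (l (conj_mem_of_norm hg hx))

theorem ti_cent (t : IsTISubset (H : Set G)) (hx : x ∈ H) (x1 : x ≠ 1) : C1[x] ≤ N[H] := fun g hg =>
  ti_norm t hx x1 (by rwa [mem_centralizer_singleton_iff.1 hg, mul_inv_cancel_right])

theorem ti_cj (t : IsTISubset (H : Set G)) (g : G) : IsTISubset (H.map (cj g) : Set G) := by
  rintro k hk _ ⟨x, hx, rfl⟩ e
  by_contra n
  refine hk (map_cj_eq_iff.1 ?_)
  have := map_cj_eq_iff.2 (ti_norm t (g := g⁻¹ * k * g) hx (fun e => n (by simp [e]))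
    (by simpa [mul_assoc] using mem_map_cj.1 e))
  conv_rhs => rw [← this]
  rw [map_cj_cj, map_cj_cj, mul_assoc, mul_inv_cancel_left]

variable [Finite G]

theorem ti_hall (t : IsTISubset (H : Set G)) (h : o[H].Coprime (H.relIndex N[H])) :
    Hall {p | p ∣ o[H]} H ⊤ := ⟨le_top, PiN.self, fun p hp d e => by
  haveI := Fact.mk hp
  obtain ⟨P, hP⟩ := exists_syl (p := p) H
  exact (Syl.of_norm le_top (((hall_of_coprime le_normalizer h).syl e hP).mono (le_inf le_top le_normalizer)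
    (inf_le_right.trans (ti_norm_le t hP.le (hP.ne_bot e))))).not_dvd_of_le hP.le d⟩

theorem ti_mem (h : Hall π H ⊤) (hK : PiN π o[K]) (hx : x ∈ K) (n : x ∈ N[H]) : x ∈ H :=
  (h.mono le_normalizer le_top).mem_of_norm le_rfl n (piN_orderOf hK hx)

theorem ti_conj (t : IsTISubset (H : Set G)) (h : Hall π H ⊤) (hK : PiN π o[K]) :
    ∃ g, K ≤ H.map (cj g) := by
  by_contra hc
  push Not at hc
  have key : ∀ x ∈ K, x ≠ 1 → ∃ D T, x ∈ D ∧ Frob T D K := fun x hx x1 => by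
    have hp := Nat.minFac_prime (mt orderOf_eq_one_iff.1 x1)
    haveI := Fact.mk hp
    have o := orderOf_pow_orderOf_div (orderOf_pos x).ne' (Nat.minFac_dvd (orderOf x))
    obtain ⟨P, hP⟩ := exists_syl (p := (orderOf x).minFac) H
    obtain ⟨g, -, l⟩ := (h.syl (piN_orderOf hK hx _ hp (Nat.minFac_dvd _)) hP).exists_le_conj
      (isPGroup_zpowers (k := 1) (by rw [pow_one]; exact orderOf_dvd_iff_pow_eq_one.1 o.dvd)) le_top
    have t' := ti_cj t g
    have h' := h.map_cj_mem (mem_top g)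
    have m := ti_mem h' hK hx (ti_cent t' (map_mono hP.le (l (Subgroup.mem_zpowers _)))
      (fun e => hp.ne_one (by rw [← o, e, orderOf_one]))
      (mem_centralizer_singleton_iff.2 (Commute.self_pow x _)))
    obtain ⟨T, hT⟩ := exists_frob_of_ti (H := K ⊓ H.map (cj g)) (L := K)
      (lt_of_le_of_ne inf_le_left fun e => hc g (e ▸ inf_le_right)) (fun e => x1 (e.le ⟨hx, m⟩))
      fun k hk n => eq_bot_iff.2 fun z hz => by_contra fun z1 => n ⟨hk, ti_mem h' hK hk (inv_mem_iff.1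
        (ti_norm t' hz.1.2 z1 (by simpa using (mem_map_cj.1 hz.2).2)))⟩
    exact ⟨_, T, mem_inf.2 ⟨hx, m⟩, hT⟩
  obtain ⟨x, hx, x1⟩ := exists_ne_one (H := K) (by rintro rfl; exact hc 1 bot_le)
  obtain ⟨D, T, -, f⟩ := key x hx x1
  obtain ⟨y, hy, y1⟩ := exists_ne_one f.ker_ne
  obtain ⟨D', T', m, f'⟩ := key y (f.ker_le hy) y1
  exact y1 (mem_bot.1 (f'.disj ▸ mem_inf.2 ⟨f.ker_unique f' ▸ hy, m⟩))

theorem exists_frob_qt (hA : H ≤ N[R]) (c : o[H].Coprime o[R]) (s : Sol[H] ∨ Sol[R])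
    (h : ∀ x ∈ H, x ≠ 1 → R ⊓ C1[x] ≤ C[H]) (n : ¬ H ≤ C[R]) : ∃ R₀ ≤ R, H ≤ N[R₀] ∧ Sol[R₀] ∧
      H ≤ C[⁅R₀, R₀⁆] ∧ Frob (qt ⁅R₀, R₀⁆ R₀) (qt ⁅R₀, R₀⁆ H) (qt ⁅R₀, R₀⁆ (R₀ ⊔ H)) := by
  obtain ⟨X, l, ⟨nX, n⟩, m⟩ := exists_minimal_le (fun X => H ≤ N[X] ∧ ¬ H ≤ C[X]) ⟨hA, n⟩
  have c := c.coprime_dvd_right (card_dvd_of_le l)
  have s : Sol[X] := s.elim (fun s => by
    by_contra e
    refine n (le_centralizer_iff.1 (le_of_syl fun p _ _ => ?_))
    obtain ⟨P, hP, nP⟩ := exists_inv_syl p nX c (.inl s)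
    exact ⟨P, hP, le_centralizer_iff.1 (by_contra fun k => e (m P ⟨nP, k⟩ hP.le ▸ isSolvable_of_pgroup hP.pg))⟩)
    fun s => CfsgH2.isSolvable_of_le s l
  have e : ⁅X, H⁆ = X := m _ ⟨le_norm_comm_right, fun k => n (coprime_le_cent_of_stable nX c (.inr s) le_rfl k)⟩
    (comm_le_left nX)
  have lt : ⁅X, X⁆ < X := sol_comm_lt s (by rintro rfl; exact n (le_top.trans cent_bot.ge))
  have n1 : X ≤ N[⁅X, X⁆] := le_norm_comm_left
  have n2 : H ≤ N[⁅X, X⁆] := le_norm_commutator nX nX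
  have c' := c.coprime_dvd_right (card_dvd_of_le lt.le)
  refine ⟨X, l, nX, s, by_contra fun k => lt.ne (m _ ⟨n2, k⟩ lt.le), qt_le_norm nX, (qt_sup n1 n2).symm,
    mt (qt_eq_bot n1).1 lt.not_ge, fun k => n ?_, fun y hy y1 => ?_⟩
  · rw [eq_bot_iff.2 ((le_inf le_rfl ((qt_eq_bot n2).1 k)).trans (inf_eq_bot_of_coprime' c').le)]
    exact bot_le
  obtain ⟨⟨x, hx'⟩, hx, rfl⟩ := mem_qt.1 hy
  have k := coprime_comm_inf_cent ((isMulComm_qt_iff n1).2 le_rfl) (qt_le_norm nX) (coprime_qt c)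
  rw [← qt_commutator n1 n2, e] at k
  rw [← cent_zpowers, ← qt_zpowers, ← coprime_qt_cent ((zpowers_le.2 hx).trans n2) n1 lt.le
    (c'.coprime_dvd_left (card_dvd_of_le (zpowers_le.2 hx))) (.inl (isSolvable_of_comm inferInstance)),
    eq_bot_iff, ← k, cent_zpowers]
  exact (qt_mono (le_inf inf_le_left ((inf_le_inf_right _ l).trans (h x hx fun e => y1 (by
    subst e; exact map_one _))))).trans qt_inf_cent_le

theorem fc_of_prime (hA : H ≤ N[R]) (c : o[H].Coprime o[R]) (s : Sol[H] ∨ Sol[R])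
    (h : ∀ x ∈ H, x ≠ 1 → R ⊓ C1[x] ≤ C[H]) (n : ¬ H ≤ C[R]) : FC ℂ H := by
  obtain ⟨X, l, nX, -, -, f⟩ := exists_frob_qt hA c s h n
  obtain ⟨e⟩ := exists_equiv_qt (le_norm_commutator nX nX) (inf_eq_bot_of_coprime'
    (c.coprime_dvd_right (card_dvd_of_le (commutator_self_le.trans l))))
  exact (fc_of_frob f).comap e.toMonoidHom e.injective

theorem zg_cop [z : IsZGroup H] (n : Q ≤ N[H]) (c : o[Q].Coprime o[H]) :
    Hall {p | p ∣ o[(H ⊓ C[Q] : Subgroup G)]} (H ⊓ C[Q]) H ∧ Cyc[⁅H, Q⁆] ∧ ⁅H, Q⁆ ⊓ C[Q] = ⊥ := by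
  have s : Sol[H] := inferInstance
  have l := comm_le_left n
  haveI z' : IsZGroup (⁅H, Q⁆ : Subgroup G) := .of_injective (inclusion_injective l)
  have e := coprime_comm_comm n c (.inr s)
  have cy : Cyc[⁅H, Q⁆] := by
    have := isCyclic_of_surjective (hH := z'.isCyclic_commutator) _
      ((⁅H, Q⁆).subtype.subgroupMap_surjective (commutator _))
    rw [map_subtype_commutator] at this
    have n1 : ⁅H, Q⁆ ≤ N[⁅⁅H, Q⁆, ⁅H, Q⁆⁆] := le_norm_comm_left
    haveI := nil_of_qt_cent (e.ge.trans ((commutator_mono le_sup_left le_sup_right).trans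
      (commutator_le_cent_of_cyclic this (sup_le n1 (le_norm_commutator le_norm_comm_right
        le_norm_comm_right))))) (isNilpotent_of_comm ((isMulComm_qt_iff n1).2 le_rfl))
    infer_instance
  refine ⟨⟨inf_le_left, PiN.self, fun p hp d k => ?_⟩, cy, ?_⟩
  · haveI := Fact.mk hp
    obtain ⟨P, hP, nP⟩ := exists_inv_syl p n c (.inr s)
    rcases cyc_coprime_cent_or (zgroup_iff.1 z p P hP.le hP.pg) hP.pg nP (fun e => hp.ne_one
      (Nat.eq_one_of_dvd_coprimes c e (k.trans (card_dvd_of_le inf_le_left)))) with e | e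
    · exact hP.not_dvd_of_le (le_inf hP.le (le_centralizer_iff.1 e)) d
    · exact (hP.inf_cent n c (.inr s) nP).ne_bot k e.2
  · rw [← e]
    exact coprime_comm_inf_cent (isMulComm_of_cyclic cy) le_norm_comm_right
      (c.coprime_dvd_right (card_dvd_of_le l))

theorem fc_two (h : FC ℂ H) (l : P ≤ H) (pg : IsPGroup 2 P) : Cyc[P] ∨ ∃ a b m, GQ P a b m :=
  cyc_or_gq pg fun x hx y hy ox oy _ => congrArg Subtype.val (h.inv_uq (x := ⟨x, l hx⟩) (y := ⟨y, l hy⟩)
    (by rwa [orderOf_mk]) (by rwa [orderOf_mk]))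

theorem fc_odd (h : FC ℂ H) {p : ℕ} [Fact p.Prime] (p2 : p ≠ 2) (l : P ≤ H) (pg : IsPGroup p P) : Cyc[P] :=
  haveI := (h.of_le l).cyc_odd p2 (pg.to_subgroup ⊤)
  isCyclic_of_surjective _ topEquiv.surjective

theorem der_le_cent (h : FC ℂ H) (s : Sol[H]) (n : Q ≤ N[H]) (c : o[Q].Coprime o[H]) : ⁅Q, Q⁆ ≤ C[H] := by
  refine coprime_le_cent_of_fit (commutator_self_le.trans n)
    (c.coprime_dvd_left (card_dvd_of_le commutator_self_le)) s
    (le_centralizer_iff.1 (fit_le_of_cores fun p hp d => le_centralizer_iff.1 ?_))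
  have n' : Q ≤ N[O[{p}, H]] := le_norm_piCoreOf' n
  by_cases p2 : p = 2
  swap
  · exact commutator_le_cent_of_cyclic (fc_odd h p2 piCoreOf_le isPGroup_piCoreOf) n'
  subst p2
  rcases fc_two h piCoreOf_le isPGroup_piCoreOf with e | ⟨a, b, m, q⟩
  · exact commutator_le_cent_of_cyclic e n'
  have o : Odd o[Q] := Nat.coprime_two_right.1 (c.coprime_dvd_right (d.trans (card_dvd_of_le fit_le)))
  by_cases m1 : m = 1
  swap
  · exact commutator_self_le.trans fun g hg => by_contra fun e =>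
      m1 (GQ_one q (o.of_dvd_nat (orderOf_dvd_of_mem hg)) (n' hg) e)
  subst m1
  obtain ⟨f, hf⟩ := q8_hom q
  let f' := f.comp (inclusion n')
  haveI : IsCyclic f'.range := isCyclic_of_card_dvd_prime (p := 3)
    (((Nat.coprime_two_right.2 (o.of_dvd_nat (card_range_dvd f'))).pow_right 3).dvd_of_dvd_mul_left
      ((card_subgroup_dvd_card _).trans card_S4.dvd))
  refine commutator_le.2 fun x hx y hy => (hf ⁅(⟨x, n' hx⟩ : N[O[{2}, H]]), ⟨y, n' hy⟩⁆).1 ?_
  rw [map_commutatorElement, commutatorElement_eq_one_iff_mul_comm]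
  exact comm_of_isMulComm (H := f'.range) inferInstance ⟨⟨x, hx⟩, rfl⟩ ⟨⟨y, hy⟩, rfl⟩

/-- The set-up of a non-normal TI Hall subgroup with `G = O N(H)`. -/
structure TH (H O : Subgroup G) : Prop where
  ti : IsTISubset (H : Set G)
  nn : ¬ H.Normal
  hall : Hall {p | p ∣ o[H]} H ⊤
  core : O = O[{p | p ∣ o[H]}ᶜ, ⊤]
  sup : O ⊔ N[H] = ⊤

theorem th_of_sep (hTI : IsTISubset (H : Set G)) (hnn : ¬ H.Normal) (hH : o[H].Coprime (H.relIndex N[H]))
    (hsep : ∃ (n : ℕ) (M : Fin (n + 1) → Subgroup G), M 0 = ⊥ ∧ M (Fin.last n) = ⊤ ∧ Monotone M ∧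
      (∀ i, (M i).Normal) ∧ ∀ i : Fin n, (∀ q : ℕ, q.Prime → q ∣ (M i.castSucc).relIndex (M i.succ) → q ∣ o[H]) ∨
        ((M i.castSucc).relIndex (M i.succ)).Coprime o[H]) : TH H O[{p | p ∣ o[H]}ᶜ, ⊤] := by
  obtain ⟨n, M, h0, h1, m, nM, h⟩ := hsep
  have hl := ti_hall hTI hH
  refine ⟨hTI, hnn, hl, rfl, by_contra fun e => e (eq_top_iff.2 (h1.ge.trans (le_sup_of_le_left ?_)))⟩
  set O := O[{p | p ∣ o[H]}ᶜ, (⊤ : Subgroup G)]
  generalize Fin.last n = i
  induction i using Fin.induction with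
  | zero => exact h0 ▸ bot_le
  | succ i ih =>
    have nX : ∀ {Y}, Y ≤ N[M i.succ] := fun {_} => le_top.trans (top_le_norm_iff.2 (nM _))
    rcases h i with k | k
    · have s := (hl.inf_norm le_top (.inl nX)).sup_eq (K := O ⊓ M i.succ) ⟨inf_le_right,
        piN_of_le piN_piCoreOf inf_le_left, by
          rw [compl_compl]
          exact PiN.of_dvd k (relIndex_dvd_of_le_left _ (le_inf ih (m i.castSucc_le_succ)))⟩
      by_cases b : H ⊓ M i.succ = ⊥
      · rw [b, bot_sup_eq] at s; exact inf_eq_right.1 s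
      have hp := Nat.minFac_prime (mt card_eq_one.1 b)
      haveI := Fact.mk hp
      obtain ⟨P, hP⟩ := exists_syl (p := o[(H ⊓ M i.succ : Subgroup G)].minFac) (H ⊓ M i.succ)
      have := ((hl.inf_norm le_top (.inl nX)).syl ((Nat.minFac_dvd _).trans (card_dvd_of_le inf_le_left))
        hP).frattini_sup le_top nX
      exact absurd (eq_top_iff.2 (this.ge.trans (sup_le (s.ge.trans (sup_le (le_sup_of_le_right
        (inf_le_left.trans le_normalizer)) (le_sup_of_le_left inf_le_left))) (le_sup_of_le_right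
          (inf_le_right.trans (ti_norm_le hTI (hP.le.trans inf_le_left) (hP.ne_bot (Nat.minFac_dvd _)))))))) e
    · refine le_piCoreOf le_top nX ?_
      rw [← CfsgH2.card_mul_relIndex (m i.castSucc_le_succ)]
      exact (piN_of_le piN_piCoreOf ih).mul (PiN.of_coprime k.symm)

namespace TH

theorem normal (h : TH H O) : O.Normal := h.core ▸ inferInstance

theorem nO (h : TH H O) : A ≤ N[O] := le_top.trans (top_le_norm_iff.2 h.normal)

theorem pi (h : TH H O) : PiN {p | p ∣ o[H]}ᶜ o[O] := h.core ▸ piN_piCoreOf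

theorem cop (h : TH H O) : o[H].Coprime o[O] := PiN.self.coprime h.pi

theorem cent (h : TH H O) : O ⊓ N[H] ≤ C[H] :=
  coprime_norm_le_cent inf_le_right (le_norm_inf h.nO (le_normalizer.trans le_normalizer))
    (h.cop.coprime_dvd_right (card_dvd_of_le inf_le_left))

theorem not_le (h : TH H O) (l : P ≤ H) (h0 : P ≠ ⊥) : ¬ P ≤ C[O] := fun e =>
  h.nn (top_le_norm_iff.1 (h.sup.ge.trans (sup_le (((le_centralizer_iff.1 e).trans
    (centralizer_le_normalizer _)).trans (ti_norm_le h.ti l h0)) le_rfl)))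

theorem fc (h : TH H O) (l : P ≤ H) (h0 : P ≠ ⊥) (s : Sol[P] ∨ Sol[O]) : FC ℂ P :=
  fc_of_prime h.nO (h.cop.coprime_dvd_left (card_dvd_of_le l)) s (fun _ hx x1 =>
    ((inf_le_inf_left _ (ti_cent h.ti (l hx) x1)).trans h.cent).trans (cent_anti l)) (h.not_le l h0)

theorem ne_bot (h : TH H O) : H ≠ ⊥ := fun e => h.nn (e ▸ inferInstance)

theorem sol (h : TH H O) (s : Sol[O]) (n : ∀ φ : SL25 →* H, ¬ Injective φ) : Group.IsSolvable G := by
  have f := h.fc le_rfl h.ne_bot (.inr s)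
  have sH : Sol[H] := f.str.resolve_right fun ⟨φ, hφ, _⟩ => n φ hφ
  have hN := h.hall.mono le_normalizer le_top
  obtain ⟨Q, l, e, -, c⟩ := exists_compl le_normalizer le_rfl hN.coprime
  have pQ : PiN {p | p ∣ o[H]}ᶜ o[Q] := by rw [c]; exact hN.pi'
  have d := der_le_cent f sH l (pQ.coprime' PiN.self)
  have hZ := hN.inf_norm (centralizer_le_normalizer _) (.inl (le_normalizer.trans (norm_le_norm_cent H)))
  obtain ⟨D, l', e', -, c'⟩ := exists_compl (N := H ⊓ C[H]) inf_le_right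
    (le_norm_inf (centralizer_le_normalizer _) le_normalizer) hZ.coprime
  have nD : C[H] ≤ N[D] := e'.ge.trans (sup_le (le_norm_of_le_cent (inf_le_left.trans
    (le_centralizer_iff.1 l'))) le_normalizer)
  have hD : Hall {p | p ∣ o[H]}ᶜ D C[H] := Hall.of_compl l' (by rw [c']; exact hZ.pi') (by
    rw [compl_compl]; exact hZ.pi) (.inr (inf_le_right.trans nD)) ((sup_comm _ _).trans e')
  have k : O ⊔ D ≤ O := by
    nth_rw 2 [h.core]
    refine le_piCoreOf le_top (h.sup.ge.trans (sup_le (le_sup_left.trans le_normalizer)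
      (le_norm_sup h.nO ((norm_le_norm_cent H).trans (hD.norm_le_of_norm nD))))) ?_
    exact piN_sup h.pi hD.pi (.inr h.nO)
  have sQ : Sol[Q] := isSolvable_of_qt le_norm_comm_left (isSolvable_of_comm
    ((isMulComm_qt_iff le_norm_comm_left).2 le_rfl)) (CfsgH2.isSolvable_of_le s (inf_le_right.trans
      ((hD.le_of_norm (piN_of_le pQ commutator_self_le) d (.inr (d.trans nD))).trans (le_sup_right.trans k))))
  have := isSolvable_sup sQ sH l
  rw [sup_comm, e] at this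
  have := isSolvable_sup this s h.nO
  rw [sup_comm, h.sup] at this
  exact Group.isSolvable_of_surjective (f := (⊤ : Subgroup G).subtype) topEquiv.surjective

theorem zg (h : TH H O) (h2 : ∀ P ≤ H, IsPGroup 2 P → Ab[P]) : IsZGroup H :=
  zgroup_iff.2 fun p _ P l pg => by
    by_cases e : P = ⊥
    · subst e; infer_instance
    have f := h.fc l e (.inl (isSolvable_of_pgroup pg))
    by_cases p2 : p = 2
    · subst p2; exact f.cyc (h2 P l pg).1.1
    · exact fc_odd f p2 le_rfl pg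

end TH

end CfsgH8.TI
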