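import Cfsg.Agent.H8.U3e
import Cfsg.Agent.H1.Cores

/-! Automorphisms of the Sylow 2-subgroup of the three-dimensional unitary groups in characteristic 2. -/

set_option autoImplicit false

namespace CfsgH8

open Cfsg CfsgH5

variable {F : Type*} [Field F] {σ : F →+* F}

theorem exists_frob8 [Fintype F] {p f : ℕ} [Fact p.Prime] (hF : Fintype.card F = p ^ f) :
    ∃ φ : F ≃+* F, (∀ x, φ x = x ^ p) ∧ orderOf φ = f ∧ ∀ σ : F ≃+* F, σ ∈ Subgroup.zpowers φ := by
  have := charP_of_card_eq_prime_pow hF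
  letI := ZMod.algebra F p
  have hr : Module.finrank (ZMod p) F = f := by
    have := Module.card_eq_pow_finrank (K := ZMod p) (V := F)
    rw [hF, ZMod.card] at this
    exact (Nat.pow_right_injective (Fact.out : p.Prime).two_le this).symm
  let e : (F ≃ₐ[ZMod p] F) ≃* (F ≃+* F) :=
    { toFun σ := σ.toRingEquiv
      invFun σ := AlgEquiv.ofRingEquiv (f := σ) fun x => by
        obtain ⟨k, rfl⟩ := ZMod.intCast_surjective x; simp
      left_inv _ := rfl
      right_inv _ := rfl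
      map_mul' _ _ := rfl }
  refine ⟨e (FiniteField.frobeniusAlgEquivOfAlgebraic (ZMod p) F), fun x => ?_, ?_, fun σ => ?_⟩
  · change x ^ Fintype.card (ZMod p) = _
    rw [ZMod.card]
  · rw [MulEquiv.orderOf_eq, FiniteField.orderOf_frobeniusAlgEquivOfAlgebraic, hr]
  · obtain ⟨n, hn⟩ := (FiniteField.bijective_frobeniusAlgEquivOfAlgebraic_pow (ZMod p) F).2 (e.symm σ)
    exact ⟨(n : ℕ), by simp only [zpow_natCast, ← map_pow, hn, MulEquiv.apply_symm_apply]⟩

theorem card_ringAut8 [Fintype F] {p f : ℕ} [Fact p.Prime] (hF : Fintype.card F = p ^ f) :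
    Nat.card (F ≃+* F) = f := by
  obtain ⟨φ, -, h1, h2⟩ := exists_frob8 hF
  rw [← h1, ← Nat.card_zpowers, (Subgroup.eq_top_iff' _).2 h2, Subgroup.card_top]

variable [hs : Fact (∀ a, σ (σ a) = a)] [CharP F 2]

theorem semilin_one [Finite F] {α : F} (hα : α + σ α = 1) (A : F →+ F) (hA : Function.Injective A) (h1 : A 1 = 1)
    (h2 : ∀ x y, σ x * y = σ y * x ↔ σ (A x) * A y = σ (A y) * A x)
    (h3 : ∀ x y, x * σ x = y * σ y → A x * σ (A x) = A y * σ (A y)) (x y : F) : A (x * y) = A x * A y := by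
  have t2 : (2 : F) = 0 := CharTwo.two_eq_zero
  have hfix : ∀ c, σ c = c ↔ σ (A c) = A c := fun c => by simpa [h1] using h2 c 1
  have hne : ∀ y, y ≠ 0 → A y ≠ 0 := fun y hy h => hy (hA (by rw [h, map_zero]))
  have hg : ∀ c y, σ c = c → y ≠ 0 → ∃ g, σ g = g ∧ A (c * y) = g * A y := by
    intro c y hc hy
    have h4 := (h2 (c * y) y).1 (by rw [map_mul, hc]; ring)
    have h5 := hne y hy
    have h6 : σ (A y) ≠ 0 := (map_ne_zero σ).2 h5
    refine ⟨A (c * y) / A y, ?_, by field_simp⟩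
    rw [map_div₀, div_eq_div_iff h6 h5, h4, mul_comm]
  have hα' : σ α ≠ α := fun h => by
    rw [h, CharTwo.add_self_eq_zero] at hα; exact zero_ne_one hα
  have s1 : ∀ c y, σ c = c → σ y ≠ y → A (c * y) = A c * A y := by
    intro c y hc hy
    obtain ⟨g1, a1, b1⟩ := hg c (1 + y) hc (fun h => hy (by rw [eq_neg_of_add_eq_zero_right h]; simp))
    obtain ⟨g2, a2, b2⟩ := hg c y hc (fun h => hy (by simp [h]))
    have hc' := (hfix c).1 hc
    have hy' : σ (A y) ≠ A y := fun h => hy ((hfix y).2 h)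
    rw [mul_add, mul_one, map_add, map_add, h1, b2] at b1
    have b3 := congrArg σ b1
    simp only [map_add, map_mul, map_one, a1, a2, hc'] at b3
    have b4 : (g2 - g1) * (σ (A y) - A y) = 0 := by linear_combination b3 - b1
    have b5 : g2 = g1 := sub_eq_zero.1 ((mul_eq_zero.1 b4).resolve_right (sub_ne_zero.2 hy'))
    rw [b2]
    congr 1
    rw [b5] at b1 ⊢
    linear_combination -b1
  have s2 : ∀ c y, σ c = c → A (c * y) = A c * A y := by
    intro c y hc
    by_cases hy : σ y = y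
    · have e1 := s1 c (y + α) hc (by rw [map_add, hy]; simpa using hα')
      have e2 := s1 c α hc hα'
      rw [mul_add, map_add, map_add, e2] at e1
      linear_combination e1
    · exact s1 c y hc hy
  have hT : A α + σ (A α) = 1 := by
    have := h3 (1 + α) α (by rw [map_add, map_one]; linear_combination hα + t2)
    rw [map_add, h1, map_add, map_one] at this
    linear_combination this - t2 * 1 + t2 * 0 + (1 : F) * t2 * 0 + t2 * (0 : F)
  have hN : A α * σ (A α) = A (α * σ α) := by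
    obtain ⟨c, hc⟩ := isSquare_of_charTwo' (α * σ α)
    have hc1 : σ c = c := by
      have e : σ c * σ c = c * c := by rw [← map_mul, ← hc, map_mul, hs.out, mul_comm]
      have e2 : (σ c - c) ^ 2 = 0 := by linear_combination e + (c * c - σ c * c) * t2
      exact sub_eq_zero.1 (pow_eq_zero_iff two_ne_zero |>.1 e2)
    rw [h3 α c (by rw [hc1, hc]), (hfix c).1 hc1, hc, s2 c c hc1]
  have dec : ∀ y, ∃ a b, σ a = a ∧ σ b = b ∧ y = a + b * α := by
    intro y
    refine ⟨y + (y + σ y) * α, y + σ y, ?_, by rw [map_add, hs.out, add_comm], by linear_combination -((y + σ y) * α) * t2⟩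
    simp only [map_add, map_mul, hs.out]
    linear_combination (y + σ y) * hα + (σ y - (y + σ y) * α) * t2
  have s3 : ∀ y, A (α * y) = A α * A y := by
    intro y
    obtain ⟨a, b, ha, hb, rfl⟩ := dec y
    have e1 : α * (a + b * α) = a * α + b * (α + α * σ α) := by
      linear_combination (b * α) * hα - (b * α * σ α) * t2
    rw [e1, map_add, map_add, s2 a _ ha, s2 b _ hb, s2 b _ hb, map_add, ← hN]
    linear_combination -(A b * A α) * hT + (A b * A α * σ (A α)) * t2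
  obtain ⟨a, b, ha, hb, rfl⟩ := dec x
  rw [add_mul, mul_assoc, map_add, map_add, s2 a _ ha, s2 b _ hb, s2 b _ hb, s3]
  ring

theorem semilin [Finite F] {α : F} (hα : α + σ α = 1) (A : F →+ F) (hA : Function.Injective A)
    (h2 : ∀ x y, σ x * y = σ y * x ↔ σ (A x) * A y = σ (A y) * A x)
    (h3 : ∀ x y, x * σ x = y * σ y → A x * σ (A x) = A y * σ (A y)) :
    ∃ l : F, l ≠ 0 ∧ ∃ φ : F ≃+* F, ∀ y, A y = l * φ y := by
  have hl : A 1 ≠ 0 := fun h => one_ne_zero (hA (by rw [h, map_zero]))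
  have hl' : σ (A 1) ≠ 0 := (map_ne_zero σ).2 hl
  let B : F →+ F := (AddMonoidHom.mulLeft (A 1)⁻¹).comp A
  have hB : ∀ y, B y = (A 1)⁻¹ * A y := fun y => rfl
  have hBi : Function.Injective B := fun x y h => hA (mul_left_cancel₀ (inv_ne_zero hl) h)
  have h1 : B 1 = 1 := inv_mul_cancel₀ hl
  have key := semilin_one hα B hBi h1 (fun x y => by
      rw [h2, hB, hB, map_mul, map_mul, map_inv₀]
      constructor
      · intro h; linear_combination (σ (A 1))⁻¹ * (A 1)⁻¹ * h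
      · intro h; field_simp at h; linear_combination h)
    (fun x y h => by
      rw [hB, hB, map_mul, map_mul]
      linear_combination (A 1)⁻¹ * σ (A 1)⁻¹ * h3 x y h)
  let ψ : F →+* F := { B with map_one' := h1, map_mul' := key }
  refine ⟨A 1, hl, RingEquiv.ofBijective ψ (Finite.injective_iff_bijective.1 hBi), fun y => ?_⟩
  change A y = A 1 * ((A 1)⁻¹ * A y)
  rw [mul_inv_cancel_left₀ hl]

theorem Hs.aut_y {α : F} (hα : α + σ α = 1) (θ : MulAut (Hs σ)) {a : Hs σ} (h : a.y = 0) : (θ a).y = 0 := by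
  rw [← Hs.sq_eq_one] at h ⊢
  rw [← map_mul, h, map_one]

theorem Hs.aut_y_eq {α : F} (hα : α + σ α = 1) (θ : MulAut (Hs σ)) {a b : Hs σ} (h : a.y = b.y) :
    (θ a).y = (θ b).y := by
  have := Hs.aut_y hα θ (a := a * b⁻¹) (by simp [h])
  rw [map_mul, map_inv, Hs.mul_y, Hs.inv_y] at this
  linear_combination this

theorem Hs.sq_eq {a b : Hs σ} (h : a.y * σ a.y = b.y * σ b.y) : a * a = b * b :=
  Hs.ext (by rw [Hs.sq_y, Hs.sq_y]) (by rw [Hs.sq_z, Hs.sq_z, h])

theorem Hs.aut_form [Finite F] {α : F} (hα : α + σ α = 1) (θ : MulAut (Hs σ)) :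
    ∃ l : F, l ≠ 0 ∧ ∃ φ : F ≃+* F, ∀ a, (θ a).y = l * φ a.y := by
  let A : F →+ F := AddMonoidHom.mk' (fun y => (θ (Hs.lift hα y)).y) fun x y => by
    rw [← Hs.mul_y, ← map_mul]
    exact Hs.aut_y_eq hα θ rfl
  have hA : ∀ y, A y = (θ (Hs.lift hα y)).y := fun _ => rfl
  obtain ⟨l, hl, φ, h⟩ := semilin hα A ((injective_iff_map_eq_zero _).2 fun y hy => by
      have := Hs.aut_y hα θ⁻¹ hy
      simpa [Hs.lift] using this)
    (fun x y => by
      rw [hA, hA, ← Hs.comm_iff, ← map_mul, ← map_mul, θ.injective.eq_iff, Hs.comm_iff]; rfl)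
    (fun x y h => by
      rw [hA, hA, ← Hs.sq_z, ← Hs.sq_z, ← map_mul, ← map_mul, Hs.sq_eq (a := Hs.lift hα x) (b := Hs.lift hα y) h])
  exact ⟨l, hl, φ, fun a => by rw [← h, hA]; exact Hs.aut_y_eq hα θ rfl⟩

omit [CharP F 2] in
theorem Hs.exists_aut {q : ℕ} (hσ : ∀ x, σ x = x ^ q) {l : F} (hl : l ≠ 0) (φ : F ≃+* F) :
    ∃ θ : MulAut (Hs σ), ∀ a, (θ a).y = l * φ a.y ∧ (θ a).z = l * σ l * φ a.z := by
  have hc : ∀ (ψ : F ≃+* F) x, σ (ψ x) = ψ (σ x) := fun ψ x => by rw [hσ, hσ, map_pow]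
  have hl' : σ l ≠ 0 := (map_ne_zero σ).2 hl
  refine ⟨⟨⟨fun a => ⟨l * φ a.y, l * σ l * φ a.z, ?_⟩, fun a => ⟨φ.symm (l⁻¹ * a.y), φ.symm (l⁻¹ * (σ l)⁻¹ * a.z), ?_⟩,
    fun a => ?_, fun a => ?_⟩, fun a b => ?_⟩, fun a => ⟨rfl, rfl⟩⟩
  · have := congrArg φ a.h
    simp only [map_add, map_mul, hs.out, hc] at this ⊢
    linear_combination l * σ l * this
  · rw [hc, hc, ← map_add, ← map_mul]
    congr 1
    simp only [map_mul, map_inv₀, hs.out]
    linear_combination l⁻¹ * (σ l)⁻¹ * a.h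
  · ext
    · simp [hl]
    · simp only
      rw [RingEquiv.symm_apply_eq]; field_simp
  · ext
    · simp [hl]
    · simp only [RingEquiv.apply_symm_apply]; field_simp
  · ext
    · simp [mul_add]
    · simp only [Hs.mul_z, map_add, map_mul, hc]; ring

/-- The automorphisms acting trivially modulo the centre. -/
def Hs.kerA (σ : F →+* F) [Fact (∀ a, σ (σ a) = a)] : Subgroup (MulAut (Hs σ)) where
  carrier := {θ | ∀ a, (θ a).y = a.y}
  one_mem' := fun _ => rfl
  mul_mem' := fun {a b} ha hb x => (ha (b x)).trans (hb x)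
  inv_mem' := fun {a} ha x => by
    have := ha (a⁻¹ x)
    simpa using this.symm

theorem Hs.kerA_normal {α : F} (hα : α + σ α = 1) : (Hs.kerA σ).Normal :=
  ⟨fun θ hθ g a => by
    have := Hs.aut_y_eq hα g (hθ (g⁻¹ a))
    simpa using this⟩

theorem Hs.kerA_fix {q : ℕ} (H : UF σ q) {θ : MulAut (Hs σ)} (hθ : θ ∈ Hs.kerA σ) {a : Hs σ} (h : a.y = 0) : θ a = a := by
  obtain ⟨α, hα⟩ := exists_alpha H.ne_id hs.out
  obtain ⟨y, hy⟩ := H.exists_norm (Hs.fix_of_y h)
  have : a = Hs.lift hα y * Hs.lift hα y := Hs.ext (by rw [h, Hs.sq_y]) (by rw [Hs.sq_z, ← hy]; rfl)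
  rw [this, map_mul]
  exact Hs.sq_eq (by rw [hθ])

theorem Hs.kerA_mul {q : ℕ} (H : UF σ q) {θ η : MulAut (Hs σ)} (hθ : θ ∈ Hs.kerA σ) (hη : η ∈ Hs.kerA σ) (a : Hs σ) :
    (θ (η a)).z = (θ a).z + (η a).z + a.z := by
  have t2 : (2 : F) = 0 := CharTwo.two_eq_zero
  have h1 : η a = a * (a⁻¹ * η a) := by group
  have h2 : (a⁻¹ * η a).y = 0 := by simp [hη a]
  rw [h1, map_mul, Hs.kerA_fix H hθ h2]
  simp only [Hs.mul_z, h2, mul_zero, add_zero]
  linear_combination (-a.z) * t2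

theorem Hs.kerA_ea {q : ℕ} (H : UF σ q) : IsElementaryAbelian 2 (Hs.kerA σ) := by
  have t2 : (2 : F) = 0 := CharTwo.two_eq_zero
  refine ⟨⟨⟨fun θ η => Subtype.ext (MulEquiv.ext fun a => Hs.ext ?_ ?_)⟩⟩, fun θ hθ => MulEquiv.ext fun a => Hs.ext ?_ ?_⟩
  · exact ((θ * η).2 a).trans ((η * θ).2 a).symm
  · change (θ.1 (η.1 a)).z = (η.1 (θ.1 a)).z
    rw [Hs.kerA_mul H θ.2 η.2, Hs.kerA_mul H η.2 θ.2]; ring
  · exact pow_mem hθ 2 a
  · rw [pow_two]
    change (θ (θ a)).z = a.z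
    rw [Hs.kerA_mul H hθ hθ]
    linear_combination (θ a).z * t2

theorem pow_two_pow_eq_one {l : F} {k : ℕ} (h : l ^ 2 ^ k = 1) : l = 1 := by
  have : (l - 1) ^ 2 ^ k = 0 := by rw [sub_pow_char_pow, h]; simp
  exact sub_eq_zero.1 (pow_eq_zero_iff (by positivity) |>.1 this)

theorem Hs.pow_y {α : F} (hα : α + σ α = 1) {θ : MulAut (Hs σ)} {l : F} (h : ∀ a, (θ a).y = l * a.y) (k : ℕ) (a : Hs σ) :
    ((θ ^ k) a).y = l ^ k * a.y := by
  induction k with
  | zero => simp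
  | succ k ih => rw [pow_succ', MulAut.mul_apply, h, ih]; ring

theorem Hs.pCore_eq {q : ℕ} (H : UF σ q) : pCore 2 (MulAut (Hs σ)) = Hs.kerA σ := by
  obtain ⟨α, hα⟩ := exists_alpha H.ne_id hs.out
  haveI := H.fin
  haveI := Hs.kerA_normal hα
  refine le_antisymm (fun θ hθ => ?_) (CfsgH1.le_pCore fun θ => ⟨1, Subtype.ext ((Hs.kerA_ea H).2 θ.1 θ.2)⟩)
  have key : ∀ η ∈ pCore 2 (MulAut (Hs σ)), ∀ l : F, (∀ a, (η a).y = l * a.y) → l = 1 := by
    intro η hη l hl
    obtain ⟨k, hk⟩ := CfsgH1.isPGroup_pCore 2 ⟨η, hη⟩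
    have h1 := Hs.pow_y hα hl (2 ^ k) (Hs.lift hα 1)
    have h2 : η ^ 2 ^ k = 1 := congrArg Subtype.val hk
    rw [h2] at h1
    exact pow_two_pow_eq_one (by simpa [Hs.lift] using h1.symm)
  obtain ⟨l, hl, φ, h⟩ := Hs.aut_form hα θ
  have hφ : ∀ μ, φ μ = μ := by
    intro μ
    by_cases hμ : μ = 0
    · simp [hμ]
    obtain ⟨m, hm⟩ := Hs.exists_aut H.pow hμ (RingEquiv.refl F)
    have h1 : θ * (m * θ⁻¹ * m⁻¹) ∈ pCore 2 (MulAut (Hs σ)) :=
      mul_mem hθ (Subgroup.Normal.conj_mem inferInstance _ (inv_mem hθ) m)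
    have h2 := key _ h1 (φ μ * μ⁻¹) fun a => by
      simp only [MulAut.mul_apply]
      have e1 := (hm (m⁻¹ a)).1
      have e2 := h (θ⁻¹ (m⁻¹ a))
      simp only [MulAut.apply_inv_self, RingEquiv.refl_apply] at e1 e2
      rw [h, (hm _).1, RingEquiv.refl_apply, map_mul, e1, e2]
      field_simp
    rwa [mul_inv_eq_one₀ hμ] at h2
  have h3 := key θ hθ l fun a => by rw [h, hφ]
  intro a
  rw [h, hφ, h3, one_mul]

theorem Hs.card_kerA {n : ℕ} (H : UF σ (2 ^ n)) : Nat.card (Hs.kerA σ) = 2 ^ (2 * n ^ 2) := by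
  obtain ⟨α, hα⟩ := exists_alpha H.ne_id hs.out
  haveI := H.fin
  have t2 : (2 : F) = 0 := CharTwo.two_eq_zero
  let F0 : Subfield F := σ.eqLocusField (RingHom.id F)
  have h0 : Nat.card F0 = 2 ^ n := H.card_fix
  letI := ZMod.algebra F 2
  letI := ZMod.algebra F0 2
  have e1 : Nat.card (Hs.kerA σ) = Nat.card (F →+ F0) := by
    symm
    have hfix : ∀ (h : F →+ F0) y, σ (h y) = h y := fun h y => (h y).2
    let f : (F →+ F0) → Hs σ → Hs σ := fun h a => a * Hs.cen (σ := σ) (h a.y : F) (hfix h a.y)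
    have hff : ∀ h a, f h (f h a) = a := by
      intro h a
      ext
      · simp [f, Hs.cen]
      · simp only [f, Hs.cen, Hs.mul_z, Hs.mul_y, add_zero, mul_zero]
        linear_combination (h a.y : F) * t2
    let g : (F →+ F0) → Hs.kerA σ := fun h => ⟨⟨⟨f h, f h, hff h, hff h⟩, fun a b => by
      ext
      · simp [f, Hs.cen]
      · simp [f, Hs.cen]; ring⟩, fun a => by simp [f, Hs.cen]⟩
    refine Nat.card_eq_of_bijective g ⟨fun h h' e => ?_, fun θ => ?_⟩
    · ext y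
      have := congrArg (fun θ : Hs.kerA σ => (θ.1 (Hs.lift hα y)).z) e
      simpa [g, f, Hs.cen, Hs.lift] using this
    · have h2 : ∀ a : Hs σ, (a⁻¹ * θ.1 a).y = 0 := fun a => by simp [θ.2 a]
      have h3 : ∀ a : Hs σ, (a⁻¹ * θ.1 a).z = (θ.1 a).z + a.z := fun a => by
        simp only [Hs.mul_z, Hs.inv_z, Hs.inv_y, θ.2 a, map_neg]
        linear_combination a.h - a.z * t2
      have h4 : ∀ a b : Hs σ, a.y = b.y → (θ.1 a).z + a.z = (θ.1 b).z + b.z := by
        intro a b hab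
        have e1 : b = a * (a⁻¹ * b) := by group
        have e2 : (a⁻¹ * b).y = 0 := by simp [hab]
        rw [e1, map_mul, Hs.kerA_fix H θ.2 e2]
        simp only [Hs.mul_z, e2, mul_zero, add_zero]
        linear_combination -(a⁻¹.z + b.z + σ a⁻¹.y * b.y) * t2
      refine ⟨AddMonoidHom.mk' (fun y => ⟨((Hs.lift hα y)⁻¹ * θ.1 (Hs.lift hα y)).z, Hs.fix_of_y (h2 _)⟩) fun x y => ?_, ?_⟩
      · apply Subtype.ext
        change _ = _ + _
        simp only [h3]
        rw [h4 (Hs.lift hα (x + y)) (Hs.lift hα x * Hs.lift hα y) rfl, map_mul, Hs.mul_z, Hs.mul_z, θ.2, θ.2]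
        linear_combination (σ (Hs.lift hα x).y * (Hs.lift hα y).y) * t2
      · refine Subtype.ext (MulEquiv.ext fun a => Hs.ext ?_ ?_)
        · simp [g, f, Hs.cen, θ.2 a]
        · change a.z + ((Hs.lift hα a.y)⁻¹ * θ.1 (Hs.lift hα a.y)).z + σ a.y * 0 = _
          rw [h3, h4 (Hs.lift hα a.y) a rfl]
          linear_combination a.z * t2
  have r1 : Module.finrank (ZMod 2) F = 2 * n := by
    have := Module.natCard_eq_pow_finrank (K := ZMod 2) (V := F)
    rw [H.card, Nat.card_zmod, ← pow_mul] at this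
    rw [← Nat.pow_right_injective le_rfl this, mul_comm]
  have r2 : Module.finrank (ZMod 2) F0 = n := by
    have := Module.natCard_eq_pow_finrank (K := ZMod 2) (V := F0)
    rw [h0, Nat.card_zmod] at this
    rw [← Nat.pow_right_injective le_rfl this]
  rw [e1, Nat.card_congr (AddMonoidHom.toZModLinearMapEquiv 2).toEquiv,
    Module.natCard_eq_pow_finrank (K := ZMod 2), Module.finrank_linearMap, r1, r2, Nat.card_zmod]
  congr 1; ring

theorem Hs.card_aut {n : ℕ} (H : UF σ (2 ^ n)) :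
    Nat.card (MulAut (Hs σ)) = 2 ^ (2 * n ^ 2) * (2 * n * ((2 ^ n) ^ 2 - 1)) := by
  obtain ⟨α, hα⟩ := exists_alpha H.ne_id hs.out
  haveI := H.fin
  haveI := Fintype.ofFinite F
  have hF : Fintype.card F = 2 ^ (2 * n) := by rw [← Nat.card_eq_fintype_card, H.card, ← pow_mul, mul_comm]
  rw [← (Hs.kerA σ).card_mul_index, Hs.card_kerA H, ← card_ringAut8 hF, ← H.card, ← Nat.card_units, ← Nat.card_prod]
  congr 1
  symm
  choose f hf using fun p : (F ≃+* F) × Fˣ => Hs.exists_aut H.pow p.2.ne_zero p.1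
  refine Nat.card_eq_of_bijective (fun p => (QuotientGroup.mk (f p) : _ ⧸ Hs.kerA σ)) ⟨fun p r e => ?_, fun θ => ?_⟩
  · have h1 : ∀ y, (p.2 : F) * p.1 y = r.2 * r.1 y := by
      intro y
      have h2 := Hs.aut_y_eq hα (f p) (QuotientGroup.eq.1 e (Hs.lift hα y))
      rw [MulAut.mul_apply, MulAut.apply_inv_self, (hf _ _).1, (hf _ _).1] at h2
      exact h2.symm
    have h2 : p.2 = r.2 := Units.ext (by simpa using h1 1)
    refine Prod.ext (RingEquiv.ext fun y => ?_) h2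
    have := h1 y
    rw [h2] at this
    exact mul_left_cancel₀ r.2.ne_zero this
  · obtain ⟨θ, rfl⟩ := QuotientGroup.mk_surjective θ
    obtain ⟨l, hl, φ, h⟩ := Hs.aut_form hα θ
    refine ⟨(φ, Units.mk0 l hl), QuotientGroup.eq.2 fun a => ?_⟩
    have := Hs.aut_y_eq hα (f (φ, Units.mk0 l hl))⁻¹ (a := θ a) (b := f (φ, Units.mk0 l hl) a) (by rw [h, (hf _ _).1]; rfl)
    simpa using this

end CfsgH8
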