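import Cfsg.Agent.H3.Thompson
import Cfsg.Agent.H1.Frob2
import Cfsg.Agent.H2.BG0
import Cfsg.Agent.H8.Gleason
import Cfsg.Prelude.Def_LieExceptional

/-! Doubly transitive groups in which only the identity fixes three points. -/

set_option autoImplicit false
open Subgroup Cfsg CfsgH2 CfsgH1 CfsgH3 Function MulAction
open scoped commutatorElement

namespace CfsgH8.Za

/-- faithful, doubly transitive, only `1` fixes three points. -/
structure ZT (G Ω : Type*) [Group G] [MulAction G Ω] : Prop where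
  faith : ∀ g : G, (∀ x : Ω, g • x = x) → g = 1
  two : ∀ a b c d : Ω, a ≠ b → c ≠ d → ∃ g : G, g • a = c ∧ g • b = d
  three : ∀ (g : G) (a b c : Ω), a ≠ b → b ≠ c → a ≠ c → g • a = a → g • b = b → g • c = c → g = 1

/-- the two point stabiliser. -/
abbrev HH (G : Type*) {Ω : Type*} [Group G] [MulAction G Ω] (a b : Ω) : Subgroup G :=
  stabilizer G a ⊓ stabilizer G b

/-- `ZT` with a base pair and a normal subgroup of `G_a` regular on the other points. -/
structure ZK {G Ω : Type*} [Group G] [MulAction G Ω] (a b : Ω) (K : Subgroup G) : Prop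
    extends ZT G Ω where
  ne : a ≠ b
  le : ∀ k ∈ K, k • a = a
  nrm : ∀ g : G, g • a = a → ∀ k ∈ K, g * k * g⁻¹ ∈ K
  tr : ∀ y, y ≠ a → ∃ k ∈ K, k • b = y
  fr : ∀ k ∈ K, k • b = b → k = 1

variable {G Ω : Type*} [Group G] [MulAction G Ω] {a b : Ω} {K : Subgroup G}

theorem mem_HH {g : G} : g ∈ HH G a b ↔ g • a = a ∧ g • b = b := Iff.rfl

theorem ZT.of (h : IsZassenhausGroup G Ω) : ZT G Ω :=
  ⟨fun g hg => haveI := h.1; eq_of_smul_eq_smul (α := Ω) fun x => by rw [hg x, one_smul],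
    fun _ _ _ _ h1 h2 => is_two_pretransitive_iff.1 h.2.1 h1 h2, h.2.2.1⟩

namespace ZT

theorem faithful (h : ZT G Ω) : FaithfulSMul G Ω :=
  ⟨fun {g k} e => by
    have := h.faith (k⁻¹ * g) fun x => by rw [mul_smul, e, inv_smul_smul]
    rw [inv_mul_eq_one] at this
    exact this.symm⟩

theorem finite (h : ZT G Ω) [Finite Ω] : Finite G :=
  haveI := h.faithful
  Finite.of_injective _ (MulAction.toPerm_injective (α := G) (β := Ω))

theorem two' (h : ZT G Ω) : IsMultiplyPretransitive G Ω 2 :=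
  is_two_pretransitive_iff.2 fun h1 h2 => h.two _ _ _ _ h1 h2

theorem eq_of_three (h : ZT G Ω) {g k : G} {x y z : Ω} (h1 : x ≠ y) (h2 : y ≠ z) (h3 : x ≠ z)
    (e1 : g • x = k • x) (e2 : g • y = k • y) (e3 : g • z = k • z) : g = k := by
  have := h.three (k⁻¹ * g) x y z h1 h2 h3 (by rw [mul_smul, e1, inv_smul_smul])
    (by rw [mul_smul, e2, inv_smul_smul]) (by rw [mul_smul, e3, inv_smul_smul])
  rw [inv_mul_eq_one] at this
  exact this.symm

theorem trans (h : ZT G Ω) (x y : Ω) : ∃ g : G, g • x = y := by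
  by_cases e : x = y
  · exact ⟨1, by rw [one_smul, e]⟩
  · obtain ⟨g, h1, -⟩ := h.two x y y x e (Ne.symm e)
    exact ⟨g, h1⟩

theorem pretrans (h : ZT G Ω) : IsPretransitive G Ω := ⟨h.trans⟩

/-- a non-identity element of `H` fixes only `a` and `b`. -/
theorem fix_H (h : ZT G Ω) (hab : a ≠ b) {g : G} (hg : g ∈ HH G a b) (h1 : g ≠ 1) {c : Ω}
    (hc : g • c = c) : c = a ∨ c = b := by
  by_contra e
  push Not at e
  exact h1 (h.three g a b c hab (Ne.symm e.2) (Ne.symm e.1) hg.1 hg.2 hc)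

/-- an element conjugating a non-identity element of `H` into `H` preserves `{a, b}`. -/
theorem pres (h : ZT G Ω) (hab : a ≠ b) {x g : G} (hx : x ∈ HH G a b) (h1 : x ≠ 1)
    (hg : g * x * g⁻¹ ∈ HH G a b) : g ∈ HH G a b ∨ (g • a = b ∧ g • b = a) := by
  have h2 : g * x * g⁻¹ ≠ 1 := by
    intro e; apply h1; rwa [mul_inv_eq_one, mul_eq_left] at e
  have ea : (g * x * g⁻¹) • g • a = g • a := by rw [mul_smul, mul_smul, inv_smul_smul, hx.1]
  have eb : (g * x * g⁻¹) • g • b = g • b := by rw [mul_smul, mul_smul, inv_smul_smul, hx.2]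
  have hne : g • a ≠ g • b := fun e => hab (smul_left_cancel g e)
  rcases h.fix_H hab hg h2 ea with e1 | e1 <;> rcases h.fix_H hab hg h2 eb with e2 | e2
  · exact absurd (e1.trans e2.symm) hne
  · exact Or.inl ⟨e1, e2⟩
  · exact Or.inr ⟨e1, e2⟩
  · exact absurd (e1.trans e2.symm) hne

theorem card_HH (h : ZT G Ω) {c d : Ω} (hab : a ≠ b) (hcd : c ≠ d) :
    o[HH G c d] = o[HH G a b] := by
  obtain ⟨g, h1, h2⟩ := h.two a b c d hab hcd
  rw [← card_map_cj g (HH G a b)]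
  congr 2
  ext x
  rw [mem_map_cj, mem_HH, mem_HH, ← h1, ← h2]
  simp only [mul_smul, inv_smul_eq_iff]

/-- an element fixing two points is conjugate into `H`. -/
theorem conj_H (h : ZT G Ω) (hab : a ≠ b) {g : G} {c d : Ω} (hcd : c ≠ d) (h1 : g • c = c)
    (h2 : g • d = d) : ∃ x : G, x * g * x⁻¹ ∈ HH G a b := by
  obtain ⟨x, e1, e2⟩ := h.two c d a b hcd hab
  refine ⟨x, mem_HH.2 ⟨?_, ?_⟩⟩
  · rw [← e1, mul_smul, mul_smul, inv_smul_smul, h1]
  · rw [← e2, mul_smul, mul_smul, inv_smul_smul, h2]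

theorem dvd_of_fix (h : ZT G Ω) (hab : a ≠ b) {g : G} {c d : Ω} (hcd : c ≠ d) (h1 : g • c = c)
    (h2 : g • d = d) : orderOf g ∣ o[HH G a b] := by
  rw [← h.card_HH hab hcd]
  exact orderOf_dvd_of_mem (H := HH G c d) ⟨h1, h2⟩

theorem exists_inv [Finite G] (h : ZT G Ω) (hab : a ≠ b) : ∃ t : G, t ≠ 1 ∧ t * t = 1 := by
  obtain ⟨g, h1, h2⟩ := h.two a b b a hab hab.symm
  have hev : 2 ∣ orderOf g := by
    by_contra hodd
    obtain ⟨k, hk⟩ := Nat.not_even_iff_odd.mp (fun h => hodd h.two_dvd)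
    have hk2 : ∀ k : ℕ, g ^ (2 * k) • a = a := by
      intro k
      induction k with
      | zero => simp
      | succ k ih => rw [mul_add, pow_add, mul_smul, mul_one, pow_two, mul_smul, h1, h2, ih]
    have := pow_orderOf_eq_one g
    rw [hk, pow_succ'] at this
    apply hab
    rw [← h1, ← hk2 k, ← mul_smul, this, one_smul, hk2]
  have := Fact.mk Nat.prime_two
  obtain ⟨t, ht⟩ := exists_prime_orderOf_dvd_card' (G := G) 2 (hev.trans (orderOf_dvd_natCard g))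
  exact ⟨t, by rintro rfl; simp at ht, by rw [← pow_two, ← ht, pow_orderOf_eq_one]⟩

/-- a conjugate of a given involution swaps `a` and `b`. -/
theorem conj_swap (h : ZT G Ω) (hab : a ≠ b) {t : G} (h1 : t ≠ 1) (h2 : t * t = 1) :
    ∃ g : G, (g * t * g⁻¹) • a = b ∧ (g * t * g⁻¹) • b = a := by
  obtain ⟨x, hx⟩ : ∃ x : Ω, t • x ≠ x := by
    by_contra e
    push Not at e
    exact h1 (h.faith t e)
  have htt : t • t • x = x := by rw [← mul_smul, h2, one_smul]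
  obtain ⟨g, e1, e2⟩ := h.two _ _ _ _ hx.symm hab
  exact ⟨g, by rw [mul_smul, mul_smul, ← e1, inv_smul_smul, e2],
    by rw [mul_smul, mul_smul, ← e2, inv_smul_smul, htt, e1]⟩

theorem exists_swap [Finite G] (h : ZT G Ω) (hab : a ≠ b) :
    ∃ w : G, w * w = 1 ∧ w • a = b ∧ w • b = a := by
  obtain ⟨t, h1, h2⟩ := h.exists_inv hab
  obtain ⟨g, e1, e2⟩ := h.conj_swap hab h1 h2
  exact ⟨g * t * g⁻¹, by
    calc g * t * g⁻¹ * (g * t * g⁻¹) = g * (t * t) * g⁻¹ := by group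
      _ = 1 := by rw [h2]; group, e1, e2⟩

theorem sub (h : ZT G Ω) (N : Subgroup G)
    (h2 : ∀ a b c d : Ω, a ≠ b → c ≠ d → ∃ g ∈ N, g • a = c ∧ g • b = d) : ZT N Ω :=
  ⟨fun g hg => Subtype.ext (h.faith g hg), fun a b c d e1 e2 => by
    obtain ⟨g, hg, e⟩ := h2 a b c d e1 e2
    exact ⟨⟨g, hg⟩, e⟩, fun g a b c e1 e2 e3 e4 e5 e6 => Subtype.ext (h.three g a b c e1 e2 e3 e4 e5 e6)⟩

end ZT

theorem swap_conj {w x : G} (h1 : w • a = b) (h2 : w • b = a) (hx : x ∈ HH G a b) :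
    w * x * w⁻¹ ∈ HH G a b := by
  refine mem_HH.2 ⟨?_, ?_⟩ <;> rw [mul_smul, mul_smul]
  · rw [show w⁻¹ • a = b from inv_smul_eq_iff.2 h2.symm, hx.2, h2]
  · rw [show w⁻¹ • b = a from inv_smul_eq_iff.2 h1.symm, hx.1, h1]

theorem swap_swap {w v : G} (h1 : w • a = b) (h2 : w • b = a) (h3 : v • a = b) (h4 : v • b = a) :
    w⁻¹ * v ∈ HH G a b :=
  mem_HH.2 ⟨by rw [mul_smul, h3, inv_smul_eq_iff, h1], by rw [mul_smul, h4, inv_smul_eq_iff, h2]⟩

theorem swap_norm [Finite G] {w : G} (h1 : w • a = b) (h2 : w • b = a) : w ∈ N[HH G a b] :=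
  mem_norm_of_conj fun _ hx => swap_conj h1 h2 hx

local notation "L" => stabilizer G a
local notation "H" => HH G a b

namespace ZK

theorem le' (h : ZK a b K) : K ≤ L := h.le

theorem nrm' (h : ZK a b K) {g k : G} (hg : g • a = a) (hk : k ∈ K) : g⁻¹ * k * g ∈ K := by
  simpa using h.nrm g⁻¹ (inv_smul_eq_iff.2 hg.symm) k hk

theorem le_norm [Finite G] (h : ZK a b K) : L ≤ N[K] := fun g hg => mem_norm_of_conj (h.nrm g hg)

theorem smul_ne {g : G} (hg : g • a = a) {y : Ω} (hy : y ≠ a) : g • y ≠ a := fun e =>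
  hy (smul_left_cancel g (e.trans hg.symm))

theorem free (h : ZK a b K) {k : G} (hk : k ∈ K) {y : Ω} (hy : y ≠ a) (e : k • y = y) : k = 1 := by
  obtain ⟨l, hl, rfl⟩ := h.tr y hy
  have := h.fr (l⁻¹ * k * l) (mul_mem (mul_mem (inv_mem hl) hk) hl)
    (by rw [mul_smul, mul_smul, e, inv_smul_smul])
  rwa [mul_assoc, inv_mul_eq_one, eq_comm, mul_eq_right] at this

theorem inj (h : ZK a b K) {k l : G} (hk : k ∈ K) (hl : l ∈ K) {y : Ω} (hy : y ≠ a)
    (e : k • y = l • y) : k = l := by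
  have := h.free (mul_mem (inv_mem hl) hk) hy (by rw [mul_smul, e, inv_smul_smul])
  rw [inv_mul_eq_one] at this
  exact this.symm

theorem tr' (h : ZK a b K) {y z : Ω} (hy : y ≠ a) (hz : z ≠ a) : ∃ k ∈ K, k • y = z := by
  obtain ⟨l, hl, rfl⟩ := h.tr y hy
  obtain ⟨k, hk, rfl⟩ := h.tr z hz
  exact ⟨k * l⁻¹, mul_mem hk (inv_mem hl), by rw [mul_smul, inv_smul_smul]⟩

theorem fix (h : ZK a b K) {k : G} (hk : k ∈ K) (h1 : k ≠ 1) {y : Ω} (e : k • y = y) : y = a := by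
  by_contra hy
  exact h1 (h.free hk hy e)

/-- change of the second base point. -/
theorem rebase (h : ZK a b K) {c : Ω} (hc : c ≠ a) : ZK a c K :=
  { h.toZT with
    ne := hc.symm
    le := h.le
    nrm := h.nrm
    tr := fun _ hy => h.tr' hc hy
    fr := fun _ hk e => h.free hk hc e }

/-- transport along an element. -/
theorem conj (h : ZK a b K) (g : G) : ZK (g • a) (g • b) (K.map (cj g)) :=
  { h.toZT with
    ne := fun e => h.ne (smul_left_cancel g e)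
    le := fun k hk => by
      have := h.le _ (mem_map_cj.1 hk)
      rwa [mul_smul, mul_smul, inv_smul_eq_iff] at this
    nrm := fun x hx k hk => by
      rw [mem_map_cj] at hk ⊢
      have := h.nrm (g⁻¹ * x * g) (by rw [mul_smul, mul_smul, hx, inv_smul_smul]) _ hk
      convert this using 1
      group
    tr := fun y hy => by
      obtain ⟨k, hk, e⟩ := h.tr (g⁻¹ • y) (fun e => hy (inv_smul_eq_iff.1 e))
      exact ⟨g * k * g⁻¹, conj_mem_map_cj hk, by rw [mul_smul, mul_smul, inv_smul_smul, e, smul_inv_smul]⟩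
    fr := fun k hk e => by
      have := h.fr _ (mem_map_cj.1 hk) (by rw [mul_smul, mul_smul, e, inv_smul_smul])
      rwa [mul_assoc, inv_mul_eq_one, eq_comm, mul_eq_right] at this }

theorem of_reg (h : ZT G Ω) (hab : a ≠ b) (hle : K ≤ L)
    (hn : ∀ g ∈ L, ∀ k ∈ K, g * k * g⁻¹ ∈ K)
    (hreg : ∀ y z : Ω, y ≠ a → z ≠ a → ∃! u : K, (u : G) • y = z) : ZK a b K :=
  { h with
    ne := hab
    le := hle
    nrm := hn
    tr := fun y hy => by
      obtain ⟨u, hu, -⟩ := hreg b y hab.symm hy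
      exact ⟨u, u.2, hu⟩
    fr := fun k hk e => by
      obtain ⟨u, -, hu⟩ := hreg b b hab.symm hab.symm
      have := (hu ⟨k, hk⟩ e).trans (hu 1 (by simp)).symm
      exact congrArg Subtype.val this }

theorem of_reg' (h : ZT G Ω) (hab : a ≠ b) (hle : K ≤ L) (hn : (K.subgroupOf L).Normal)
    (hreg : ∀ y z : Ω, y ≠ a → z ≠ a → ∃! u : K, (u : G) • y = z) : ZK a b K :=
  of_reg h hab hle (fun g hg k hk => hn.conj_mem ⟨k, hle hk⟩ hk ⟨g, hg⟩) hreg

theorem dec (h : ZK a b K) {g : G} (hg : g • a = a) : ∃ k ∈ K, ∃ x ∈ H, g = k * x := by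
  obtain ⟨k, hk, e⟩ := h.tr (g • b) (smul_ne hg h.ne.symm)
  refine ⟨k, hk, k⁻¹ * g, mem_HH.2 ⟨?_, ?_⟩, by group⟩ <;> rw [mul_smul]
  · rw [hg, inv_smul_eq_iff, h.le k hk]
  · rw [← e, inv_smul_smul]

theorem sup (h : ZK a b K) : K ⊔ H = L :=
  le_antisymm (sup_le h.le' inf_le_left) fun g hg => by
    obtain ⟨k, hk, x, hx, rfl⟩ := h.dec hg
    exact mul_mem_sup hk hx

theorem disj (h : ZK a b K) : K ⊓ H = ⊥ :=
  eq_bot_iff.2 fun k hk => h.fr k hk.1 hk.2.2

theorem fpf (h : ZK a b K) {x k : G} (hx : x ∈ H) (h1 : x ≠ 1) (hk : k ∈ K) (e : k * x = x * k) :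
    k = 1 := by
  have : x • k • b = k • b := by rw [← mul_smul, ← e, mul_smul, hx.2]
  rcases h.toZT.fix_H h.ne hx h1 this with e | e
  · exact absurd e (smul_ne (h.le k hk) h.ne.symm)
  · exact h.fr k hk e

theorem fpf' (h : ZK a b K) {x : G} (hx : x ∈ H) (h1 : x ≠ 1) : K ⊓ C1[x] = ⊥ :=
  eq_bot_iff.2 fun _ hk => h.fpf hx h1 hk.1 (mem_centralizer_singleton_iff.1 hk.2)

theorem ker_ne (h : ZK a b K) (h0 : H ≠ ⊥) : K ≠ ⊥ := by
  rintro rfl
  apply h0
  refine eq_bot_iff.2 fun x hx => h.faith x fun y => ?_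
  by_cases hy : y = a
  · rw [hy]; exact hx.1
  · obtain ⟨k, hk, rfl⟩ := h.tr y hy
    rw [mem_bot.1 hk, one_smul]; exact hx.2

theorem frob [Finite G] (h : ZK a b K) (h0 : H ≠ ⊥) : Frob K H L :=
  ⟨inf_le_left.trans h.le_norm, h.sup, h.ker_ne h0, h0, fun _ hx h1 => h.fpf' hx h1⟩

theorem nil [Finite G] (h : ZK a b K) (h0 : H ≠ ⊥) : Nil[K] := frob_nilpotent (h.frob h0)

theorem card_Ω (h : ZK a b K) : Nat.card Ω = o[K] + 1 ∨ Infinite Ω := by
  classical
  cases finite_or_infinite Ω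
  · left
    have e : K ≃ {y : Ω // y ≠ a} := Equiv.ofBijective (fun k => ⟨k.1 • b, smul_ne (h.le k k.2) h.ne.symm⟩)
      ⟨fun k l e => Subtype.ext (h.inj k.2 l.2 h.ne.symm (congrArg Subtype.val e)), fun y => by
        obtain ⟨k, hk, e⟩ := h.tr y.1 y.2
        exact ⟨⟨k, hk⟩, Subtype.ext e⟩⟩
    rw [Nat.card_congr e, ← Nat.card_congr (Equiv.optionSubtypeNe a), Finite.card_option]
  · right; assumption

theorem finΩ [Finite G] (h : ZK a b K) : Finite Ω :=
  Finite.of_surjective (fun g : G => g • a) (h.toZT.trans a)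

theorem card_Ω' [Finite G] (h : ZK a b K) : Nat.card Ω = o[K] + 1 :=
  haveI := h.finΩ
  h.card_Ω.resolve_right (not_infinite_iff_finite.2 inferInstance)

theorem card_L [Finite G] (h : ZK a b K) : o[L] = o[K] * o[H] := by
  rw [← h.sup, card_sup_of_disj (Or.inr (inf_le_left.trans h.le_norm)) h.disj]

theorem card_G [Finite G] (h : ZK a b K) : Nat.card G = (o[K] + 1) * (o[K] * o[H]) := by
  haveI := h.toZT.pretrans
  rw [card_eq_mul_stabilizer a, h.card_Ω', h.card_L]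

theorem index_L [Finite G] (h : ZK a b K) : (L).index = o[K] + 1 := by
  haveI := h.toZT.pretrans
  rw [index_stabilizer_of_transitive, h.card_Ω']

theorem card_dvd [Finite G] (h : ZK a b K) : o[H] ∣ o[K] - 1 := by
  by_cases h0 : H = ⊥
  · rw [h0, card_bot]; exact one_dvd _
  · exact (h.frob h0).card_dvd

theorem card_dvd' [Finite G] (h : ZK a b K) {M : Subgroup G} (hM : M ≤ K) (hn : H ≤ N[M]) :
    o[H] ∣ o[M] - 1 := by
  by_cases h0 : H = ⊥
  · rw [h0, card_bot]; exact one_dvd _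
  by_cases h1 : M = ⊥
  · rw [h1, card_bot]; exact dvd_zero _
  exact ((h.frob h0).mono hM le_rfl hn h1 h0).card_dvd

theorem mem_L (h : ZK a b K) {k g : G} (hk : k ∈ K) (h1 : k ≠ 1) (hg : (g * k * g⁻¹) • a = a) :
    g • a = a := by
  have : k • g⁻¹ • a = g⁻¹ • a := by
    rw [mul_smul, mul_smul] at hg
    exact eq_inv_smul_iff.2 hg
  have := h.fix hk h1 this
  rw [inv_smul_eq_iff] at this
  exact this.symm

/-- elements of `L` outside `K` are conjugate under `K` into `H`. -/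
theorem conj_H [Finite G] (h : ZK a b K) {g : G} (hg : g • a = a) (hK : g ∉ K) :
    ∃ y ∈ K, ∃ x ∈ H, x ≠ 1 ∧ g = y * x * y⁻¹ := by
  by_cases h0 : H = ⊥
  · obtain ⟨k, hk, x, hx, rfl⟩ := h.dec hg
    rw [h0, mem_bot] at hx
    rw [hx, mul_one] at hK
    exact absurd hk hK
  · exact ((h.frob h0).mem_or_conj hg).resolve_left hK

theorem mem_K [Finite G] (h : ZK a b K) {g : G} (hg : g • a = a) (hf : ∀ y, g • y = y → y = a) :
    g ∈ K := by
  by_contra hK
  obtain ⟨y, hy, x, hx, -, rfl⟩ := h.conj_H hg hK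
  refine smul_ne (h.le y hy) h.ne.symm (hf _ ?_)
  rw [mul_smul, mul_smul, inv_smul_smul, hx.2]

theorem cent_le [Finite G] (h : ZK a b K) {k : G} (hk : k ∈ K) (h1 : k ≠ 1) : C1[k] ≤ K := by
  intro g hg
  rw [mem_centralizer_singleton_iff] at hg
  have ha : g • a = a := h.mem_L hk h1 (by rw [hg, mul_inv_cancel_right]; exact h.le k hk)
  by_contra hK
  obtain ⟨y, hy, x, hx, x1, rfl⟩ := h.conj_H ha hK
  have := h.fpf hx x1 (mul_mem (mul_mem (inv_mem hy) hk) hy)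
    (by calc y⁻¹ * k * y * x = y⁻¹ * (k * (y * x * y⁻¹)) * y := by group
      _ = _ := by rw [← hg]; group)
  apply h1
  rwa [mul_assoc, inv_mul_eq_one, eq_comm, mul_eq_right] at this

theorem norm_eq [Finite G] (h : ZK a b K) (h0 : K ≠ ⊥) : N[K] = L := by
  refine le_antisymm (fun g hg => ?_) h.le_norm
  obtain ⟨⟨k, hk⟩, h1⟩ := ne_bot_iff_exists_ne_one.1 h0
  exact h.mem_L hk (fun e => h1 (Subtype.ext e)) (h.le _ (conj_mem_of_norm hg hk))

theorem unique [Finite G] {K' : Subgroup G} (h : ZK a b K) (h' : ZK a b K') : K = K' := by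
  have key : ∀ {K K' : Subgroup G}, ZK a b K → ZK a b K' → K ≤ K' := by
    intro K K' h h' k hk
    by_cases h1 : k = 1
    · rw [h1]; exact one_mem _
    exact h'.mem_K (h.le k hk) fun y e => h.fix hk h1 e
  exact le_antisymm (key h h') (key h' h)

/-- Bruhat decomposition. -/
theorem bru (h : ZK a b K) {w g : G} (h1 : w • a = b) (hg : g • a ≠ a) :
    ∃ k ∈ K, ∃ l : G, l • a = a ∧ g = k * w * l := by
  obtain ⟨k, hk, e⟩ := h.tr _ hg
  refine ⟨k, hk, w⁻¹ * k⁻¹ * g, ?_, by group⟩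
  rw [mul_smul, mul_smul, ← e, inv_smul_smul, inv_smul_eq_iff, h1]

theorem induction (h : ZK a b K) {w : G} (h1 : w • a = b) {P : G → Prop}
    (hm : ∀ x y, P x → P y → P (x * y)) (hK : ∀ k ∈ K, P k) (hH : ∀ x ∈ H, P x) (hw : P w)
    (g : G) : P g := by
  have hL : ∀ g : G, g • a = a → P g := fun g hg => by
    obtain ⟨k, hk, x, hx, rfl⟩ := h.dec hg
    exact hm _ _ (hK k hk) (hH x hx)
  by_cases hg : g • a = a
  · exact hL g hg
  · obtain ⟨k, hk, l, hl, rfl⟩ := h.bru h1 hg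
    exact hm _ _ (hm _ _ (hK k hk) hw) (hL l hl)

theorem eq_top (h : ZK a b K) {N : Subgroup G} (hK : K ≤ N) (hH : H ≤ N) {g : G} (hg : g ∈ N)
    (ha : g • a ≠ a) : N = ⊤ := by
  obtain ⟨k, hk, e⟩ := h.tr' ha h.ne.symm
  refine eq_top_iff.2 fun x _ => ?_
  exact h.induction (w := k * g) (by rw [mul_smul, e]) (P := fun x => x ∈ N) (fun _ _ => mul_mem)
    hK hH (mul_mem (hK hk) hg) x

end ZK

theorem ZT.exists_K [Finite G] (h : ZT G Ω) (hab : a ≠ b) : ∃ K : Subgroup G, ZK a b K := by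
  have htr : ∀ y, y ≠ a → ∃ g ∈ L, g • b = y := fun y hy => by
    obtain ⟨g, e1, e2⟩ := h.two a b a y hab hy.symm
    exact ⟨g, e1, e2⟩
  by_cases h0 : H = ⊥
  · refine ⟨L, h, hab, fun _ hk => hk, fun g hg k hk => mul_mem (mul_mem hg hk) (inv_mem hg), htr,
      fun k hk e => ?_⟩
    rw [← mem_bot, ← h0]; exact ⟨hk, e⟩
  have hlt : H < L := by
    refine lt_of_le_of_ne inf_le_left fun e => h0 ?_
    refine eq_bot_iff.2 fun x hx => h.faith x fun y => ?_
    by_cases hy : y = a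
    · rw [hy]; exact hx.1
    · obtain ⟨g, hg, rfl⟩ := htr y hy
      rw [← e] at hg
      rw [hg.2]; exact hx.2
  obtain ⟨K, hK⟩ := exists_frob_of_ti hlt h0 fun g hg hgH => eq_bot_iff.2 fun x hx => by
    by_contra h1
    have h2 := mem_map_cj.1 hx.2
    rcases h.pres hab hx.1 h1 (g := g⁻¹) (by rwa [inv_inv]) with e | e
    · exact hgH (inv_mem_iff.1 e)
    · exact hab ((inv_mem hg : g⁻¹ ∈ L).symm.trans e.1)
  refine ⟨K, h, hab, hK.ker_le, fun g hg k hk => conj_mem_of_norm (hK.le_norm hg) hk, fun y hy => ?_,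
    fun k hk e => ?_⟩
  · obtain ⟨g, hg, rfl⟩ := htr y hy
    rw [← hK.sup, mem_sup_of_norm' hK.norm] at hg
    obtain ⟨k, hk, x, hx, rfl⟩ := hg
    exact ⟨k, hk, by rw [mul_smul, hx.2]⟩
  · rw [← mem_bot, ← hK.disj]; exact ⟨hk, hK.ker_le hk, e⟩

theorem HH_ne (h : IsZassenhausGroup G Ω) (hab : a ≠ b) : H ≠ ⊥ := by
  obtain ⟨g, h1, c, d, hcd, e1, e2⟩ := h.2.2.2.1
  obtain ⟨x, hx⟩ := (ZT.of h).conj_H hab hcd e1 e2
  intro e
  rw [e, mem_bot, mul_inv_eq_one, mul_eq_left] at hx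
  exact h1 hx

theorem exists_pair (h : IsZassenhausGroup G Ω) : ∃ a b : Ω, a ≠ b := by
  obtain ⟨g, h1, c, d, hcd, -⟩ := h.2.2.2.1
  exact ⟨c, d, hcd⟩

theorem exists_ne (h : IsZassenhausGroup G Ω) (a : Ω) : ∃ b : Ω, a ≠ b := by
  obtain ⟨c, d, hcd⟩ := exists_pair h
  by_cases e : a = c
  · exact ⟨d, e ▸ hcd⟩
  · exact ⟨c, e⟩

end CfsgH8.Za
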