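import Cfsg.Agent.H8.Za9

/-! Coordinates on a Suzuki `2`-group of type A, and the equations forced by a Zassenhaus group. -/

set_option autoImplicit false
open Subgroup Cfsg CfsgH2 CfsgH1 CfsgH3 CfsgRO Function MulAction
open scoped commutatorElement

namespace CfsgH8.Za

/-- the group of type A -/
@[ext] structure TA {F : Type*} [Field F] (φ : F ≃+* F) where
  x : F
  y : F

section ta
variable {F : Type*} [Field F] {φ : F ≃+* F}

instance instMulTA : Mul (TA φ) := ⟨fun u v => ⟨u.x + v.x, u.y + v.y + φ u.x * v.x⟩⟩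
instance instOneTA : One (TA φ) := ⟨⟨0, 0⟩⟩
instance instInvTA : Inv (TA φ) := ⟨fun u => ⟨-u.x, φ u.x * u.x - u.y⟩⟩
@[simp] theorem TA.mul_x (u v : TA φ) : (u * v).x = u.x + v.x := rfl
@[simp] theorem TA.mul_y (u v : TA φ) : (u * v).y = u.y + v.y + φ u.x * v.x := rfl
@[simp] theorem TA.one_x : (1 : TA φ).x = 0 := rfl
@[simp] theorem TA.one_y : (1 : TA φ).y = 0 := rfl
@[simp] theorem TA.inv_x (u : TA φ) : u⁻¹.x = -u.x := rfl
@[simp] theorem TA.inv_y (u : TA φ) : u⁻¹.y = φ u.x * u.x - u.y := rfl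

instance instGroupTA : Group (TA φ) := Group.ofLeftAxioms
  (fun _ _ _ => by ext <;> simp <;> ring) (fun _ => by ext <;> simp) (fun _ => by ext <;> simp)

instance instFiniteTA [Finite F] : Finite (TA φ) :=
  Finite.of_injective (fun u : TA φ => (u.x, u.y)) fun _ _ e => TA.ext (congrArg Prod.fst e) (congrArg Prod.snd e)

variable {G : Type*} [Group G] [Finite G] [Finite F] [CharP F 2] {D P E : Subgroup G} {c m cE l : G → F}

theorem exists_b0 (h1 : Co D P E c m) (h2 : Co D E ⊥ cE l) (hc : E ≤ C[P])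
    (hq : ∀ u ∈ P, cE (u * u) = c u * φ (c u)) :
    ∃ b : G → F, (∀ x ∈ P, ∀ y ∈ P, b (x * y) = b x + b y + φ (c x) * c y) ∧ ∀ z ∈ E, b z = cE z := by
  let Hh : Subgroup (G × TA φ) :=
    { carrier := {p | p.1 ∈ P ∧ p.2.x = c p.1}
      mul_mem' := fun {p q} hp hq => ⟨mul_mem hp.1 hq.1, by simp [h1.add _ hp.1 _ hq.1, hp.2, hq.2]⟩
      one_mem' := ⟨one_mem _, h1.one.symm⟩
      inv_mem' := fun {p} hp => ⟨inv_mem hp.1, by simp [h1.inv hp.1, hp.2]⟩ }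
  let Δ : Subgroup (G × TA φ) :=
    { carrier := {p | p.1 ∈ E ∧ p.2.x = 0 ∧ p.2.y = cE p.1}
      mul_mem' := fun {p q} hp hq => ⟨mul_mem hp.1 hq.1, by simp [hp.2, hq.2],
        by simp [h2.add _ hp.1 _ hq.1, hp.2, hq.2]⟩
      one_mem' := ⟨one_mem _, rfl, h2.one.symm⟩
      inv_mem' := fun {p} hp => ⟨inv_mem hp.1, by simp [hp.2], by simp [h2.inv hp.1, hp.2]⟩ }
  let N : Subgroup (G × TA φ) :=
    { carrier := {p | p.1 = 1 ∧ p.2.x = 0}
      mul_mem' := fun {p q} hp hq => ⟨by simp [hp.1, hq.1], by simp [hp.2, hq.2]⟩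
      one_mem' := ⟨rfl, rfl⟩
      inv_mem' := fun {p} hp => ⟨by simp [hp.1], by simp [hp.2]⟩ }
  have nΔ : Hh ≤ N[Δ] := le_norm_of_le_cent fun x hx => mem_cent_iff.2 fun z hz =>
    Prod.ext (mem_cent_iff.1 (hc hz.1) _ hx.1).symm (by ext <;> simp [hz.2.1, add_comm])
  have sq : ∀ x ∈ Hh, x * x ∈ Δ := fun x hx =>
    ⟨h1.sq hx.1, by simp [CharTwo.add_self_eq_zero], by simp [hq _ hx.1, hx.2, CharTwo.add_self_eq_zero, mul_comm]⟩
  have ΔH : Δ ≤ Hh := fun z hz => ⟨h1.le hz.1, hz.2.1.trans (h1.zero hz.1).symm⟩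
  have NH : N ≤ Hh := fun z hz => ⟨hz.1 ▸ one_mem _, by rw [hz.1, h1.one]; exact hz.2⟩
  obtain ⟨M, m1, m2⟩ := exists_compl_of_elem Nat.prime_two (E := qt Δ Hh) (A := qt Δ N)
    ⟨(isMulComm_qt_iff nΔ).2 (commutator_le.2 fun _ hu _ hv => comm_mem_of_sq sq hu hv),
      pow_eq_one_qt fun a ha _ => by rw [pow_two]; exact sq a ha⟩ (qt_mono NH)
  obtain ⟨M, a1, a2, rfl⟩ := exists_qt_eq M
  rw [← qt_inf a1, qt_eq_bot (inf_le_right.trans a2)] at m1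
  rw [← qt_sup (NH.trans nΔ) a2, qt_inj (sup_le (NH.trans nΔ) a2) nΔ (a1.trans le_sup_right) ΔH] at m2
  have MH : M ≤ Hh := m2 ▸ le_sup_right
  have ex : ∀ x ∈ P, ∃ y, (x, (⟨c x, y⟩ : TA φ)) ∈ M := fun x hx => by
    have : (x, (⟨c x, 0⟩ : TA φ)) ∈ Hh := ⟨hx, rfl⟩
    rw [← m2, mem_sup_of_norm' (le_norm_of_le_cent fun x _ => mem_cent_iff.2 fun z hz =>
      Prod.ext (by simp [hz.1]) (by ext <;> simp [hz.2, add_comm]))] at this
    obtain ⟨n, hn, p, hp, e⟩ := this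
    have e1 : p.1 = x := by simpa [hn.1] using congrArg Prod.fst e
    exact ⟨p.2.y, by convert hp using 1; exact Prod.ext e1.symm (TA.ext (e1 ▸ (MH hp).2.symm) rfl)⟩
  have un : ∀ x y y', (x, (⟨c x, y⟩ : TA φ)) ∈ M → (x, (⟨c x, y'⟩ : TA φ)) ∈ M → y = y' := fun x y y' e e' => by
    have := (m1 (mem_inf.2 ⟨⟨by simp, by simp⟩, mul_mem (inv_mem e) e'⟩)).2.2
    simp only [Prod.mul_def, Prod.inv_mk, inv_mul_cancel, h2.one, TA.mul_y, TA.inv_y, TA.inv_x, map_neg] at this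
    linear_combination -this
  choose! b hb using ex
  refine ⟨b, fun x hx y hy => un _ _ _ (hb _ (mul_mem hx hy)) ?_, fun z hz => un _ _ _ (hb _ (h1.le hz)) ?_⟩
  · convert mul_mem (hb x hx) (hb y hy) using 1
    exact Prod.ext rfl (TA.ext (h1.add _ hx _ hy) rfl)
  · exact a1 ⟨hz, h1.zero hz, rfl⟩

end ta

variable {G F : Type*} [Group G] [Field F] {D Q E : Subgroup G} {φ : F ≃+* F} {c b m : G → F} {t s r : G}

/-- equivariant coordinates on a Suzuki `2`-group of type A -/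
structure SC (D Q : Subgroup G) (φ : F ≃+* F) (c b m : G → F) : Prop where
  nQ : ∀ k ∈ D, ∀ x ∈ Q, k * x * k⁻¹ ∈ Q
  ca : ∀ x ∈ Q, ∀ y ∈ Q, c (x * y) = c x + c y
  ba : ∀ x ∈ Q, ∀ y ∈ Q, b (x * y) = b x + b y + φ (c x) * c y
  ext : ∀ x ∈ Q, ∀ y ∈ Q, c x = c y → b x = b y → x = y
  sur : ∀ u v, ∃ x ∈ Q, c x = u ∧ b x = v
  cc : ∀ k ∈ D, ∀ x ∈ Q, c (k * x * k⁻¹) = m k * c x
  bc : ∀ k ∈ D, ∀ x ∈ Q, b (k * x * k⁻¹) = m k * φ (m k) * b x
  ms : ∀ z, z ≠ 0 → ∃ k ∈ D, m k = z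
  mi : ∀ k ∈ D, m k * φ (m k) = 1 → k = 1
  φne : φ ≠ 1
  φodd : Odd (orderOf φ)

theorem exists_SC [Finite G] [Finite F] (h : SZE Q D E) (hn : ¬ Ab[Q]) (hc : o[Q] = o[E] ^ 2)
    (hF : Nat.card F = o[E]) : ∃ (φ : F ≃+* F) (c b m : G → F), SC D Q φ c b m := by
  classical
  haveI := h.charP hF
  obtain ⟨c, m, cE, l, φ, h1, h2, h3, h4, h5, h6⟩ := h.typeA hF le_rfl (h.ir_of_relIndex le_rfl h.le h.nE h.nP h.kE
    (Nat.eq_of_mul_eq_mul_left (card_pos' E) (by rw [CfsgH2.card_mul_relIndex h.le, hc, pow_two]))) hn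
  obtain ⟨b₀, e1, e2⟩ := exists_b0 h1 h2 h.cent h6
  haveI := Fintype.ofFinite G
  have nQ : ∀ k ∈ D, ∀ x ∈ Q, k * x * k⁻¹ ∈ Q := fun k hk x hx => conj_mem_of_norm (h.nP hk) hx
  have cD : (Fintype.card D : F) = 1 := by
    obtain ⟨n, h7, h8⟩ := h.card_E
    have := congrArg (Nat.cast : ℕ → F) (h.card_K.trans h8)
    rw [Nat.cast_pow, Nat.cast_ofNat, CharTwo.two_eq_zero, zero_pow (by omega), Nat.cast_add, Nat.cast_one,
      Nat.card_eq_fintype_card] at this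
    exact CharTwo.add_eq_zero.1 this
  let b : G → F := fun x => ∑ k : D, (l k)⁻¹ * b₀ (k * x * (k : G)⁻¹)
  have ba : ∀ x ∈ Q, ∀ y ∈ Q, b (x * y) = b x + b y + φ (c x) * c y := fun x hx y hy => by
    rw [← one_mul (φ (c x) * c y), ← cD, ← Finset.card_univ, ← nsmul_eq_mul, ← Finset.sum_const,
      ← Finset.sum_add_distrib, ← Finset.sum_add_distrib]
    refine Finset.sum_congr rfl fun k _ => ?_
    have := h1.lne k.2
    have := (map_ne_zero φ).2 this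
    rw [← conj_mul, e1 _ (nQ k k.2 x hx) _ (nQ k k.2 y hy), h1.conj k k.2 x hx, h1.conj k k.2 y hy, map_mul,
      h5 k k.2]
    field_simp
  have bE : ∀ z ∈ E, b z = cE z := fun z hz => by
    rw [← one_mul (cE z), ← cD, ← Finset.card_univ, ← nsmul_eq_mul, ← Finset.sum_const]
    exact Finset.sum_congr rfl fun k _ => by
      rw [e2 _ (conj_mem_of_norm (h.kE k.2) hz), h2.conj k k.2 z hz, inv_mul_cancel_left₀ (h2.lne k.2)]
  refine ⟨φ, c, b, m, nQ, h1.add, ba, fun x hx y hy a1 a2 => ?_, fun u v => ?_, h1.conj, fun j hj x hx => ?_,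
    h1.lsurj, fun k hk e => h2.linj k hk ((h5 k hk).trans e), h3, h4⟩
  · have a3 := (h1.eq_iff hx hy).1 a1
    have := ba x hx _ (h.le a3)
    rw [mul_inv_cancel_left, h1.zero a3, a2, bE _ a3, mul_zero, add_zero, left_eq_add, h2.ker _ a3, mem_bot] at this
    exact inv_mul_eq_one.1 this
  · obtain ⟨x, hx, rfl⟩ := h1.surj u
    obtain ⟨z, hz, e⟩ := h2.surj (v - b x)
    exact ⟨x * z, mul_mem hx (h.le hz), by rw [h1.add _ hx _ (h.le hz), h1.zero hz, add_zero], by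
      rw [ba _ hx _ (h.le hz), h1.zero hz, bE z hz, e]; ring⟩
  · rw [← h5 j hj, Finset.mul_sum]
    refine Fintype.sum_equiv (Equiv.mulRight (⟨j, hj⟩ : D)) _ _ fun k => ?_
    have := h2.lne hj
    have := h2.lne k.2
    simp only [Equiv.coe_mulRight, coe_mul, h2.lmul k.2 hj, mul_inv_rev, mul_assoc]
    field_simp

namespace SC

theorem c1 (h : SC D Q φ c b m) : c 1 = 0 := by simpa using h.ca 1 (one_mem _) 1 (one_mem _)
theorem b1 (h : SC D Q φ c b m) : b 1 = 0 := by simpa [h.c1] using h.ba 1 (one_mem _) 1 (one_mem _)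

theorem mm (h : SC D Q φ c b m) {k j : G} (hk : k ∈ D) (hj : j ∈ D) : m (k * j) = m k * m j := by
  obtain ⟨x, hx, e, -⟩ := h.sur 1 0
  have := h.cc _ (mul_mem hk hj) x hx
  rw [show k * j * x * (k * j)⁻¹ = k * (j * x * j⁻¹) * k⁻¹ by group, h.cc k hk _ (h.nQ j hj x hx), h.cc j hj x hx,
    e] at this
  simpa using this.symm

theorem m1 (h : SC D Q φ c b m) : m 1 = 1 := by
  obtain ⟨x, hx, e, -⟩ := h.sur 1 0
  simpa [e] using (h.cc 1 (one_mem _) x hx).symm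

theorem minv (h : SC D Q φ c b m) {k : G} (hk : k ∈ D) : m k⁻¹ = (m k)⁻¹ :=
  eq_inv_of_mul_eq_one_left (by rw [← h.mm (inv_mem hk) hk, inv_mul_cancel, h.m1])

theorem m0 (h : SC D Q φ c b m) {k : G} (hk : k ∈ D) : m k ≠ 0 :=
  left_ne_zero_of_mul_eq_one (by rw [← h.mm hk (inv_mem hk), mul_inv_cancel, h.m1])

theorem n_inj (h : SC D Q φ c b m) : Injective fun x => x * φ x := fun x y e => by
  simp only at e
  by_cases hy : y = 0
  · simpa [hy] using e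
  have hy' := (map_ne_zero φ).2 hy
  obtain ⟨k, hk, e'⟩ := h.ms (x / y) (div_ne_zero (by rintro rfl; simp [hy] at e) hy)
  rw [h.mi k hk (by rw [e', map_div₀, div_mul_div_comm, e, div_self (mul_ne_zero hy hy')]), h.m1] at e'
  exact (div_eq_one_iff_eq hy).1 e'.symm

theorem ns [Finite F] (h : SC D Q φ c b m) {z : F} (hz : z ≠ 0) : ∃ k ∈ D, m k * φ (m k) = z := by
  obtain ⟨x, e⟩ := Finite.surjective_of_injective h.n_inj z
  obtain ⟨k, hk, rfl⟩ := h.ms x (by rintro rfl; simp at e; exact hz e.symm)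
  exact ⟨k, hk, e⟩

theorem scale (h : SC D Q φ c b m) {α : F} (h0 : α ≠ 0) :
    SC D Q φ (fun x => α * c x) (fun x => α * φ α * b x) m := by
  have h1 := mul_ne_zero h0 ((map_ne_zero φ).2 h0)
  refine ⟨h.nQ, fun x hx y hy => by rw [h.ca x hx y hy, mul_add], fun x hx y hy => by
    rw [h.ba x hx y hy, map_mul]; ring, fun x hx y hy e e' => h.ext x hx y hy (mul_left_cancel₀ h0 e)
    (mul_left_cancel₀ h1 e'), fun u v => ?_, fun k hk x hx => by rw [h.cc k hk x hx]; ring,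
    fun k hk x hx => by rw [h.bc k hk x hx]; ring, h.ms, h.mi, h.φne, h.φodd⟩
  obtain ⟨x, hx, e, e'⟩ := h.sur (α⁻¹ * u) ((α * φ α)⁻¹ * v)
  exact ⟨x, hx, by rw [e, mul_inv_cancel_left₀ h0], by rw [e', mul_inv_cancel_left₀ h1]⟩

theorem flip [CharP F 2] (h : SC D Q φ c b m) :
    SC D Q φ.symm (fun x => φ (c x)) (fun x => b x + c x * φ (c x)) (fun k => φ (m k)) := by
  refine ⟨h.nQ, fun x hx y hy => by rw [h.ca x hx y hy, map_add], fun x hx y hy => ?_,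
    fun x hx y hy e e' => h.ext x hx y hy (φ.injective e) (by simpa [φ.injective e] using e'), fun u v => ?_,
    fun k hk x hx => by rw [h.cc k hk x hx, map_mul], fun k hk x hx => ?_, fun z hz => ?_,
    fun k hk e => h.mi k hk (by simpa [mul_comm] using e), fun e => h.φne (inv_eq_one.1 e),
    (orderOf_inv φ).symm ▸ h.φodd⟩
  · rw [h.ba x hx y hy, h.ca x hx y hy, map_add, φ.symm_apply_apply]
    linear_combination (φ (c x) * c y) * CharTwo.two_eq_zero (R := F)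
  · obtain ⟨x, hx, e, e'⟩ := h.sur (φ.symm u) (v - φ.symm u * u)
    exact ⟨x, hx, by simp [e], by simp [e, e']⟩
  · rw [h.bc k hk x hx, h.cc k hk x hx, map_mul, φ.symm_apply_apply]; ring
  · obtain ⟨k, hk, e⟩ := h.ms (φ.symm z) ((map_ne_zero _).2 hz)
    exact ⟨k, hk, by simp [e]⟩

end SC

theorem str_r (tt : t * t = 1) (e : t * s * t = r⁻¹ * t * r) : t * r * t = r * t * s := by
  calc t * r * t = r * (r⁻¹ * t * r) * t := by group
    _ = r * t * s * (t * t) := by rw [← e]; group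
    _ = _ := by rw [tt, mul_one]

theorem str_rel (tt : t * t = 1) (ss : s * s = 1) (e : t * s * t = r⁻¹ * t * r) {k : G} (hk : t * k * t = k⁻¹) :
    t * (r * (k * s * k⁻¹)) = r * k * (t * (r * (k * s * k⁻¹))⁻¹) * (t * (r * k) * t) := by
  have e1 := str_r tt e
  have e2 : k * t * k = t := by
    calc k * t * k = k * (t * k * t) * t⁻¹ := by group
      _ = t := by rw [hk, mul_inv_cancel, one_mul, inv_eq_of_mul_eq_one_right tt]
  have e3 : t * k⁻¹ * t = k := by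
    rw [← inv_inj, mul_inv_rev, mul_inv_rev, inv_eq_of_mul_eq_one_right tt, inv_inv, ← mul_assoc, hk]
  calc t * (r * (k * s * k⁻¹)) = (t * r * t) * (t * t)⁻¹ * (t * k * t) * (t * t)⁻¹ * (t * s * t) * (t * t)⁻¹ *
        (t * k⁻¹ * t) * t⁻¹ := by group
    _ = r * t * s * k⁻¹ * (r⁻¹ * t * r) * k * t := by
        rw [tt, e1, hk, e, e3, inv_eq_of_mul_eq_one_right tt]; group
    _ = r * (k * t * k) * s⁻¹ * k⁻¹ * (r⁻¹ * t * r) * k * t := by rw [e2, inv_eq_of_mul_eq_one_right ss]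
    _ = _ := by group

theorem str_X (tt : t * t = 1) (ss : s * s = 1) (e : t * s * t = r⁻¹ * t * r) {i j k : G} (hi : t * i * t = i⁻¹)
    (hj : t * j * t = j⁻¹) (hk : t * k * t = k⁻¹) (h : k * s * k⁻¹ * (i * s * i⁻¹) = j * s * j⁻¹) :
    t * (k⁻¹ * r * k * (i⁻¹ * r⁻¹ * i)) = k * r * k⁻¹ * (k * k * j⁻¹ * r⁻¹ * (k * k * j⁻¹)⁻¹) * (k * k * j⁻¹) *
      t * (r * j * i⁻¹ * r⁻¹ * i⁻¹) * t := by
  have e1 := str_r tt e
  have ti := inv_eq_of_mul_eq_one_right tt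
  have iv : ∀ {x y : G}, t * x * t = y → t * x⁻¹ * t = y⁻¹ := fun {x y} e => by
    rw [← e, mul_inv_rev, mul_inv_rev, ti, mul_assoc]
  calc _ = (t * k⁻¹ * t) * (t * t)⁻¹ * (t * r * t) * (t * t)⁻¹ * (t * k * t) * (t * t)⁻¹ * (t * i⁻¹ * t) *
        (t * t)⁻¹ * (t * r⁻¹ * t) * (t * t)⁻¹ * (t * i * t) * t⁻¹ := by group
    _ = k * r * t * k⁻¹ * (k * s * k⁻¹ * (i * s⁻¹ * i⁻¹)) * i * t⁻¹ * r⁻¹ * i⁻¹ * t⁻¹ := by
        rw [iv hk, iv hi, iv e1, tt, e1, hk, hi]; group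
    _ = k * r * (t * k⁻¹ * t) * (t * t)⁻¹ * (t * j * t) * (t * t)⁻¹ * (t * s * t) * (t * t)⁻¹ * (t * j⁻¹ * t) *
        (t * t)⁻¹ * (t * i * t) * (t * t)⁻¹ * r⁻¹ * i⁻¹ * t⁻¹ := by
        rw [inv_eq_of_mul_eq_one_right ss, h]; group
    _ = _ := by rw [iv hk, iv hj, hi, hj, e, tt, ti]; group

variable {Ω : Type*} [MulAction G Ω] {α β : Ω}

/-- coordinates normalised by the structure equation -/
structure SN (α β : Ω) (Q : Subgroup G) (t s r : G) (φ : F ≃+* F) (c b m : G → F) : Prop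
    extends ZI α β Q t, SC (HH G α β) Q φ c b m where
  sQ : s ∈ Q
  rQ : r ∈ Q
  ss : s * s = 1
  str : t * s * t = r⁻¹ * t * r
  cr : c r = 1
  cs : c s = 0
  bs : b s = 1

namespace SN
variable [CharP F 2]

omit [CharP F 2] in
theorem tk (h : SN α β Q t s r φ c b m) {k : G} (hk : k ∈ HH G α β) : t * k * t = k⁻¹ := by
  rw [← h.inv k hk, inv_eq_of_mul_eq_one_right h.ww]

omit [CharP F 2] in
theorem tkb (h : SN α β Q t s r φ c b m) {k : G} (hk : k ∈ HH G α β) (x : G) :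
    t • (k⁻¹ * x * k) • β = k • t • x • β := by
  rw [mul_smul, hk.2, mul_smul, ← mul_smul t, ← mul_smul k, ← h.tk hk, ← mul_assoc, ← mul_assoc, h.ww,
    one_mul]

theorem flip (h : SN α β Q t s r φ c b m) :
    SN α β Q t s r φ.symm (fun x => φ (c x)) (fun x => b x + c x * φ (c x)) (fun k => φ (m k)) :=
  ⟨h.toZI, h.toSC.flip, h.sQ, h.rQ, h.ss, h.str, by simp [h.cr], by simp [h.cs], by simp [h.cs, h.bs]⟩

theorem cinv (h : SN α β Q t s r φ c b m) : c r⁻¹ = 1 ∧ b r⁻¹ = b r + 1 := by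
  have e1 := h.ca r h.rQ _ (inv_mem h.rQ)
  have e2 := h.ba r h.rQ _ (inv_mem h.rQ)
  rw [mul_inv_cancel, h.toSC.c1, h.cr, eq_comm, CharTwo.add_eq_zero] at e1
  rw [mul_inv_cancel, h.toSC.b1, h.cr, ← e1] at e2
  exact ⟨e1.symm, by grind⟩

theorem rel (h : SN α β Q t s r φ c b m) {k y : G} (hk : k ∈ HH G α β) (hy : y ∈ Q) (h1 : c y = 1)
    (h2 : b y = b r + m k * φ (m k)) : t • y • β = (r * k) • t • y⁻¹ • β := by
  have : y = r * (k * s * k⁻¹) := h.ext _ hy _ (mul_mem h.rQ (h.nQ k hk s h.sQ))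
    (by rw [h.ca _ h.rQ _ (h.nQ k hk s h.sQ), h.cc k hk s h.sQ, h1, h.cr, h.cs]; simp)
    (by rw [h.ba _ h.rQ _ (h.nQ k hk s h.sQ), h.cc k hk s h.sQ, h.bc k hk s h.sQ, h2, h.cs, h.bs]; simp)
  rw [← mul_smul, this, str_rel h.ww h.ss h.str (h.tk hk)]
  simp only [mul_smul]
  rw [h.wb, hk.1, h.le r h.rQ, h.wa]

theorem star [Finite F] (h : SN α β Q t s r φ c b m) {x y z : F} (x0 : x ≠ 0) (y0 : y ≠ 0) (z0 : z ≠ 0)
    (e : x * φ x + y * φ y + z * φ z = 0) :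
    (z * φ z + z * φ x + b r * (x * φ z + z * φ x)) * (x * φ x) * ((x + y) * φ (x + y)) =
      (z * φ z) ^ 2 * ((x + y + z) * φ (x + y + z)) := by
  have key : ∀ i ∈ HH G α β, ∀ j ∈ HH G α β, ∀ k ∈ HH G α β,
      m i * φ (m i) + m j * φ (m j) + m k * φ (m k) = 0 → ∃ g ∈ Q, c g = m k + m k * m k * (m j)⁻¹ ∧
      t • (k⁻¹ * r * k * (i⁻¹ * r⁻¹ * i)) • β = g • β := fun i hi j hj k hk e => by
    have h3 := mul_mem (mul_mem hk hk) (inv_mem hj)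
    have q1 := h.nQ k hk _ h.sQ
    have q2 := h.nQ i hi _ h.sQ
    refine ⟨_, mul_mem (h.nQ k hk _ h.rQ) (h.nQ _ h3 _ (inv_mem h.rQ)), ?_, ?_⟩
    · rw [h.ca _ (h.nQ k hk _ h.rQ) _ (h.nQ _ h3 _ (inv_mem h.rQ)), h.cc k hk _ h.rQ, h.cc _ h3 _ (inv_mem h.rQ),
        h.cr, h.cinv.1, h.toSC.mm (mul_mem hk hk) (inv_mem hj), h.toSC.mm hk hk, h.toSC.minv hj, mul_one, mul_one]
    · rw [← mul_smul, str_X h.ww h.ss h.str (h.tk hi) (h.tk hj) (h.tk hk) (h.ext _ (mul_mem q1 q2) _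
        (h.nQ j hj _ h.sQ) (by simp [h.ca _ q1 _ q2, h.cc, hi, hj, hk, h.sQ, h.cs]) (by
          rw [h.ba _ q1 _ q2, h.cc i hi _ h.sQ, h.bc i hi _ h.sQ, h.bc j hj _ h.sQ, h.bc k hk _ h.sQ, h.cs, h.bs]
          grind)), mul_smul, h.wb, mul_smul, show (r * j * i⁻¹ * r⁻¹ * i⁻¹) • α = α from
          mul_mem (mul_mem (mul_mem (mul_mem (h.le' h.rQ) hj.1) (inv_mem hi).1) (h.le' (inv_mem h.rQ))) (inv_mem hi).1,
        mul_smul, h.wa, mul_smul, h3.2]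
  obtain ⟨i, hi, rfl⟩ := h.ms x x0
  obtain ⟨j, hj, rfl⟩ := h.ms y y0
  obtain ⟨k, hk, rfl⟩ := h.ms z z0
  obtain ⟨g, hg, e1, e2⟩ := key i hi j hj k hk e
  obtain ⟨g', hg', e1', e2'⟩ := key k hk j hj i hi (by rw [← e]; ring)
  have q1 : k⁻¹ * r * k ∈ Q := h.nrm' hk.1 h.rQ
  have q2 : i⁻¹ * r⁻¹ * i ∈ Q := h.nrm' hi.1 (inv_mem h.rQ)
  have c1 : c (k⁻¹ * r * k) = (m k)⁻¹ := by simpa [h.cr, h.toSC.minv hk] using h.cc _ (inv_mem hk) _ h.rQ
  have c2 : c (i⁻¹ * r⁻¹ * i) = (m i)⁻¹ := by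
    simpa [h.cinv.1, h.toSC.minv hi] using h.cc _ (inv_mem hi) _ (inv_mem h.rQ)
  have b1 : b (k⁻¹ * r * k) = (m k)⁻¹ * (φ (m k))⁻¹ * b r := by
    simpa [h.toSC.minv hk] using h.bc _ (inv_mem hk) _ h.rQ
  have b2 : b (i⁻¹ * r⁻¹ * i) = (m i)⁻¹ * (φ (m i))⁻¹ * (b r + 1) := by
    simpa [h.cinv.2, h.toSC.minv hi] using h.bc _ (inv_mem hi) _ (inv_mem h.rQ)
  have x1 := (map_ne_zero φ).2 x0
  have y1 := (map_ne_zero φ).2 y0
  have z1 := (map_ne_zero φ).2 z0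
  have xz : m i + m k ≠ 0 := fun e' => by
    rw [CharTwo.add_eq_zero.1 e'] at e
    exact mul_ne_zero y0 y1 (by grind)
  have xz1 : φ (m i) + φ (m k) ≠ 0 := by rw [← map_add]; exact (map_ne_zero φ).2 xz
  obtain ⟨v, hv, ev⟩ := h.ms ((m i + m k) / (m i * m k)) (div_ne_zero xz (mul_ne_zero x0 z0))
  set X := k⁻¹ * r * k * (i⁻¹ * r⁻¹ * i) with hX
  have XQ : X ∈ Q := mul_mem q1 q2
  have yQ : v⁻¹ * X * v ∈ Q := h.nrm' hv.1 XQ
  have cy : c (v⁻¹ * X * v) = 1 := by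
    have := h.cc _ (inv_mem hv) _ XQ
    rw [inv_inv, h.ca _ q1 _ q2, c1, c2, h.toSC.minv hv, ev] at this
    rw [this]; field_simp
  have by' : b (v⁻¹ * X * v) * ((m i + m k) * (φ (m i) + φ (m k))) =
      b r * (m i * φ (m i)) + (b r + 1) * (m k * φ (m k)) + φ (m i) * m k := by
    have := h.bc _ (inv_mem hv) _ XQ
    rw [inv_inv, h.ba _ q1 _ q2, c1, c2, b1, b2, h.toSC.minv hv, ev] at this
    rw [this]
    simp only [map_inv₀, map_div₀, map_mul, map_add]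
    field_simp
  have a1 : t • (v⁻¹ * X * v) • β = (v * g * v⁻¹) • β := by
    rw [h.tkb hv, e2, mul_smul, mul_smul, (inv_mem hv).2]
  obtain ⟨w, w1, w2⟩ : ∃ w, w * φ w = b (v⁻¹ * X * v) + b r ∧ m v * c g = 1 + w * (m v * c g') := by
    by_cases e0 : b (v⁻¹ * X * v) + b r = 0
    · refine ⟨0, by rw [e0, zero_mul], ?_⟩
      rw [h.ext _ yQ _ h.rQ (cy.trans h.cr.symm) (CharTwo.add_eq_zero.1 e0), ← h.wa, ← mul_smul, ← mul_smul,
        str_r h.ww h.str, mul_smul, mul_smul, h.le s h.sQ, h.wa] at a1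
      rw [← h.cc v hv g hg, ← h.inj h.rQ (h.nQ v hv g hg) h.ne.symm a1, h.cr]; simp
    obtain ⟨u, hu, eu⟩ := h.toSC.ns e0
    refine ⟨m u, eu, ?_⟩
    have := h.rel hu yQ cy (by rw [eu]; grind)
    rw [a1, show (v⁻¹ * X * v)⁻¹ = v⁻¹ * (i⁻¹ * r * i * (k⁻¹ * r⁻¹ * k)) * v by rw [hX]; group, h.tkb hv, e2',
      show (r * u) • v • g' • β = (r * (u * (v * g' * v⁻¹) * u⁻¹)) • β by
        simp only [mul_smul, show u⁻¹ • β = β from (inv_mem hu).2, show v⁻¹ • β = β from (inv_mem hv).2]] at this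
    have q := h.nQ u hu _ (h.nQ v hv g' hg')
    rw [← h.cc v hv g hg, h.inj (h.nQ v hv g hg) (mul_mem h.rQ q) h.ne.symm this, h.ca _ h.rQ _ q, h.cr,
      h.cc u hu _ (h.nQ v hv g' hg'), h.cc v hv g' hg']
  rw [ev, e1, e1'] at w2
  have w3 : w * (m i * (m i + m k) * (m i + m j)) = m k ^ 2 * (m i + m j + m k) := by
    field_simp at w2
    grind
  have w4 := congrArg φ w3
  simp only [map_mul, map_add, map_pow] at w4 ⊢
  have w5 := congrArg₂ (· * ·) w3 w4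
  linear_combination w5 - m i * φ (m i) * (m i + m j) * (φ (m i) + φ (m j)) *
    ((m i + m k) * (φ (m i) + φ (m k)) * w1 + by' + b r * (m i * φ (m i) + m k * φ (m k)) * CharTwo.two_eq_zero (R := F))

end SN

end CfsgH8.Za
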