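import Cfsg.Agent.H8.Za10
import Cfsg.Agent.H8.Sz4
import Cfsg.Agent.H8.Za4
import Cfsg.Agent.H3.Hk5

/-! Suzuki's theorem: recognition of the Suzuki groups among the Zassenhaus groups. -/

set_option autoImplicit false
open Subgroup Cfsg CfsgH2 CfsgH1 CfsgH3 CfsgRO Function MulAction CfsgH8.SzG
open scoped commutatorElement

namespace CfsgH8.Za

section fld
variable {F : Type*} [Field F] [CharP F 2] {φ : F ≃+* F}

theorem sq_of_W [Finite F] (hi : Injective fun x => x * φ x) (h1 : φ ≠ 1)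
    (h : ∀ x y z, x * φ x + y * φ y + z * φ z = 0 → x ^ 2 * φ x + y ^ 2 * φ y + z ^ 2 * φ z = 0) (x : F) :
    φ (φ x) = x ^ 2 := by
  let n := Equiv.ofBijective _ (Finite.injective_iff_bijective.1 hi)
  have hn : ∀ x, n.symm (x * φ x) = x := n.symm_apply_apply
  let ψ : F →+* F :=
    { toFun := fun u => u * n.symm u
      map_one' := by simpa using hn 1
      map_zero' := zero_mul _
      map_mul' := fun u v => by
        obtain ⟨x, rfl⟩ := n.surjective u
        obtain ⟨y, rfl⟩ := n.surjective v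
        have : n x * n y = n (x * y) := by simp [n]; ring
        rw [this]; simp only [Equiv.symm_apply_apply]; rw [← this]; ring
      map_add' := fun u v => by
        obtain ⟨x, rfl⟩ := n.surjective u
        obtain ⟨y, rfl⟩ := n.surjective v
        obtain ⟨z, hz⟩ := n.surjective (n x + n y)
        have := h x y z (by rw [show z * φ z = _ from hz]; exact CharTwo.add_self_eq_zero _)
        rw [← hz]
        simp only [Equiv.symm_apply_apply]
        simp only [n, Equiv.ofBijective_apply]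
        grind }
  have e1 : ∀ x, ψ x * ψ (φ x) = x ^ 2 * φ x := fun x => by
    rw [← map_mul]; show x * φ x * n.symm _ = _; rw [hn]; ring
  have e2 : ∀ x, ψ x = ψ (φ x) + x ^ 2 + φ x := fun x => by
    have := e1 (x + 1)
    have := e1 x
    simp only [map_add, map_one] at *
    grind
  by_cases a1 : (ψ : F →* F) = (ψ : F →* F).comp φ
  · exact absurd (RingEquiv.ext fun x => (ψ.injective (DFunLike.congr_fun a1 x)).symm) h1
  by_cases a2 : (ψ : F →* F) = powMonoidHom 2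
  · refine absurd (RingEquiv.ext fun x => ?_) h1
    have a3 : ∀ x, ψ x = x ^ 2 := DFunLike.congr_fun a2
    have a4 : ∀ x, φ x = 0 ∨ φ x = 1 := fun x => by have := e2 x; rw [a3, a3] at this; grind
    rcases a4 x with e | e
    · rw [e, (map_eq_zero φ).1 e]; rfl
    · rw [e, φ.injective (e.trans (map_one φ).symm)]; rfl
  by_cases a3 : (ψ : F →* F) = φ
  · have a4 : ∀ x, ψ x = φ x := DFunLike.congr_fun a3
    have := e2 x
    rw [a4, a4] at this
    grind
  refine absurd ?_ ((linearIndependent_monoidHom F F).notMem_span_image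
    (s := {(ψ : F →* F).comp φ, powMonoidHom 2, (φ : F →* F)}) (x := ψ) (by simp [a1, a2, a3]))
  rw [show ((ψ : F →* F) : F → F) = ((ψ : F →* F).comp φ : F →* F) + (powMonoidHom 2 : F →* F) + (φ : F →* F) from
    funext e2]
  exact add_mem (add_mem (Submodule.subset_span ⟨_, by simp, rfl⟩) (Submodule.subset_span ⟨_, by simp, rfl⟩))
    (Submodule.subset_span ⟨_, by simp, rfl⟩)

theorem no_cube (h : ∀ x, φ (φ x) = x ^ 2) (x : F) : x * (x + 1) ≠ 1 := fun e => by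
  have e1 := congrArg φ e
  have e2 := h x
  simp only [map_mul, map_add, map_one] at e1
  have : φ x = x ∨ φ x = x + 1 := by grind
  rcases this with e3 | e3
  · rw [e3, e3] at e2; grind
  · rw [e3, map_add, e3, map_one] at e2; grind

theorem eq_th [Fintype F] (h : ∀ x, φ (φ x) = x ^ 2) (h1 : φ ≠ 1) (h2 : Odd (orderOf φ)) :
    ∃ m, SzF F m ∧ ∀ x, φ x = th m x := by
  classical
  obtain ⟨n, -, hn⟩ := FiniteField.card F 2
  have pw : ∀ j x, (φ ^ (2 * j)) x = x ^ 2 ^ j := fun j => by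
    induction j with
    | zero => simp
    | succ j ih => intro x; rw [mul_add, pow_add, pow_succ' 2, pow_mul x, ← h x, ← ih]; rfl
  rcases Nat.even_or_odd' n with ⟨m, e | e⟩
  · haveI := Fact.mk Nat.prime_three
    obtain ⟨x, hx⟩ := exists_prime_orderOf_dvd_card (G := Fˣ) 3 (by
      rw [Fintype.card_units, hn, e, pow_mul]
      exact Nat.sub_one_dvd_pow_sub_one 4 m)
    have e1 : (x : F) ^ 3 = 1 := by rw [← Units.val_pow_eq_pow_val, ← hx, pow_orderOf_eq_one, Units.val_one]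
    have e2 : (x : F) ≠ 1 := fun e => by rw [Units.val_eq_one.1 e] at hx; simp at hx
    exact absurd (by grind) (no_cube h x)
  have e1 : φ ^ (2 * m + 1) = 1 := orderOf_dvd_iff_pow_eq_one.1 ((Nat.coprime_two_right.2 h2).dvd_of_dvd_mul_left
    (orderOf_dvd_of_pow_eq_one (RingEquiv.ext fun x => by rw [pw, ← e, ← hn, FiniteField.pow_card]; rfl)))
  refine ⟨m, ⟨Nat.pos_of_ne_zero ?_, e ▸ hn⟩, fun x => ?_⟩
  · rintro rfl; exact h1 (by simpa using e1)
  · rw [th, ← pw, show 2 * (m + 1) = 2 * m + 1 + 1 by ring, pow_succ, e1, one_mul]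

end fld

variable {G F Ω : Type*} [Group G] [Field F] [MulAction G Ω] {α β : Ω} {Q : Subgroup G} {φ : F ≃+* F}
  {c b m : G → F} {t s r : G}

namespace SN
variable [CharP F 2] [Finite F]

theorem sq_of_ne (h : SN α β Q t s r φ c b m) (h0 : b r ≠ 0) (x : F) : φ (φ x) = x ^ 2 := by
  have inj := h.toSC.n_inj
  refine sq_of_W inj h.φne (fun x y z e => ?_) x
  by_cases x0 : x = 0
  · rw [x0, zero_mul, zero_add] at e; rw [x0, inj (CharTwo.add_eq_zero.1 e)]; grind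
  by_cases y0 : y = 0
  · rw [y0, zero_mul, add_zero] at e; rw [y0, inj (CharTwo.add_eq_zero.1 e)]; grind
  by_cases z0 : z = 0
  · rw [z0, zero_mul, add_zero] at e; rw [z0, inj (CharTwo.add_eq_zero.1 e)]; grind
  have nz : ∀ {x y z : F}, z ≠ 0 → x * φ x + y * φ y + z * φ z = 0 → (x + y) * φ (x + y) ≠ 0 := fun {x y z} z0 e => by
    have : x + y ≠ 0 := fun e' => by
      rw [CharTwo.add_eq_zero.1 e', CharTwo.add_self_eq_zero, zero_add] at e
      exact mul_ne_zero z0 ((map_ne_zero φ).2 z0) e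
    exact mul_ne_zero this ((map_ne_zero φ).2 this)
  have key : ∀ {x y z : F}, x ≠ 0 → y ≠ 0 → z ≠ 0 → x * φ x + y * φ y + z * φ z = 0 →
      (1 + b r) * z * (x * φ x ^ 2 + y * φ y ^ 2 + z * φ z ^ 2) +
      b r * φ z * (x ^ 2 * φ x + y ^ 2 * φ y + z ^ 2 * φ z) = 0 := fun {x y z} x0 y0 z0 e => by
    have a1 := h.star x0 y0 z0 e
    have a2 := h.star y0 x0 z0 (by rw [← e]; ring)
    rw [add_comm y x, ← a1] at a2
    have := mul_right_cancel₀ (nz z0 e) a2
    linear_combination this + z * φ z * e + ((z * φ z + z * φ x + b r * (x * φ z + z * φ x)) * (x * φ x) -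
      z * φ z * (x * φ x + y * φ y) + b r * z ^ 2 * φ z ^ 2) * CharTwo.two_eq_zero (R := F)
  have a1 := key x0 y0 z0 e
  have a2 := key z0 y0 x0 (by rw [← e]; ring)
  have a3 : x * φ z + z * φ x ≠ 0 := fun e' => by
    have : x + z = y := inj (by simp only [map_add]; grind)
    have a4 := h.star x0 y0 z0 e
    rw [e', show x + y + z = 0 by grind, zero_mul, mul_zero, mul_zero, add_zero, ← mul_add, ← map_add] at a4
    exact mul_ne_zero (mul_ne_zero (mul_ne_zero z0 ((map_ne_zero φ).2 (add_comm x z ▸ this ▸ y0)))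
      (mul_ne_zero x0 ((map_ne_zero φ).2 x0))) (nz z0 e) a4
  refine mul_left_cancel₀ (mul_ne_zero h0 a3) ?_
  linear_combination x * a1 + z * a2 - (1 + b r) * x * z * (x * φ x ^ 2 + y * φ y ^ 2 + z * φ z ^ 2) *
    CharTwo.two_eq_zero (R := F)

theorem exists_one (h : SN α β Q t s r φ c b m) :
    ∃ (φ : F ≃+* F) (c b m : G → F), SN α β Q t s r φ c b m ∧ b r = 1 := by
  by_cases h0 : b r = 0
  · exact ⟨_, _, _, _, h.flip, by simp [h0, h.cr]⟩
  refine ⟨φ, c, b, m, h, by_contra fun h1 => h.φne ?_⟩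
  have e1 := h.sq_of_ne h0
  have e2 := h.flip.sq_of_ne (by simp only [h.cr, map_one, mul_one]; exact fun e => h1 (CharTwo.add_eq_zero.1 e))
  refine orderOf_eq_one_iff.1 (Nat.eq_one_of_dvd_coprimes ((Nat.coprime_two_right.2 h.φodd).pow_right 2) dvd_rfl
    (orderOf_dvd_of_pow_eq_one (RingEquiv.ext fun x => ?_)))
  obtain ⟨y, rfl⟩ := φ.symm.surjective x
  obtain ⟨z, rfl⟩ := φ.symm.surjective y
  show φ (φ (φ (φ _))) = _
  rw [φ.apply_symm_apply, φ.apply_symm_apply, e1, e2]; rfl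

end SN

theorem sz_str [Fintype F] {n : ℕ} [SzF F n] : w F n * u n 0 1 * w F n = (u n 1 1)⁻¹ * w F n * u n 1 1 := by
  haveI := charP (F := F) (m := n)
  rw [u_inv]
  refine sz_ext ?_
  simp only [mul_val, u_val, w_val, ff, th_one, th_zero]
  ext i j
  fin_cases i <;> fin_cases j <;> simp [Matrix.mul_apply, Fin.sum_univ_four, CharTwo.add_self_eq_zero]

theorem sz_rel [Fintype F] {n : ℕ} [SzF F n] (τ : Fˣ) :
    w F n • op n (some (1, 1 + (th n (τ : F) * τ) ^ 2)) =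
      (u n 1 1 * d n τ) • w F n • op n (some (1, (th n (τ : F) * τ) ^ 2)) := by
  haveI := charP (F := F) (m := n)
  have := congrArg (· • zer F n) (str_rel (s := u n 0 1) w_mul_w (by rw [u_mul]; simp [CharTwo.add_self_eq_zero, u_zero]) sz_str
    ((w_d_w τ).trans (d_inv τ)))
  simp only [d_u_inv, u_mul, u_inv, mul_smul, w_zero, d_none, u_none, w_none, u_some] at this
  rw [mul_smul]
  convert this using 5 <;> simp [th_one] <;> grind

theorem SN.iso [Finite G] [Fintype F] [CharP F 2] (h : SN α β Q t s r φ c b m) (h1 : b r = 1)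
    (hn : o[Q] = Fintype.card F ^ 2) (hd : o[HH G α β] + 1 = Fintype.card F) :
    ∃ n, ∃ _ : SzF F n, Nonempty (G ≃* Sz F n) := by
  have sq := h.sq_of_ne (h1 ▸ one_ne_zero)
  obtain ⟨n, hn', e⟩ := eq_th sq h.φne h.φodd
  refine ⟨n, hn', ?_⟩
  choose X X1 X2 X3 using h.sur
  let e1 : Option (F × F) ≃ Ω := Equiv.ofBijective (fun o => o.elim α fun p => X p.1 p.2 • β) ⟨fun p q e => by
    rcases p with _ | p <;> rcases q with _ | q
    · rfl
    · exact absurd e.symm (ZK.smul_ne (h.le _ (X1 _ _)) h.ne.symm)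
    · exact absurd e (ZK.smul_ne (h.le _ (X1 _ _)) h.ne.symm)
    · have := h.inj (X1 _ _) (X1 _ _) h.ne.symm e
      exact congrArg _ (Prod.ext (by rw [← X2 p.1 p.2, this, X2]) (by rw [← X3 p.1 p.2, this, X3])), fun y => by
    by_cases hy : y = α
    · exact ⟨none, hy.symm⟩
    · obtain ⟨k, hk, rfl⟩ := h.tr y hy
      exact ⟨some (c k, b k), congrArg (· • β) (h.ext _ (X1 _ _) _ hk (X2 _ _) (X3 _ _))⟩⟩
  let Ψ : Ω ≃ suzukiOvoid F n := e1.symm.trans (Equiv.ofBijective (op n) ⟨op_inj, op_surj⟩)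
  have Ψa : Ψ α = op n none := congrArg (op n) (e1.symm_apply_apply none)
  have Ψx : ∀ x ∈ Q, Ψ (x • β) = op n (some (c x, b x)) := fun x hx => by
    nth_rw 1 [← h.ext _ (X1 _ _) _ hx (X2 _ _) (X3 _ _)]
    exact congrArg (op n) (e1.symm_apply_apply (some (c x, b x)))
  have Ψb : Ψ β = op n (some (0, 0)) := by simpa [h.toSC.c1, h.toSC.b1] using Ψx 1 (one_mem _)
  have cases : ∀ {P : Ω → Prop}, P α → (∀ x ∈ Q, P (x • β)) → ∀ y, P y := fun {P} h1 h2 y => by
    by_cases hy : y = α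
    · exact hy ▸ h1
    · obtain ⟨k, hk, rfl⟩ := h.tr y hy
      exact h2 k hk
  have aQ : ∀ k ∈ Q, ∀ y, Ψ (k • y) = u n (c k) (b k) • Ψ y := fun k hk => cases
    (by rw [h.le k hk, Ψa, u_none]) fun x hx => by
      rw [← mul_smul, Ψx _ (mul_mem hk hx), Ψx x hx, u_some, h.ca k hk x hx, h.ba k hk x hx, e, add_comm (c k),
        add_comm (b k)]
  have aD : ∀ k ∈ HH G α β, ∃ τ : Fˣ, (th n (τ : F) * τ) ^ 2 = m k * φ (m k) ∧ ∀ y, Ψ (k • y) = d n τ • Ψ y :=
    fun k hk => by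
    obtain ⟨τ, hτ⟩ := exists_sq (m := n) (m k)
    have e2 : (th n τ * τ) ^ 2 = m k * φ (m k) := by rw [← hτ, e, th_pow]; ring
    refine ⟨Units.mk0 τ (by rintro rfl; exact h.toSC.m0 hk (by simp [← hτ])), e2, cases
      (by rw [hk.1, Ψa, d_none]) fun x hx => ?_⟩
    rw [show k • x • β = (k * x * k⁻¹) • β by rw [mul_smul, mul_smul, (inv_mem hk).2], Ψx _ (h.nQ k hk x hx),
      Ψx x hx, d_some, h.cc k hk x hx, h.bc k hk x hx, Units.val_mk0, e2, hτ]
  have inv : ∀ k ∈ HH G α β, ∀ x, Ψ (t • x • β) = w F n • Ψ (x • β) →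
      Ψ (t • (k⁻¹ * x * k) • β) = w F n • Ψ ((k⁻¹ * x * k) • β) := fun k hk x e => by
    obtain ⟨τ, -, e2⟩ := aD k hk
    rw [h.tkb hk, e2, e, ← mul_smul, ← inv_inv τ, ← w_d, mul_smul, mul_smul, mul_smul, hk.2, d_inv]
    congr 1
    rw [inv_smul_eq_iff, ← e2, smul_inv_smul]
  have ts : t • s • β = r⁻¹ • β := by
    rw [← h.wa, ← mul_smul, ← mul_smul, h.str, mul_smul, mul_smul, h.le r h.rQ]
  have aT : ∀ y, Ψ (t • y) = w F n • Ψ y := cases (by rw [h.wa, Ψa, Ψb, w_none]) fun x hx => by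
    by_cases c0 : c x = 0
    · by_cases b0 : b x = 0
      · rw [h.ext x hx 1 (one_mem _) (c0.trans h.toSC.c1.symm) (b0.trans h.toSC.b1.symm), one_smul, h.wb, Ψa, Ψb,
          w_zero]
      obtain ⟨k, hk, ek⟩ := h.toSC.ns b0
      rw [h.ext x hx _ (h.nQ k hk s h.sQ) (by rw [h.cc k hk s h.sQ, c0, h.cs, mul_zero])
        (by rw [h.bc k hk s h.sQ, ek, h.bs, mul_one])]
      refine (by simpa only [inv_inv] using inv k⁻¹ (inv_mem hk) s ·) ?_
      rw [ts, Ψx _ (inv_mem h.rQ), Ψx _ h.sQ, h.cinv.1, h.cinv.2, h1, h.cs, h.bs, w_some (by simp [ff, th_one])]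
      simp [ff, th_one, CharTwo.add_self_eq_zero]
    obtain ⟨k, hk, ek⟩ := h.ms _ (inv_ne_zero c0)
    have hy := h.nQ k hk x hx
    have cy : c (k * x * k⁻¹) = 1 := by rw [h.cc k hk x hx, ek, inv_mul_cancel₀ c0]
    rw [show x = k⁻¹ * (k * x * k⁻¹) * k by group]
    refine inv k hk _ ?_
    generalize k * x * k⁻¹ = y at hy cy
    by_cases b1 : b y = 1
    · rw [h.ext y hy r h.rQ (cy.trans h.cr.symm) (b1.trans h1.symm), show t • r • β = r • β by
        rw [← h.wa, ← mul_smul, ← mul_smul, str_r h.ww h.str, mul_smul, mul_smul, h.le s h.sQ], Ψx r h.rQ, h.cr, h1,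
        w_some (by simp [ff, th_one, CharTwo.add_self_eq_zero])]
      simp [ff, th_one, CharTwo.add_self_eq_zero]
    by_cases b0 : b y = 0
    · rw [h.ext y hy _ (inv_mem h.rQ) (cy.trans h.cinv.1.symm) (by rw [b0, h.cinv.2, h1, CharTwo.add_self_eq_zero]),
        ← ts, ← mul_smul t t, h.ww, one_smul, ts, Ψx _ (inv_mem h.rQ), Ψx _ h.sQ, h.cinv.1, h.cinv.2, h1, h.cs, h.bs,
        CharTwo.add_self_eq_zero, w_some (by simp [ff, th_one, th_zero])]
      simp [ff, th_one, th_zero]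
    obtain ⟨i, hi, ei⟩ := h.toSC.ns (z := b y + 1) fun e => b1 (CharTwo.add_eq_zero.1 e)
    obtain ⟨j, hj, ej⟩ := h.toSC.ns b0
    have a1 := h.ca y hy _ (inv_mem hy)
    have a2 := h.ba y hy _ (inv_mem hy)
    rw [mul_inv_cancel, h.toSC.c1, cy, eq_comm, CharTwo.add_eq_zero] at a1
    rw [mul_inv_cancel, h.toSC.b1, cy, ← a1] at a2
    have r1 := h.rel hi hy cy (by grind)
    have r2 := h.rel hj (inv_mem hy) a1.symm (by grind)
    rw [inv_inv] at r2
    obtain ⟨τ, e1, e2⟩ := aD i hi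
    obtain ⟨σ, e3, e4⟩ := aD j hj
    have s1 := sz_rel (n := n) τ
    have s2 := sz_rel (n := n) σ
    rw [e1, ei, show 1 + (b y + 1) = b y by grind] at s1
    rw [e3, ej, add_comm] at s2
    have act : ∀ z, Ψ ((r * i * (r * j)) • z) = (u n 1 1 * d n τ * (u n 1 1 * d n σ)) • Ψ z := fun z => by
      simp only [mul_smul, aQ r h.rQ, e2, e4, h.cr, h1]
    rw [Ψx y hy, cy]
    by_contra ne
    have := three_fixed (u n 1 1 * d n τ * (u n 1 1 * d n σ)) (op n none) _ _ ?_ ne ?_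
      (by simp only [mul_smul, d_none, u_none]) (by rw [← act, mul_smul, ← r2, ← r1])
      (by rw [mul_smul, ← s2, ← s1])
    · have e5 : r * i * (r * j) = 1 := h.faith _ fun z => Ψ.injective (by rw [act, this, one_smul])
      have e6 : i * j ∈ Q ⊓ HH G α β := mem_inf.2 ⟨by
        rw [show i * j = (r * (i * r * i⁻¹))⁻¹ * (r * i * (r * j)) by group, e5, mul_one]
        exact inv_mem (mul_mem h.rQ (h.nQ i hi r h.rQ)), mul_mem hi hj⟩
      rw [h.disj, mem_bot] at e6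
      have e7 := h.toSC.mm hi hj
      rw [e6, h.toSC.m1] at e7
      refine no_cube sq (b y) ?_
      rw [← ei, ← ej, show m j * φ (m j) * (m i * φ (m i)) = m i * m j * φ (m i * m j) by rw [map_mul]; ring, ← e7]
      simp
    · rw [← Ψa, Ψ.injective.ne_iff, ← h.wb, (MulAction.injective t).ne_iff]
      exact fun e => one_ne_zero (by rw [← cy, h.free hy h.ne.symm e.symm, h.toSC.c1])
    · rw [← w_zero, (MulAction.injective _).ne_iff, op_inj.ne_iff]
      simp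
  exact iso_of_act Ψ h.faith (fun g hg => eq_of_smul_eq_smul (α := suzukiOvoid F n) (by simpa using hg))
    (h.induction h.wa (fun x y ⟨s, hs⟩ ⟨t, ht⟩ => ⟨s * t, fun z => by rw [mul_smul, mul_smul, hs, ht]⟩)
      (fun k hk => ⟨_, aQ k hk⟩) (fun k hk => (aD k hk).elim fun τ e => ⟨_, e.2⟩) ⟨_, aT⟩)
    (by rw [h.card_G, card_sz, hn, ← hd, Nat.add_sub_cancel]; ring)

section fin
variable [Finite G]

theorem ZK.ro (h : ZK α (t • α) Q) (tt : t * t = 1) (he : Even o[Q]) : RO α t Q :=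
  ⟨h.two, tt, h.ne.symm, h.le', h.le_norm, by rw [← h.disj, ← inf_assoc, inf_eq_left.2 h.le'], h.sup, he,
    h.odd_H he⟩

theorem ZI.r2 (h : ZI α (t • α) Q t) (he : Even o[Q]) : R2 G := by
  haveI := Fact.mk Nat.prime_two
  haveI := h.nil h.ne_bot
  have ro := h.toZK.ro h.ww he
  obtain ⟨P, hP⟩ := exists_syl 2 Q
  obtain ⟨z, hz, oz⟩ := CfsgL0.exists_orderOf_prime_of_ne_bot (p := 2) (hP.pg.to_le inf_le_left)
    (nil_center_ne_bot (nil_of_pg hP.pg) (hP.ne_bot he.two_dvd))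
  obtain ⟨x, hx, x1⟩ := ne_bot_iff'.1 h.ne_bot
  have z1 := ne_of_ord oz
  have hx' : x * z * x⁻¹ ∈ P := conj_mem_of_norm (hP.norm_le_of_nil inferInstance (h.le_norm hx.1)) hz.1
  refine ⟨z, x * z * x⁻¹, z1, conj_ne_one z1, fun e => z1 (h.fpf hx x1 (hP.le hz.1) ?_), sq_of_ord oz,
    by rw [conj_mul, sq_of_ord oz]; simp, (mem_cent_iff.1 hz.2 _ hx').symm⟩
  nth_rw 1 [e]; group

theorem ZI.KK_eq (h : ZI α (t • α) Q t) : KK α t = HH G α (t • α) :=
  le_antisymm RO.KK_le fun x hx => subset_closure ⟨hx, h.inv x hx⟩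

theorem dvd_of_braid (h : RO α t Q) (h2 : R2 G) (hs : s ∈ Q0 G α) (s1 : s ≠ 1) (e : t * s * t = s⁻¹ * t * s) :
    o[Q0 G α] + 1 ∣ Nat.card G := by
  let Δ : Set Ω := insert α ((fun z : Q0 G α => z.1 • t • α) '' Set.univ)
  let M : Subgroup G :=
    { carrier := {g | ∀ x, x ∈ Δ ↔ g • x ∈ Δ}
      mul_mem' := fun {g k} hg hk x => by rw [mul_smul, ← hg, ← hk]
      one_mem' := by simp
      inv_mem' := fun {g} hg x => by rw [hg (g⁻¹ • x), smul_inv_smul] }
  have key : ∀ g, g * g = 1 → (∀ x ∈ Δ, g • x ∈ Δ) → g ∈ M := fun g h1 h2 x =>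
    ⟨h2 x, fun e => by simpa [← mul_smul, h1] using h2 _ e⟩
  have a1 : ∀ z ∈ Q0 G α, z ∈ M := fun z hz => key z ((h.mem_Q0 h2).1 hz).2 (by
    rintro _ (rfl | ⟨y, -, rfl⟩)
    · exact Or.inl ((h.mem_Q0 h2).1 hz).1
    · exact Or.inr ⟨⟨z * y, mul_mem hz y.2⟩, trivial, mul_smul _ _ _⟩)
  have a2 : t ∈ M := key t h.tt (by
    rintro _ (rfl | ⟨⟨y, hy⟩, -, rfl⟩)
    · exact Or.inr ⟨1, trivial, one_smul _ _⟩
    by_cases y1 : y = 1
    · left; simp [y1, h.tta]
    obtain ⟨k, hk, rfl⟩ := h.K_trans (h.Q0_I h2 hs s1) (h.Q0_I h2 hy y1)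
    refine Or.inr ⟨⟨k * s⁻¹ * k⁻¹, conj_mem_of_norm (RO.n_Q0 hk.1.1) (inv_mem hs)⟩, trivial, ?_⟩
    simp only [mul_smul, show k • t • α = t • α from hk.1.2, show k⁻¹ • t • α = t • α from (inv_mem hk.1).2]
    rw [← mul_smul t k⁻¹, ← h.kt hk, mul_smul k, ← mul_smul t s, ← mul_smul (t * s), e, mul_smul, mul_smul,
      show s • α = α from h.le (h.Q0_le hs)])
  have : orbit M α = Δ := by
    refine Set.Subset.antisymm ?_ ?_
    · rintro _ ⟨g, rfl⟩; exact (g.2 α).1 (Or.inl rfl)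
    · rintro _ (rfl | ⟨y, -, rfl⟩)
      · exact mem_orbit_self _
      · exact ⟨⟨y * t, mul_mem (a1 _ y.2) a2⟩, mul_smul (y : G) t α⟩
  have c1 : Δ.ncard = o[Q0 G α] + 1 := by
    haveI := h.finΩ
    rw [Set.ncard_insert_of_notMem (by rintro ⟨y, -, e⟩; exact RO.smul_ne (h.le (h.Q0_le y.2)) h.ta e),
      Set.ncard_image_of_injective _ fun y z e => Subtype.ext (h.q_inj (h.Q0_le y.2) (h.Q0_le z.2) h.ta e),
      Set.ncard_univ]
  rw [← c1, ← this, ← index_stabilizer]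
  exact (index_dvd_card _).trans (card_subgroup_dvd_card M)

/-- Suzuki's theorem -/
theorem suzuki (hZ : IsZassenhausGroup G Ω) (h : ZK α β Q) (pg : IsPGroup 2 Q) (nab : ¬ Ab[Q]) :
    ∃ (F : Type) (_ : Field F) (_ : Fintype F) (n : ℕ) (_ : SzF F n), o[Q] = Fintype.card F ^ 2 ∧
      o[HH G α β] + 1 = Fintype.card F ∧ Nonempty (G ≃* Sz F n) ∧
      ∃ φ : F ≃+* F, Nonempty (Q ≃* suzukiTypeA F (φ : F →+* F)) := by
  have h0 := HH_ne hZ h.ne
  have he : Even o[Q] := by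
    obtain ⟨k, hk⟩ := IsPGroup.iff_card.1 pg
    refine hk ▸ Nat.even_pow.2 ⟨even_two, ?_⟩
    rintro rfl
    exact h.ker_ne h0 (card_eq_one.1 hk)
  obtain ⟨t, hi⟩ := h.zi_of_even h0 he
  obtain rfl := hi.wa
  have ro := h.ro hi.ww he
  have r2 := hi.r2 he
  have sze := hi.KK_eq ▸ ro.sze r2 pg
  have cd := sze.card_K
  have hn := (sze.card_cases nab).resolve_right (hi.not_cube ro.Q0_le
    (fun g hg z hz => conj_mem_of_norm (RO.n_Q0 hg) hz) (fun k => sze.sq_mem nab) cd)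
  obtain ⟨F, _, _, hF⟩ := sze.exists_field
  haveI := Fintype.ofFinite F
  haveI := sze.charP hF
  have hF' := Nat.card_eq_fintype_card.symm.trans hF
  obtain ⟨φ, c, b, m, sc⟩ := exists_SC sze nab hn hF
  obtain ⟨s, hs, r, hr, e⟩ := ro.exists_str
  have hs' := ro.I_Q hs
  haveI := Fintype.ofFinite G
  have rr : r * r = s := (ro.str_cases r2 hs hr e (sze.sq_mem nab hr)).resolve_left fun e' => by
    have := dvd_of_braid ro r2 (RO.I_Q0 hs) hs.2.1 (e' ▸ e)
    rw [h.card_G, hn, ← cd] at this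
    have h1 := hi.odd
    have h2 := hi.one_lt
    clear cd h0 hi sze sc
    generalize o[HH G α (t • α)] = d at *
    have := (Nat.dvd_sub (dvd_mul_left (d + 1 + 1) (d ^ 4 + 2 * d ^ 3 + 3 * d ^ 2 + 2)) this)
    rw [Nat.sub_eq_of_eq_add (c := 4) (by ring)] at this
    have := Nat.le_of_dvd (by norm_num) this
    obtain ⟨k, hk⟩ := h1
    omega
  have cs : c s = 0 := by rw [← rr, sc.ca r hr r hr, CharTwo.add_self_eq_zero]
  have bs : b s = c r * φ (c r) := by rw [← rr, sc.ba r hr r hr, CharTwo.add_self_eq_zero, zero_add, mul_comm]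
  have cr : c r ≠ 0 := fun e0 => hs.2.1 (sc.ext s hs' 1 (one_mem _) (cs.trans sc.c1.symm)
    (by rw [bs, e0, zero_mul, sc.b1]))
  have cr' := (map_ne_zero φ).2 cr
  obtain ⟨φ, c, b, m, sn, b1⟩ := SN.exists_one ⟨hi, sc.scale (inv_ne_zero cr), hs', hr, hs.2.2, e,
    inv_mul_cancel₀ cr, by simp [cs], by rw [bs, map_inv₀]; field_simp⟩
  obtain ⟨n, _, iso⟩ := sn.iso b1 (hF' ▸ hn) (hF' ▸ cd)
  obtain ⟨c, m, cE, l, φ, h1, h2, -, -, -, h6⟩ := sze.typeA hF le_rfl (sze.ir_of_relIndex le_rfl sze.le sze.nE sze.nP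
    sze.kE (Nat.eq_of_mul_eq_mul_left (card_pos' _) (by rw [CfsgH2.card_mul_relIndex sze.le, hn, pow_two]))) nab
  exact ⟨F, _, _, n, ‹_›, hF' ▸ hn, hF' ▸ cd, iso, φ, iso_typeA h1 h2 sze.cent _ h6⟩

theorem isoSuzuki (hZ : IsZassenhausGroup G Ω) (h : ZK α β Q) (pg : IsPGroup 2 Q) (nab : ¬ Ab[Q]) :
    Lie.IsoSuzuki G := by
  obtain ⟨F, _, _, n, hn, -, -, ⟨e⟩, -⟩ := suzuki hZ h pg nab
  exact ⟨F, _, _, n, hn.hm, hn.hF, ⟨e.trans (lieEquiv F n)⟩⟩

theorem isSuzuki (hZ : IsZassenhausGroup G Ω) (h : ZK α β Q) (pg : IsPGroup 2 Q) (nab : ¬ Ab[Q]) :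
    IsSuzuki G := by
  obtain ⟨F, _, _, n, hn, -, -, ⟨e⟩, -⟩ := suzuki hZ h pg nab
  exact ⟨e.isSimpleGroup, n, hn.hm, by rw [Nat.card_congr e.toEquiv, card_sz, hn.hF]⟩

/-- Zassenhaus groups of odd degree -/
theorem odd_degree (hZ : IsZassenhausGroup G Ω) (h : ZK α β Q) (he : Even o[Q]) :
    (∃ (F : Type) (_ : Field F) (_ : Fintype F), (∃ n : ℕ, 2 ≤ n ∧ Fintype.card F = 2 ^ n) ∧
      Fintype.card F = o[Q] ∧ Nonempty (G ≃* Matrix.ProjectiveSpecialLinearGroup (Fin 2) F)) ∨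
    (¬ Ab[Q] ∧ Lie.IsoSuzuki G) := by
  have pg := pg_of_even hZ h he
  by_cases hab : Ab[Q]
  · obtain ⟨F, _, _, hF⟩ := exists_field_card (isPrimePow_K hZ h)
    have e := card_of_ab_even hZ h hab he
    obtain ⟨n, hn⟩ := IsPGroup.iff_card.1 pg
    obtain ⟨e1⟩ := h.iso_even e he F hF
    obtain ⟨e2⟩ := psl_pgl (F := F) (hF ▸ he)
    refine Or.inl ⟨F, _, _, ⟨n, ?_, hF.trans hn⟩, hF, ⟨e1.trans e2⟩⟩
    have := (one_lt_card_iff_ne_bot _).2 (HH_ne hZ h.ne)
    rw [e, hn] at this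
    by_contra h1
    interval_cases n <;> simp at this
  · exact Or.inr ⟨hab, isoSuzuki hZ h pg hab⟩

end fin

end CfsgH8.Za
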