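import Cfsg.Agent.H8.Za11
import Cfsg.Agent.H4.G2
import Cfsg.Agent.H3.Hk4

/-! Group theory for sharply triply transitive groups of even degree. -/

set_option autoImplicit false
open Subgroup Cfsg CfsgH2 CfsgH1 CfsgH3 CfsgRO Function MulAction
open scoped commutatorElement IsMulCommutative

namespace CfsgH8.Za

variable {G : Type*} [Group G] {X M A V : Subgroup G} {z t x y : G}

theorem two_of (hx : x ∈ X) (h0 : x ∉ M) (h : ∀ u ∈ X, ∀ v ∈ X, u ∉ M → v ∉ M → u * v ∈ M) :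
    M.relIndex X = 2 :=
  relIndex_eq_two_iff.2 ⟨x, hx, fun u hu => by
    by_cases e : u ∈ M
    · exact Or.inr ⟨e, fun e' => h0 ((mul_mem_cancel_left e).1 e')⟩
    · exact Or.inl ⟨h u hu x hx e h0, e⟩⟩

theorem mul_mem_two (h : M.relIndex X = 2) (hx : x ∈ X) (hy : y ∈ X) :
    x * y ∈ M ↔ (x ∈ M ↔ y ∈ M) :=
  mul_mem_iff_of_index_two (H := M.subgroupOf X) h (a := ⟨x, hx⟩) (b := ⟨y, hy⟩)

variable [Finite G]

theorem two_of_npc (h : NPC 2 X) (he : Even o[X]) : ∃ M ≤ X, M.relIndex X = 2 := by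
  obtain ⟨P, hP⟩ := exists_syl (p := 2) X
  have h0 : P ≠ ⊥ := by
    rintro rfl
    exact hP.nd (by rw [relIndex_bot_left]; exact he.two_dvd)
  obtain ⟨Q, -, h1, -, h2⟩ := exists_maximal_sub hP.pg (bot_lt_iff_ne_bot.2 h0)
  have h3 := h.sup_eq hP
  set O := piCoreOf {2}ᶜ X
  have h4 : X ≤ N[O] := le_norm_piCoreOf
  have h5 : O ⊓ P = ⊥ := inf_eq_bot_of_coprime' (piN_piCoreOf.coprime' (isPGroup_iff_piN.1 hP.pg))
  have h6 : O ⊔ Q ≤ X := h3 ▸ sup_le_sup_left h1 _
  refine ⟨O ⊔ Q, h6, ?_⟩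
  have e1 := CfsgH2.card_mul_relIndex h6
  have e2 := CfsgH2.card_mul_relIndex h1
  have e3 := card_sup_of_disj (Or.inr (hP.le.trans h4)) h5
  rw [card_sup_of_disj (Or.inr ((h1.trans hP.le).trans h4))
    (eq_bot_iff.2 ((inf_le_inf_left _ h1).trans h5.le)), h3] at *
  rw [h2] at e2
  rw [e3, ← e2, ← mul_assoc] at e1
  exact Nat.eq_of_mul_eq_mul_left (Nat.mul_pos (card_pos' _) (card_pos' _)) e1

/-- Schur's lemma with Wedderburn's theorem. -/
theorem schur_comm (hV : Ab[V]) (h0 : V ≠ ⊥) (hA : A ≤ N[V])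
    (irr : ∀ W ≤ V, A ≤ N[W] → W = ⊥ ∨ W = V) (hx : x ∈ N[V]) (hy : y ∈ N[V]) (cx : x ∈ C[A])
    (cy : y ∈ C[A]) {v : G} (hv : v ∈ V) :
    x * (y * v * y⁻¹) * x⁻¹ = y * (x * v * x⁻¹) * y⁻¹ := by
  have : Nontrivial V := (nontrivial_iff_ne_bot V).mpr h0
  let ψ : A →* AddMonoid.End (Additive V) := (conjEnd V).comp (inclusion hA)
  let R := Subring.centralizer (Set.range ψ)
  haveI : Finite (AddMonoid.End (Additive V)) := Finite.of_injective _ DFunLike.coe_injective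
  have hinj : ∀ r ∈ R, r ≠ 0 → ∀ w, r w = 0 → w = 0 := fun r hr r0 => by
    rcases irr ((AddSubgroup.toSubgroup' (AddMonoidHom.ker r)).map V.subtype) (map_subtype_le _) (by
      rw [le_normalizer_iff]
      rintro a ha _ ⟨w, hw, rfl⟩
      refine ⟨(ψ ⟨a, ha⟩ (Additive.ofMul w)).toMul, ?_, rfl⟩
      change (r * ψ ⟨a, ha⟩) (Additive.ofMul w) = 0
      have h2 : r (Additive.ofMul w) = 0 := hw
      rw [← Subring.mem_centralizer_iff.1 hr _ ⟨_, rfl⟩]
      change ψ ⟨a, ha⟩ (r (Additive.ofMul w)) = 0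
      rw [h2, map_zero]) with h | h
    · rw [map_eq_bot_iff_of_injective _ V.subtype_injective] at h
      exact fun w hw => h.le (x := w.toMul) hw
    · refine absurd (AddMonoidHom.ext fun w => ?_) r0
      obtain ⟨w', h1, h2⟩ := h.ge w.toMul.2
      rw [show w' = w.toMul from Subtype.ext h2] at h1
      exact h1
  haveI : NoZeroDivisors R := ⟨fun {r s} e => by
    by_cases r0 : r = 0
    · exact Or.inl r0
    exact Or.inr (Subtype.ext (AddMonoidHom.ext fun w => hinj r r.2 (fun e' => r0 (Subtype.ext e')) _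
      (DFunLike.congr_fun (congrArg Subtype.val e) w)))⟩
  haveI : Nontrivial (AddMonoid.End (Additive V)) := ⟨0, 1, fun e => by
    obtain ⟨w, hw⟩ := _root_.exists_ne (0 : Additive V)
    exact hw (DFunLike.congr_fun e w).symm⟩
  haveI : IsDomain R := NoZeroDivisors.to_isDomain R
  have m : ∀ {g : G} (hg : g ∈ N[V]), g ∈ C[A] → conjEnd V ⟨g, hg⟩ ∈ R := fun hg cg =>
    Subring.mem_centralizer_iff.2 (by
      rintro _ ⟨a, rfl⟩
      change conjEnd V _ * _ = _ * conjEnd V _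
      rw [← map_mul, ← map_mul]
      exact congrArg _ (Subtype.ext (cg a a.2)))
  have := (Finite.isDomain_to_isField R).mul_comm ⟨_, m hx cx⟩ ⟨_, m hy cy⟩
  exact congrArg (fun w : Additive V => (w.toMul : G))
    (DFunLike.congr_fun (congrArg Subtype.val this) (Additive.ofMul ⟨v, hv⟩))

theorem numer {c e w v : ℕ} (h1 : 6 ∣ c) (h2 : e ≤ 4) (h3 : c ∣ w - 1) (h4 : 1 < w) (h5 : 1 < v)
    (h6 : c * e * 6 = w * v - 1) : False := by
  obtain ⟨c, rfl⟩ := h1
  obtain ⟨x, hx⟩ := h3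
  obtain rfl : w = 6 * c * x + 1 := by omega
  obtain ⟨v, rfl⟩ : ∃ u, v = u + 1 := ⟨v - 1, by omega⟩
  have h7 : 6 * c * e * 6 = 6 * c * (x * (v + 1)) + v := by
    have : (6 * c * x + 1) * (v + 1) = 6 * c * (x * (v + 1)) + v + 1 := by ring
    omega
  obtain ⟨y, rfl⟩ : 6 * c ∣ v := (Nat.dvd_add_right (dvd_mul_right _ _)).1
    (h7 ▸ (mul_assoc (6 * c) e 6).symm ▸ dvd_mul_right _ _)
  have c0 : 0 < c := by rcases c with _ | c <;> simp at h4 ⊢
  have x0 : 0 < x := by rcases x with _ | x <;> simp at h4 ⊢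
  have y0 : 0 < y := by rcases y with _ | y <;> simp at h5 ⊢
  have h8 : e * 6 = 6 * (c * (x * y)) + (x + y) :=
    Nat.eq_of_mul_eq_mul_left (by omega : 0 < 6 * c) (by linarith)
  have h9 : x * y ≤ c * (x * y) := Nat.le_mul_of_pos_left _ c0
  have : x + y ≤ x * y + 1 := by nlinarith
  omega

/-- a subgroup with a unique involution `z`, which is central. -/
structure UI (X : Subgroup G) (z : G) : Prop where
  mem : z ∈ X
  ne : z ≠ 1
  sq : z * z = 1
  uq : ∀ x ∈ X, x * x = 1 → x = 1 ∨ x = z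

/-- commuting modulo `z`. -/
def RC (z g x : G) : Prop := g * x * g⁻¹ = x ∨ g * x * g⁻¹ = x * z

namespace UI
omit [Finite G]

theorem conj (h : UI X z) {g : G} (hg : g * z * g⁻¹ ∈ X) : g * z * g⁻¹ = z :=
  (h.uq _ hg (by rw [conj_mul, h.sq]; simp)).resolve_left (by simpa using h.ne)

theorem comm (h : UI X z) (hx : x ∈ X) : x * z = z * x :=
  mul_inv_eq_iff_eq_mul.1 (h.conj (mul_mem (mul_mem hx h.mem) (inv_mem hx)))

theorem of_comm (h : UI X z) (hx : x ∈ X) (hy : y ∈ X) (sx : x * x = z) (sy : y * y = z)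
    (e : x * y * x⁻¹ = y) : y = x ∨ y = x * z := by
  rw [mul_inv_eq_iff_eq_mul] at e
  rcases h.uq _ (mul_mem (inv_mem hx) hy) (by
    calc x⁻¹ * y * (x⁻¹ * y) = x⁻¹ * x⁻¹ * (x * y) * x⁻¹ * y := by group
      _ = (x * x)⁻¹ * (y * y) := by rw [e]; group
      _ = 1 := by rw [sx, sy, inv_mul_cancel]) with e' | e'
  · exact Or.inl (inv_mul_eq_one.1 e').symm
  · exact Or.inr (inv_mul_eq_iff_eq_mul.1 e')

theorem third (h : UI X z) {w : G} (hx : x ∈ X) (hy : y ∈ X) (hw : w ∈ X) (sx : x * x = z)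
    (sy : y * y = z) (sw : w * w = z) (e1 : x * y * x⁻¹ = y * z) (e2 : x * w * x⁻¹ = w * z)
    (e3 : y * w * y⁻¹ = w * z) : w = x * y ∨ w = x * y * z := by
  refine h.of_comm (mul_mem hx hy) hw ?_ sw ?_
  · calc x * y * (x * y) = x * y * x⁻¹ * (x * x) * y := by group
      _ = z := by rw [e1, sx, mul_assoc y, h.sq, mul_one, sy]
  · calc x * y * w * (x * y)⁻¹ = x * (y * w * y⁻¹) * x⁻¹ := by group
      _ = x * w * x⁻¹ * (x * z * x⁻¹) := by rw [e3]; group
      _ = w := by rw [e2, h.comm hx, mul_inv_cancel_right, mul_assoc, h.sq, mul_one]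

end UI

theorem UI.quat (h : UI X z) (ni : ∀ M ≤ X, M.relIndex X ≠ 2) (ht : t ∈ X) (tt : t * t = z)
    (hR : ∀ j ∈ X, j * j = z → RC z j t) (hx : x ∈ X) (hy : y ∈ X) (sx : x * x = z)
    (sy : y * y = z) (ne : x * y ≠ y * x) :
    ∃ j ∈ X, t * j ≠ j * t ∧ ∃ e ≤ 4, o[(X ⊓ C1[t] ⊓ C1[j] : Subgroup G)] * e * 6 = o[X] := by
  have cz : ∀ {g u : G}, g ∈ X → g * (u * z) * g⁻¹ = g * u * g⁻¹ * z := fun {g u} hg => by
    rw [← conj_mul, h.comm hg, mul_inv_cancel_right]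
  have nz : ∀ u : G, u ≠ u * z := fun u e => h.ne (by simpa using e.symm)
  have zz : ∀ u : G, u * z * z = u := fun u => by rw [mul_assoc, h.sq, mul_one]
  obtain ⟨j₁, hj₁, e₁⟩ : ∃ j ∈ X, j * t * j⁻¹ = t * z := by
    by_contra e
    push Not at e
    have k : ∀ j ∈ X, j * j = z → j = t ∨ j = t * z := fun j hj sj => h.of_comm ht hj tt sj (by
      have := (hR j hj sj).resolve_right (e j hj)
      rw [mul_inv_eq_iff_eq_mul] at this ⊢
      exact this.symm)
    have := h.comm ht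
    rcases k x hx sx with rfl | rfl <;> rcases k y hy sy with rfl | rfl
    · exact ne rfl
    · exact ne (by rw [mul_assoc, ← this])
    · exact ne (by rw [mul_assoc, ← this])
    · exact ne rfl
  let M : Subgroup G :=
    { carrier := {g | g ∈ X ∧ RC z g t}
      one_mem' := ⟨one_mem _, Or.inl (by simp)⟩
      mul_mem' := fun {u v} hu hv => ⟨mul_mem hu.1 hv.1, by
        have : u * v * t * (u * v)⁻¹ = u * (v * t * v⁻¹) * u⁻¹ := by group
        rcases hu.2 with a | a <;> rcases hv.2 with b | b <;> rw [RC, this, b] <;>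
          simp [cz hu.1, a, zz, -mul_inv_rev]⟩
      inv_mem' := fun {u} hu => ⟨inv_mem hu.1, by
        rcases hu.2 with a | a
        · left; nth_rw 1 [← a]; group
        · right
          have : u * (t * z) * u⁻¹ = t := by rw [cz hu.1, a, zz]
          nth_rw 1 [← this]; group⟩ }
  have MX : M ≤ X := fun _ hg => hg.1
  have i1 : C1[t].relIndex M = 2 := by
    rw [← ncard_class, ← Set.ncard_pair (nz t)]
    congr 1
    ext u
    exact ⟨fun ⟨g, hg, e⟩ => e ▸ hg.2, fun e => e.elim (fun e => ⟨1, one_mem _, by simp [e]⟩)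
      fun e => ⟨j₁, ⟨hj₁, Or.inr e₁⟩, e₁.trans e.symm⟩⟩
  have i2 : C1[t].relIndex X = 2 * M.relIndex X := by
    rw [← i1, ← inf_relIndex_right _ X, ← relIndex_mul_relIndex (C1[t] ⊓ X) M X
      (fun g hg => ⟨hg.2, Or.inl (by rw [mul_inv_eq_iff_eq_mul]; exact (mc1.1 hg.1))⟩) MX, ← inf_relIndex_right _ M, inf_assoc,
      inf_eq_right.2 MX, inf_relIndex_right]
  obtain ⟨g, hg, gM⟩ : ∃ g ∈ X, g ∉ M := by
    by_contra e
    push Not at e
    rw [relIndex_eq_one.2 e, ← inf_relIndex_right] at i2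
    exact ni _ inf_le_right i2
  have cl : ∀ g ∈ X, ∀ j ∈ X, j * j = z → RC z j (g * t * g⁻¹) := fun g hg j hj sj => by
    have : j * (g * t * g⁻¹) * j⁻¹ = g * (g⁻¹ * j * g * t * (g⁻¹ * j * g)⁻¹) * g⁻¹ := by group
    rcases hR (g⁻¹ * j * g) (mul_mem (mul_mem (inv_mem hg) hj) hg) (by
      calc _ = g⁻¹ * (j * j) * g := by group
        _ = z := by rw [sj, mul_assoc, ← h.comm hg, inv_mul_cancel_left]) with a | a
    · exact Or.inl (by rw [this, a])
    · exact Or.inr (by rw [this, a, cz hg])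
  have cm : ∀ g ∈ X, g * t * g⁻¹ ∈ X := fun g hg => mul_mem (mul_mem hg ht) (inv_mem hg)
  have cs : ∀ g ∈ X, g * t * g⁻¹ * (g * t * g⁻¹) = z := fun g hg => by
    rw [conj_mul, tt, h.comm hg, mul_inv_cancel_right]
  have hj := cm g hg
  have sj := cs g hg
  have tj := (cl g hg t ht tt).resolve_left fun e => gM ⟨hg, h.of_comm ht hj tt sj e⟩
  have six : ∀ u ∈ X, (u * t * u⁻¹ = t ∨ u * t * u⁻¹ = t * z) ∨
      u * t * u⁻¹ ∈ ({g * t * g⁻¹, g * t * g⁻¹ * z, t * (g * t * g⁻¹), t * (g * t * g⁻¹) * z} : Set G) :=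
    fun u hu => by
      rcases cl u hu t ht tt with a | a
      · exact Or.inl (h.of_comm ht (cm u hu) tt (cs u hu) a)
      rcases cl u hu _ hj sj with b | b
      · rcases h.of_comm hj (cm u hu) sj (cs u hu) b with c | c <;> simp [c]
      · rcases h.third ht hj (cm u hu) tt sj (cs u hu) tj a b with c | c <;> simp [c]
  set j := g * t * g⁻¹ with hjd
  have four : ({j, j * z, t * j, t * j * z} : Set G).ncard ≤ 4 :=
    (Set.ncard_insert_le _ _).trans (Nat.succ_le_succ ((Set.ncard_insert_le _ _).trans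
      (Nat.succ_le_succ ((Set.ncard_insert_le _ _).trans (by simp)))))
  have i3 : C1[t].relIndex X ≤ 6 := by
    rw [← ncard_class]
    refine (Set.ncard_le_ncard (t := insert t (insert (t * z) {j, j * z, t * j, t * j * z})) ?_).trans
      ((Set.ncard_insert_le _ _).trans (Nat.succ_le_succ ((Set.ncard_insert_le _ _).trans
        (Nat.succ_le_succ four))))
    rintro _ ⟨u, hu, rfl⟩
    rcases six u hu with (a | a) | a
    exacts [Or.inl a, Or.inr (Or.inl a), Or.inr (Or.inr a)]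
  have i4 : C1[j].relIndex (X ⊓ C1[t]) ≤ 4 := by
    rw [← ncard_class]
    refine (Set.ncard_le_ncard ?_).trans four
    rintro _ ⟨u, hu, rfl⟩
    have e : u * j * u⁻¹ = u * g * t * (u * g)⁻¹ := by rw [hjd]; group
    rw [e]
    refine (six _ (mul_mem hu.1 hg)).resolve_left fun a => gM ?_
    have uM : u ∈ M := ⟨hu.1, Or.inl (by rw [mul_inv_eq_iff_eq_mul]; exact mc1.1 hu.2)⟩
    exact (mul_mem_cancel_left uM).1 ⟨mul_mem hu.1 hg, a⟩
  have i5 : M.relIndex X = 3 := by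
    have := ni M MX
    have : M.relIndex X ≠ 0 := index_ne_zero_of_finite
    have : M.relIndex X ≠ 1 := fun e => gM (relIndex_eq_one.1 e hg)
    omega
  refine ⟨j, hj, fun e => nz j (by rw [← tj, e, mul_inv_cancel_right]), _, i4, ?_⟩
  rw [i5, ← inf_relIndex_right, inf_comm] at i2
  rw [← inf_relIndex_right, inf_comm C1[j], CfsgH2.card_mul_relIndex inf_le_left,
    show 6 = 2 * 3 from rfl, ← i2,
    CfsgH2.card_mul_relIndex inf_le_left]

end CfsgH8.Za
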