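import Cfsg.Agent.H8.Za12
import Cfsg.Agent.H3.FC

/-! Sharply triply transitive groups of even degree. -/

set_option autoImplicit false
open Subgroup Cfsg CfsgH2 CfsgH1 CfsgH3 CfsgRO Function MulAction
open scoped commutatorElement IsMulCommutative

namespace CfsgH8.Za

variable {G Ω : Type*} [Group G] [MulAction G Ω] {a b c : Ω} {K N A W : Subgroup G} {z s x : G}

local notation "L" => stabilizer G a
local notation "H" => HH G a b

/-- sharply triply transitive of even degree. -/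
structure E3 (a b : Ω) (K : Subgroup G) (z : G) : Prop extends ZK a b K where
  hd : o[HH G a b] = o[K] - 1
  ui : UI (HH G a b) z

variable [Finite G]

theorem ZK.card_dvd_sub (h : ZK a b K) (hA : A ≤ H) (hW : W ≤ K) (hn : A ≤ N[W]) :
    o[A] ∣ o[W] - 1 := by
  by_cases h0 : A = ⊥
  · rw [h0, card_bot]; exact one_dvd _
  by_cases h1 : W = ⊥
  · rw [h1, card_bot]; exact dvd_zero _
  exact ((h.frob fun e => h0 (le_bot_iff.1 (e ▸ hA))).mono hW hA hn h1 h0).card_dvd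

theorem ZK.exists_ui (h : ZK a b K) (he : Even o[H]) : ∃ z, UI H z := by
  obtain ⟨z, hz, oz⟩ := exists_prime_order_mem Nat.prime_two he.two_dvd
  refine ⟨z, hz, ne_of_ord oz, sq_of_ord oz, fun x hx xx => ?_⟩
  by_cases x1 : x = 1
  · exact Or.inl x1
  exact Or.inr ((h.frob fun e => ne_of_ord oz (e.le hz)).involution_unique hz oz hx
    (orderOf_eq_prime (by rw [sq, xx]) x1))

theorem ZT.three_eq (h : S3 G Ω) (hab : a ≠ b) (ca : c ≠ a) (cb : c ≠ b) {u v : G} (hu : u ∈ H)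
    (u1 : u ≠ 1) (u3 : u ^ 3 = 1) (hv : v ∈ H) (v1 : v ≠ 1) (v3 : v ^ 3 = 1) : v = u ∨ v = u⁻¹ := by
  have cyc : ∀ u ∈ H, u ≠ 1 → u ^ 3 = 1 →
      c ≠ u • c ∧ c ≠ u • u • c ∧ u • c ≠ u • u • c ∧ u • u • u • c = c := fun u hu h1 h2 => by
    have e1 : c ≠ u • c := fun e => (h.fix_H hab hu h1 e.symm).elim ca cb
    have e2 : u • u • u • c = c := by rw [← mul_smul, ← mul_smul, ← pow_three', h2, one_smul]
    exact ⟨e1, fun e => e1 (by rw [← e] at e2; exact e2.symm), fun e => e1 (smul_left_cancel u e), e2⟩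
  have key : ∀ v ∈ H, v ≠ 1 → v ^ 3 = 1 → v ≠ u →
      ∃ g : G, g • c = c ∧ g • a = b ∧ g • b = a ∧ g * u * g⁻¹ = v := by
    intro v hv v1 v3 uv
    obtain ⟨a1, a2, a3, a4⟩ := cyc u hu u1 u3
    obtain ⟨b1, b2, b3, b4⟩ := cyc v hv v1 v3
    obtain ⟨g, e1, e2, e3⟩ := h.tri _ _ _ _ _ _ a1 a2 a3 b1 b2 b3
    have e : g * u = v * g := h.eq_of_three a1 a3 a2 (by rw [mul_smul, mul_smul, e1, e2])
      (by rw [mul_smul, mul_smul, e2, e3]) (by rw [mul_smul, mul_smul, a4, e1, e3, b4])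
    have e' : g * u * g⁻¹ = v := by rw [e, mul_inv_cancel_right]
    rcases h.pres hab hu u1 (e' ▸ hv) with h' | h'
    · rw [h.three g a b c hab cb.symm ca.symm h'.1 h'.2 e1] at e'
      exact absurd (by simpa using e'.symm) uv
    · exact ⟨g, e1, h'.1, h'.2, e'⟩
  refine or_iff_not_imp_left.2 fun uv => ?_
  obtain ⟨g, e1, e2, e3, e4⟩ := key v hv v1 v3 uv
  obtain ⟨k, f1, f2, f3, f4⟩ := key u⁻¹ (inv_mem hu) (inv_ne_one.2 u1)
    (by rw [inv_pow, u3, inv_one]) (fun e => u1 (by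
      rw [pow_three', mul_eq_one_iff_eq_inv.2 e.symm, one_mul] at u3; exact u3))
  rw [← e4, h.eq_of_three hab cb.symm ca.symm (e2.trans f2.symm) (e3.trans f3.symm) (e1.trans f1.symm), f4]

namespace E3

omit [Finite G] in
theorem sw_z (h : E3 a b K z) (h1 : s • a = b) (h2 : s • b = a) : s * z = z * s :=
  mul_inv_eq_iff_eq_mul.1 (h.ui.conj (swap_conj h1 h2 h.ui.mem))

omit [Finite G] in
theorem ord_z (h : E3 a b K z) : orderOf z = 2 := orderOf_eq_prime (by rw [sq, h.ui.sq]) h.ui.ne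

theorem even (h : E3 a b K z) : Even o[H] :=
  even_iff_two_dvd.2 (h.ord_z ▸ Subgroup.orderOf_dvd_natCard _ h.ui.mem)

omit [Finite G] in
theorem H_ne (h : E3 a b K z) : H ≠ ⊥ := fun e => h.ui.ne (e.le h.ui.mem)

omit [Finite G] in
theorem exists_pt (h : E3 a b K z) : ∃ c, c ≠ a ∧ c ≠ b := by
  by_contra e
  push Not at e
  refine h.ui.ne (h.faith z fun y => ?_)
  by_cases hy : y = a
  · exact hy ▸ h.ui.mem.1
  · exact e y hy ▸ h.ui.mem.2

theorem exists_sw (h : E3 a b K z) :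
    ∃ (s : G) (c : Ω), s * s = 1 ∧ s • c = c ∧ s • a = b ∧ s • b = a := by
  obtain ⟨c, h1, h2⟩ := h.exists_pt
  obtain ⟨s, hs⟩ := h.exists_inv_fix h.even h1 h2
  exact ⟨s, c, hs⟩

omit [Finite G] in
theorem fixes (h : E3 a b K z) (h1 : s • a = b) (h2 : s • b = a) (h3 : s • c = c) :
    c ≠ a ∧ c ≠ b ∧ s ≠ 1 ∧ z • c ≠ c ∧ s • z • c = z • c := by
  have ca : c ≠ a := by rintro rfl; exact h.ne (h3.symm.trans h1)
  have cb : c ≠ b := by rintro rfl; exact h.ne (h2.symm.trans h3)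
  exact ⟨ca, cb, by rintro rfl; exact h.ne (by simpa using h1),
    fun e => (h.fix_H h.ne h.ui.mem h.ui.ne e).elim ca cb, by
      rw [← mul_smul, h.sw_z h1 h2, mul_smul, h3]⟩

omit [Finite G] in
theorem cen (h : E3 a b K z) (h1 : s • a = b) (h2 : s • b = a) (h3 : s • c = c) (hx : x ∈ H)
    (e : s * x * s⁻¹ = x) : x = 1 ∨ x = z := by
  obtain ⟨ca, cb, s1, zc, sz⟩ := h.fixes h1 h2 h3
  have sx : s • x • c = x • c := by rw [← mul_smul, mul_inv_eq_iff_eq_mul.1 e, mul_smul, h3]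
  by_contra ne
  push Not at ne
  refine s1 (h.three s c (z • c) (x • c) zc.symm (fun e => ?_)
    (fun e => (h.fix_H h.ne hx ne.1 e.symm).elim ca cb) h3 sz sx)
  exact (h.fix_H h.ne (mul_mem (inv_mem h.ui.mem) hx) (fun e' => ne.2 (inv_mul_eq_one.1 e').symm)
    (by rw [mul_smul, ← e, inv_smul_smul])).elim ca cb

theorem fix_sw (h : E3 a b K z) (ni : ∀ M ≤ H, M.relIndex H ≠ 2) (h1 : s • a = b) (h2 : s • b = a)
    (ss : s * s = 1) : ∃ c : Ω, s • c = c := by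
  classical
  haveI := h.finΩ
  haveI := Fintype.ofFinite Ω
  by_contra e
  push Not at e
  let σ : G →* ℤˣ := Equiv.Perm.sign.comp (toPermHom G Ω)
  have k1 : ∀ x ∈ H, σ x = 1 := fun x hx => by
    by_contra e
    refine ni (σ.ker ⊓ H) inf_le_right ?_
    rw [inf_relIndex_right]
    refine two_of hx e fun u _ v _ hu hv => ?_
    rw [MonoidHom.mem_ker] at *
    rw [map_mul, (Int.units_eq_one_or _).resolve_left hu, (Int.units_eq_one_or _).resolve_left hv]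
    simp
  obtain ⟨w, c, ww, w3, w1, w2⟩ := h.exists_sw
  obtain ⟨-, -, -, zc, sz⟩ := h.fixes w1 w2 w3
  obtain ⟨g, hg⟩ := h.toZT.conj_H h.ne zc.symm w3 sz
  have k2 : σ s = 1 := by
    have e1 := k1 _ hg
    have e2 := k1 _ (swap_swap w1 w2 h1 h2)
    simp only [map_mul, map_inv, mul_inv_cancel_comm] at e1 e2
    simpa [e1] using e2
  have k3 : ∀ g : G, g * g = 1 →
      σ g = (-1) ^ ((o[K] + 1 - Fintype.card (fixedPoints (toPermHom G Ω g))) / 2) := fun g gg => by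
    rw [← h.card_Ω', Nat.card_eq_fintype_card]
    exact Equiv.Perm.sign_of_pow_two_eq_one (by rw [← map_pow, sq, gg, map_one])
  have e1 := k3 s ss
  have e2 := k3 z h.ui.sq
  rw [Fintype.card_eq_zero_iff.2 ⟨fun y => e y.1 y.2⟩, k2] at e1
  rw [show Fintype.card (fixedPoints (toPermHom G Ω z)) = 2 by
    rw [← Nat.card_eq_fintype_card, Nat.card_coe_set_eq, ← Set.ncard_pair h.ne]
    congr 1
    ext y
    exact ⟨fun e => h.fix_H h.ne h.ui.mem h.ui.ne e, fun e => e.elim (fun e => e ▸ h.ui.mem.1)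
      fun e => e ▸ h.ui.mem.2⟩, k1 z h.ui.mem] at e2
  obtain ⟨m, hm⟩ := h.even
  have := h.hd
  have := card_pos' K
  rw [show (o[K] + 1 - 0) / 2 = (o[K] + 1 - 2) / 2 + 1 by omega, pow_succ, ← e2] at e1
  simp at e1

theorem dih (h : E3 a b K z) (ni : ∀ M ≤ H, M.relIndex H ≠ 2) (h1 : s • a = b) (h2 : s • b = a)
    (ss : s * s = 1) {j : G} (hj : j ∈ H) (jj : j * j = z) :
    ∃ t ∈ H, s * t * s⁻¹ = t * z ∧ RC z j t := by
  have cen : ∀ {s : G}, s • a = b → s • b = a → s * s = 1 → ∀ x ∈ H, s * x * s⁻¹ = x → x = 1 ∨ x = z :=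
    fun h1 h2 ss x hx e => (h.fix_sw ni h1 h2 ss).elim fun c hc => h.cen h1 h2 hc hx e
  have zz := h.ui.sq
  have z1 := h.ui.ne
  have si : s⁻¹ = s := inv_eq_of_mul_eq_one_left ss
  have sz : Commute s z := h.sw_z h1 h2
  have jz : Commute j z := h.ui.comm hj
  have uz : Commute (s * j) z := sz.mul_left jz
  have par : ∀ k : ℕ, ((s * j) ^ (2 * k) ∈ H) ∧
      (s * j) ^ (2 * k + 1) • a = b ∧ (s * j) ^ (2 * k + 1) • b = a := fun k => by
    have e1 : (s * j) • a = b := by rw [mul_smul, hj.1, h1]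
    have e2 : (s * j) • b = a := by rw [mul_smul, hj.2, h2]
    have : (s * j) ^ (2 * k) ∈ H := by
      rw [pow_mul]; exact pow_mem (mem_HH.2 ⟨by rw [sq, mul_smul, e1, e2], by rw [sq, mul_smul, e2, e1]⟩) _
    exact ⟨this, by rw [pow_succ', mul_smul, this.1, e1], by rw [pow_succ', mul_smul, this.2, e2]⟩
  have ev : ∀ k, (s * j) ^ k ∈ H → ∃ m, k = m + m := fun k hk => by
    rcases Nat.even_or_odd' k with ⟨m, rfl | rfl⟩
    · exact ⟨m, two_mul m⟩
    · exact absurd (hk.1.symm.trans (par m).2.1) h.ne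
  obtain ⟨r, c1, cz, cc⟩ : ∃ r : ℕ, (s * j) ^ r ≠ 1 ∧ (s * j) ^ r ≠ z ∧
      ((s * j) ^ r * (s * j) ^ r = 1 ∨ (s * j) ^ r * (s * j) ^ r = z) := by
    obtain ⟨m, hm⟩ := ev (orderOf (s * j)) (by rw [pow_orderOf_eq_one]; exact one_mem _)
    have p := orderOf_pos (s * j)
    by_cases e : (s * j) ^ m = z
    · obtain ⟨r, rfl⟩ := ev m (e ▸ h.ui.mem)
      rw [pow_add] at e
      exact ⟨r, fun e' => z1 (by rw [← e, e', mul_one]), fun e' => z1 (by rw [← e, e', zz]), Or.inr e⟩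
    · exact ⟨m, pow_ne_one_of_lt_orderOf (by omega) (by omega), e,
        Or.inl (by rw [← pow_add, ← hm, pow_orderOf_eq_one])⟩
  have k0 : s * (s * j) * s⁻¹ = (s * j)⁻¹ * z := by
    rw [← mul_assoc, ss, one_mul, mul_inv_rev, mul_assoc, si, sz.eq, ← mul_assoc, ← jj,
      inv_mul_cancel_left]
  have k1 : RC z s ((s * j) ^ r) := by
    have cz : Commute ((s * j) ^ r) z := uz.pow_left r
    rw [RC, ← conj_pow, k0, (uz.inv_left).mul_pow, inv_pow]
    generalize (s * j) ^ r = c at *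
    have zr : z ^ r = 1 ∨ z ^ r = z := by
      rcases Nat.even_or_odd' r with ⟨m, rfl | rfl⟩ <;> simp [pow_mul, pow_succ, zz]
    have ci : c⁻¹ = c ∨ c⁻¹ = c * z := cc.imp inv_eq_of_mul_eq_one_left fun e =>
      inv_eq_of_mul_eq_one_right (by rw [← mul_assoc, e, zz])
    rcases zr with e | e <;> rcases ci with e' | e' <;> simp [e, e', mul_assoc, zz]
  have k2 : RC z j ((s * j) ^ r) := by
    have e : j * (s * j) ^ r * j⁻¹ = s * (s * j * (s * j) ^ r * (s * j)⁻¹) * s⁻¹ := by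
      rw [← si]; simp only [si, mul_inv_rev, mul_assoc, ss, mul_one]; rw [← mul_assoc s s, ss, one_mul]
    rwa [RC, e, ← pow_succ', pow_succ, mul_inv_cancel_right]
  have cz' : Commute ((s * j) ^ r) z := uz.pow_left r
  have sym : ∀ {g : G}, Commute g z → RC z j g → RC z g j := fun {g} gz e => e.imp
    (fun e => by rw [mul_inv_eq_iff_eq_mul] at e ⊢; exact e.symm) fun e => by
      rw [mul_inv_eq_iff_eq_mul] at e ⊢
      rw [mul_assoc, ← gz.eq, ← mul_assoc, e, mul_assoc g z j, ← jz.eq, mul_assoc, mul_assoc, zz,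
        mul_one]
  have j1 : ¬ (j = 1 ∨ j = z) := by
    rintro (rfl | rfl)
    · exact z1 (by simpa using jj.symm)
    · exact z1 (jj.symm.trans zz)
  rcases Nat.even_or_odd' r with ⟨m, rfl | rfl⟩
  · exact ⟨_, (par m).1, k1.resolve_left fun e => (cen h1 h2 ss _ (par m).1 e).elim c1 cz, k2⟩
  obtain ⟨-, p1, p2⟩ := par m
  generalize (s * j) ^ (2 * m + 1) = c at *
  have hx := swap_swap h1 h2 p1 p2
  obtain ⟨x, rfl⟩ : ∃ x, c = s * x := ⟨s⁻¹ * c, by group⟩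
  rw [inv_mul_cancel_left] at hx
  have xz : Commute x z := h.ui.comm hx
  have k3 := sym cz' k2
  rcases k1 with e | e
  · have e' : s * x * s⁻¹ = x := mul_left_cancel (a := s) ((mul_assoc _ _ _).symm.trans e)
    refine ⟨j, hj, ?_, Or.inl (by group)⟩
    have : RC z s j := by
      rcases cen h1 h2 ss x hx e' with rfl | rfl
      · simpa using k3
      · rwa [RC, mul_inv_rev, mul_assoc s, ← jz.eq, mul_assoc, mul_assoc j, mul_inv_cancel_left,
          ← mul_assoc] at k3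
    exact this.resolve_left fun e => j1 (cen h1 h2 ss j hj e)
  · have e' : s * x * s⁻¹ = x * z := mul_left_cancel (a := s) (by rw [← mul_assoc s x z, ← e]; group)
    refine ⟨x, hx, e', Or.inl ?_⟩
    have xx : x * x = z := (cen h1 h2 ss _ (mul_mem hx hx) (by
      rw [← conj_mul, e', mul_assoc, ← mul_assoc z, ← xz.eq, mul_assoc x z, zz, mul_one])).resolve_left
      fun e1 => (h.ui.uq x hx e1).elim (fun e2 => z1 (by simpa [e2] using e'.symm))
        fun e2 => z1 (by rw [e2, sz.eq, mul_inv_cancel_right, zz] at e'; exact e')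
    have c2 : s * x * (s * x) = 1 := by
      calc s * x * (s * x) = s * x * s⁻¹ * x := by rw [si]; group
        _ = 1 := by rw [e', mul_assoc, ← xz.eq, ← mul_assoc, xx, zz]
    have k4 := k3.resolve_left fun e => j1 (cen p1 p2 c2 j hj e)
    have k5 : s * x * x * (s * x)⁻¹ = x * z := by rw [← e']; group
    rcases cen p1 p2 c2 _ (mul_mem hj (inv_mem hx)) (by
      rw [← conj_mul, k4, ← conj_inv, k5]; group) with e1 | e1
    · rw [mul_inv_eq_one.1 e1, mul_inv_cancel_right]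
    · rw [mul_inv_eq_iff_eq_mul.1 e1, ← xz.eq, mul_inv_eq_iff_eq_mul, mul_assoc, ← xz.eq]

theorem ab (h : E3 a b K z) : Ab[K] := h.ab_of_le h.H_ne (by rw [h.hd]; omega)

theorem K_ne (h : E3 a b K z) : K ≠ ⊥ := h.ker_ne h.H_ne

theorem exists_two (h : E3 a b K z) : ∃ M ≤ H, M.relIndex H = 2 := by
  by_contra ni
  push Not at ni
  obtain ⟨P, hP⟩ := exists_syl (p := 2) H
  rcases CfsgH4.cyc_or_gq hP.pg (fun x hx y hy ox oy _ =>
    ((h.ui.uq x (hP.le hx) (sq_of_ord ox)).resolve_left (ne_of_ord ox)).trans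
      ((h.ui.uq y (hP.le hy) (sq_of_ord oy)).resolve_left (ne_of_ord oy)).symm) with hc | ⟨u, v, m, q⟩
  · obtain ⟨M, h1, h2⟩ := two_of_npc (CfsgH4.npc_of_cyclic hP hc) h.even
    exact ni M h1 h2
  have hu : u ∈ P := q.sup ▸ mem_sup_left (mem_zpowers u)
  have hv : v ∈ P := q.sup ▸ mem_sup_right (mem_zpowers v)
  have ez : u ^ 2 ^ m = z :=
    (h.ui.uq _ (hP.le q.tmem) (sq_of_ord q.ord_t)).resolve_left (ne_of_ord q.ord_t)
  have vv : v * v = z := (q.sq_eq hv q.nmem).trans ez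
  have uv : u * v * (u * v) = z := (q.sq_eq (mul_mem hu hv) fun e =>
    q.nmem ((mul_mem_cancel_left (mem_zpowers u)).1 e)).trans ez
  obtain ⟨s, -, ss, -, h1, h2⟩ := h.exists_sw
  obtain ⟨c, h3⟩ := h.fix_sw ni h1 h2 ss
  obtain ⟨t, ht, e, -⟩ := h.dih ni h1 h2 ss (hP.le hv) vv
  have tz := h.ui.comm ht
  have sz := h.sw_z h1 h2
  have tt : t * t = z := (h.cen h1 h2 h3 (mul_mem ht ht) (by
    rw [← conj_mul, e, mul_assoc, ← mul_assoc z, ← tz, mul_assoc t z, h.ui.sq, mul_one])).resolve_left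
      fun e1 => (h.ui.uq t ht e1).elim (fun e2 => h.ui.ne (by simpa [e2] using e.symm))
        fun e2 => h.ui.ne (by rw [e2, sz, mul_inv_cancel_right, h.ui.sq] at e; exact e)
  obtain ⟨j, hj, tj, e', e4, hA⟩ := h.ui.quat ni ht tt (fun j hj jj => by
    obtain ⟨t', ht', e', r⟩ := h.dih ni h1 h2 ss hj jj
    rcases h.cen h1 h2 h3 (mul_mem ht' (inv_mem ht)) (by
      rw [← conj_mul, e', ← conj_inv, e]; group) with e1 | e1
    · exact mul_inv_eq_one.1 e1 ▸ r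
    · rw [mul_inv_eq_iff_eq_mul.1 e1, ← tz, RC, ← conj_mul, h.ui.comm hj, mul_inv_cancel_right,
        mul_left_inj, mul_left_inj] at r
      exact r) (hP.le hv) (hP.le (mul_mem hu hv)) vv uv fun e => q.sq_a_ne (by
        have := q.inv
        rw [← mul_assoc, mul_left_inj] at e
        rw [e, mul_inv_cancel_right] at this
        nth_rw 1 [this, inv_mul_cancel])
  obtain ⟨w, hw, ow⟩ := exists_prime_order_mem Nat.prime_three (hA ▸ Dvd.dvd.mul_left (by norm_num) _ :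
    3 ∣ o[H])
  have w1 : w ≠ 1 := by rintro rfl; simp at ow
  have w3 : w ^ 3 = 1 := ow ▸ pow_orderOf_eq_one w
  obtain ⟨ca, cb, -⟩ := h.fixes h1 h2 h3
  have wc : H ≤ C1[w] := by
    have i1 : C1[w].relIndex H ≤ 2 := by
      rw [← ncard_class]
      refine (Set.ncard_le_ncard (t := {w, w⁻¹}) ?_).trans ((Set.ncard_insert_le _ _).trans (by simp))
      rintro _ ⟨g, hg, rfl⟩
      exact ZT.three_eq (h.s3_of_card h.hd) h.ne ca cb hw w1 w3 (mul_mem (mul_mem hg hw) (inv_mem hg))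
        (by simpa using w1) (by rw [conj_pow, w3]; simp)
    have i2 := ni _ (inf_le_right : C1[w] ⊓ H ≤ H)
    have i3 : C1[w].relIndex H ≠ 0 := index_ne_zero_of_finite
    rw [inf_relIndex_right] at i2
    exact relIndex_eq_one.1 (by omega)
  set A := H ⊓ C1[t] ⊓ C1[j]
  have AH : A ≤ H := inf_le_left.trans inf_le_left
  have d6 : 6 ∣ o[A] := Nat.Coprime.mul_dvd_of_dvd_of_dvd (m := 2) (n := 3) (by norm_num)
    (h.ord_z ▸ Subgroup.orderOf_dvd_natCard _ ⟨⟨h.ui.mem, mc1.2 tz.symm⟩, mc1.2 (h.ui.comm hj).symm⟩)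
    (ow ▸ Subgroup.orderOf_dvd_natCard _ ⟨⟨hw, mc1.2 (mc1.1 (wc ht)).symm⟩, mc1.2 (mc1.1 (wc hj)).symm⟩)
  have HN : H ≤ N[K] := inf_le_left.trans h.le_norm
  by_cases irr : ∀ W ≤ K, A ≤ N[W] → W = ⊥ ∨ W = K
  · obtain ⟨k, hk, k1⟩ := exists_ne_one h.K_ne
    have := schur_comm h.ab h.K_ne (AH.trans HN) irr (HN ht) (HN hj) (fun g hg => mc1.1 hg.1.2)
      (fun g hg => mc1.1 hg.2) hk
    refine k1 (h.fpf (mul_mem (inv_mem (mul_mem hj ht)) (mul_mem ht hj))
      (fun e => tj (inv_mul_eq_one.1 e).symm) hk ?_)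
    calc _ = (j * t)⁻¹ * (j * (t * k * t⁻¹) * j⁻¹) * (t * j) := by group
      _ = _ := by rw [← this]; group
  push Not at irr
  obtain ⟨W, h4, h5, h6, h7⟩ := irr
  refine numer d6 e4 (h.card_dvd_sub AH h4 h5) (one_lt_card_iff_ne_bot W |>.2 h6)
    (v := W.relIndex K) ?_ (by rw [hA, CfsgH2.card_mul_relIndex h4, h.hd])
  have i3 : W.relIndex K ≠ 0 := index_ne_zero_of_finite
  have : W.relIndex K ≠ 1 := fun e => h7 (le_antisymm h4 (relIndex_eq_one.1 e))
  omega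

theorem exists_N (h : E3 a b K z) (h1 : s • a = b) (h2 : s • b = a) (ss : s * s = 1) :
    ∃ N ≤ H, N.relIndex H = 2 ∧ ∀ x ∈ N, s * x * s⁻¹ ∈ N := by
  obtain ⟨M, m1, m2⟩ := h.exists_two
  by_cases e : ∀ x ∈ M, s * x * s⁻¹ ∈ M
  · exact ⟨M, m1, m2, e⟩
  push Not at e
  obtain ⟨y, hy, e⟩ := e
  have sc : ∀ {x : G}, x ∈ H → s * x * s⁻¹ ∈ H := swap_conj h1 h2
  let N : Subgroup G :=
    { carrier := {x | x ∈ H ∧ (x ∈ M ↔ s * x * s⁻¹ ∈ M)}
      one_mem' := ⟨one_mem _, by simp⟩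
      mul_mem' := fun {u v} hu hv => ⟨mul_mem hu.1 hv.1, by
        rw [← conj_mul, mul_mem_two m2 hu.1 hv.1, mul_mem_two m2 (sc hu.1) (sc hv.1), hu.2, hv.2]⟩
      inv_mem' := fun {u} hu => ⟨inv_mem hu.1, by rw [← conj_inv, inv_mem_iff, inv_mem_iff, hu.2]⟩ }
  refine ⟨N, fun _ hx => hx.1, two_of (m1 hy) (fun e' => e (e'.2.1 hy)) fun u hu v hv e1 e2 =>
    ⟨mul_mem hu hv, ?_⟩, fun x hx => ⟨sc hx.1, ?_⟩⟩
  · replace e1 : ¬ (u ∈ M ↔ s * u * s⁻¹ ∈ M) := fun e => e1 ⟨hu, e⟩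
    replace e2 : ¬ (v ∈ M ↔ s * v * s⁻¹ ∈ M) := fun e => e2 ⟨hv, e⟩
    rw [← conj_mul, mul_mem_two m2 hu hv, mul_mem_two m2 (sc hu) (sc hv)]
    tauto
  · rw [show s * (s * x * s⁻¹) * s⁻¹ = s * s * x * (s * s)⁻¹ by group, ss]
    simpa using hx.2.symm

omit [Finite G] in
theorem sw_sq (h : E3 a b K z) (h1 : s • a = b) (h2 : s • b = a) (h3 : s • c = c) : s * s = 1 :=
  h.three _ a b c h.ne (h.fixes h1 h2 h3).2.1.symm (h.fixes h1 h2 h3).1.symm
    (by rw [mul_smul, h1, h2]) (by rw [mul_smul, h2, h1]) (by rw [mul_smul, h3, h3])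

theorem conj_iff (hN : N ≤ H) (h1 : s • a = b) (h2 : s • b = a) (i : N.relIndex H = 2)
    (hn : ∀ x ∈ N, s * x * s⁻¹ ∈ N) (hx : x ∈ H) : s * x * s⁻¹ ∈ N ↔ x ∈ N :=
  ⟨fun e => by simpa [mul_assoc] using (mem_normalizer_iff''.1 (mem_norm_of_conj hn) _).1 e, hn x⟩

theorem inv_N (h : E3 a b K z) (h1 : s • a = b) (h2 : s • b = a) (h3 : s • c = c) (hN : N ≤ H)
    (i : N.relIndex H = 2) (hn : ∀ x ∈ N, s * x * s⁻¹ ∈ N) : ∀ x ∈ N, s * x * s⁻¹ = x⁻¹ := by
  have ss := h.sw_sq h1 h2 h3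
  have e1 : C1[s] ⊓ H = zpowers z := le_antisymm (fun x hx => by
    rcases h.cen h1 h2 h3 hx.2 (by rw [← mc1.1 hx.1, mul_inv_cancel_right]) with rfl | rfl
    exacts [one_mem _, mem_zpowers _])
    (zpowers_le.2 ⟨mc1.2 (h.sw_z h1 h2).symm, h.ui.mem⟩)
  have e2 := CfsgH2.card_mul_relIndex (inf_le_right : C1[s] ⊓ H ≤ H)
  have e3 := CfsgH2.card_mul_relIndex hN
  rw [inf_relIndex_right, e1, Nat.card_zpowers, h.ord_z, ← ncard_class] at e2
  have e4 : {u | ∃ x ∈ H, x * s * x⁻¹ = u} = (· * s) '' (N : Set G) := Set.eq_of_subset_of_ncard_le (by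
    rintro _ ⟨x, hx, rfl⟩
    refine ⟨x * (s * x⁻¹ * s⁻¹), ?_, by simp [mul_assoc]⟩
    exact (mul_mem_two i hx (swap_conj h1 h2 (inv_mem hx))).2
      (by rw [conj_iff hN h1 h2 i hn (inv_mem hx), inv_mem_iff])) (by
    rw [Set.ncard_image_of_injective _ (mul_left_injective s), ← Nat.card_coe_set_eq]
    change o[N] ≤ _
    rw [i] at e3
    omega)
  intro x hx
  obtain ⟨y, -, e⟩ := e4.ge ⟨x, hx, rfl⟩
  have : x * s * (x * s) = 1 := by
    change y * s * y⁻¹ = x * s at e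
    rw [← e, conj_mul, ss]; simp
  rw [inv_eq_of_mul_eq_one_left ss]
  exact eq_inv_of_mul_eq_one_right (by rw [← this]; group)

theorem exists_G0 (h : E3 a b K z) : ∃ M : Subgroup G, M.index = 2 ∧ K ≤ M := by
  obtain ⟨s, -, ss, -, s1, s2⟩ := h.exists_sw
  obtain ⟨N, hN, i, hn⟩ := h.exists_N s1 s2 ss
  have D : ∀ {v : G}, v • a = b → v • b = a → ∀ k ∈ K, k ≠ 1 →
      ∃ k₁ ∈ K, ∃ x ∈ H, ∃ k₂ ∈ K, v * k * v⁻¹ = k₁ * x * v * k₂ := fun {v} h1 h2 k hk k1 => by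
    obtain ⟨k₁, a1, l, a2, e⟩ := h.bru h1 (g := v * k * v⁻¹) fun e => k1 (h.fr k hk (by
      rw [mul_smul, mul_smul, inv_smul_eq_iff.2 h2.symm] at e
      exact smul_left_cancel v (e.trans h2.symm)))
    obtain ⟨k₂, a3, x, a4, rfl⟩ := h.dec a2
    exact ⟨k₁, a1, _, swap_conj h1 h2 a4, _, h.nrm' a4.1 a3, by rw [e]; group⟩
  obtain ⟨k₀, hk₀, k1⟩ := exists_ne_one h.K_ne
  obtain ⟨v, v1, v2, vn, vv, k₁, a1, x, a2, k₂, a3, e⟩ : ∃ v : G, v • a = b ∧ v • b = a ∧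
      (∀ x ∈ N, v * x * v⁻¹ ∈ N) ∧ v * v ∈ N ∧
      ∃ k₁ ∈ K, ∃ x ∈ N, ∃ k₂ ∈ K, v * k₀ * v⁻¹ = k₁ * x * v * k₂ := by
    obtain ⟨k₁, a1, x, a2, k₂, a3, e⟩ := D s1 s2 k₀ hk₀ k1
    by_cases xN : x ∈ N
    · exact ⟨s, s1, s2, hn, ss ▸ one_mem _, k₁, a1, x, xN, k₂, a3, e⟩
    have ci : ∀ {y : G}, y ∈ H → _ := fun hy => conj_iff hN s1 s2 i hn hy
    have sc : ∀ {x : G}, x ∈ H → s * x * s⁻¹ ∈ H := swap_conj s1 s2
    refine ⟨x * s, by rw [mul_smul, s1, a2.2], by rw [mul_smul, s2, a2.1], fun y hy => ?_, ?_,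
      x * k₁ * x⁻¹, h.nrm x a2.1 _ a1, x * x * (s * x⁻¹ * s⁻¹ * x⁻¹), ?_,
      x * k₂ * x⁻¹, h.nrm x a2.1 _ a3, ?_⟩
    · rw [show x * s * y * (x * s)⁻¹ = x * (s * y * s⁻¹) * x⁻¹ by group,
        mul_mem_two i (mul_mem a2 (sc (hN hy))) (inv_mem a2), mul_mem_two i a2 (sc (hN hy))]
      simp [xN, hn y hy]
    · rw [show x * s * (x * s) = x * (s * x * s⁻¹) * (s * s) by group, ss, mul_one,
        mul_mem_two i a2 (sc a2), ci a2]
    · refine mul_mem ((mul_mem_two i a2 a2).2 Iff.rfl) ?_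
      rw [mul_mem_two i (sc (inv_mem a2)) (inv_mem a2), ci (inv_mem a2)]
    · calc _ = x * (s * k₀ * s⁻¹) * x⁻¹ := by group
        _ = _ := by rw [e]; group
  have ci : ∀ {y : G}, y ∈ H → _ := fun hy => conj_iff hN v1 v2 i vn hy
  have sc : ∀ {x : G}, x ∈ H → v * x * v⁻¹ ∈ H := swap_conj v1 v2
  have D' : ∀ k ∈ K, k ≠ 1 → ∃ k₁ ∈ K, ∃ x ∈ N, ∃ k₂ ∈ K, v * k * v⁻¹ = k₁ * x * v * k₂ := by
    intro k hk k1'
    obtain ⟨y, hy, e'⟩ := h.tri_of_card h.hd (ZK.smul_ne (h.le _ hk₀) h.ne.symm)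
      (fun e => k1 (h.fr _ hk₀ e)) (ZK.smul_ne (h.le _ hk) h.ne.symm) fun e => k1' (h.fr _ hk e)
    obtain rfl : y * k₀ * y⁻¹ = k := h.inj (h.nrm y hy.1 _ hk₀) hk h.ne.symm (by
      rw [mul_smul, mul_smul, show y⁻¹ • b = b from (inv_mem hy).2, e'])
    have y1 := sc hy
    refine ⟨_, h.nrm _ y1.1 _ a1, v * y * v⁻¹ * x * (v * (v * y * v⁻¹)⁻¹ * v⁻¹), ?_, _,
      h.nrm _ y1.1 _ a3, ?_⟩
    · rw [mul_mem_two i (mul_mem y1 (hN a2)) (sc (inv_mem y1)), ci (inv_mem y1), inv_mem_iff,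
        mul_mem_cancel_right a2]
    · calc _ = v * y * v⁻¹ * (v * k₀ * v⁻¹) * (v * y * v⁻¹)⁻¹ := by group
        _ = _ := by rw [e]; group
  have nK : N ≤ N[K] := hN.trans (inf_le_left.trans h.le_norm)
  let S : G → Prop := fun g => g ∈ K ⊔ N ∨ ∃ p ∈ K ⊔ N, ∃ k ∈ K, g = p * v * k
  have s1 : ∀ p ∈ K ⊔ N, ∀ g, S g → S (p * g) := fun p hp g hg => hg.imp (mul_mem hp)
    fun ⟨q, hq, k, hk, e⟩ => ⟨_, mul_mem hp hq, k, hk, by rw [e]; group⟩
  have s2 : ∀ g, S g → S (v * g) := by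
    rintro g (hg | ⟨p, hp, k, hk, rfl⟩)
    · obtain ⟨y, hy, k, hk, rfl⟩ := (mem_sup_of_norm nK).1 (sup_comm K N ▸ hg)
      exact Or.inr ⟨_, mem_sup_right (vn y hy), k, hk, by group⟩
    obtain ⟨k', hk', y, hy, rfl⟩ := (mem_sup_of_norm' nK).1 hp
    have y1 : v * y * v ∈ N := by simpa [mul_assoc] using mul_mem (vn y hy) vv
    by_cases k1 : k' = 1
    · exact Or.inl (by
        simpa [k1, mul_assoc] using mul_mem (mem_sup_right y1 : _ ∈ K ⊔ N) (mem_sup_left hk))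
    obtain ⟨k₁, a1, x, a2, k₂, a3, e⟩ := D' k' hk' k1
    refine Or.inr ⟨k₁ * (x * (v * (v * y * v) * v⁻¹)), mul_mem (mem_sup_left a1)
      (mem_sup_right (mul_mem a2 (vn _ y1))), _, mul_mem (h.nrm' (hN y1).1 a3) hk, ?_⟩
    calc _ = v * k' * v⁻¹ * (v * y * v) * k := by group
      _ = _ := by rw [e]; group
  let M : Subgroup G := closure (insert v (K ⊔ N : Subgroup G))
  have hM : ∀ g ∈ M, S g := fun g hg => by
    induction hg using closure_induction_left with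
    | one => exact Or.inl (one_mem _)
    | mul_left x hx y _ ih => exact hx.elim (fun e => e ▸ s2 y ih) fun e => s1 x e y ih
    | inv_mul_cancel x hx y _ ih =>
      rcases hx with rfl | hx
      · simpa [mul_assoc] using s1 _ (mem_sup_right (inv_mem vv)) _ (s2 y ih)
      · exact s1 _ (inv_mem hx) y ih
  have m1 : K ⊔ N ≤ M := fun g hg => subset_closure (Or.inr hg)
  have m2 : v ∈ M := subset_closure (Or.inl rfl)
  have m3 : H ⊓ M = N := le_antisymm (fun y hy => by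
    rcases hM y hy.2 with e | ⟨p, hp, k, hk, rfl⟩
    · obtain ⟨k, hk, x, hx, rfl⟩ := (mem_sup_of_norm' nK).1 e
      rwa [show k = 1 from h.disj.le ⟨hk, (mul_mem_cancel_right (hN hx)).1 hy.1⟩, one_mul]
    · have := (mem_HH.1 hy.1).1
      rw [mul_smul, mul_smul, h.le k hk, v1] at this
      exact absurd this (ZK.smul_ne (sup_le h.le' (hN.trans inf_le_left) hp) h.ne.symm))
    (le_inf hN (le_sup_right.trans m1))
  have KM := le_sup_left.trans m1
  refine ⟨M, ?_, KM⟩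
  have e1 := (h.sub KM fun x => by
    by_cases e : x = a
    · exact ⟨1, one_mem _, by simp [e]⟩
    · obtain ⟨k, hk, e⟩ := h.tr' e h.ne.symm
      exact ⟨_, mul_mem m2 (KM hk), by rw [mul_smul, e, v2]⟩).card_G
  rw [card_HH_sub, m3, Nat.card_congr (subgroupOfEquivOfLe KM).toEquiv] at e1
  have e2 := h.card_G
  rw [← CfsgH2.card_mul_relIndex hN, i, ← M.card_mul_index, ← mul_assoc o[K], ← mul_assoc, ← e1] at e2
  exact Nat.eq_of_mul_eq_mul_left (card_pos' M) e2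

theorem not_simple (h : E3 a b K z) : ¬ IsSimpleGroup G := fun _ => by
  obtain ⟨M, i, hK⟩ := h.exists_G0
  rcases (normal_of_index_eq_two i).eq_bot_or_eq_top with rfl | rfl
  · exact h.K_ne (le_bot_iff.1 hK)
  · simp at i

theorem inv_of_ab (h : E3 a b K z) (ab : Ab[H]) :
    ∃ w : G, w • a = b ∧ w • b = a ∧ ∀ x ∈ H, w * x * w⁻¹ = x⁻¹ := by
  have hd : o[K] - 1 ≤ 2 * o[H] := by rw [h.hd]; omega
  obtain ⟨F, _, _, hF⟩ := exists_field_card (h.isPrimePow h.K_ne hd)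
  obtain ⟨P, φ, c⟩ := h.exists_crd h.K_ne h.ab le_rfl ab (h.irr hd) F hF
  obtain ⟨w, ww, w3, w1, w2⟩ := h.exists_inv_fix h.even (c.ne 1)
    fun e => one_ne_zero (c.inj (e.trans c.zero.symm))
  obtain ⟨W, hW⟩ := c.exists_W w1 w2
  have fi := c.φ_inj h.toZK le_rfl
  have W1 : W 1 = 1 := c.inj ((hW 1 one_ne_zero).2.symm.trans w3)
  have z1 : φ ⟨z, h.ui.mem⟩ ≠ 1 := fun e => h.ui.ne (congrArg Subtype.val (fi (e.trans φ.map_one.symm)))
  have z2 : φ ⟨z, h.ui.mem⟩ = -1 := (mul_self_eq_one_iff.1 (by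
    rw [← map_mul, ← φ.map_one]; exact congrArg φ (Subtype.ext h.ui.sq))).resolve_left z1
  have two : (2 : F) ≠ 0 := fun e => z1 (by rw [z2]; linear_combination -e)
  have Wm : ∀ (g : H) (x : F), x ≠ 0 → W (φ g * x) = φ ⟨_, swap_conj w1 w2 g.2⟩ * W x :=
    fun g x hx => c.inj (by
      rw [← (hW _ (mul_ne_zero (Crd.φ_ne g) hx)).2, ← c.cA, ← c.cA, ← (hW x hx).2, ← mul_smul,
        ← mul_smul, inv_mul_cancel_right])
  have Wn : ∀ x ≠ 0, W (-x) = -W x := fun x hx => by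
    have := Wm ⟨z, h.ui.mem⟩ x hx
    simp only [h.sw_z w1 w2, mul_inv_cancel_right, z2] at this
    simpa using this
  have k0 : ∀ g : H, g * (w * g * w⁻¹) = (1 : G) ∨ g * (w * g * w⁻¹) = z := fun g =>
    h.cen w1 w2 w3 (mul_mem g.2 (swap_conj w1 w2 g.2)) (by
      rw [comm_of_isMulComm ab g.2 (swap_conj w1 w2 g.2), ← conj_mul,
        show w * (w * g * w⁻¹) * w⁻¹ = w * w * g * (w * w)⁻¹ by group, ww,
        comm_of_isMulComm ab (swap_conj w1 w2 g.2) g.2]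
      simp)
  have k1 : ∀ g : H, φ g * W (φ g) = φ ⟨_, mul_mem g.2 (swap_conj w1 w2 g.2)⟩ := fun g => by
    rw [← mul_one (φ g), Wm g 1 one_ne_zero, W1, mul_one, mul_one, ← map_mul]; rfl
  have k2 : ∀ x ≠ 0, x * W x = 1 ∨ x * W x = -1 := fun x hx => by
    obtain ⟨g, rfl⟩ := c.surj h.toZK hF h.hd hx
    rw [k1]
    exact (k0 g).imp (fun e => by simp only [e]; exact φ.map_one) fun e => by simp only [e]; exact z2
  have k3 : ∀ x, x * W x = -1 → x ^ 2 + x - 1 = 0 := fun x e => by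
    have x0 : x ≠ 0 := by rintro rfl; simp at e
    have m1 : W (-1) = -1 := by rw [Wn 1 one_ne_zero, W1]
    have x1 : x + 1 ≠ 0 := fun e' => two (by
      rw [eq_neg_of_add_eq_zero_left e', m1] at e; linear_combination e)
    have x2 : W x + 1 ≠ 0 := fun e' => two (by
      have : x = 1 := by linear_combination x * e' - e
      rw [this, W1] at e'; linear_combination e')
    have st := c.str h.toZK w1 w2 hW W1 m1 x0 x1 x2
    have a1 := k2 _ x1
    have a2 := k2 _ x2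
    rw [st] at a2
    generalize W (x + 1) = p at *
    generalize W x = u at *
    refine mul_left_cancel₀ two ?_
    rcases a1 with a1 | a1 <;> rcases a2 with a2 | a2
    · exact absurd (mul_eq_zero.1 (by
        linear_combination (x + 1) * (1 - p) * e - x * (x + 1) * a2 - (x - 1) * a1 : 2 * x = 0))
        (not_or.2 ⟨two, x0⟩)
    · exact absurd (mul_eq_zero.1 (by
        linear_combination -(x + 1) * (1 - p) * e + x * (x + 1) * a2 + (x - 1) * a1 : 2 * (x * x) = 0))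
        (not_or.2 ⟨two, mul_ne_zero x0 x0⟩)
    · exact absurd (by
        linear_combination (x + 1) * (1 - p) * e - x * (x + 1) * a2 - (x - 1) * a1) two
    · linear_combination -(x + 1) * (1 - p) * e + x * (x + 1) * a2 + (x - 1) * a1
  refine ⟨w, w1, w2, fun x hx => eq_inv_of_mul_eq_one_right ((k0 ⟨x, hx⟩).resolve_right fun e => ?_)⟩
  have e1 : φ ⟨x, hx⟩ * W (φ ⟨x, hx⟩) = -1 := by rw [k1]; simp only [e]; exact z2
  have e2 := k3 _ e1
  have e3 := k3 (-φ ⟨x, hx⟩) (by rw [Wn _ (Crd.φ_ne _), neg_mul_neg, e1])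
  exact mul_ne_zero two (Crd.φ_ne (φ := φ) ⟨x, hx⟩) (by linear_combination e2 - e3)

theorem ab_of_odd (h : E3 a b K z) {p f : ℕ} (hp : p.Prime) (hf : Odd f) (hK : o[K] = p ^ f) :
    Ab[H] := by
  obtain ⟨s, c, ss, s3, s1, s2⟩ := h.exists_sw
  obtain ⟨N, hN, i, hn⟩ := h.exists_N s1 s2 ss
  have inv := h.inv_N s1 s2 s3 hN i hn
  have cN : ∀ x ∈ N, ∀ y ∈ N, x * y = y * x := fun x hx y hy => by
    rw [← inv_inj, ← inv _ (mul_mem hx hy), ← conj_mul, inv x hx, inv y hy, mul_inv_rev]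
  have HN : H ≤ N[K] := inf_le_left.trans h.le_norm
  haveI := h.ab
  obtain ⟨F, _, _, φ, e, he, hc⟩ := exists_field_of_irreducible (A := N) (V := K) (hN.trans HN)
    ((commutator_le.2 fun x hx y hy => by
      rw [commutatorElement_eq_one_iff_mul_comm.2 (cN x hx y hy)]; exact one_mem _)) h.K_ne
    fun W h4 h5 => by
      by_contra ne
      push Not at ne
      obtain ⟨x, hx⟩ := h.card_dvd_sub hN h4 h5
      have e1 := CfsgH2.card_mul_relIndex h4
      have e2 := CfsgH2.card_mul_relIndex hN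
      have i2 := (one_lt_card_iff_ne_bot W).2 ne.1
      have i3 : W.relIndex K ≠ 0 := index_ne_zero_of_finite
      have i4 : W.relIndex K ≠ 1 := fun e => ne.2 (le_antisymm h4 (relIndex_eq_one.1 e))
      have i5 : 2 ≤ W.relIndex K := by omega
      have i6 : x ≠ 0 := by rintro rfl; omega
      have i7 : o[N] ≤ o[N] * x := Nat.le_mul_of_pos_right _ (by omega)
      have i8 := Nat.mul_le_mul_left o[W] i5
      rw [i, h.hd] at e2
      omega
  have key : ∀ y ∈ H, ∀ x ∈ N, y * x = x * y := fun y hy => by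
    have yN : ∀ x ∈ N, y * x * y⁻¹ ∈ N := fun x hx => by
      rw [mul_mem_two i (mul_mem hy (hN hx)) (inv_mem hy), mul_mem_cancel_right hx, inv_mem_iff]
    have inj : ∀ {u v : F}, (e (.ofAdd u) : G) = e (.ofAdd v) → u = v := fun e' =>
      Multiplicative.ofAdd.injective (e.injective (Subtype.ext e'))
    obtain ⟨g, hg⟩ : ∃ g : F → F, ∀ u, (e (.ofAdd (g u)) : G) = y * e (.ofAdd u) * y⁻¹ :=
      ⟨fun u => (e.symm ⟨_, h.nrm y hy.1 _ (e (.ofAdd u)).2⟩).toAdd, fun u => by simp⟩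
    have ga : ∀ u v, g (u + v) = g u + g v := fun u v => inj (by
      rw [hg, ofAdd_add, ofAdd_add, map_mul, map_mul, coe_mul, coe_mul, hg, hg, conj_mul])
    have g0 : g 0 = 0 := by simpa using ga 0 0
    have gn : ∀ u, g (-u) = -g u := fun u => eq_neg_of_add_eq_zero_left (by rw [← ga, neg_add_cancel, g0])
    have g1 : g 1 ≠ 0 := fun e' => one_ne_zero (inj (by simpa [e'] using (hg 1).symm))
    have gm : ∀ (n : N) u, g (φ n * u) = φ ⟨_, yN n n.2⟩ * g u := fun n u => inj (by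
      rw [hg, he, he, hg]; group)
    have gr : ∀ r u, g (r * u) = g r / g 1 * g u := fun r => by
      induction hc.ge (Subring.mem_top r) using Subring.closure_induction with
      | mem x hx =>
        obtain ⟨n, rfl⟩ := hx
        intro u
        rw [gm, ← mul_one (φ n), gm, mul_div_cancel_right₀ _ g1]
      | zero => simp [g0]
      | one => simp [g1]
      | add x y _ _ h1 h2 => intro u; rw [add_mul, ga, ga, h1, h2]; ring
      | neg x _ h1 => intro u; rw [neg_mul, gn, gn, h1]; ring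
      | mul x y _ _ h1 h2 => intro u; rw [mul_assoc, h1, h2, h1]; ring
    let σ : F →+* F :=
      { toFun := fun r => g r / g 1
        map_one' := div_self g1
        map_mul' := fun r u => by rw [gr]; ring
        map_zero' := by simp [g0]
        map_add' := fun r u => by rw [ga, add_div] }
    have sφ : ∀ n : N, σ (φ n) = φ ⟨_, yN n n.2⟩ := fun n => by
      change g _ / g 1 = _
      rw [← mul_one (φ n), gm, mul_div_cancel_right₀ _ g1]
    have s2 : σ.comp σ = RingHom.id F := RingHom.eq_of_eqOn_set_dense hc (by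
      rintro _ ⟨n, rfl⟩
      rw [RingHom.comp_apply, sφ, sφ]
      refine congrArg φ (Subtype.ext ?_)
      change y * (y * n * y⁻¹) * y⁻¹ = n
      rw [show y * (y * n * y⁻¹) * y⁻¹ = y * y * n * (y * y)⁻¹ by group,
        cN _ ((mul_mem_two i hy hy).2 Iff.rfl) _ n.2, mul_inv_cancel_right])
    let τ := RingEquiv.ofBijective σ (Finite.injective_iff_bijective.1 σ.injective)
    haveI := Fact.mk hp
    have cF : Nat.card F = p ^ f := (Nat.card_congr e.toEquiv).trans hK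
    haveI := Fintype.ofFinite F
    haveI : CharP F p := charP_of_card_eq_prime_pow (by rw [← cF, Nat.card_eq_fintype_card])
    have t1 : τ = 1 := orderOf_eq_one_iff.1 (Nat.eq_one_of_dvd_coprimes (Nat.coprime_two_left.2 hf)
      (orderOf_dvd_of_pow_eq_one (RingEquiv.ext fun r => DFunLike.congr_fun s2 r))
      (card_aut cF ▸ orderOf_dvd_natCard τ))
    intro x hx
    have e1 : φ ⟨_, yN x hx⟩ = φ ⟨x, hx⟩ := (sφ ⟨x, hx⟩).symm.trans (DFunLike.congr_fun t1 _)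
    have e2 := he ⟨_, yN x hx⟩ 1
    rw [e1, he] at e2
    by_contra ne
    refine one_ne_zero (inj ((h.fpf (mul_mem (inv_mem (hN hx)) (hN (yN x hx))) (fun e' => ne ?_)
      (e (.ofAdd 1)).2 ?_).trans (by simp)))
    · exact mul_inv_eq_iff_eq_mul.1 (inv_mul_eq_one.1 e').symm
    · calc _ = x⁻¹ * (x * e (.ofAdd 1) * x⁻¹) * (y * x * y⁻¹) := by group
        _ = _ := by rw [e2]; group
  refine ⟨⟨fun x y => Subtype.ext ?_⟩⟩
  by_cases hx : x.1 ∈ N
  · exact (key y y.2 x hx).symm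
  by_cases hy : y.1 ∈ N
  · exact key x x.2 y hy
  have := key y y.2 _ ((mul_mem_two i x.2 y.2).2 (iff_of_false hx hy))
  rw [← mul_assoc, mul_left_inj] at this
  exact this.symm

theorem iso_pgl (h : E3 a b K z) (ab : Ab[H]) (F : Type*) [Field F] [Fintype F]
    (hF : Fintype.card F = o[K]) : Nonempty (G ≃* Matrix.ProjGenLinGroup (Fin 2) F) := by
  obtain ⟨w, h1, h2, h3⟩ := h.inv_of_ab ab
  exact h.toZK.iso_pgl h.hd h1 h2 h3 F hF

end E3

theorem ZK.e3 (h : ZK a b K) (hd : o[H] = o[K] - 1) (he : Even o[H]) : ∃ z, E3 a b K z :=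
  (h.exists_ui he).imp fun _ hz => ⟨h, hd, hz⟩

theorem ZK.half_of_simple [IsSimpleGroup G] (h : ZK a b K) (he : Even o[H]) :
    2 * o[H] = o[K] - 1 := by
  refine (h.card_cases (fun e => ?_) (h.le_two_mul he)).resolve_left fun e => ?_
  · rw [e, card_bot] at he; exact absurd he (by decide)
  · obtain ⟨z, hz⟩ := h.e3 e he
    exact hz.not_simple inferInstance

end CfsgH8.Za
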