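import Cfsg.Agent.H8.Za13

/-! Semilinear coordinates; transitive groups of degree `p + 1`. -/

set_option autoImplicit false
open Subgroup Cfsg CfsgH2 CfsgH1 CfsgH3 CfsgRO Function MulAction
open scoped commutatorElement IsMulCommutative

namespace CfsgH8.Za

variable {G Ω : Type*} [Group G] [MulAction G Ω] {a b c : Ω} {K N A V M : Subgroup G}

local notation "L" => stabilizer G a
local notation "H" => HH G a b

variable [Finite G]

theorem exists_semilin [hV : IsMulCommutative V] (hA : A ≤ N[V]) (ab : ∀ x ∈ A, ∀ y ∈ A, x * y = y * x)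
    (h0 : V ≠ ⊥) (irr : ∀ W ≤ V, A ≤ N[W] → W = ⊥ ∨ W = V) (F' : Type*) [Field F'] [Fintype F']
    (hF : Fintype.card F' = o[V]) : ∃ (φ : A →* F') (e : Multiplicative F' ≃* V),
      (∀ (n : A) x, (e (.ofAdd (φ n * x)) : G) = n * e (.ofAdd x) * (n : G)⁻¹) ∧
      ∀ y ∈ N[V], ∀ yA : ∀ x ∈ A, y * x * y⁻¹ ∈ A, ∃ (u : F'ˣ) (σ : F' ≃+* F'),
        (∀ x, (e (.ofAdd (u * σ x)) : G) = y * e (.ofAdd x) * y⁻¹) ∧
        ∀ n : A, σ (φ n) = φ ⟨_, yA n n.2⟩ := by
  obtain ⟨F, _, _, φ, e, he, hc⟩ := exists_field_of_irreducible hA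
    (commutator_le.2 fun x hx y hy => by
      rw [commutatorElement_eq_one_iff_mul_comm.2 (ab x hx y hy)]; exact one_mem _) h0 irr
  haveI := Fintype.ofFinite F
  have hF' : Fintype.card F' = Fintype.card F := by
    rw [hF, ← Nat.card_eq_fintype_card, ← Nat.card_congr e.toEquiv]; rfl
  let ρ : F' ≃+* F := FiniteField.ringEquivOfCardEq hF'
  refine ⟨(ρ.symm : F →* F').comp φ, (AddEquiv.toMultiplicative ρ.toAddEquiv).trans e,
    fun n x => by simpa using he n (ρ x), fun y hy yA => ?_⟩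
  have inj : ∀ {u v : F}, (e (.ofAdd u) : G) = e (.ofAdd v) → u = v := fun e' =>
    Multiplicative.ofAdd.injective (e.injective (Subtype.ext e'))
  obtain ⟨g, hg⟩ : ∃ g : F → F, ∀ u, (e (.ofAdd (g u)) : G) = y * e (.ofAdd u) * y⁻¹ :=
    ⟨fun u => (e.symm ⟨_, (mem_normalizer_iff.1 hy _).1 (e (.ofAdd u)).2⟩).toAdd, fun u => by simp⟩
  have ga : ∀ u v, g (u + v) = g u + g v := fun u v => inj (by
    rw [hg, ofAdd_add, ofAdd_add, map_mul, map_mul, coe_mul, coe_mul, hg, hg, conj_mul])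
  have g0 : g 0 = 0 := by simpa using ga 0 0
  have gn : ∀ u, g (-u) = -g u := fun u => eq_neg_of_add_eq_zero_left (by rw [← ga, neg_add_cancel, g0])
  have g1 : g 1 ≠ 0 := fun e' => one_ne_zero (inj (by simpa [e'] using (hg 1).symm))
  have gm : ∀ (n : A) u, g (φ n * u) = φ ⟨_, yA n n.2⟩ * g u := fun n u => inj (by
    rw [hg, he, he, hg]; group)
  have gr : ∀ r u, g (r * u) = g r / g 1 * g u := fun r => by
    induction hc.ge (Subring.mem_top r) using Subring.closure_induction with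
    | mem x hx =>
      obtain ⟨n, rfl⟩ := hx
      intro u
      rw [gm, ← mul_one (φ n), gm, mul_div_cancel_right₀ _ g1]
    | zero => simp [g0]
    | one => simp [g1]
    | add x y _ _ h1 h2 => intro u; rw [add_mul, ga, ga, h1, h2]; ring
    | neg x _ h1 => intro u; rw [neg_mul, gn, gn, h1]; ring
    | mul x y _ _ h1 h2 => intro u; rw [mul_assoc, h1, h2, h1]; ring
  let σ : F →+* F :=
    { toFun := fun r => g r / g 1
      map_one' := div_self g1
      map_mul' := fun r u => by rw [gr]; ring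
      map_zero' := by simp [g0]
      map_add' := fun r u => by rw [ga, add_div] }
  let τ := RingEquiv.ofBijective σ (Finite.injective_iff_bijective.1 σ.injective)
  have hτ : ∀ r, τ r = g r / g 1 := fun _ => rfl
  refine ⟨Units.mk0 (ρ.symm (g 1)) (by simpa using g1), ρ.trans (τ.trans ρ.symm), fun x => ?_,
    fun n => ?_⟩
  · simpa [hτ, mul_div_cancel₀ _ g1] using hg (ρ x)
  · simp only [RingEquiv.coe_trans, comp_apply, MonoidHom.coe_comp, MonoidHom.coe_coe,
      RingEquiv.apply_symm_apply, hτ]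
    rw [← mul_one (φ n), gm, mul_div_cancel_right₀ _ g1]

theorem loc_prime [Finite Ω] [IsPretransitive G Ω] (faith : ∀ g : G, (∀ x : Ω, g • x = x) → g = 1)
    {p d : ℕ} (hp : p.Prime) (hΩ : Nat.card Ω = p + 1) (hG : Nat.card G = (p + 1) * p * d)
    (hd : d < p) : ∃ K ≤ L, o[K] = p ∧ (∀ g : G, g • a = a → ∀ k ∈ K, g * k * g⁻¹ ∈ K) ∧
      (∀ y z, y ≠ a → z ≠ a → ∃ k ∈ K, k • y = z) ∧ ∀ k ∈ K, ∀ y, y ≠ a → k • y = y → k = 1 := by
  haveI := Fact.mk hp
  have e1 : o[L] = p * d := by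
    have := (L).card_mul_index
    rw [index_stabilizer_of_transitive, hΩ, hG, mul_assoc, mul_comm] at this
    exact Nat.eq_of_mul_eq_mul_left (Nat.succ_pos p) this
  have d0 : d ≠ 0 := by rintro rfl; exact (card_pos' (L)).ne' e1
  obtain ⟨P⟩ : Nonempty (Sylow p L) := inferInstance
  have e2 : Nat.card P = p := by
    rw [P.card_eq_multiplicity, e1, Nat.factorization_mul hp.ne_zero d0, Finsupp.add_apply,
      hp.factorization_self, Nat.factorization_eq_zero_of_lt hd, pow_one]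
  have e3 : (P : Subgroup L).index = d := by
    have := (P : Subgroup L).card_mul_index
    rw [e2, e1] at this
    exact Nat.eq_of_mul_eq_mul_left hp.pos this
  have e4 : Nat.card (Sylow p L) = 1 := by
    have h1 := card_sylow_modEq_one p L
    have h2 := Nat.le_of_dvd (Nat.pos_of_ne_zero d0) (e3 ▸ P.card_dvd_index)
    rwa [Nat.ModEq, Nat.mod_eq_of_lt (by omega), Nat.mod_eq_of_lt hp.one_lt] at h1
  haveI := (Nat.card_eq_one_iff_unique.1 e4).1
  have e5 := P.normal_of_subsingleton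
  set K := (P : Subgroup L).map (L).subtype
  have e6 : o[K] = p := by rw [card_subtype, e2]
  have KL : K ≤ L := map_subtype_le _
  obtain ⟨k, hk, k1⟩ := exists_ne_one (show K ≠ ⊥ by
    intro e; rw [e, card_bot] at e6; exact hp.one_lt.ne e6)
  obtain ⟨c, hc⟩ : ∃ c : Ω, k • c ≠ c := by
    by_contra e
    push Not at e
    exact k1 (faith k e)
  have st : stabilizer K c = ⊥ := by
    haveI := Fact.mk (e6 ▸ hp : (o[K]).Prime)
    exact (eq_bot_or_eq_top_of_prime_card _).resolve_right fun e => hc (e.ge (mem_top (⟨k, hk⟩ : K)))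
  have ca : ∀ u : K, u • c ≠ a := fun u e => hc (by
    rw [smul_eq_iff_eq_inv_smul, show u⁻¹ • a = a from KL u⁻¹.2] at e
    rw [e]; exact KL hk)
  have bij : Bijective fun u : K => (⟨u • c, ca u⟩ : {y // y ≠ a}) := by
    classical
    refine (Nat.bijective_iff_injective_and_card _).2 ⟨fun u v e => ?_, ?_⟩
    · have : v⁻¹ * u ∈ stabilizer K c := by
        rw [mem_stabilizer_iff, mul_smul, show u • c = v • c from congrArg Subtype.val e, inv_smul_smul]
      rw [st, mem_bot, inv_mul_eq_one] at this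
      exact this.symm
    · haveI := Fintype.ofFinite Ω
      rw [e6, Nat.card_eq_fintype_card, Fintype.card_subtype_compl, ← Nat.card_eq_fintype_card, hΩ]
      simp
  have sur : ∀ y, y ≠ a → ∃ u : K, u • c = y := fun y hy =>
    (bij.2 ⟨y, hy⟩).imp fun _ e => congrArg Subtype.val e
  refine ⟨K, KL, e6, fun g hg => ?_, fun y z hy hz => ?_, fun u hu y hy e => ?_⟩
  · rintro _ ⟨u, hu, rfl⟩
    exact ⟨_, e5.conj_mem u hu ⟨g, hg⟩, rfl⟩
  · obtain ⟨u, rfl⟩ := sur y hy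
    obtain ⟨v, rfl⟩ := sur z hz
    exact ⟨_, (v * u⁻¹).2, by change (v * u⁻¹) • u • c = _; rw [mul_smul, inv_smul_smul]⟩
  · obtain ⟨v, rfl⟩ := sur y hy
    have := bij.1 (a₁ := ⟨u, hu⟩ * v) (a₂ := v) (Subtype.ext (by simp only [mul_smul]; exact e))
    exact congrArg Subtype.val (mul_eq_right.1 this)

theorem zt_of_prime [Finite Ω] [IsPretransitive G Ω] (faith : ∀ g : G, (∀ x : Ω, g • x = x) → g = 1)
    {p d : ℕ} (hp : p.Prime) (hΩ : Nat.card Ω = p + 1) (hG : Nat.card G = (p + 1) * p * d)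
    (hd : d < p) : ZT G Ω := by
  refine ⟨faith, fun x y z w h1 h2 => ?_, fun g x y z h1 h2 h3 e1 e2 e3 => faith g fun w => ?_⟩
  · obtain ⟨g, rfl⟩ := exists_smul_eq G x z
    obtain ⟨K, a1, -, -, a2, -⟩ := loc_prime (a := g • x) faith hp hΩ hG hd
    obtain ⟨k, hk, e⟩ := a2 (g • y) w (fun e => h1 (smul_left_cancel g e).symm) h2.symm
    exact ⟨k * g, by rw [mul_smul]; exact a1 hk, by rw [mul_smul, e]⟩
  obtain ⟨K, a1, a0, a3, a2, a4⟩ := loc_prime (a := x) faith hp hΩ hG hd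
  by_cases hw : w = x
  · rw [hw, e1]
  obtain ⟨k, hk, e⟩ := a2 y z h1.symm h3.symm
  obtain ⟨l, hl, rfl⟩ := a2 y w h1.symm hw
  have e4 : g * k * g⁻¹ = k := (inv_mul_eq_one.1 (a4 _ (mul_mem (inv_mem hk) (a3 g e1 k hk)) y h1.symm (by
    rw [mul_smul, mul_smul, mul_smul, inv_smul_eq_iff.2 e2.symm, e, e3, ← e, inv_smul_smul]))).symm
  have e5 : zpowers k = K := by
    refine (eq_bot_or_eq_of_prime (a0 ▸ hp) (zpowers_le.2 hk)).resolve_left (zpowers_ne_bot.2 ?_)
    rintro rfl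
    exact h2 (by simpa using e)
  obtain ⟨n, rfl⟩ := e5.ge hl
  rw [← mul_smul, ((show Commute g k from mul_inv_eq_iff_eq_mul.1 e4).zpow_right n).eq, mul_smul, e2]

theorem card_of_prime [Finite Ω] [IsPretransitive G Ω] {p d : ℕ} (hp : p.Prime)
    (hΩ : Nat.card Ω = p + 1) (hG : Nat.card G = (p + 1) * p * d) (h : ZK a b K) :
    o[K] = p ∧ o[H] = d := by
  have e1 : o[K] = p := by have := h.card_Ω'; omega
  have e2 := h.card_G
  rw [hG, e1, mul_assoc] at e2
  exact ⟨e1, (Nat.eq_of_mul_eq_mul_left hp.pos (Nat.eq_of_mul_eq_mul_left (Nat.succ_pos p) e2)).symm⟩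

theorem ZK.cyc_of_prime (h : ZK a b K) (hp : (o[K]).Prime) : Ab[K] :=
  haveI := Fact.mk hp
  ⟨⟨(isCyclic_of_prime_card (α := K) rfl).commGroup.mul_comm⟩⟩

theorem ZK.pgl_of_prime (h : ZK a b K) (hp : (o[K]).Prime) (hd : o[H] = o[K] - 1) (F : Type*)
    [Field F] [Fintype F] (hF : Fintype.card F = o[K]) :
    Nonempty (G ≃* Matrix.ProjGenLinGroup (Fin 2) F) := by
  rcases Nat.even_or_odd o[K] with he | ho
  · exact h.iso_even hd he F hF
  · obtain ⟨z, hz⟩ := h.e3 hd (hd ▸ Nat.Odd.sub_odd ho odd_one)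
    exact hz.iso_pgl (hz.ab_of_odd hp odd_one (pow_one _).symm) F hF

theorem ZK.zas_or (h : ZK a b K) : IsZassenhausGroup G Ω ∨ ∃ M : Subgroup G, RN Ω M := by
  refine or_iff_not_imp_right.2 fun e => isZas h.toZT h.ne (fun e1 => e ?_) (not_exists.1 e)
  obtain ⟨M, -, hM⟩ := h.toZT.exists_RN h.ne (N := ⊤) (fun e2 => by
    obtain ⟨g, hg⟩ := h.toZT.trans a b
    rw [show g = 1 from e2.le (mem_top g), one_smul] at hg
    exact h.ne hg) (by rw [e1, inf_bot_eq])
  exact ⟨M, hM⟩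

theorem RN.inj (R : RN Ω M) {m n : G} (hm : m ∈ M) (hn : n ∈ M) (e : m • a = n • a) : m = n :=
  (inv_mul_eq_one.1 (R.fr _ (mul_mem (inv_mem hn) hm) a (by rw [mul_smul, e, inv_smul_smul]))).symm

theorem ZK.rn_conj (h : ZK a b K) (R : RN Ω M) {m n : G} (hm : m ∈ M) (hn : n ∈ M) (m1 : m ≠ 1)
    (n1 : n ≠ 1) : ∃ k ∈ K, k * m * k⁻¹ = n := by
  obtain ⟨k, hk, e⟩ := h.tr' (fun e => m1 (R.fr m hm a e)) fun e => n1 (R.fr n hn a e)
  exact ⟨k, hk, R.inj (a := a) (R.normal.conj_mem m hm k) hn (by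
    rw [mul_smul, mul_smul, h.le _ (inv_mem hk), e])⟩

theorem ZK.rn_exp (h : ZK a b K) (R : RN Ω M) (ho : Odd o[K]) : ∀ n ∈ M, n ^ 2 = 1 := fun n hn => by
  obtain ⟨m, hm, om⟩ := exists_prime_order_mem Nat.prime_two
    (show 2 ∣ o[M] by rw [R.card a, h.card_Ω']; exact ho.add_one.two_dvd)
  by_cases n1 : n = 1
  · rw [n1, one_pow]
  obtain ⟨k, -, rfl⟩ := h.rn_conj R hm hn (ne_of_ord om) n1
  rw [conj_pow, sq, sq_of_ord om]; simp

/-- the semi-affine case. -/
theorem ZK.semiaff (h : ZK a b K) (R : RN Ω M) (ab : Ab[K]) (hM : Ab[M]) (F : Type*) [Field F]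
    [Fintype F] (hF : Fintype.card F = o[M]) : o[H] ∣ Nat.card (F ≃+* F) ∧ ∃ e : F ≃ Ω, ∀ g : G,
      ∃ (u : Fˣ) (t : F) (σ : F ≃+* F), ∀ x, g • e x = e (u * σ x + t) := by
  have nM : ∀ g : G, g ∈ N[M] := fun g => top_le_norm_iff.2 R.normal (mem_top g)
  obtain ⟨m, hm, mb⟩ := R.tr a b
  have m1 : m ≠ 1 := by rintro rfl; exact h.ne (by rwa [one_smul] at mb)
  obtain ⟨φ, e, -, he⟩ := exists_semilin (A := K) (V := M) (fun g _ => nM g)
    (fun x hx y hy => comm_of_isMulComm ab hx hy) (fun e => m1 (e.le hm)) (fun W h1 h2 => by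
      refine or_iff_not_imp_left.2 fun h0 => le_antisymm h1 fun n hn => ?_
      obtain ⟨w, hw, w1⟩ := exists_ne_one h0
      by_cases n1 : n = 1
      · exact n1 ▸ one_mem _
      obtain ⟨k, hk, rfl⟩ := h.rn_conj R (h1 hw) hn w1 n1
      exact (mem_normalizer_iff.1 (h2 hk) w).1 hw) F hF
  have inj : ∀ {u v : F}, (e (.ofAdd u) : G) = e (.ofAdd v) → u = v := fun e' =>
    Multiplicative.ofAdd.injective (e.injective (Subtype.ext e'))
  let ε : F ≃ Ω := Equiv.ofBijective (fun x => (e (.ofAdd x) : G) • a)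
    ⟨fun x y e' => inj (R.inj (e _).2 (e _).2 e'), fun y => by
      obtain ⟨n, hn, rfl⟩ := R.tr a y
      exact ⟨(e.symm ⟨n, hn⟩).toAdd, by simp⟩⟩
  have hε : ∀ x, ε x = (e (.ofAdd x) : G) • a := fun _ => rfl
  have key : ∀ g : G, g • a = a → ∃ (u : Fˣ) (σ : F ≃+* F), ∀ x, g • ε x = ε (u * σ x) := fun g hg => by
    obtain ⟨u, σ, h1, -⟩ := he g (nM g) (h.nrm g hg)
    exact ⟨u, σ, fun x => by
      rw [hε, hε, h1, mul_smul, mul_smul, inv_smul_eq_iff.2 hg.symm]⟩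
  refine ⟨?_, ε, fun g => ?_⟩
  · have a1 : a ≠ ε 1 := fun e' => one_ne_zero (ε.injective (e'.symm.trans (by simp [hε])))
    rw [← h.toZT.card_HH h.ne a1]
    have : ∀ g : HH G a (ε 1), ∃ σ : F ≃+* F, ∀ x, g.1 • ε x = ε (σ x) := fun g => by
      obtain ⟨u, σ, h1⟩ := key g g.2.1
      have := ε.injective ((h1 1).symm.trans g.2.2)
      rw [map_one, mul_one] at this
      exact ⟨σ, by simpa [this] using h1⟩
    choose σ hσ using this
    refine card_dvd_of_injective (MonoidHom.mk' σ fun g k => RingEquiv.ext fun x => ε.injective ?_)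
      ((injective_iff_map_eq_one _).2 fun g hg => Subtype.ext (h.faith _ fun y => ?_))
    · rw [← hσ, coe_mul, mul_smul, hσ, hσ]; rfl
    · obtain ⟨x, rfl⟩ := ε.surjective y
      rw [hσ, show σ g = 1 from hg]; rfl
  · obtain ⟨n, hn, e'⟩ := R.tr a (g • a)
    obtain ⟨u, σ, h1⟩ := key (n⁻¹ * g) (by rw [mul_smul, ← e', inv_smul_smul])
    refine ⟨u, (e.symm ⟨n, hn⟩).toAdd, σ, fun x => ?_⟩
    rw [← mul_inv_cancel_left n g, mul_smul, h1, hε, hε, add_comm, ofAdd_add, map_mul e, coe_mul, mul_smul]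
    simp

end CfsgH8.Za
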