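import Cfsg.Agent.H8.Za14
import Cfsg.Agent.H8.SmallId

/-! Simple groups of order `p (p ^ 2 - 1) / 2` with `p + 1` Sylow `p`-subgroups. -/

set_option autoImplicit false
open Subgroup Cfsg CfsgH2 CfsgH1 CfsgH3 CfsgRO Function MulAction

namespace CfsgH8.Za

variable {G Ω : Type*} [Group G] [MulAction G Ω] [Finite G]

omit [Finite G] in
theorem faith_of_simple [IsSimpleGroup G] [IsPretransitive G Ω] [Nontrivial Ω] (g : G)
    (hg : ∀ x : Ω, g • x = x) : g = 1 := by
  rcases (toPermHom G Ω).normal_ker.eq_bot_or_eq_top with e | e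
  · exact e.le (Equiv.ext hg)
  · obtain ⟨x, y, h⟩ := exists_pair_ne Ω
    obtain ⟨k, rfl⟩ := exists_smul_eq G x y
    exact absurd (DFunLike.congr_fun (e.ge (mem_top k)) x).symm h

theorem psl_of_trans [IsSimpleGroup G] [IsPretransitive G Ω] [Finite Ω] {p d : ℕ} (hp : p.Prime)
    (hd : 2 * d + 1 = p) (h1 : 1 < d) (hΩ : Nat.card Ω = p + 1) (hG : Nat.card G = (p + 1) * p * d)
    (F : Type*) [Field F] [Fintype F] (hF : Fintype.card F = p) :
    Nonempty (G ≃* Matrix.ProjectiveSpecialLinearGroup (Fin 2) F) := by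
  haveI : Nontrivial Ω := Finite.one_lt_card_iff_nontrivial.1 (by omega)
  have hZ : ZT G Ω := zt_of_prime faith_of_simple hp hΩ hG (by omega)
  obtain ⟨a, b, hab⟩ := exists_pair_ne Ω
  obtain ⟨K, h⟩ := hZ.exists_K hab
  obtain ⟨e1, e2⟩ := card_of_prime hp hΩ hG h
  rcases h.zas_or with hz | ⟨M, R⟩
  · exact psl_of_half hz h (by omega) F (hF.trans e1.symm)
  have := R.card a
  rcases R.normal.eq_bot_or_eq_top with rfl | rfl
  · rw [card_bot] at this; omega
  · rw [card_top, hG, hΩ, mul_assoc, mul_eq_left₀ (by omega)] at this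
    have := Nat.eq_one_of_mul_eq_one_left this
    omega

theorem psl_of_sylow [IsSimpleGroup G] {p d : ℕ} (hp : p.Prime) (hd : 2 * d + 1 = p) (h1 : 1 < d)
    (hG : Nat.card G = (p + 1) * p * d) (h : ∀ n, n ∣ (p + 1) * d → n % p = 1 → n = 1 ∨ n = p + 1)
    (F : Type*) [Field F] [Fintype F] (hF : Fintype.card F = p) :
    Nonempty (G ≃* Matrix.ProjectiveSpecialLinearGroup (Fin 2) F) := by
  haveI := Fact.mk hp
  refine psl_of_trans (Ω := Sylow p G) hp hd h1 ((h _ (card_sylow_dvd_of_card (k := 1) (by rw [hG]; ring))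
    (Eq.trans (card_sylow_modEq_one p G) (Nat.mod_eq_of_lt hp.one_lt))).resolve_left
      (card_sylow_ne_one_of_simple (hG ▸ (dvd_mul_left _ _).mul_right _) fun k hk => ?_)) hG F hF
  have : d ∣ p ^ k := by rw [← hk, hG]; exact dvd_mul_left _ _
  obtain ⟨j, -, rfl⟩ := (Nat.dvd_prime_pow hp).1 this
  have := Nat.le_self_pow (n := j) (by rintro rfl; simp at h1) p
  omega

theorem psl_168 [IsSimpleGroup G] (h : Nat.card G = 168) (F : Type*) [Field F] [Fintype F]
    (hF : Fintype.card F = 7) : Nonempty (G ≃* Matrix.ProjectiveSpecialLinearGroup (Fin 2) F) :=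
  psl_of_sylow (d := 3) (by norm_num) rfl (by norm_num) h (fun n h1 h2 => by
    have := Nat.le_of_dvd (by norm_num) h1
    interval_cases n <;> omega) F hF

end CfsgH8.Za
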