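import Cfsg.Agent.H8.Za14
import Cfsg.Agent.H1.Misc1
import Cfsg.Agent.S0262

/-! Groups with abelian involution centralisers. -/

set_option autoImplicit false
open Subgroup Cfsg CfsgH2 CfsgH1 CfsgH3 CfsgRO Function MulAction
open scoped commutatorElement

namespace CfsgH8.Za

universe u

theorem equiv_prod' {G : Type*} [Group G] {A B : Subgroup G} (c : ∀ a ∈ A, ∀ b ∈ B, a * b = b * a)
    (d : A ⊓ B = ⊥) (s : A ⊔ B = ⊤) : Nonempty (G ≃* A × B) := by
  have cm : ∀ (a : A) (b : B), Commute (A.subtype a) (B.subtype b) := fun a b => c a a.2 b b.2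
  have i := (MonoidHom.noncommCoprod_injective _ _ cm).2 ⟨A.subtype_injective, B.subtype_injective,
    by simpa [disjoint_iff] using d⟩
  have r := MonoidHom.noncommCoprod_range _ _ cm
  rw [range_subtype, range_subtype, s] at r
  exact ⟨(MulEquiv.ofBijective _ ⟨i, MonoidHom.range_eq_top.1 r⟩).symm⟩

section
variable {G Ω : Type*} [Group G] [Finite G] [MulAction G Ω] {a b : Ω} {K M T : Subgroup G} {y z u : G}

theorem ZK.no_RN (h : ZK a b K) (hy : y ∈ K) (hz : z ∈ K) (oy : orderOf y = 2) (oz : orderOf z = 2)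
    (yz : y ≠ z) : ¬ RN Ω M := fun R => by
  obtain ⟨m, hm, mb⟩ := R.tr a b
  have F : Frob M K (M ⊔ K) := ⟨le_top.trans (top_le_norm_iff.2 R.normal), rfl,
    fun e => h.ne (by rwa [show m = 1 from e.le hm, one_smul] at mb), fun e => ne_of_ord oz (e.le hz),
    fun k hk k1 => eq_bot_iff.2 fun n hn => R.fr n hn.1 a (h.fix hk k1 (by
      rw [← mul_smul, ← mc1.1 hn.2, mul_smul, h.le k hk]))⟩
  exact yz (F.involution_unique hz oz hy oy)

theorem TC.zas (h : TC T z) (hy : y ∈ T) (oy : orderOf y = 2) (yz : y ≠ z) (ou : orderOf u = 2)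
    (hu : u ∉ N[T]) : IsZassenhausGroup G (G ⧸ N[T]) :=
  (h.zk hy oy yz ou hu).zas_or.resolve_right fun ⟨_, R⟩ =>
    (h.zk hy oy yz ou hu).no_RN hy h.mem oy h.ord yz R

/-- no subgroup of odd order is transitive on the involutions. -/
def NT (G : Type*) [Group G] : Prop := ∀ D : Subgroup G, Odd o[D] →
  ¬ ∀ s t : G, orderOf s = 2 → orderOf t = 2 → ∃ d ∈ D, d * s * d⁻¹ = t

theorem ZK.nt (h : ZK a b K) (h0 : HH G a b ≠ ⊥) (hy : y ∈ K) (hz : z ∈ K) (oy : orderOf y = 2)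
    (oz : orderOf z = 2) (yz : y ≠ z) (pg : IsPGroup 2 K) : NT G := fun D hD tr => by
  haveI := Fintype.ofFinite G
  haveI := Fintype.ofFinite (stabilizer G a)
  have he : Even o[K] := even_iff_two_dvd.2 (oz ▸ Subgroup.orderOf_dvd_natCard _ hz)
  obtain ⟨w, hw⟩ := h.zi_of_even h0 he
  have od : ∀ d ∈ D, (orderOf d).Coprime 2 := fun d hd =>
    Nat.coprime_two_right.2 (hD.of_dvd_nat (Subgroup.orderOf_dvd_natCard _ hd))
  have ab : ∀ x ∈ D, ∀ v ∈ D, x • a = a → v • a = a → x * v = v * x := fun x hx v hv e1 e2 => by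
    have := eq_one_of_coprime_order pg (hw.comm_mem e1 e2)
      (od _ (mul_mem (mul_mem (mul_mem hx hv) (inv_mem hx)) (inv_mem hv)))
    rwa [mul_inv_eq_one, mul_inv_eq_iff_eq_mul] at this
  obtain ⟨x, hx, e⟩ := tr z y oz oy
  have xa : x • a = a := h.mem_L hz (ne_of_ord oz) (e ▸ h.le y hy)
  have x1 : x ≠ 1 := by rintro rfl; exact yz (by simpa using e.symm)
  obtain ⟨k, hk, v, hv, -, e'⟩ := h.conj_H xa fun e => x1 (eq_one_of_coprime_order pg e (od x hx))
  have ca : k • b ≠ a := ZK.smul_ne (h.le k hk) h.ne.symm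
  have xc : x • k • b = k • b := by rw [e', mul_smul, mul_smul, inv_smul_smul, hv.2]
  generalize k • b = c at ca xc
  obtain ⟨g, hg⟩ := h.toZT.trans a c
  obtain ⟨d, hd, e2⟩ := tr z (g * z * g⁻¹) oz ((CfsgH2.orderOf_conj' g z).trans oz)
  have da : d • a = c := by
    have := h.mem_L hz (ne_of_ord oz) (g := g⁻¹ * d) (by
      rw [show g⁻¹ * d * z * (g⁻¹ * d)⁻¹ = g⁻¹ * (d * z * d⁻¹) * g by group, e2]
      simpa [mul_assoc] using h.le z hz)
    rwa [mul_smul, inv_smul_eq_iff, hg] at this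
  have fx : ∀ {p : Ω}, x • p = p → p = a ∨ p = c := h.toZT.fix_H ca.symm ⟨xa, xc⟩ x1
  have e3 := ab x hx _ (mul_mem (mul_mem (inv_mem hd) hx) hd) xa (by
    rw [mul_smul, mul_smul, da, xc, ← da, inv_smul_smul])
  have e4 : (d⁻¹ * x * d) • c = c := (fx (by rw [← mul_smul, e3, mul_smul, xc])).resolve_left fun e =>
    ca (smul_left_cancel (d⁻¹ * x * d) (e.trans (by
      rw [mul_smul, mul_smul, da, xc, ← da, inv_smul_smul])))
  rw [mul_smul, mul_smul, inv_smul_eq_iff] at e4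
  have e5 : d • c = a := (fx e4).resolve_right fun e => ca (smul_left_cancel d (e.trans da.symm))
  have : d ∈ stabilizer G a := mem_of_pow_mem_coprime (n := 2) (by
    rw [mem_stabilizer_iff, sq, mul_smul, da, e5]) (od d hd)
  exact ca (da.symm.trans this)

theorem se_trans (h : IsStronglyEmbedded M) (ou : orderOf u = 2) (hu : u ∉ M) {s t : G} (hs : s ∈ M)
    (os : orderOf s = 2) (ht : t ∈ M) (ot : orderOf t = 2) :
    ∃ k ∈ M, u * k * u⁻¹ = k⁻¹ ∧ k * t * k⁻¹ = s := by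
  have uu := sq_of_ord ou
  have ui : u⁻¹ = u := inv_eq_of_mul_eq_one_left uu
  have ov := (CfsgH2.orderOf_conj' u s).trans os
  obtain ⟨w, h1, h2, -⟩ := CfsgL0.exists_invol_conj_of_odd ot ov
    (CfsgL0.se_odd h ht ot (fun e => hu (CfsgL0.se_mem h hs os e)) ov)
  have e : (u * w) * t * (u * w)⁻¹ = s := by
    calc (u * w) * t * (u * w)⁻¹ = u * (w * t * w⁻¹) * u⁻¹ := by group
      _ = (u * u) * s * (u * u)⁻¹ := by rw [h2]; group
      _ = s := by rw [uu]; group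
  exact ⟨u * w, CfsgL0.se_mem h ht ot (e ▸ hs), by
    rw [← mul_assoc, uu, one_mul, mul_inv_rev, inv_eq_of_mul_eq_one_left (sq_of_ord h1)], e⟩

end

/-- abelian involution centralisers, with a non-cyclic, non-normal Sylow `2`-subgroup. -/
structure AT {G : Type*} [Group G] (z y : G) : Prop where
  ac : ∀ t : G, orderOf t = 2 → Ab[C1[t]]
  oz : orderOf z = 2
  oy : orderOf y = 2
  yz : y ≠ z
  cy : y ∈ C1[z]
  odd : Odd C1[z].index
  nn : ∃ g : G, g * z * g⁻¹ ∉ C1[z]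

namespace AT
variable {G : Type u} [Group G] [Finite G] {z y s g : G} {M : Subgroup G}

omit [Finite G] in
theorem zm : z ∈ C1[z] := mc1.2 rfl

omit [Finite G] in
theorem comm (h : AT z y) {a b : G} (ha : a ∈ C1[z]) (hb : b ∈ C1[z]) : a * b = b * a :=
  comm_of_isMulComm (h.ac z h.oz) ha hb

omit [Finite G] in
theorem eqc (h : AT z y) (hs : s ∈ C1[z]) (os : orderOf s = 2) : C1[s] = C1[z] :=
  le_antisymm (fun _ hx => mc1.2 (comm_of_isMulComm (h.ac s os) hx (mc1.2 (mc1.1 hs).symm)))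
    fun _ hx => mc1.2 (h.comm hx hs)

theorem mem_two (h : AT z y) (hs : s ∈ N[C1[z]]) {k : ℕ} (os : s ^ 2 ^ k = 1) : s ∈ C1[z] :=
  mem_of_pow_mem_coprime (pow_relIndex_mem' le_rfl hs) (Nat.Coprime.coprime_dvd_left
    (orderOf_dvd_of_pow_eq_one os) ((Nat.coprime_two_left.2
      (h.odd.of_dvd_nat (relIndex_dvd_index_of_le le_normalizer))).pow_left k))

theorem mem_inv (h : AT z y) (hs : s ∈ N[C1[z]]) (os : orderOf s = 2) : s ∈ C1[z] :=
  h.mem_two hs (k := 1) (by rw [pow_one, ← os, pow_orderOf_eq_one])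

theorem norm_of (h : AT z y) (hs : s ∈ C1[z]) (os : orderOf s = 2) (hg : g * s * g⁻¹ ∈ C1[z]) :
    g ∈ N[C1[z]] :=
  mem_norm_of_map_le (by
    rw [← h.eqc hs os, ← centralizer_conj, h.eqc hg ((CfsgH2.orderOf_conj' g s).trans os),
      h.eqc hs os])

theorem mem_norm (h : AT z y) : g ∈ N[C1[z]] ↔ g * z * g⁻¹ ∈ C1[z] :=
  ⟨fun e => conj_mem_of_norm e zm, h.norm_of zm h.oz⟩

theorem se (h : AT z y) : IsStronglyEmbedded N[C1[z]] :=
  CfsgL0.se_iff.2 ⟨fun e => h.nn.elim fun g hg => hg (h.mem_norm.1 (e.ge (mem_top g))),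
    ⟨z, le_normalizer zm, h.oz⟩, fun t ht ot g hg =>
      h.norm_of (h.mem_inv ht ot) ot (h.mem_inv hg ((CfsgH2.orderOf_conj' g t).trans ot))⟩

omit [Finite G] in
theorem conj (h : AT z y) (g : G) : AT (g * z * g⁻¹) (g * y * g⁻¹) :=
  ⟨h.ac, (CfsgH2.orderOf_conj' g z).trans h.oz, (CfsgH2.orderOf_conj' g y).trans h.oy,
    by simpa using h.yz, centralizer_conj g z ▸ conj_mem_map_cj h.cy,
    by rw [centralizer_conj]; exact (index_map_equiv C1[z] (MulAut.conj g)).symm ▸ h.odd,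
    h.nn.elim fun k hk => ⟨g * k * g⁻¹, fun e => hk (by
      rw [centralizer_conj, mem_map_cj] at e; simpa [mul_assoc] using e)⟩⟩

theorem tc (h : AT z y) (ti : ∀ a ∈ C1[z], a ≠ 1 → C1[a] ≤ N[C1[z]]) : TC C1[z] z := by
  have TI : ∀ a ∈ C1[z], a ≠ 1 → ∀ g : G, g * a * g⁻¹ ∈ C1[z] → g ∈ N[C1[z]] := fun a ha a1 g hg =>
    inv_mem_iff.1 (CfsgL0.se_mem h.se (le_normalizer zm) h.oz (ti a ha a1 (mc1.2 (by
      calc _ = g⁻¹ * (z * (g * a * g⁻¹)) * g := by group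
        _ = _ := by rw [← mc1.1 hg]; group))))
  refine ⟨fun a ha a1 x hx => ?_, zm, h.oz, le_rfl, h.se.1⟩
  obtain ⟨g, hg⟩ := h.nn
  have hu : g * z * g⁻¹ ∉ N[C1[z]] := fun e => hg (h.mem_inv e (h.conj g).oz)
  obtain ⟨k, hk, e1, e2⟩ := se_trans h.se (h.conj g).oz hu
    (le_normalizer (h.mem_norm.1 (ti a ha a1 hx))) (h.conj x).oz (le_normalizer zm) h.oz
  have m1 : x⁻¹ * k ∈ C1[z] := mc1.2 (by
    calc _ = x⁻¹ * (k * z * k⁻¹) * k := by group
      _ = _ := by rw [e2]; group)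
  refine inv_mem_iff.1 ((mul_mem_cancel_right (by_contra fun kT => ?_)).1 m1)
  have ka : a ∈ C1[k] := mc1.2 (mc1.1 ((mul_mem_cancel_left (inv_mem hx)).1 (mc1.2 (h.comm m1 ha)))).symm
  have := inv_of_fpf_involution (mem_norm_cent1_of_inv e1) (eq_bot_iff.2 fun v hv => by_contra fun v1 => ?_)
    (sq_of_ord (h.conj g).oz) ka
  · exact hu (TI a ha a1 _ (this ▸ inv_mem ha))
  have v2 : g⁻¹ * v * g ∈ C1[z] := mem_map_cj.1 (centralizer_conj g z ▸ hv.2)
  have e3 := h.mem_norm.1 (TI _ v2 (by simpa using conj_ne_one (g := g⁻¹) v1) (g⁻¹ * k * g) (by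
    rwa [show g⁻¹ * k * g * (g⁻¹ * v * g) * (g⁻¹ * k * g)⁻¹ = g⁻¹ * (k * v * k⁻¹) * g by group,
      ← mc1.1 hv.1, mul_inv_cancel_right]))
  refine kT (h.mem_two hk (k := 2) ?_)
  have uu := sq_of_ord (h.conj g).oz
  have e4 : k * (g * z * g⁻¹) * k⁻¹ * (g * z * g⁻¹) = (g * z * g⁻¹) * (k * (g * z * g⁻¹) * k⁻¹) := by
    calc _ = g * (g⁻¹ * k * g * z * (g⁻¹ * k * g)⁻¹ * z) * g⁻¹ := by group
      _ = _ := by rw [mc1.1 e3]; group
  generalize g * z * g⁻¹ = u at *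
  have e5 : u * k⁻¹ * u = k := by
    rw [← e1, inv_eq_of_mul_eq_one_left uu, ← mul_assoc, ← mul_assoc, uu, one_mul, mul_assoc, uu, mul_one]
  have e6 : u * k * u = k⁻¹ := by rw [← e1, inv_eq_of_mul_eq_one_left uu]
  rw [show k * u * k⁻¹ * u = k * (u * k⁻¹ * u) by group, e5,
    show u * (k * u * k⁻¹) = u * k * u * k⁻¹ by group, e6] at e4
  calc k ^ 2 ^ 2 = k * k * (k * k) := by simp [pow_succ, mul_assoc]
    _ = 1 := by nth_rw 1 [e4]; group

theorem base (h : AT z y) (ti : ∀ a ∈ C1[z], a ≠ 1 → C1[a] ≤ N[C1[z]]) :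
    NT G ∧ commutator G = ⊤ ∧ ∃ (F : Type) (_ : Field F) (_ : Fintype F),
      (∃ n : ℕ, 2 ≤ n ∧ Fintype.card F = 2 ^ n) ∧
      Nonempty (G ≃* Matrix.ProjectiveSpecialLinearGroup (Fin 2) F) := by
  have t := h.tc ti
  obtain ⟨u, ou, hu⟩ := t.exists_out
  have Z := t.zk h.cy h.oy h.yz ou hu
  have hZ := t.zas h.cy h.oy h.yz ou hu
  obtain ⟨F, _, _, h1, -, h2⟩ := (odd_degree hZ Z t.even).resolve_right fun e => e.1 (h.ac z h.oz)
  refine ⟨Z.nt (HH_ne hZ Z.ne) h.cy zm h.oy h.oz h.yz (pg_of_even hZ Z t.even), ?_, F, inferInstance,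
    inferInstance, h1, h2⟩
  haveI := simple_of_odd hZ Z t.even
  refine ((inferInstance : (commutator G).Normal).eq_bot_or_eq_top).resolve_left fun e => ?_
  obtain ⟨g, hg⟩ := h.nn
  exact hg (mc1.2 (commutatorElement_eq_one_iff_mul_comm.1
    (e.le (commutator_mem_commutator (mem_top _) (mem_top _)))))

omit [Finite G] in
theorem sub (h : AT z y) (hM : C1[z] ≤ M) (hn : ∃ g ∈ M, g * z * g⁻¹ ∉ C1[z]) :
    AT (⟨z, hM zm⟩ : M) ⟨y, hM h.cy⟩ := by
  have c : ∀ {t x : M}, x ∈ C1[t] ↔ x.1 ∈ C1[t.1] := fun {t x} => by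
    rw [mc1, mc1, Subtype.ext_iff]; rfl
  refine ⟨fun t ot => ⟨⟨fun a b => Subtype.ext (Subtype.ext (comm_of_isMulComm
    (h.ac t (by rwa [orderOf_coe])) (c.1 a.2) (c.1 b.2)))⟩⟩, by rw [orderOf_mk, h.oz],
    by rw [orderOf_mk, h.oy], fun e => h.yz (congrArg Subtype.val e), c.2 h.cy, ?_, ?_⟩
  · rw [show C1[(⟨z, hM zm⟩ : M)] = C1[z].subgroupOf M from Subgroup.ext fun x => c]
    exact h.odd.of_dvd_nat (relIndex_dvd_index_of_le hM)
  · obtain ⟨g, h1, h2⟩ := hn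
    exact ⟨⟨g, h1⟩, fun e => h2 (c.1 e)⟩

theorem odd_center (h : AT z y) : Odd o[center G] := CfsgL0.odd_card_iff.2 fun t ht ot => by
  obtain ⟨g, hg⟩ := h.nn
  exact hg (mc1.2 (comm_of_isMulComm (h.ac t ot) (mc1.2 (mem_center_iff.1 ht _))
    (mc1.2 (mem_center_iff.1 ht _))))

end AT

section quot
variable {G : Type u} [Group G] [Finite G] {z y : G}

local notation "π" => QuotientGroup.mk' (center G)

theorem cq (h : Odd o[center G]) {t x : G} (tt : t * t = 1) : π x ∈ C1[π t] ↔ x ∈ C1[t] := by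
  refine ⟨fun e => ?_, fun e => mc1.2 (by rw [← map_mul, ← map_mul, mc1.1 e])⟩
  rw [mc1, ← map_mul, ← map_mul, QuotientGroup.mk'_eq_mk'] at e
  obtain ⟨c, hc, e⟩ := e
  have e1 : x⁻¹ * t * x = t * c := by rw [mul_assoc, ← e]; group
  have e2 : c ^ 2 = 1 := by
    calc c ^ 2 = t * t * c * c := by rw [tt, one_mul, sq]
      _ = t * c * (t * c) := by
        rw [mul_assoc t t c, mem_center_iff.1 hc t, ← mul_assoc, ← mul_assoc, mul_assoc _ t c,
          mem_center_iff.1 hc t, mul_assoc, mul_assoc, mul_assoc]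
      _ = x⁻¹ * (t * t) * x := by rw [← e1]; group
      _ = 1 := by rw [tt]; group
  rw [orderOf_eq_one_iff.1 (Nat.eq_one_of_dvd_coprimes (Nat.coprime_two_right.2 h)
    (Subgroup.orderOf_dvd_natCard _ hc) (orderOf_dvd_of_pow_eq_one e2)), mul_one] at e
  exact mc1.2 e

theorem ord_mk (h : Odd o[center G]) {t : G} (ot : orderOf t = 2) : orderOf (π t) = 2 :=
  orderOf_eq_prime (by rw [← map_pow, ← ot, pow_orderOf_eq_one, map_one]) fun e =>
    CfsgL0.odd_card_iff.1 h t ((QuotientGroup.eq_one_iff t).1 e) ot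

theorem lift_inv (h : Odd o[center G]) {s : G ⧸ center G} (os : orderOf s = 2) :
    ∃ t : G, orderOf t = 2 ∧ π t = s := by
  obtain ⟨t, rfl⟩ := QuotientGroup.mk'_surjective _ s
  obtain ⟨m, hm⟩ := h
  have e : π (t ^ o[center G]) = π t := by
    rw [map_pow, hm, pow_succ, pow_mul, ← os, pow_orderOf_eq_one, one_pow, one_mul]
  refine ⟨_, orderOf_eq_prime ?_ fun e' => ne_of_ord os (by rw [← e, e', map_one]), e⟩
  have : t ^ 2 ∈ center G := (QuotientGroup.eq_one_iff _).1 (by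
    change π (t ^ 2) = 1
    rw [map_pow, ← os, pow_orderOf_eq_one])
  rw [← pow_mul, mul_comm, pow_mul]
  exact orderOf_dvd_iff_pow_eq_one.1 (Subgroup.orderOf_dvd_natCard _ this)

theorem AT.quot (h : AT z y) : AT (π z) (π y) := by
  have o := h.odd_center
  have zz := sq_of_ord h.oz
  refine ⟨fun s os => ⟨⟨fun a b => Subtype.ext ?_⟩⟩, ord_mk o h.oz, ord_mk o h.oy, fun e => ?_,
    (cq o zz).2 h.cy, ?_, h.nn.elim fun g hg => ⟨π g, fun e => hg ((cq o zz).1 (by simpa using e))⟩⟩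
  · obtain ⟨t, ot, rfl⟩ := lift_inv o os
    obtain ⟨a, ha⟩ := a
    obtain ⟨b, hb⟩ := b
    obtain ⟨a, rfl⟩ := QuotientGroup.mk'_surjective _ a
    obtain ⟨b, rfl⟩ := QuotientGroup.mk'_surjective _ b
    change π a * π b = π b * π a
    rw [← map_mul, ← map_mul, comm_of_isMulComm (h.ac t ot) ((cq o (sq_of_ord ot)).1 ha)
      ((cq o (sq_of_ord ot)).1 hb)]
  · refine CfsgL0.odd_card_iff.1 o (y⁻¹ * z) (QuotientGroup.eq.1 e) (orderOf_eq_prime ?_
      fun e => h.yz (inv_mul_eq_one.1 e))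
    rw [inv_eq_of_mul_eq_one_left (sq_of_ord h.oy), (show Commute y z from mc1.1 h.cy).mul_pow, sq, sq,
      zz, sq_of_ord h.oy, mul_one]
  · rw [← index_comap_of_surjective _ (QuotientGroup.mk'_surjective _),
      show C1[π z].comap π = C1[z] from Subgroup.ext fun x => cq o zz]
    exact h.odd

theorem AT.minimal (h : AT z y) (min : ∀ M : Subgroup G, C1[z] ≤ M → M ≠ ⊤ → M ≤ N[C1[z]]) :
    NT G ∧ ∃ (F : Type) (_ : Field F) (_ : Fintype F), (∃ n : ℕ, 2 ≤ n ∧ Fintype.card F = 2 ^ n) ∧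
      Nonempty (G ≃* Matrix.SpecialLinearGroup (Fin 2) F × center G) := by
  have o := h.odd_center
  have zz := sq_of_ord h.oz
  obtain ⟨nt, pf, F, _, _, ⟨n, h1, h2⟩, ⟨e⟩⟩ := h.quot.base fun a ha a1 x hx => by
    obtain ⟨a, rfl⟩ := QuotientGroup.mk'_surjective _ a
    obtain ⟨x, rfl⟩ := QuotientGroup.mk'_surjective _ x
    replace ha := (cq o zz).1 ha
    have l : C1[z] ≤ C1[a] := fun v hv => mc1.2 (h.comm hv ha)
    have l' : C1[a] ≤ C1[π a].comap π := fun v hv => mc1.2 (by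
      rw [← map_mul, ← map_mul, mc1.1 hv])
    have := h.mem_norm.1 (min (C1[π a].comap π) (l.trans l') (fun e => ?_) hx)
    · exact h.quot.mem_norm.2 (by simpa using (cq o zz).2 this)
    obtain ⟨g, hg⟩ := h.nn
    refine hg (h.mem_inv (min _ l (fun e' => a1 ((QuotientGroup.eq_one_iff a).2
      (mem_center_iff.2 fun v => mc1.1 (e'.ge (mem_top v))))) (mc1.2 ?_)) (h.conj g).oz)
    have := mc1.1 (e.ge (mem_top g))
    rw [← map_mul, ← map_mul, QuotientGroup.mk'_eq_mk'] at this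
    obtain ⟨c, hc, e⟩ := this
    calc g * z * g⁻¹ * a = g * (z * (g⁻¹ * (a * g))) * g⁻¹ := by group
      _ = g * (z * a * c) * g⁻¹ := by rw [← e]; group
      _ = g * a * c * z * g⁻¹ := by rw [← mc1.1 ha, mul_assoc a, mem_center_iff.1 hc z]; group
      _ = _ := by rw [e]; group
  refine ⟨fun D hD tr => nt (D.map π) (hD.of_dvd_nat (card_map_dvd _ _)) fun s t os ot => ?_, F,
    inferInstance, inferInstance, ⟨n, h1, h2⟩, ?_⟩
  · obtain ⟨s, os', rfl⟩ := lift_inv o os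
    obtain ⟨t, ot', rfl⟩ := lift_inv o ot
    obtain ⟨d, hd, rfl⟩ := tr s t os' ot'
    exact ⟨π d, mem_map_of_mem _ hd, by simp⟩
  obtain ⟨e'⟩ := sl_psl (F := F) (h2 ▸ Nat.even_pow.2 ⟨even_two, by omega⟩)
  haveI : CharP F 2 := charP_of_card_eq_prime_pow h2
  let f : G →* Matrix.SpecialLinearGroup (Fin 2) F := (e.trans e').toMonoidHom.comp π
  have fk : f.ker = center G := by
    rw [MonoidHom.ker_comp_of_injective _ _ (e.trans e').injective, QuotientGroup.ker_mk']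
  have d : commutator G ⊓ center G = ⊥ := by
    by_contra d
    obtain ⟨p, hp, hd⟩ := Nat.exists_prime_and_dvd fun e => d (card_eq_one.1 e)
    obtain ⟨x, hx, ox⟩ := exists_prime_order_mem hp hd
    haveI := Fact.mk hp
    have p2 : p ≠ 2 := fun e => CfsgL0.odd_card_iff.1 o x hx.2 (ox.trans e)
    obtain ⟨P⟩ : Nonempty (Sylow p G) := inferInstance
    obtain ⟨R, hR⟩ := (P.isPGroup'.map f).exists_le_sylow
    haveI := Cfsg.Agent.S0262.result 2 p p2 p2 R
    have ab := isMulComm_of_cyclic_map f (Subgroup.isCyclic_of_le hR)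
      (fun c hc v _ => mem_center_iff.1 (fk ▸ hc.2) v)
    have := central_pow_index_mem (H := P) hx.2 hx.1
    rw [comm_self_eq_bot_iff.2 ab, mem_bot, ← orderOf_dvd_iff_pow_eq_one, ox] at this
    exact P.not_dvd_index this
  have m : (commutator G).map π = ⊤ := by
    rw [_root_.commutator, map_commutator, ← MonoidHom.range_eq_map,
      MonoidHom.range_eq_top.2 (QuotientGroup.mk'_surjective _)]
    exact pf
  have s : commutator G ⊔ center G = ⊤ := by
    have := comap_map_eq π (commutator G)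
    rwa [m, comap_top, QuotientGroup.ker_mk', eq_comm] at this
  obtain ⟨e1⟩ := equiv_prod' (fun a _ b hb => mem_center_iff.1 hb a) d s
  refine ⟨e1.trans (MulEquiv.prodCongr (MulEquiv.ofBijective (f.comp (commutator G).subtype)
    ⟨(injective_iff_map_eq_one _).2 fun x hx => Subtype.ext (d.le ⟨x.2, fk.le hx⟩), fun v => ?_⟩)
      (MulEquiv.refl _))⟩
  obtain ⟨x, hx, e2⟩ := m.ge (mem_top ((e.trans e').symm v))
  exact ⟨⟨x, hx⟩, by change (e.trans e') (π x) = v; rw [e2, MulEquiv.apply_symm_apply]⟩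

end quot

theorem at_aux (n : ℕ) : ∀ {G : Type u} [Group G] [Finite G] {z y : G}, AT z y → Nat.card G = n →
    NT G ∧ ∃ (F : Type) (_ : Field F) (_ : Fintype F), (∃ n : ℕ, 2 ≤ n ∧ Fintype.card F = 2 ^ n) ∧
      Nonempty (G ≃* Matrix.SpecialLinearGroup (Fin 2) F × center G) := by
  induction n using Nat.strong_induction_on with
  | _ n ih =>
  intro G _ _ z y h e
  refine h.minimal fun M h1 h2 => by_contra fun h3 => ?_
  obtain ⟨g, hg, h4⟩ := SetLike.not_le_iff_exists.1 h3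
  have hM := h.sub h1 ⟨g, hg, fun e => h4 (h.mem_norm.2 e)⟩
  have cj : ∀ t ∈ M, orderOf t = 2 → ∃ c ∈ M, c * t * c⁻¹ = z := fun t ht ot => by
    obtain ⟨c, hc⟩ := isConj_iff.1 (CfsgL0.se_isConj hM.se (a := ⟨t, ht⟩) (by rwa [orderOf_mk]) hM.oz)
    exact ⟨c, c.2, congrArg Subtype.val hc⟩
  have se : IsStronglyEmbedded M := CfsgL0.se_iff.2 ⟨h2, ⟨z, h1 AT.zm, h.oz⟩, fun t ht ot g hg => by
    obtain ⟨c, hc, e1⟩ := cj t ht ot
    obtain ⟨d, hd, e2⟩ := cj _ hg ((CfsgH2.orderOf_conj' g t).trans ot)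
    have : d * g * c⁻¹ ∈ M := h1 (mc1.2 (by
      calc _ = d * (g * t * g⁻¹) * d⁻¹ * (d * g * c⁻¹) := by rw [← e1]; group
        _ = _ := by rw [e2]))
    rwa [mul_mem_cancel_right (inv_mem hc), mul_mem_cancel_left hd] at this⟩
  obtain ⟨v, hv⟩ : ∃ v, v ∉ M := by
    by_contra e
    push Not at e
    exact h2 (eq_top_iff.2 fun v _ => e v)
  have hu : v * z * v⁻¹ ∉ M := fun e => hv (CfsgL0.se_mem se (h1 AT.zm) h.oz e)
  refine (ih _ (e ▸ CfsgH2.card_lt_of_ne_top h2) hM rfl).1 ((M ⊓ M.map (CfsgH2.cj (v * z * v⁻¹))).subgroupOf M)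
    (by rw [Nat.card_congr (subgroupOfEquivOfLe inf_le_left).toEquiv]; exact se.2.2 _ hu)
    fun s t os ot => ?_
  obtain ⟨k, hk, e1, e2⟩ := se_trans se (h.conj v).oz hu t.2 (by rwa [orderOf_coe]) s.2
    (by rwa [orderOf_coe])
  refine ⟨⟨k, hk⟩, ⟨hk, mem_map_cj.2 ?_⟩, Subtype.ext e2⟩
  have := inv_eq_of_mul_eq_one_left (sq_of_ord (h.conj v).oz)
  rw [this] at e1 ⊢
  exact e1 ▸ inv_mem hk

theorem ac_cases {G : Type u} [Group G] [Finite G] (heven : Even (Nat.card G))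
    (h : ∀ t : G, orderOf t = 2 → Ab[C1[t]]) :
    (∀ P : Sylow 2 G, IsCyclic P) ∨ (∀ P : Sylow 2 G, (P : Subgroup G).Normal) ∨
    (Odd o[center G] ∧ ∃ (F : Type) (_ : Field F) (_ : Fintype F),
      (∃ n : ℕ, 2 ≤ n ∧ Fintype.card F = 2 ^ n) ∧
      Nonempty (G ≃* Matrix.SpecialLinearGroup (Fin 2) F × center G)) := by
  refine or_iff_not_imp_left.2 fun h1 => or_iff_not_imp_left.2 fun h2 => ?_
  push Not at h1 h2
  obtain ⟨P, hP⟩ := h1
  obtain ⟨z, hz, oz⟩ := CfsgL0.exists_orderOf_prime_of_ne_bot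
    (P.isPGroup'.to_le (inf_le_left : Z[(P : Subgroup G)] ≤ _))
    (CfsgH2.center_ne_bot P.isPGroup' (P.ne_bot_of_dvd_card heven.two_dvd))
  have zc : (P : Subgroup G) ≤ C1[z] := le_cent1_iff.2 hz.2
  obtain ⟨y, hy, oy, yz⟩ : ∃ y ∈ (P : Subgroup G), orderOf y = 2 ∧ y ≠ z := by
    by_contra e
    push Not at e
    rcases CfsgH4.cyc_or_gq P.isPGroup' fun a ha b hb oa ob _ => (e a ha oa).trans (e b hb ob).symm with
      c | ⟨a, b, m, q⟩
    · exact hP c
    · have := q.inv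
      have ha : a ∈ (P : Subgroup G) := q.sup ▸ mem_sup_left (mem_zpowers a)
      have hb : b ∈ (P : Subgroup G) := q.sup ▸ mem_sup_right (mem_zpowers b)
      rw [comm_of_isMulComm (h z oz) (zc hb) (zc ha), mul_inv_cancel_right] at this
      exact q.sq_a_ne (by nth_rw 1 [this, inv_mul_cancel])
  have A : AT z y := ⟨h, oz, oy, yz, zc hy, Nat.odd_iff.2 (Nat.two_dvd_ne_zero.1 fun e =>
    P.not_dvd_index (e.trans (index_dvd_of_le zc))), by
      by_contra e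
      push Not at e
      obtain ⟨Q, hQ⟩ := h2
      have n : (P : Subgroup G).Normal := normalizer_eq_top_iff.1 (eq_top_iff.2 fun g _ =>
        ((syl_top P).mono zc le_top).norm_le_of_norm (le_norm_of_le_cent
          (le_centralizer_iff.1 (zc.trans (le_cent_self (h z oz))))) (mem_norm_of_map_le ?_))
      · haveI := Sylow.unique_of_normal P n
        exact hQ (Subsingleton.elim P Q ▸ n)
      rw [← centralizer_conj]
      exact fun v hv => mc1.2 (comm_of_isMulComm (h _ ((CfsgH2.orderOf_conj' g z).trans oz)) hv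
        (mc1.2 (mc1.1 (e g)).symm))⟩
  exact ⟨A.odd_center, (at_aux _ A rfl).2⟩

end CfsgH8.Za
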