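import Cfsg.Agent.H8.Za17
import Cfsg.Agent.H8.SL2e
import Cfsg.Agent.S0205

/-! Groups whose element centralisers are TI-sets. -/

set_option autoImplicit false
open Subgroup Cfsg CfsgH2 CfsgH1 CfsgH3 CfsgRO Function MulAction
open scoped commutatorElement

namespace CfsgH8.Za

theorem psl_comm {F G : Type*} [Field F] [Fintype F] (h : Even (Fintype.card F)) [Group G]
    (e : G ≃* Matrix.ProjectiveSpecialLinearGroup (Fin 2) F) {x a b : G} (x1 : x ≠ 1)
    (ha : a ∈ C1[x]) (hb : b ∈ C1[x]) : a * b = b * a := by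
  obtain ⟨e'⟩ := sl_psl h
  haveI : CharP F 2 := by
    obtain ⟨p, _, n, hp, hn⟩ := FiniteField.card' F
    obtain rfl := (Nat.prime_dvd_prime_iff_eq Nat.prime_two hp).1
      (Nat.prime_two.dvd_of_dvd_pow (hn ▸ h.two_dvd))
    assumption
  let f : G →* GL (Fin 2) F := Matrix.SpecialLinearGroup.toGL.comp (e.trans e').toMonoidHom
  have fi : Injective f := Matrix.SpecialLinearGroup.toGL_injective.comp (e.trans e').injective
  have c : ∀ {a}, a ∈ C1[x] → f a ∈ C1[f x] := fun ha => mc1.2 (by rw [← map_mul, ← map_mul, mc1.1 ha])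
  have := comm_of_mem_centralizer (g := f x) (fun s => x1 ((e.trans e').map_eq_one_iff.1 ?_))
    ⟨_, c ha⟩ ⟨_, c hb⟩
  · exact fi (by rw [map_mul, map_mul]; exact congrArg Subtype.val this)
  · refine (isSc_SL2.1 s).elim id fun e => e.trans ?_
    ext i j
    simp [CharTwo.neg_eq]

/-- element centralisers are TI-sets. -/
def CT (G : Type*) [Group G] : Prop :=
  ∀ x y g : G, y ≠ 1 → y ∈ C1[x] → g * y * g⁻¹ ∈ C1[x] → g ∈ N[C1[x]]

variable {G : Type*} [Group G] [Finite G] {x y z : G} {H K P : Subgroup G}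

omit [Finite G] in
theorem ab_center : Ab[Z[H]] := isMulComm_of_le_cent (inf_le_right.trans (cent_anti inf_le_left))

namespace CT

omit [Finite G] in
theorem norm (h : CT G) (y1 : y ≠ 1) (hy : y ∈ C1[x]) : C1[y] ≤ N[C1[x]] := fun g hg =>
  h x y g y1 hy (by rwa [mc1.1 hg, mul_inv_cancel_right])

theorem nil (h : CT G) (y1 : y ≠ 1) : Nil[C1[y]] := by
  have : C1[y] ≤ F[C1[y]] := fun x hx => by
    have n := h.norm y1 (mc1.2 (mc1.1 hx).symm)
    exact le_fit (N := C1[y] ⊓ Z[C1[x]]) inf_le_left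
      (le_norm_inf le_normalizer (n.trans norm_le_norm_center))
      (isNilpotent_of_comm (isMulComm_of_le ab_center inf_le_right))
      ⟨hx, mc1.2 rfl, le_cent1_iff.1 le_rfl⟩
  exact isNilpotent_of_le fit_nil this

theorem cent {p : ℕ} [Fact p.Prime] (h : CT G) (hP : Syl p P ⊤) (hz : z ∈ Z[P]) (z1 : z ≠ 1)
    (hy : y ∈ C1[z]) (y1 : y ≠ 1) : C1[y] ≤ C1[z] := by
  have n := nil_sup (h.nil z1) (h.nil y1) (h.norm z1 (mc1.2 (mc1.1 hy).symm)) (h.norm y1 hy)
  have l : P ≤ C1[z] := le_cent1_iff.2 hz.2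
  have e := (hP.mono (l.trans le_sup_left) le_top).eq_core_of_nil n
  refine le_sup_right.trans ((nil_sup_core (π := {p}) n).ge.trans (sup_le (e.le.trans l) ?_))
  exact le_cent1_iff.2 (piCoreOf_le_cent (e.ge hz.1))

theorem comp (h : CT G) (f : Frob K H ⊤) : IsCyclic H ∨
    ∃ m : ℕ, Odd m ∧ Nonempty (H ≃* Multiplicative (ZMod m) × QuaternionGroup 2) := by
  obtain ⟨z, hz, z1⟩ := exists_ne_one f.center_ne_bot
  have l : H ≤ C1[z] := le_cent1_iff.2 hz.2
  have n : Nil[H] := isNilpotent_of_le (h.nil z1) l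
  have co : ∀ N ≤ H, ∀ (p : ℕ) [Fact p.Prime], p ≠ 2 → Cyc[O[{p}, N]] := fun N hN p hp p2 =>
    f.isCyclic_of_odd hp.out p2 (piCoreOf_le.trans hN) isPGroup_piCoreOf
  rcases CfsgH4.cyc_or_gq (P := O[{2}, H]) isPGroup_piCoreOf fun a ha b hb oa ob _ =>
    f.involution_unique (piCoreOf_le hb) ob (piCoreOf_le ha) oa with c | ⟨a, b, m, q⟩
  · refine Or.inl (nil_cyc_of_cores n fun p _ _ => ?_)
    by_cases p2 : p = 2
    · subst p2; exact c
    · exact co H le_rfl p p2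
  have c : Cyc[O[{2}ᶜ, H]] := nil_cyc_of_cores (isNilpotent_of_le n piCoreOf_le) fun p hp hd =>
    co _ piCoreOf_le p (piN_piCoreOf p hp.out hd)
  obtain rfl : m = 1 := by
    have h1 := mc1.1 (conj_mem_of_norm (h.norm z1 (mc1.2 (mc1.1 (l (piCoreOf_le q.bmem))).symm)
      (l (piCoreOf_le q.amem))) (mc1.2 rfl))
    have h2 : a ^ 2 ^ 2 = 1 := by
      have i : b * a = a⁻¹ * b := by rw [← q.inv]; group
      have i' : b * a⁻¹ = a * b := by
        calc b * a⁻¹ = (b * a * b⁻¹)⁻¹ * b := by group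
          _ = _ := by rw [q.inv, inv_inv]
      have : a * a * (b * b) = a⁻¹ * a⁻¹ * (b * b) := by
        calc _ = a * (b * a⁻¹) * b := by rw [i']; group
          _ = (b * a) * (b * a⁻¹) := by rw [← mul_assoc a, h1]; group
          _ = a⁻¹ * (b * a) * b := by rw [i']; nth_rw 1 [i]; group
          _ = _ := by rw [i]; group
      calc a ^ 2 ^ 2 = a * a * (a * a) := by simp [pow_succ, mul_assoc]
        _ = 1 := by nth_rw 1 [mul_right_cancel this]; group
    have := (Nat.pow_dvd_pow_iff_le_right one_lt_two).1 (q.ord ▸ orderOf_dvd_of_pow_eq_one h2)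
    have := q.pos
    omega
  obtain ⟨e1⟩ := q.toCy2.quaternion q.sq' q.inv
  refine Or.inr ⟨o[O[{2}ᶜ, H]], Nat.odd_iff.2 (Nat.two_dvd_ne_zero.1 fun e =>
    piN_piCoreOf 2 Nat.prime_two e rfl), ?_⟩
  obtain ⟨e2⟩ := equiv_prod' (A := O[{2}ᶜ, H].subgroupOf H) (B := O[{2}, H].subgroupOf H)
    (fun a ha b hb => Subtype.ext (commute_of_mem_cent (piCoreOf_le_cent hb) ha).symm.eq)
    (by rw [subgroupOf, subgroupOf, ← comap_inf, inf_eq_bot_of_coprime'
      (piN_piCoreOf.coprime' piN_piCoreOf), ← subgroupOf, bot_subgroupOf])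
    (by rw [← subgroupOf_sup piCoreOf_le piCoreOf_le, sup_comm, nil_sup_core n, subgroupOf_self])
  exact ⟨e2.trans (MulEquiv.prodCongr ((subgroupOfEquivOfLe piCoreOf_le).trans
    (zmodCyclicMulEquiv c).symm) ((subgroupOfEquivOfLe piCoreOf_le).trans e1))⟩

theorem of_normal {p : ℕ} [Fact p.Prime] (h : CT G) (hP : Syl p P ⊤) (hz : z ∈ Z[P]) (z1 : z ≠ 1)
    (hn : N[C1[z]] = ⊤) : Group.IsNilpotent G ∨ ∃ K H : Subgroup G, Frob K H ⊤ := by
  by_cases e : C1[z] = ⊤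
  · have := h.nil z1
    rw [e] at this
    exact Or.inl (Group.nilpotent_of_mulEquiv topEquiv)
  · obtain ⟨H, f⟩ := exists_frob_of_cent (lt_top_iff_ne_top.2 e) (fun e => z1 (e.le (mc1.2 rfl))) hn.ge
      fun y hy y1 => inf_le_right.trans (h.cent hP hz z1 hy y1)
    exact Or.inr ⟨_, _, f⟩

theorem ab {Ω : Type*} [MulAction G Ω] {a b : Ω} (h : CT G) (hZ : IsZassenhausGroup G Ω)
    (Z : ZK a b K) (he : Even o[K]) : Ab[K] := by
  by_contra nab
  obtain ⟨F, _, _, -, -, h1, h2, -⟩ := suzuki hZ Z (pg_of_even hZ Z he) nab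
  have k0 := Z.ker_ne (HH_ne hZ Z.ne)
  have z0 := nil_center_ne_bot (Z.nil (HH_ne hZ Z.ne)) k0
  obtain ⟨x, hx, xz⟩ := SetLike.not_le_iff_exists.1 fun e => nab (isMulComm_of_le_cent e)
  have cl : C1[x] ≤ K := Z.cent_le hx (by rintro rfl; exact xz (one_mem _))
  have hH : HH G a b ≤ N[K] := inf_le_left.trans Z.le_norm
  have l : Z[K] < Z[C1[x]] := lt_of_le_of_ne (fun v hv => ⟨mc1.2 (hv.2 x hx).symm,
    cent_anti cl hv.2⟩) fun e => xz (e.ge ⟨mc1.2 rfl, le_cent1_iff.1 le_rfl⟩).2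
  obtain ⟨z, hz, z1⟩ := exists_ne_one z0
  have d1 := Z.card_dvd' (inf_le_left : Z[K] ≤ K) (hH.trans norm_le_norm_center)
  have d2 := Z.card_dvd' ((inf_le_left : Z[C1[x]] ≤ _).trans cl) (le_trans (fun g hg => h x z g z1
    (l.le hz).1 (l.le (conj_mem_of_norm (norm_le_norm_center (hH hg)) hz)).1) norm_le_norm_center)
  have e := CfsgH2.card_mul_relIndex l.le
  have m1 : 1 < Z[K].relIndex Z[C1[x]] := by
    have := CfsgH2.card_lt_of_lt l
    rw [← e] at this
    exact (Nat.lt_mul_iff_one_lt_right Nat.card_pos).1 this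
  have c1 := (one_lt_card_iff_ne_bot _).2 z0
  refine nab (eq_of_le_of_card_ge ((inf_le_left : Z[C1[x]] ≤ _).trans cl) ?_ ▸ ab_center)
  rw [h1, ← h2, ← e, sq]
  rw [← e] at d2
  generalize Z[K].relIndex Z[C1[x]] = m at *
  generalize o[Z[K]] = c at *
  obtain ⟨m, rfl⟩ : ∃ k, m = k + 1 := ⟨m - 1, by omega⟩
  obtain ⟨c, rfl⟩ : ∃ k, c = k + 1 := ⟨c - 1, by omega⟩
  rw [Nat.add_sub_cancel] at d1
  rw [show (c + 1) * (m + 1) - 1 = c * (m + 1) + m by rw [add_mul c, one_mul, ← add_assoc]; simp,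
    Nat.dvd_add_right (Dvd.dvd.mul_right d1 _)] at d2
  exact Nat.mul_le_mul (Nat.succ_le_succ (Nat.le_of_dvd (by omega) d1))
    (Nat.succ_le_succ (Nat.le_of_dvd (by omega) d2))

theorem cases (h : CT G) : Group.IsNilpotent G ∨ (∃ K H : Subgroup G, Frob K H ⊤) ∨
    ∃ (F : Type) (_ : Field F) (_ : Fintype F), (∃ n : ℕ, 2 ≤ n ∧ Fintype.card F = 2 ^ n) ∧
      Nonempty (G ≃* Matrix.ProjectiveSpecialLinearGroup (Fin 2) F) := by
  rw [← or_assoc]
  rcases Nat.even_or_odd (Nat.card G) with he | ho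
  · obtain ⟨P⟩ : Nonempty (Sylow 2 G) := inferInstance
    obtain ⟨z, hz, oz⟩ := CfsgL0.exists_orderOf_prime_of_ne_bot
      (P.isPGroup'.to_le (inf_le_left : Z[(P : Subgroup G)] ≤ _))
      (CfsgH2.center_ne_bot P.isPGroup' (P.ne_bot_of_dvd_card he.two_dvd))
    have z1 := ne_of_ord oz
    by_cases hn : N[C1[z]] = ⊤
    · exact Or.inl (h.of_normal (syl_top P) hz z1 hn)
    have t : TC C1[z] z := ⟨fun y hy y1 => h.cent (syl_top P) hz z1 hy y1, mc1.2 rfl, oz, le_rfl, hn⟩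
    by_cases e : ∃ y ∈ C1[z], orderOf y = 2 ∧ y ≠ z
    · obtain ⟨y, hy, oy, yz⟩ := e
      obtain ⟨u, ou, hu⟩ := t.exists_out
      have Z := t.zk hy oy yz ou hu
      have hZ := t.zas hy oy yz ou hu
      obtain ⟨F, _, _, h1, -, h2⟩ := (odd_degree hZ Z t.even).resolve_right fun e =>
        e.1 (h.ab hZ Z t.even)
      exact Or.inr ⟨F, _, _, h1, h2⟩
    push Not at e
    obtain ⟨K, f⟩ := exists_frob_of_ti (lt_top_iff_ne_top.2 fun e => hn (top_le_iff.1
      (e.ge.trans le_normalizer))) (fun e => z1 (e.le t.mem)) fun g _ hg => eq_bot_iff.2 fun v hv =>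
        by_contra fun v1 => hg (by
          have := e _ (conj_mem_of_norm (inv_mem_iff.1 (t.ti hv.1 v1 (by
            simpa using mem_map_cj.1 hv.2))) t.mem) ((CfsgH2.orderOf_conj' g z).trans oz)
          exact mc1.2 (mul_inv_eq_iff_eq_mul.1 this))
    exact Or.inl (Or.inr ⟨_, _, f⟩)
  haveI := Cfsg.Agent.S0205.result ho
  rcases subsingleton_or_nontrivial G with _ | _
  · exact Or.inl (Or.inl inferInstance)
  obtain ⟨p, hp, hd⟩ := Nat.exists_prime_and_dvd fun e => fitting_ne_bot (G := G) (card_eq_one.1 e)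
  haveI := Fact.mk hp
  obtain ⟨P, hP⟩ := exists_syl (p := p) (⊤ : Subgroup G)
  have n : (⊤ : Subgroup G) ≤ N[O[{p}, fittingSubgroup G]] :=
    (top_le_norm_iff.2 inferInstance).trans norm_le_norm_piCoreOf
  have l := hP.le_of_norm isPGroup_piCoreOf le_top (le_top.trans n)
  obtain ⟨z, hz, z1⟩ := exists_ne_one (nil_inf_cent_ne_bot (nil_of_pg hP.pg) l (le_top.trans n) fun e =>
    (nil_syl_core (p := p) isNilpotent_fitting).nd (by rwa [e, relIndex_bot_left]))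
  exact Or.inl (h.of_normal hP ⟨l hz.1, hz.2⟩ z1 (eq_top_iff.2 fun g hg => h z z g z1 (mc1.2 rfl)
    (le_cent1_iff.2 hz.2 (l (conj_mem_of_norm (n hg) hz.1)))))

end CT

end CfsgH8.Za
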