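import Cfsg.Agent.H8.Za1
import Cfsg.Agent.H2.BG6

/-! Zassenhaus groups: normal subgroups, the two point stabiliser. -/

set_option autoImplicit false
open Subgroup Cfsg CfsgH2 CfsgH1 CfsgH3 Function MulAction
open scoped commutatorElement

namespace CfsgH8.Za

variable {G Ω : Type*} [Group G] [MulAction G Ω] {a b : Ω} {K N : Subgroup G}

local notation "L" => stabilizer G a
local notation "H" => HH G a b

theorem ZT.normal_trans (h : ZT G Ω) [hN : N.Normal] (h0 : N ≠ ⊥) (x y : Ω) : ∃ n ∈ N, n • x = y := by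
  obtain ⟨⟨n, hn⟩, h1⟩ := ne_bot_iff_exists_ne_one.1 h0
  obtain ⟨c, hc⟩ : ∃ c : Ω, n • c ≠ c := by
    by_contra e
    push Not at e
    exact h1 (Subtype.ext (h.faith n e))
  by_cases e : x = y
  · exact ⟨1, one_mem _, by rw [one_smul, e]⟩
  obtain ⟨g, e1, e2⟩ := h.two _ _ _ _ hc.symm e
  exact ⟨g * n * g⁻¹, hN.conj_mem n hn g, by rw [mul_smul, mul_smul, ← e1, inv_smul_smul, e2]⟩

/-- regular normal subgroup. -/
structure RN (Ω : Type*) {G : Type*} [Group G] [MulAction G Ω] (M : Subgroup G) : Prop where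
  normal : M.Normal
  tr : ∀ x y : Ω, ∃ m ∈ M, m • x = y
  fr : ∀ m ∈ M, ∀ x : Ω, m • x = x → m = 1

theorem RN.card {M : Subgroup G} (h : RN Ω M) (x : Ω) : o[M] = Nat.card Ω :=
  Nat.card_congr (Equiv.ofBijective (fun m : M => m.1 • x) ⟨fun m n e => by
    have := h.fr _ (mul_mem (inv_mem n.2) m.2) x (by
      rw [mul_smul, show m.1 • x = n.1 • x from e, inv_smul_smul])
    rw [inv_mul_eq_one] at this
    exact Subtype.ext this.symm, fun y => by
      obtain ⟨m, hm, e⟩ := h.tr x y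
      exact ⟨⟨m, hm⟩, e⟩⟩)

theorem fr_of_one [hN : N.Normal] (ht : ∀ x y : Ω, ∃ g : G, g • x = y)
    (h : ∀ m ∈ N, m • a = a → m = 1) : ∀ m ∈ N, ∀ x : Ω, m • x = x → m = 1 := by
  intro m hm x e
  obtain ⟨g, rfl⟩ := ht a x
  have := h (g⁻¹ * m * g) (hN.conj_mem' m hm g) (by rw [mul_smul, mul_smul, e, inv_smul_smul])
  rwa [mul_assoc, inv_mul_eq_one, eq_comm, mul_eq_right] at this

theorem no_RN (h : IsZassenhausGroup G Ω) (M : Subgroup G) : ¬ RN Ω M := fun hM => by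
  obtain ⟨x, hx⟩ := h.2.2.2.2 M hM.normal ⟨fun x y => by
    obtain ⟨m, hm, e⟩ := hM.tr x y
    exact ⟨⟨m, hm⟩, e⟩⟩
  exact hx (eq_bot_iff.2 fun m hm => Subtype.ext (hM.fr m m.2 x hm))

theorem isZas (h : ZT G Ω) (hab : a ≠ b) (h0 : H ≠ ⊥) (h1 : ∀ M : Subgroup G, ¬ RN Ω M) :
    IsZassenhausGroup G Ω := by
  refine ⟨h.faithful, h.two', h.three, ?_, fun M hM ht => ?_⟩
  · obtain ⟨⟨x, hx⟩, e⟩ := ne_bot_iff_exists_ne_one.1 h0
    exact ⟨x, fun e' => e (Subtype.ext e'), a, b, hab, hx.1, hx.2⟩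
  · by_contra e
    push Not at e
    refine h1 M ⟨hM, fun x y => ?_, fun m hm x hx => ?_⟩
    · obtain ⟨m, hm⟩ := ht.exists_smul_eq x y
      exact ⟨m, m.2, hm⟩
    · have : (⟨m, hm⟩ : M) ∈ stabilizer M x := hx
      rw [e x, mem_bot] at this
      exact congrArg Subtype.val this

variable [Finite G]

/-- a normal subgroup meeting `H` trivially contains a regular normal subgroup. -/
theorem ZT.exists_RN (h : ZT G Ω) (hab : a ≠ b) [hN : N.Normal] (h0 : N ≠ ⊥) (hH : N ⊓ H = ⊥) :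
    ∃ M ≤ N, RN Ω M := by
  have ht := h.normal_trans h0
  by_cases h1 : N ⊓ L = ⊥
  · refine ⟨N, le_rfl, hN, ht, fr_of_one (a := a) h.trans fun m hm e => ?_⟩
    rw [← mem_bot, ← h1]; exact ⟨hm, e⟩
  have hlt : N ⊓ L < N := by
    refine lt_of_le_of_ne inf_le_left fun e => ?_
    obtain ⟨n, hn, e'⟩ := ht a b
    rw [← e] at hn
    exact hab (hn.2.symm.trans e')
  obtain ⟨M, hM⟩ := exists_frob_of_ti hlt h1 fun g hg hgH => eq_bot_iff.2 fun x hx => by
    have h2 := (mem_map_cj.1 hx.2).2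
    have h3 : x • g • a = g • a := by
      have : (g⁻¹ * x * g) • a = a := h2
      rwa [mul_smul, mul_smul, inv_smul_eq_iff] at this
    obtain ⟨y, hy⟩ := h.conj_H hab (fun e : a = g • a => hgH ⟨hg, e.symm⟩) hx.1.2 h3
    have : y * x * y⁻¹ ∈ N ⊓ H := ⟨hN.conj_mem x hx.1.1 y, hy⟩
    rw [hH, mem_bot, mul_inv_eq_one, mul_eq_left] at this
    exact this
  have hMn : M.Normal := normal_of_top_le_norm fun g _ => by
    have := hM.map_cj g
    rw [map_cj_normal g N] at this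
    exact map_cj_eq_iff.1 (hM.ker_unique this)
  refine ⟨M, hM.ker_le, hMn, fun x y => ?_, fr_of_one (a := a) h.trans fun m hm e => ?_⟩
  · exact h.normal_trans hM.ker_ne x y
  · rw [← mem_bot, ← hM.disj]; exact ⟨hm, hM.ker_le hm, e⟩

theorem inf_H_ne (hZ : IsZassenhausGroup G Ω) (hab : a ≠ b) [N.Normal] (h0 : N ≠ ⊥) :
    N ⊓ H ≠ ⊥ := fun e => by
  obtain ⟨M, -, hM⟩ := (ZT.of hZ).exists_RN hab h0 e
  exact no_RN hZ M hM

theorem ZK.le_of_inf (h : ZK a b K) {X : Subgroup G} (hn : K ≤ N[X]) (h0 : X ⊓ H ≠ ⊥) : K ≤ X := by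
  have h1 : H ≠ ⊥ := fun e => h0 (by rw [e, inf_bot_eq])
  rcases (h.frob h1).le_or_le (N := X ⊓ L) inf_le_right
    (le_norm_inf hn (le_norm_of_le h.le')) with e | e
  · refine absurd (eq_bot_iff.2 fun x hx => ?_) h0
    rw [← h.disj]; exact ⟨e ⟨hx.1, hx.2.1⟩, hx.2⟩
  · exact e.trans inf_le_left

theorem ZK.le_normal (h : ZK a b K) (hZ : IsZassenhausGroup G Ω) [hN : N.Normal] (h0 : N ≠ ⊥) :
    K ≤ N :=
  h.le_of_inf (le_top.trans (top_le_norm_iff.2 hN)) (inf_H_ne hZ h.ne h0)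

omit [Finite G] in
theorem ZK.two_of_le (h : ZK a b K) (hK : K ≤ N) (ht : ∀ x, ∃ n ∈ N, n • x = a) (x y z w : Ω)
    (h1 : x ≠ y) (h2 : z ≠ w) : ∃ g ∈ N, g • x = z ∧ g • y = w := by
  obtain ⟨n, hn, e1⟩ := ht x
  obtain ⟨m, hm, e2⟩ := ht z
  obtain ⟨k, hk, e⟩ := h.tr' (y := n • y) (z := m • w)
    (fun e => h1 (smul_left_cancel n (e1.trans e.symm)))
    (fun e => h2 (smul_left_cancel m (e2.trans e.symm)))
  refine ⟨m⁻¹ * k * n, mul_mem (mul_mem (inv_mem hm) (hK hk)) hn, ?_, ?_⟩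
  · rw [mul_smul, mul_smul, e1, h.le k hk, inv_smul_eq_iff, e2]
  · rw [mul_smul, mul_smul, e, inv_smul_smul]

omit [Finite G] in
/-- restriction of the set-up to a transitive subgroup containing `K`. -/
theorem ZK.sub (h : ZK a b K) (hK : K ≤ N) (ht : ∀ x, ∃ n ∈ N, n • x = a) :
    ZK a b (K.subgroupOf N) :=
  { h.toZT.sub N (h.two_of_le hK ht) with
    ne := h.ne
    le := fun k hk => h.le k hk
    nrm := fun g hg k hk => h.nrm g hg k hk
    tr := fun y hy => by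
      obtain ⟨k, hk, e⟩ := h.tr y hy
      exact ⟨⟨k, hK hk⟩, hk, e⟩
    fr := fun k hk e => Subtype.ext (h.fr k hk e) }

omit [Finite G] in
theorem HH_sub : HH N a b = (H).subgroupOf N := rfl

theorem normal_zas (hZ : IsZassenhausGroup G Ω) [hN : N.Normal] (h0 : N ≠ ⊥) :
    IsZassenhausGroup N Ω := by
  obtain ⟨a, b, hab⟩ := exists_pair hZ
  obtain ⟨K, h⟩ := (ZT.of hZ).exists_K hab
  have hK := h.le_normal hZ h0
  have hs := h.sub hK fun x => h.toZT.normal_trans h0 x a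
  have hH : HH N a b ≠ ⊥ := by
    intro e
    rw [HH_sub, subgroupOf_eq_bot, disjoint_iff, inf_comm] at e
    exact inf_H_ne hZ hab h0 e
  refine isZas hs.toZT hab hH fun M hM => ?_
  haveI := hM.normal
  set M' := M.map N.subtype with hM'
  have le' : M' ≤ N := map_subtype_le M
  have nM : N ≤ N[M'] := fun g hg => mem_norm_of_conj (by
    rintro _ ⟨m, hm, rfl⟩
    exact ⟨⟨g, hg⟩ * m * ⟨g, hg⟩⁻¹, hM.normal.conj_mem m hm _, rfl⟩)
  have cM : o[M'] = o[K] + 1 := by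
    rw [hM', card_map_of_injective N.subtype_injective, hM.card a, h.card_Ω']
  have fM : ∀ m ∈ M', ∀ x : Ω, m • x = x → m = 1 := by
    rintro _ ⟨m, hm, rfl⟩ x e
    exact congrArg Subtype.val (hM.fr m hm x e)
  have tM : ∀ x y : Ω, ∃ m ∈ M', m • x = y := fun x y => by
    obtain ⟨m, hm, e⟩ := hM.tr x y
    exact ⟨m, ⟨m, hm, rfl⟩, e⟩
  refine no_RN hZ M' ⟨normal_of_top_le_norm fun g _ => ?_, tM, fM⟩
  by_contra hg
  set M2 := M'.map (cj g) with hM2
  have nM2 : N ≤ N[M2] := by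
    rw [hM2, normalizer_map_cj, ← map_cj_normal g N]; exact map_mono nM
  have le2 : M2 ≤ N := by rw [← map_cj_normal g N]; exact map_mono le'
  have hd : M' ⊓ M2 = ⊥ := by
    by_contra e
    haveI : ((M' ⊓ M2).subgroupOf N).Normal :=
      (normal_subgroupOf_iff_le_normalizer (inf_le_left.trans le')).2 (le_norm_inf nM nM2)
    have := hs.toZT.normal_trans (N := (M' ⊓ M2).subgroupOf N) (by
      rwa [Ne, subgroupOf_eq_bot, disjoint_iff, inf_eq_left.2 (inf_le_left.trans le')])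
    apply hg
    have hle : M' ≤ M2 := fun m hm => by
      obtain ⟨n, hn, e⟩ := this a (m • a)
      have := fM (m⁻¹ * n) (mul_mem (inv_mem hm) hn.1) a (by
        rw [mul_smul, show (n : G) • a = m • a from e, inv_smul_smul])
      rw [inv_mul_eq_one] at this
      rw [this]; exact hn.2
    exact map_cj_eq_iff.1 (eq_of_le_of_card_ge hle (card_map_cj g M').le).symm
  have c1 : o[M' ⊔ M2] = (o[K] + 1) * (o[K] + 1) := by
    rw [card_sup_of_disj (Or.inl (le'.trans nM2)) hd, hM2, card_map_cj, cM]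
  haveI : IsPretransitive (M' ⊔ M2 : Subgroup G) Ω := ⟨fun x y => by
    obtain ⟨m, hm, e⟩ := tM x y
    exact ⟨⟨m, mem_sup_left hm⟩, e⟩⟩
  have c2 : o[(M' ⊔ M2) ⊓ stabilizer G a] = o[K] + 1 := by
    have c3 := card_eq_mul_stabilizer (G := (M' ⊔ M2 : Subgroup G)) a
    rw [c1, h.card_Ω'] at c3
    rw [Nat.eq_of_mul_eq_mul_left (Nat.add_one_pos _) c3, inf_comm, ← subgroupOf_map_subtype,
      card_map_of_injective (subtype_injective _)]
    rfl
  have h2 : 2 ≤ o[K] := by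
    have := (h.frob (HH_ne hZ hab)).card_lt
    have := card_pos' (HH G a b)
    omega
  rcases (h.frob (HH_ne hZ hab)).le_or_le (N := (M' ⊔ M2) ⊓ stabilizer G a) inf_le_right
    (le_norm_inf (hK.trans (le_norm_sup nM nM2)) (le_norm_of_le h.le')) with e | e
  · have := card_le_of_le e
    omega
  · have := card_dvd_of_le e
    rw [c2, Nat.dvd_add_right (dvd_refl _), Nat.dvd_one] at this
    omega

theorem ZT.mem_norm (h : ZT G Ω) (hab : a ≠ b) {X : Subgroup G} (hX : X ≤ H) (h0 : X ≠ ⊥) {g : G}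
    (hg : g ∈ N[X]) : g ∈ H ∨ (g • a = b ∧ g • b = a) := by
  obtain ⟨⟨x, hx⟩, e⟩ := ne_bot_iff_exists_ne_one.1 h0
  exact h.pres hab (hX hx) (fun e' => e (Subtype.ext e')) (hX (conj_mem_of_norm hg hx))

theorem ZT.norm_le (h : ZT G Ω) (hab : a ≠ b) {X : Subgroup G} (hX : X ≤ H) (h0 : X ≠ ⊥) :
    N[X] ≤ N[H] := fun _ hg =>
  (h.mem_norm hab hX h0 hg).elim (fun e => le_normalizer e) fun e => swap_norm e.1 e.2

theorem ZT.relIndex_two (h : ZT G Ω) (hab : a ≠ b) (h0 : H ≠ ⊥) : (H).relIndex N[H] = 2 := by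
  obtain ⟨w, h1, h2⟩ := h.two a b b a hab hab.symm
  refine index_eq_two_iff.2 ⟨⟨w, swap_norm h1 h2⟩, fun g => ?_⟩
  rcases h.mem_norm hab le_rfl h0 g.2 with e | e
  · refine Or.inr ⟨e, fun e' => hab ?_⟩
    have : ((g : G) * w) • b = b := e'.2
    rw [mul_smul, h2, e.1] at this
    exact this
  · refine Or.inl ⟨mem_HH.2 ⟨?_, ?_⟩, fun e' => hab (e'.1.symm.trans e.1)⟩
    · show ((g : G) * w) • a = a
      rw [mul_smul, h1, e.2]
    · show ((g : G) * w) • b = b
      rw [mul_smul, h2, e.1]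

theorem ZT.card_norm (h : ZT G Ω) (hab : a ≠ b) (h0 : H ≠ ⊥) : o[N[H]] = o[H] * 2 := by
  rw [← CfsgH2.card_mul_relIndex (K := N[H]) le_normalizer, h.relIndex_two hab h0]

theorem ZK.cyc_of_comm (h : ZK a b K) (hc : Ab[H]) : Cyc[H] := by
  by_cases h0 : H = ⊥
  · rw [h0]; infer_instance
  · exact (h.frob h0).isCyclic_of_comm le_rfl hc

omit [Finite G] in
theorem inv_all {w v : G} (h1 : w • a = b) (h2 : w • b = a) (hw : ∀ x ∈ H, w * x * w⁻¹ = x⁻¹)
    (h3 : v • a = b) (h4 : v • b = a) : ∀ x ∈ H, v * x * v⁻¹ = x⁻¹ := by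
  intro x hx
  have hy := swap_swap h1 h2 h3 h4
  have e := comm_of_isMulComm (isMulComm_of_inverted hw) hy hx
  calc v * x * v⁻¹ = w * ((w⁻¹ * v) * x * (w⁻¹ * v)⁻¹) * w⁻¹ := by group
    _ = x⁻¹ := by rw [e, mul_inv_cancel_right, hw x hx]

omit [Finite G] in
theorem sq_all {w v : G} (h1 : w • a = b) (h2 : w • b = a) (hw : ∀ x ∈ H, w * x * w⁻¹ = x⁻¹)
    (hww : w * w = 1) (h3 : v • a = b) (h4 : v • b = a) : v * v = 1 := by
  have e := hw _ (swap_swap h1 h2 h3 h4)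
  calc v * v = (w * (w⁻¹ * v) * w⁻¹) * (w * w) * (w⁻¹ * v) := by group
    _ = 1 := by rw [e, hww]; group

omit [Finite G] in
theorem inv_of_sq_all {w : G} (h1 : w • a = b) (h2 : w • b = a)
    (hs : ∀ v : G, v • a = b → v • b = a → v * v = 1) : ∀ x ∈ H, w * x * w⁻¹ = x⁻¹ := by
  intro x hx
  have e1 := hs w h1 h2
  have e2 := hs (w * x) (by rw [mul_smul, hx.1, h1]) (by rw [mul_smul, hx.2, h2])
  calc w * x * w⁻¹ = (w * x * (w * x)) * x⁻¹ * (w * w)⁻¹ := by group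
    _ = x⁻¹ := by rw [e1, e2]; group

/-! ### odd degree -/

theorem ZK.odd_H (h : ZK a b K) (he : Even o[K]) : Odd o[H] := by
  have := h.card_dvd
  have h1 := card_pos' K
  refine Odd.of_dvd_nat ?_ this
  rw [Nat.odd_iff]; rw [Nat.even_iff] at he; omega

theorem ZK.exists_fix (h : ZK a b K) (he : Even o[K]) {w : G} (hw : w * w = 1) : ∃ c : Ω, w • c = c := by
  haveI := h.finΩ
  have := card_modEq_card_fixedBy (Ω := Ω) Nat.prime_two (g := w) (k := 1) (by rw [pow_one, pow_two, hw])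
  by_contra e
  push Not at e
  haveI i1 : IsEmpty (fixedBy Ω w) := ⟨fun x => e x.1 x.2⟩
  rw [h.card_Ω', Nat.card_of_isEmpty (α := fixedBy Ω w), Nat.ModEq] at this
  rw [Nat.even_iff] at he
  omega

theorem ZK.fix_unique (h : ZK a b K) (ho : Odd o[H]) {w : G} (h1 : w ≠ 1) (hw : w * w = 1) {c d : Ω}
    (hc : w • c = c) (hd : w • d = d) : c = d := by
  by_contra e
  have := h.toZT.dvd_of_fix h.ne e hc hd
  rw [orderOf_eq_prime (p := 2) (by rw [pow_two, hw]) h1] at this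
  exact (Nat.not_even_iff_odd.2 ho) (even_iff_two_dvd.2 this)

theorem ZK.inv_of_even (h : ZK a b K) (he : Even o[K]) {w : G} (hw : w * w = 1) (h1 : w • a = b)
    (h2 : w • b = a) : ∀ x ∈ H, w * x * w⁻¹ = x⁻¹ := by
  have w1 : w ≠ 1 := by rintro rfl; exact h.ne (by rwa [one_smul] at h1)
  obtain ⟨c, hc⟩ := h.exists_fix he hw
  refine fun x hx => inv_of_fpf_involution (swap_norm h1 h2) (eq_bot_iff.2 fun y hy => ?_) hw hx
  by_contra y1
  have e : y * w = w * y := mem_centralizer_singleton_iff.1 hy.2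
  have : y • c = c := h.fix_unique (h.odd_H he) w1 hw (by rw [← mul_smul, ← e, mul_smul, hc]) hc
  rcases h.toZT.fix_H h.ne hy.1 y1 this with rfl | rfl
  · exact h.ne (hc.symm.trans h1)
  · exact h.ne (h2.symm.trans hc)

theorem simple_of_odd (hZ : IsZassenhausGroup G Ω) (h : ZK a b K) (he : Even o[K]) :
    IsSimpleGroup G := by
  haveI : Nontrivial G := by
    obtain ⟨g, h1, -⟩ := hZ.2.2.2.1
    exact ⟨g, 1, h1⟩
  refine ⟨fun N hN => or_iff_not_imp_left.2 fun h0 => ?_⟩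
  have hK := h.le_normal hZ h0
  have hs := h.sub hK fun x => h.toZT.normal_trans h0 x a
  obtain ⟨⟨w, hw⟩, e, h1, h2⟩ := hs.toZT.exists_swap h.ne
  have hi := h.inv_of_even he (w := w) (congrArg Subtype.val e) h1 h2
  refine h.eq_top hK (fun x hx => ?_) hw (fun e => h.ne (e.symm.trans h1))
  refine mem_of_pow_mem_coprime (n := 2) ?_ ?_
  · have := mul_mem (hN.conj_mem w hw x) (inv_mem hw)
    convert this using 1
    have := hi _ (inv_mem hx)
    rw [inv_inv] at this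
    calc x ^ 2 = x * (w * x⁻¹ * w⁻¹) := by rw [pow_two, this]
      _ = _ := by group
  · exact Nat.coprime_two_right.2 ((h.odd_H he).of_dvd_nat (orderOf_dvd_of_mem hx))

/-! ### two point stabiliser of even order -/

theorem ZK.exists_inv_fix (h : ZK a b K) (he : Even o[H]) {c : Ω} (h1 : c ≠ a) (h2 : c ≠ b) :
    ∃ j : G, j * j = 1 ∧ j • c = c ∧ j • a = b ∧ j • b = a := by
  obtain ⟨z, hz, oz⟩ := exists_prime_order_mem Nat.prime_two he.two_dvd
  have h0 : H ≠ ⊥ := by rintro e; rw [e, mem_bot] at hz; rw [hz] at oz; simp at oz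
  have zz : z * z = 1 := by rw [← pow_two, ← oz, pow_orderOf_eq_one]
  obtain ⟨g, hg⟩ := h.toZT.trans a c
  have ha : g⁻¹ • a ≠ a := fun e => h1 (hg.symm.trans (inv_smul_eq_iff.1 e).symm)
  have hb : g⁻¹ • b ≠ a := fun e => h2 (by rw [← hg, inv_smul_eq_iff.1 e])
  obtain ⟨k, hk, e⟩ := h.tr' (ZK.smul_ne hz.1 ha) hb
  have kz : (k * z) * (k * z) = 1 := by
    have := (h.frob h0).inverts hz oz hk
    calc (k * z) * (k * z) = k * (z * k * z⁻¹) * (z * z) := by group
      _ = 1 := by rw [this, zz]; group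
  have jj : (g * (k * z) * g⁻¹) * (g * (k * z) * g⁻¹) = 1 := by
    calc _ = g * ((k * z) * (k * z)) * g⁻¹ := by group
      _ = 1 := by rw [kz]; group
  have ja : (g * (k * z) * g⁻¹) • a = b := by
    rw [mul_smul, mul_smul, mul_smul, e, smul_inv_smul]
  refine ⟨_, jj, ?_, ja, ?_⟩
  · rw [← hg, mul_smul, mul_smul, inv_smul_smul, mul_smul, hz.1, h.le k hk]
  · rw [← ja, ← mul_smul, jj, one_smul]

theorem ZK.count (h : ZK a b K) (he : Even o[H]) :
    o[K] - 1 ≤ 2 * {s : G | s * s = 1 ∧ s • a = b ∧ s • b = a}.ncard := by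
  classical
  haveI := h.finΩ
  haveI := Fintype.ofFinite Ω
  haveI := Fintype.ofFinite G
  choose! j hj using fun c (hc : c ≠ a ∧ c ≠ b) => h.exists_inv_fix he hc.1 hc.2
  set S : Finset Ω := (Finset.univ.erase a).erase b with hS
  have hm : ∀ c, c ∈ S ↔ c ≠ a ∧ c ≠ b := fun c => by simp [hS, and_comm]
  have cS : S.card = o[K] - 1 := by
    rw [hS, Finset.card_erase_of_mem (by simpa using h.ne.symm), Finset.card_erase_of_mem (by simp),
      Finset.card_univ, ← Nat.card_eq_fintype_card, h.card_Ω']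
    rfl
  rw [← cS, Set.ncard_eq_toFinset_card']
  refine (Finset.card_le_mul_card_image (f := j) S 2 fun s hs => ?_).trans
    (Nat.mul_le_mul_left _ (Finset.card_le_card fun s hs => ?_))
  · by_contra e
    push Not at e
    obtain ⟨x, y, z, hx, hy, hz, e1, e2, e3⟩ := Finset.two_lt_card_iff.1 e
    simp only [Finset.mem_filter, hm] at hx hy hz
    have := h.three s x y z e1 e3 e2 (hx.2 ▸ (hj x hx.1).2.1) (hy.2 ▸ (hj y hy.1).2.1)
      (hz.2 ▸ (hj z hz.1).2.1)
    have e4 := (hj x hx.1).2.2.1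
    rw [hx.2, this, one_smul] at e4
    exact h.ne e4
  · obtain ⟨c, hc, rfl⟩ := Finset.mem_image.1 hs
    have := hj c ((hm c).1 hc)
    simpa using ⟨this.1, this.2.2⟩

theorem ZT.card_swap (h : ZT G Ω) (hab : a ≠ b) : {s : G | s • a = b ∧ s • b = a}.ncard = o[H] := by
  obtain ⟨w, h1, h2⟩ := h.two a b b a hab hab.symm
  rw [← Nat.card_coe_set_eq]
  exact Nat.card_congr ⟨fun s => ⟨w⁻¹ * s, swap_swap h1 h2 s.2.1 s.2.2⟩,
    fun x => ⟨w * x, by rw [mul_smul, x.2.1, h1], by rw [mul_smul, x.2.2, h2]⟩,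
    fun s => by simp, fun s => by simp⟩

theorem ZK.le_two_mul (h : ZK a b K) (he : Even o[H]) : o[K] - 1 ≤ 2 * o[H] := by
  refine (h.count he).trans (Nat.mul_le_mul_left _ ?_)
  rw [← h.toZT.card_swap h.ne]
  exact Set.ncard_le_ncard (fun s hs => hs.2) (Set.toFinite _)

theorem ZK.sq_swap (h : ZK a b K) (he : Even o[H]) (hd : 2 * o[H] ≤ o[K] - 1) {v : G}
    (h1 : v • a = b) (h2 : v • b = a) : v * v = 1 := by
  have := (Set.eq_of_subset_of_ncard_le (s := {s : G | s * s = 1 ∧ s • a = b ∧ s • b = a})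
    (t := {s : G | s • a = b ∧ s • b = a}) (fun s hs => hs.2) (by
      rw [h.toZT.card_swap h.ne]
      have := h.count he
      omega) (Set.toFinite _)).ge
  exact (this ⟨h1, h2⟩).1

/-! ### large two point stabiliser -/

theorem ZK.irr (h : ZK a b K) (hd : o[K] - 1 ≤ 2 * o[H]) (W : Subgroup G) (hW : W ≤ K)
    (hn : H ≤ N[W]) : W = ⊥ ∨ W = K := by
  by_contra e
  push Not at e
  have h1 := h.card_dvd' hW hn
  have h2 : 1 < o[W] := by
    rw [← card_bot (G := G)]; exact CfsgH2.card_lt_of_lt (bot_lt_iff_ne_bot.2 e.1)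
  have h3 := Nat.le_of_dvd (by omega) h1
  obtain ⟨m, hm⟩ := card_dvd_of_le hW
  have h4 := CfsgH2.card_lt_of_lt (lt_of_le_of_ne hW e.2)
  have h5 : 2 ≤ m := by
    rcases m with _ | _ | m
    · omega
    · omega
    · omega
  have : o[W] * 2 ≤ o[W] * m := Nat.mul_le_mul_left _ h5
  omega

theorem ZK.sol (h : ZK a b K) (hd : o[K] - 1 ≤ 2 * o[H]) : Sol[K] := by
  by_cases h0 : H = ⊥
  · rw [h0, card_bot] at hd
    have := card_pos' K
    refine Group.isSolvable_of_comm ?_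
    have : IsCyclic K := by
      rcases (by omega : o[K] = 1 ∨ o[K] = 2 ∨ o[K] = 3) with e | e | e
      · rw [card_eq_one.1 e]; infer_instance
      · exact isCyclic_of_prime_card (p := 2) e
      · exact isCyclic_of_prime_card (p := 3) e
    exact fun x y => (isMulComm_of_cyclic this).is_comm.comm x y
  · haveI := h.nil h0
    infer_instance

theorem ZK.elem (h : ZK a b K) (h0 : K ≠ ⊥) (hd : o[K] - 1 ≤ 2 * o[H]) :
    ∃ (p : ℕ) (_ : Fact p.Prime), IsElementaryAbelian p K := by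
  obtain ⟨p, hp, V, h1, h2, h3, h4, -⟩ := exists_min_norm (M := H) (h.sol hd) h0
    (inf_le_left.trans h.le_norm)
  exact ⟨p, hp, ((h.irr hd V h1 h3).resolve_left h2) ▸ h4⟩

/-! ### two point stabiliser of odd order -/

theorem ZK.cyc_inv (h : ZK a b K) (ho : Odd o[H])
    (hq : ∀ (q : ℕ) [Fact q.Prime], q ∣ o[H] → ¬ NPC q (⊤ : Subgroup G)) {w : G} (h1 : w • a = b)
    (h2 : w • b = a) : ∀ x ∈ H, w * x * w⁻¹ = x⁻¹ := by
  by_cases h0 : H = ⊥
  · intro x hx
    rw [h0, mem_bot] at hx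
    simp [hx]
  have hF := h.frob h0
  have hi := h.toZT.relIndex_two h.ne h0
  have hle : H ≤ ⁅N[H], N[H]⁆ := le_of_syl fun p _ hp => by
    have p2 : p ≠ 2 := odd_ne_two ho hp
    obtain ⟨P, hP⟩ := exists_syl p H
    have hT : Syl p P N[H] := hP.trans le_normalizer (by
      rw [hi]; exact fun e => p2 ((Nat.prime_dvd_prime_iff_eq Fact.out Nat.prime_two).1 e))
    refine ⟨P, hP, (hT.cyc_der (hF.isCyclic_of_odd Fact.out p2 hP.le hP.pg)).resolve_left fun e => ?_⟩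
    have hn := h.toZT.norm_le h.ne hP.le (hP.ne_bot hp)
    have hG : Syl p P ⊤ := Syl.of_norm le_top (hT.mono (le_inf le_top le_normalizer)
      (inf_le_right.trans hn))
    refine hq p hp (hG.npc_of_norm_le_cent fun g hg => mem_cent_iff.2 fun x hx => ?_)
    have : ⁅x, g⁆ ∈ P ⊓ ⁅N[H], N[H]⁆ :=
      ⟨comm_le_left (le_refl N[P]) (commutator_mem_commutator hx hg.2),
        commutator_mem_commutator (hT.le hx) (hn hg.2)⟩
    rw [e, mem_bot, commutatorElement_eq_one_iff_mul_comm] at this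
    exact this
  have hH2 : ∀ x ∈ N[H], x ^ 2 ∈ H := fun x hx => hi ▸ pow_relIndex_mem' le_rfl hx
  haveI : IsZGroup N[H] := ⟨fun p hp P => by
    haveI := Fact.mk hp
    have hP := syl_sub P
    refine ((P : Subgroup N[H]).equivMapOfInjective _ (subtype_injective _)).isCyclic.2 ?_
    by_cases p2 : p = 2
    · subst p2
      obtain ⟨k, hk⟩ := exists_card_eq_pow hP.pg
      have h3 := card_dvd_of_le hP.le
      rw [h.toZT.card_norm h.ne h0] at h3
      have h4 : o[(P : Subgroup N[H]).map (N[H]).subtype] ∣ 2 :=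
        Nat.Coprime.dvd_of_dvd_mul_left (by
          rw [hk]; exact (Nat.coprime_two_left.2 ho).pow_left _) h3
      rcases (Nat.dvd_prime Nat.prime_two).1 h4 with e | e
      · rw [card_eq_one.1 e]; infer_instance
      · exact isCyclic_of_prime_card e
    · refine hF.isCyclic_of_odd hp p2 (fun x hx => mem_of_pow_mem_coprime (hH2 x (hP.le hx)) ?_) hP.pg
      obtain ⟨k, hk⟩ := pgroup_mem_order hP.pg hx
      rw [hk]
      exact ((Nat.coprime_primes hp Nat.prime_two).2 p2).pow_left _⟩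
  have hc : Cyc[⁅N[H], N[H]⁆] := by
    have := IsZGroup.isCyclic_commutator (G := N[H])
    rw [← map_subtype_commutator]
    exact ((commutator N[H]).equivMapOfInjective _ (subtype_injective _)).isCyclic.1 this
  have ab : Ab[H] := isMulComm_of_le (isMulComm_of_cyclic hc) hle
  have cm : ∀ {x y : G}, x ∈ H → y ∈ H → x * y = y * x := fun hx hy => comm_of_isMulComm ab hx hy
  obtain ⟨v, vv, h3, h4⟩ := h.toZT.exists_swap h.ne
  refine inv_all h3 h4 ?_ h1 h2
  have vi : v⁻¹ = v := inv_eq_of_mul_eq_one_left vv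
  let I : Subgroup G :=
    { carrier := {x | x ∈ H ∧ v * x * v⁻¹ = x⁻¹}
      one_mem' := ⟨one_mem _, by simp⟩
      mul_mem' := fun {x y} hx hy => ⟨mul_mem hx.1 hy.1, by
        calc v * (x * y) * v⁻¹ = (v * x * v⁻¹) * (v * y * v⁻¹) := by group
          _ = _ := by rw [hx.2, hy.2, cm hx.1 hy.1, mul_inv_rev]⟩
      inv_mem' := fun {x} hx => ⟨inv_mem hx.1, by
        calc v * x⁻¹ * v⁻¹ = (v * x * v⁻¹)⁻¹ := by group
          _ = _ := by rw [hx.2]⟩ }
  have k1 : ∀ x ∈ H, x * (v * x⁻¹ * v⁻¹) ∈ I := fun x hx =>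
    ⟨mul_mem hx (swap_conj h3 h4 (inv_mem hx)), by
      have := cm hx (swap_conj h3 h4 hx)
      calc v * (x * (v * x⁻¹ * v⁻¹)) * v⁻¹ = (v * x * v⁻¹) * ((v * v) * x⁻¹ * (v * v)⁻¹) := by group
        _ = _ := by rw [vv]; group⟩
  have hT : ∀ g ∈ N[H], ∃ x ∈ H, g = x ∨ g = x * v := fun g hg => by
    rcases h.toZT.mem_norm h.ne le_rfl h0 hg with e | e
    · exact ⟨g, e, Or.inl rfl⟩
    · refine ⟨g * v, mem_HH.2 ⟨by rw [mul_smul, h3, e.2], by rw [mul_smul, h4, e.1]⟩, Or.inr ?_⟩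
      rw [mul_assoc, vv, mul_one]
  have hI : ⁅N[H], N[H]⁆ ≤ I := commutator_le.2 fun g hg k hk => by
    obtain ⟨x, hx, e1⟩ := hT g hg
    obtain ⟨y, hy, e2⟩ := hT k hk
    have a1 := cm hx hy
    have a2 := cm hx (swap_conj h3 h4 hy)
    have a3 := cm hy (swap_conj h3 h4 hx)
    rcases e1 with rfl | rfl <;> rcases e2 with rfl | rfl
    · rw [commutatorElement_eq_one_iff_mul_comm.2 a1]; exact one_mem _
    · convert k1 g hx using 1
      have := cm hy (swap_conj h3 h4 (inv_mem hx))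
      calc ⁅g, y * v⁆ = g * (y * (v * g⁻¹ * v⁻¹)) * y⁻¹ := by rw [commutatorElement_def]; group
        _ = _ := by rw [this]; group
    · convert inv_mem (k1 k hy) using 1
      calc ⁅x * v, k⁆ = (x * (v * k * v⁻¹)) * x⁻¹ * k⁻¹ := by rw [commutatorElement_def]; group
        _ = _ := by rw [a2]; group
    · convert mul_mem (k1 x hx) (inv_mem (k1 y hy)) using 1
      have b1 := cm (inv_mem hy) (swap_conj h3 h4 (inv_mem hx))
      have b2 := cm (swap_conj h3 h4 hy) (swap_conj h3 h4 (inv_mem hx))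
      calc ⁅x * v, y * v⁆ = x * ((v * y * v⁻¹) * (v * x⁻¹ * v⁻¹)) * y⁻¹ := by
            rw [commutatorElement_def, mul_inv_rev, mul_inv_rev, vi]
            calc x * v * (y * v) * (v * x⁻¹) * (v * y⁻¹) = x * v * y * (v * v) * x⁻¹ * v * y⁻¹ := by group
              _ = x * v * y * (v * v) * x⁻¹ * v * y⁻¹ := rfl
              _ = _ := by group
        _ = _ := by rw [b2]; group
  exact fun x hx => (hI (hle hx)).2

end CfsgH8.Za
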