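import Cfsg.Agent.H8.Za2
import Cfsg.Agent.H3.Tau
import Cfsg.Agent.H3.Coh5
import Cfsg.Agent.H3.More
import Cfsg.Agent.S0895

/-! Characters of Zassenhaus groups, with the Frobenius-Schur indicator. -/

set_option autoImplicit false
open Subgroup Cfsg CfsgH2 CfsgH1 CfsgH3 Function MulAction
open scoped commutatorElement ComplexConjugate

namespace CfsgH8.Za

section fs
variable {G : Type*} [Group G] [Fintype G] {φ ψ χ : G → ℂ}

/-- The Frobenius-Schur functional. -/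
noncomputable def nu (φ : G → ℂ) : ℂ := (Nat.card G : ℂ)⁻¹ * ∑ s, φ (s * s)

theorem nu_add (φ ψ : G → ℂ) : nu (φ + ψ) = nu φ + nu ψ := by
  simp [nu, Finset.sum_add_distrib, mul_add]

theorem nu_sub (φ ψ : G → ℂ) : nu (φ - ψ) = nu φ - nu ψ := by
  simp [nu, Finset.sum_sub_distrib, mul_sub]

theorem nu_smul (c : ℂ) (φ : G → ℂ) : nu (c • φ) = c * nu φ := by
  simp only [nu, Pi.smul_apply, smul_eq_mul, ← Finset.mul_sum]; ring

theorem nu_sum {ι : Type*} (s : Finset ι) (f : ι → G → ℂ) : nu (∑ i ∈ s, f i) = ∑ i ∈ s, nu (f i) := by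
  simp only [nu, Finset.sum_apply, ← Finset.mul_sum]
  rw [Finset.sum_comm]

theorem nu_one : nu (fun _ : G => (1 : ℂ)) = 1 := by
  simp [nu]

theorem nu_irr (h : IsIrrCharacter G χ) : ∃ m : ℤ, nu χ = m ∧ -1 ≤ m ∧ m ≤ 1 ∧
    ((fun g => conj (χ g)) = χ ↔ m ≠ 0) := by
  obtain ⟨a, b, -, -, h1, h2, h3⟩ := h.exists_fs
  refine ⟨a - b, by rw [nu, h1]; push_cast; rfl, ?_⟩
  rw [conj_eq_self_iff]
  by_cases e : ∀ g, (χ g).im = 0
  · have := h2 e
    exact ⟨by omega, by omega, iff_of_true e (by omega)⟩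
  · have := h3 e
    exact ⟨by omega, by omega, iff_of_false e (by omega)⟩

theorem nu_eq_zero (h : IsIrrCharacter G χ) (h1 : (fun g => conj (χ g)) ≠ χ) : nu χ = 0 := by
  obtain ⟨m, e, -, -, h2⟩ := nu_irr h
  by_contra h3
  exact h1 (h2.2 fun h4 => h3 (by rw [e, h4, Int.cast_zero]))

theorem nu_reg_nonneg : 1 ≤ (nu (regChar G)).re ∧
    nu (regChar G) = (Nat.card {s : G // s * s = 1} : ℂ) := by
  classical
  have h1 : ∀ s : G, regChar G (s * s) = if s * s = 1 then (Nat.card G : ℂ) else 0 := by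
    intro s
    split_ifs with h
    · rw [h, regChar_one]
    · exact regChar_of_ne h
  have : nu (regChar G) = (Nat.card {s : G // s * s = 1} : ℂ) := by
    simp_rw [nu, h1]
    rw [← Finset.sum_filter, Finset.sum_const, nsmul_eq_mul, Nat.card_eq_fintype_card (α := Subtype _),
      Fintype.card_subtype]
    have := natCard_ne_zero G
    field_simp
  refine ⟨?_, this⟩
  rw [this, Complex.natCast_re]
  haveI : Nonempty {s : G // s * s = 1} := ⟨⟨1, one_mul 1⟩⟩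
  exact_mod_cast Nat.card_pos

/-- Bessel's inequality twisted by the indicator. -/
theorem bessel_nu (hφ : IsGeneralizedCharacter G φ) {R : Finset (G → ℂ)}
    (hR : ∀ χ ∈ R, IsIrrCharacter G χ) (s : ℤ) (h1 : -1 ≤ s) (h2 : s ≤ 1) :
    ∑ χ ∈ R, (⟪φ, χ⟫.re ^ 2 + s * (⟪φ, χ⟫ * nu χ).re) ≤ ⟪φ, φ⟫.re + s * (nu φ).re := by
  obtain ⟨n, e1, e2, e3⟩ := hφ.exists_eq_sum_irr
  have e4 : ⟪φ, φ⟫.re + s * (nu φ).re =
      ∑ χ ∈ irrFin G, (⟪φ, χ⟫.re ^ 2 + s * (⟪φ, χ⟫ * nu χ).re) := by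
    rw [sum_irrFin, Finset.sum_add_distrib, ← Finset.mul_sum, ← Complex.re_sum, e3]
    congr 3
    · simp only [e1, Complex.intCast_re]; push_cast; rfl
    · conv_lhs => rw [e2, nu_sum]
      exact Finset.sum_congr rfl fun χ _ => by rw [nu_smul, e1]
  rw [e4]
  refine Finset.sum_le_sum_of_subset_of_nonneg (fun χ h => mem_irrFin.2 (hR χ h)) fun χ h _ => ?_
  obtain ⟨m, e, m1, m2, -⟩ := nu_irr (mem_irrFin.1 h)
  rw [e, e1 ⟨χ, mem_irrFin.1 h⟩, ← Int.cast_mul, Complex.intCast_re, Complex.intCast_re]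
  set k := n ⟨χ, mem_irrFin.1 h⟩
  have : (0 : ℤ) ≤ k ^ 2 + s * (k * m) := by
    have : -1 ≤ s * m ∧ s * m ≤ 1 := by constructor <;> nlinarith
    rcases le_or_gt 0 k with h | h
    · rcases h.eq_or_lt with h | h
      · simp [← h]
      · nlinarith
    · nlinarith
  exact_mod_cast this

theorem sum_deg_le (hφ : IsCharacter G φ) {R : Finset (G → ℂ)} (hR : ∀ χ ∈ R, IsIrrCharacter G χ)
    (h : ∀ χ ∈ R, ⟪φ, χ⟫ ≠ 0) : ∑ χ ∈ R, (χ 1).re ≤ (φ 1).re := by
  have e : (φ 1).re = ∑ χ ∈ irrFin G, (⟪φ, χ⟫ * χ 1).re := by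
    rw [sum_irrFin (fun χ => (⟪φ, χ⟫ * χ 1).re), ← Complex.re_sum,
      ← hφ.isClassFunction.apply_eq_sum_irr]
  have key : ∀ χ, IsIrrCharacter G χ → ∃ n d : ℕ, ⟪φ, χ⟫ = n ∧ χ 1 = d := fun χ h => by
    obtain ⟨n, hn⟩ := hφ.exists_nat_classInner h.isCharacter
    obtain ⟨d, hd⟩ := h.isCharacter.exists_nat_apply_one
    exact ⟨n, d, hn, hd⟩
  rw [e]
  refine le_trans (Finset.sum_le_sum fun χ hχ => ?_) (Finset.sum_le_sum_of_subset_of_nonneg
    (fun χ h => mem_irrFin.2 (hR χ h)) fun χ hχ _ => ?_)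
  · obtain ⟨n, d, h1, h2⟩ := key χ (hR χ hχ)
    have := h χ hχ
    rw [h1, Nat.cast_ne_zero] at this
    rw [h1, h2, ← Nat.cast_mul, Complex.natCast_re, Complex.natCast_re]
    exact_mod_cast Nat.le_mul_of_pos_left d (Nat.pos_of_ne_zero this)
  · obtain ⟨n, d, h1, h2⟩ := key χ (mem_irrFin.1 hχ)
    rw [h1, h2, ← Nat.cast_mul, Complex.natCast_re]
    exact Nat.cast_nonneg _

theorem inner_congr {α β γ : G → ℂ} (h : ∀ g, α g = 0 ∨ β g = γ g) : ⟪α, β⟫ = ⟪α, γ⟫ := by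
  unfold classInner
  congr 1
  exact Finset.sum_congr rfl fun g _ => by rcases h g with e | e <;> simp [e]

theorem inner_irr_nat (h1 : IsIrrCharacter G φ) (h2 : IsIrrCharacter G ψ) :
    ⟪φ, ψ⟫ = 0 ∨ (φ = ψ ∧ ⟪φ, ψ⟫ = 1) := by
  by_cases e : φ = ψ
  · exact Or.inr ⟨e, e ▸ h1.classInner_self⟩
  · exact Or.inl (h1.classInner_of_ne h2 e)

end fs

variable {G Ω : Type*} [Group G] [MulAction G Ω] {a b : Ω} {K : Subgroup G} {w : G}

local notation "L" => stabilizer G a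
local notation "H" => HH G a b
local notation "K'" => Subgroup.subgroupOf K (stabilizer G a)

/-- the two point stabiliser has odd order and is inverted by a swapping involution. -/
structure ZI (a b : Ω) (K : Subgroup G) (w : G) : Prop extends ZK a b K where
  odd : Odd o[HH G a b]
  ne_bot : HH G a b ≠ ⊥
  wa : w • a = b
  wb : w • b = a
  ww : w * w = 1
  inv : ∀ x ∈ HH G a b, w * x * w⁻¹ = x⁻¹

/-- irreducible characters of `G_a` not trivial on `K`. -/
def InS (a : Ω) (K : Subgroup G) (ζ : stabilizer G a → ℂ) : Prop :=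
  IsIrrCharacter (stabilizer G a) ζ ∧ ∃ k : stabilizer G a, (k : G) ∈ K ∧ ζ k ≠ ζ 1

/-- irreducible characters of `G_a` trivial on `K`. -/
def InL (a : Ω) (K : Subgroup G) (ζ : stabilizer G a → ℂ) : Prop :=
  IsIrrCharacter (stabilizer G a) ζ ∧ ∀ k : stabilizer G a, (k : G) ∈ K → ζ k = ζ 1

theorem InS.conj [Finite G] {ζ : L → ℂ} (h : InS a K ζ) : InS a K (fun g => conj (ζ g)) :=
  ⟨h.1.conj, h.2.imp fun _ hk => ⟨hk.1, fun e => hk.2 (star_injective e)⟩⟩

theorem InL.conj [Finite G] {ζ : L → ℂ} (h : InL a K ζ) : InL a K (fun g => conj (ζ g)) :=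
  ⟨h.1.conj, fun k hk => by simp only [h.2 k hk]⟩

theorem inL_one : InL a K (fun _ => 1) := ⟨isIrr_one, fun _ _ => rfl⟩

theorem InS.orth [Fintype L] {ζ l : L → ℂ} (h : InS a K ζ) (hl : InL a K l) : ⟪ζ, l⟫ = 0 :=
  h.1.classInner_of_ne hl.1 (by rintro rfl; obtain ⟨k, h1, h2⟩ := h.2; exact h2 (hl.2 k h1))

theorem inS_or_inL {ζ : L → ℂ} (h : IsIrrCharacter L ζ) : InS a K ζ ∨ InL a K ζ := by
  by_cases e : ∀ k : L, (k : G) ∈ K → ζ k = ζ 1
  · exact Or.inr ⟨h, e⟩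
  · push Not at e; exact Or.inl ⟨h, e⟩

namespace ZI
variable [Fintype G] [Fintype (stabilizer G a)]

theorem normal (h : ZI a b K w) : (K').Normal :=
  ⟨fun k hk g => h.nrm g g.2 k hk⟩

theorem index (h : ZI a b K w) : (K').index = o[H] := (h.frob h.ne_bot).relIndex_ker

theorem cent (h : ZI a b K w) : ∀ n ∈ K', n ≠ 1 → centralizer ({n} : Set L) ≤ K' := fun n hn h1 g hg =>
  h.cent_le hn (fun e => h1 (Subtype.ext e)) (mem_centralizer_singleton_iff.2
    (congrArg Subtype.val (mem_centralizer_singleton_iff.1 hg)))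

theorem iia (h : ZI a b K w) {ζ : L → ℂ} : ζ ∈ inducedIrrAbove (K') ⊥ ↔ InS a K ζ := by
  haveI := h.normal
  rw [iia_eq_of_centralizer_le h.cent]; rfl

theorem van (h : ZI a b K w) {ζ : L → ℂ} (hζ : InS a K ζ) {l : L} (hl : (l : G) ∉ K) : ζ l = 0 :=
  haveI := h.normal
  iia_eq_zero (h.iia.2 hζ) hl

theorem deg (h : ZI a b K w) {ζ : L → ℂ} (hζ : InS a K ζ) : ∃ e : ℕ, 0 < e ∧ ζ 1 = e * o[H] :=
  h.index ▸ iia_deg (h.iia.2 hζ)

theorem exists_deg (h : ZI a b K w) : ∃ ζ, InS a K ζ ∧ ζ 1 = o[H] := by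
  haveI := h.normal
  haveI : Group.IsSolvable (K') := by
    haveI := h.nil h.ne_bot
    exact Group.isSolvable_of_isSolvable_injective (f := (subgroupOfEquivOfLe h.le').toMonoidHom)
      (subgroupOfEquivOfLe h.le').injective
  obtain ⟨ζ, h1, h2⟩ := exists_iia_deg (K := K') (A := ⊥) (not_le_commutator_sup fun e => by
    rw [le_bot_iff, subgroupOf_eq_bot, disjoint_iff, inf_eq_left.2 h.le'] at e
    exact h.ker_ne h.ne_bot e)
  exact ⟨ζ, h.iia.1 (iia_subset h1), h.index ▸ h2⟩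

theorem comm_mem (h : ZI a b K w) {x y : G} (hx : x • a = a) (hy : y • a = a) :
    x * y * x⁻¹ * y⁻¹ ∈ K := by
  obtain ⟨k, hk, u, hu, rfl⟩ := h.dec hx
  obtain ⟨l, hl, v, hv, rfl⟩ := h.dec hy
  have e := comm_of_isMulComm (isMulComm_of_inverted h.inv) hu hv
  have := mul_mem (mul_mem (mul_mem hk (h.nrm u hu.1 l hl)) (h.nrm v hv.1 _ (inv_mem hk))) (inv_mem hl)
  convert this using 1
  calc k * u * (l * v) * (k * u)⁻¹ * (l * v)⁻¹ = k * u * l * u⁻¹ * (u * v) * u⁻¹ * k⁻¹ * v⁻¹ * l⁻¹ := by group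
    _ = _ := by rw [e]; group

theorem lin (h : ZI a b K w) {l : L → ℂ} (hl : InL a K l) : l 1 = 1 := by
  obtain ⟨d, -, hd⟩ := hl.1.exists_pos_apply_one
  have := hl.1.degree_dvd_index_of_abelian_normal hd ⊤ fun x _ y _ => hl.2 _ (h.comm_mem x.2 y.2)
  rw [index_top, Nat.dvd_one] at this
  rw [hd, this, Nat.cast_one]

theorem lin_K (h : ZI a b K w) {l : L → ℂ} (hl : InL a K l) {k : L} (hk : (k : G) ∈ K) : l k = 1 :=
  (hl.2 k hk).trans (h.lin hl)

theorem mem_of_sq (h : ZI a b K w) {l : L} (hl : ((l * l : L) : G) ∈ K) : (l : G) ∈ K := by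
  haveI := h.normal
  obtain ⟨m, hm⟩ := h.odd
  have h1 : l ^ (K').index ∈ K' := pow_index_mem (K') l
  rw [h.index, hm, pow_succ, pow_mul, pow_two] at h1
  exact (mul_mem_cancel_left (pow_mem (show l * l ∈ K' from hl) m)).1 h1

theorem lin_real (h : ZI a b K w) {l : L → ℂ} (hl : InL a K l) (e : (fun g => conj (l g)) = l) :
    l = fun _ => 1 := by
  haveI := h.normal
  obtain ⟨f, hf⟩ := hl.1.isCharacter.exists_monoidHom (h.lin hl)
  funext x
  obtain ⟨m, hm⟩ := h.odd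
  have h1 : l (x ^ (K').index) = 1 := h.lin_K hl (pow_index_mem (K') x)
  have h2 : f x * f x = 1 := by
    have := hl.1.isCharacter.apply_inv x
    rw [congrFun e x, hf] at this
    nth_rw 1 [← Units.ext this]
    rw [← map_mul, inv_mul_cancel, map_one]
  rw [hf] at h1 ⊢
  simp only at h1 ⊢
  rw [h.index, hm, map_pow, pow_succ, pow_mul, pow_two, h2, one_pow, one_mul] at h1
  exact h1

theorem ind_K (h : ZI a b K w) {θ : L → ℂ} (hθ : IsClassFunction L θ) {k : L} (hk : (k : G) ∈ K)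
    (h1 : k ≠ 1) : indFun L θ k = θ k :=
  indFun_apply_of_ti hθ k fun g hg e => absurd (inv_mem_iff.1 (h.mem_L (g := g⁻¹) hk
    (fun e => h1 (Subtype.ext e)) (by rw [inv_inv]; exact e))) hg

theorem ind_H (h : ZI a b K w) {θ : L → ℂ} (hθ : IsClassFunction L θ) {l : L} (hl : (l : G) ∉ K) :
    indFun L θ l = θ l + θ l⁻¹ := by
  classical
  obtain ⟨y, hy, x, hx, x1, e⟩ := h.conj_H l.2 hl
  obtain rfl : l = ⟨y, h.le y hy⟩ * ⟨x, hx.1⟩ * ⟨y, h.le y hy⟩⁻¹ := Subtype.ext e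
  rw [e, isClassFunction_indFun θ, hθ, conj_inv, hθ, indFun_apply]
  have key : ∀ g : G, extendByZero L θ (g⁻¹ * x * g) = (if g ∈ L then θ ⟨x, hx.1⟩ else 0) +
      (if w⁻¹ * g ∈ L then θ ⟨x, hx.1⟩⁻¹ else 0) := fun g => by
    by_cases h1 : g ∈ L
    · rw [if_pos h1, if_neg, add_zero, extendByZero_conj_mem hθ h1, extendByZero_of_mem _ hx.1]
      intro e
      rw [mem_stabilizer_iff, mul_smul, h1, inv_smul_eq_iff, h.wa] at e
      exact h.ne e
    rw [if_neg h1, zero_add]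
    by_cases h2 : w⁻¹ * g ∈ L
    · rw [if_pos h2, ← extendByZero_coe θ, ← extendByZero_conj_mem hθ h2 (⟨x, hx.1⟩⁻¹ : L)]
      congr 1
      have := h.inv _ (inv_mem hx)
      rw [inv_inv] at this
      calc g⁻¹ * x * g = g⁻¹ * (w * x⁻¹ * w⁻¹) * g := by rw [this]
        _ = _ := by simp only [coe_inv]; group
    · rw [if_neg h2, extendByZero_of_not_mem]
      intro e
      rw [mem_stabilizer_iff, mul_smul, mul_smul, inv_smul_eq_iff] at e
      rcases h.toZT.fix_H h.ne hx x1 e with e | e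
      · exact h1 e
      · exact h2 (by rw [mem_stabilizer_iff, mul_smul, e, inv_smul_eq_iff, h.wa])
  have cnt : ∀ c : ℂ, ∑ g : G, (if g ∈ L then c else 0) = o[L] * c := fun c => by
    rw [← Finset.sum_filter, ← sum_subgroup_eq L (fun _ => c), Finset.sum_const, Finset.card_univ,
      nsmul_eq_mul, Nat.card_eq_fintype_card]
  simp_rw [key]
  have e3 : ∀ c : ℂ, ∑ g : G, (if w⁻¹ * g ∈ L then c else 0) = ∑ g : G, (if g ∈ L then c else 0) :=
    fun c => Fintype.sum_equiv (Equiv.mulLeft w⁻¹) _ _ fun _ => rfl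
  rw [Finset.sum_add_distrib, cnt, e3, cnt]
  have := natCard_ne_zero L
  field_simp

theorem card_out (h : ZI a b K w) : Nat.card {g : G // g ∉ L ∧ g * g = 1} = o[L] := by
  rw [h.card_L, ← Nat.card_prod]
  refine (Nat.card_congr (Equiv.ofBijective (fun p : K × H => (⟨p.1 * (w * p.2) * p.1.1⁻¹, fun e => ?_, ?_⟩ :
    {g : G // g ∉ L ∧ g * g = 1})) ⟨fun p q e => ?_, fun g => ?_⟩)).symm
  · rw [mem_stabilizer_iff, mul_smul, h.le _ (inv_mem p.1.2), mul_smul, mul_smul, p.2.2.1, h.wa] at e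
    exact ZK.smul_ne (h.le _ p.1.2) h.ne.symm e
  · have := h.inv _ p.2.2
    calc _ = p.1.1 * ((w * p.2.1 * w⁻¹) * (w * w) * p.2.1) * p.1.1⁻¹ := by group
      _ = 1 := by rw [this, h.ww]; group
  · have e1 : p.1.1 * (w * p.2.1) * p.1.1⁻¹ = q.1.1 * (w * q.2.1) * q.1.1⁻¹ := congrArg Subtype.val e
    have e2 := congrArg (· • a) e1
    simp only [mul_smul, h.le _ (inv_mem p.1.2), h.le _ (inv_mem q.1.2), show p.2.1 • a = a from p.2.2.1,
      show q.2.1 • a = a from q.2.2.1, h.wa] at e2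
    have e3 := h.inj p.1.2 q.1.2 h.ne.symm e2
    rw [e3, mul_left_inj, mul_right_inj, mul_right_inj] at e1
    exact Prod.ext (Subtype.ext e3) (Subtype.ext e1)
  · obtain ⟨g, h1, h2⟩ := g
    obtain ⟨k, hk, e⟩ := h.tr _ h1
    refine ⟨⟨⟨k, hk⟩, ⟨w⁻¹ * (k⁻¹ * g * k), swap_swap h.wa h.wb ?_ ?_⟩⟩, Subtype.ext (by simp [mul_assoc])⟩
    · rw [mul_smul, mul_smul, h.le k hk, ← e, inv_smul_smul]
    · rw [mul_smul, mul_smul, e, ← mul_smul g, h2, one_smul, h.le _ (inv_mem hk)]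

theorem nu_ind (h : ZI a b K w) (θ : L → ℂ) : nu (indFun L θ) = nu θ + θ 1 := by
  classical
  have e1 : ∀ x : G, ∑ s : G, extendByZero L θ (x⁻¹ * (s * s) * x) = ∑ s : G, extendByZero L θ (s * s) :=
    fun x => Fintype.sum_equiv (MulAut.conj x⁻¹).toEquiv _ _ fun s => by
      congr 1; simp [mul_assoc]
  have e2 : ∑ s : G, extendByZero L θ (s * s) = ∑ s : L, θ (s * s) + o[L] * θ 1 := by
    rw [← Finset.sum_filter_add_sum_filter_not Finset.univ (· ∈ L),
      ← sum_subgroup_eq L (fun s => extendByZero L θ (s * s))]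
    congr 1
    · exact Finset.sum_congr rfl fun s _ => extendByZero_coe θ (s * s)
    · rw [← h.card_out, Nat.card_eq_fintype_card, Fintype.card_subtype, ← Finset.filter_filter,
        ← nsmul_eq_mul, ← Finset.sum_const, Finset.sum_filter (fun g => g * g = 1)]
      refine Finset.sum_congr rfl fun s hs => ?_
      split_ifs with e
      · rw [e]; exact extendByZero_coe θ 1
      · refine extendByZero_of_not_mem _ fun e' => e ?_
        have hs := (Finset.mem_filter.1 hs).2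
        obtain ⟨k, hk, e⟩ := h.tr _ hs
        have := sq_all h.wa h.wb h.inv h.ww (v := k⁻¹ * s * k)
          (by rw [mul_smul, mul_smul, h.le k hk, ← e, inv_smul_smul])
          (by rw [mul_smul, mul_smul, e, ← mul_smul s, e', h.le _ (inv_mem hk)])
        calc s * s = k * (k⁻¹ * s * k * (k⁻¹ * s * k)) * k⁻¹ := by group
          _ = 1 := by rw [this]; group
  simp only [nu, indFun_apply]
  rw [← Finset.mul_sum, Finset.sum_comm]
  simp_rw [e1]
  rw [Finset.sum_const, Finset.card_univ, nsmul_eq_mul, ← Nat.card_eq_fintype_card, e2]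
  have := natCard_ne_zero L
  have := natCard_ne_zero G
  field_simp

end ZI

end CfsgH8.Za
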