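import Cfsg.Agent.H8.Za5
import Cfsg.Agent.H3.Coh8

/-! Feit's inequality for Zassenhaus groups. -/

set_option autoImplicit false
open Subgroup Cfsg CfsgH2 CfsgH1 CfsgH3 Function MulAction
open scoped commutatorElement ComplexConjugate

namespace CfsgH8.Za

/-- the indicator as an integer -/
noncomputable def nz {G : Type*} [Group G] [Fintype G] (φ : G → ℂ) : ℤ := ⌊(nu φ).re⌋

theorem nz_spec {G : Type*} [Group G] [Fintype G] {χ : G → ℂ} (h : IsIrrCharacter G χ) :
    nu χ = nz χ ∧ -1 ≤ nz χ ∧ nz χ ≤ 1 ∧ ((fun g => conj (χ g)) = χ ↔ nz χ ≠ 0) := by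
  obtain ⟨m, e, h1⟩ := nu_irr h
  have : nz χ = m := by rw [nz, e, Complex.intCast_re, Int.floor_intCast]
  rw [this]; exact ⟨e, h1⟩

variable {G Ω : Type*} [Group G] [MulAction G Ω] {a b : Ω} {K : Subgroup G} {w : G}

local notation "L" => stabilizer G a
local notation "H" => HH G a b
local notation "K'" => Subgroup.subgroupOf K (stabilizer G a)

/-- degree divided by the order of the two point stabiliser -/
noncomputable def ee (b : Ω) (ζ : stabilizer G a → ℂ) : ℕ := ⌊(ζ 1 / o[HH G a b]).re⌋₊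

variable [Fintype G] [Fintype (stabilizer G a)]

/-- the regular character of `G_a / K` -/
noncomputable def rho (a : Ω) (K : Subgroup G) [Fintype (stabilizer G a)] : stabilizer G a → ℂ :=
  indFun (K.subgroupOf (stabilizer G a)) fun _ => 1

open Classical in
/-- the characters of `G_a/K` -/
noncomputable def LL (a : Ω) (K : Subgroup G) : Finset (stabilizer G a → ℂ) :=
  (irrFin _).filter (InL a K)

open Classical in
/-- the other characters of `G_a` -/
noncomputable def SS (a : Ω) (K : Subgroup G) : Finset (stabilizer G a → ℂ) :=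
  (irrFin _).filter (InS a K)

open Classical in
/-- the induced linear characters -/
noncomputable def TT (a : Ω) (K : Subgroup G) : Finset (G → ℂ) :=
  ((LL a K).erase fun _ => 1).image (indFun (stabilizer G a))

omit [Fintype (stabilizer G a)] in
theorem mem_LL {l : L → ℂ} : l ∈ LL a K ↔ InL a K l := by
  simp only [LL, Finset.mem_filter, mem_irrFin]; exact ⟨fun h => h.2, fun h => ⟨h.1, h⟩⟩

omit [Fintype (stabilizer G a)] in
theorem mem_SS {l : L → ℂ} : l ∈ SS a K ↔ InS a K l := by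
  simp only [SS, Finset.mem_filter, mem_irrFin]; exact ⟨fun h => h.2, fun h => ⟨h.1, h⟩⟩

omit [Fintype (stabilizer G a)] in
theorem mem_TT {θ : G → ℂ} : θ ∈ TT a K ↔ ∃ l, InL a K l ∧ l ≠ (fun _ => 1) ∧ indFun L l = θ := by
  simp only [TT, Finset.mem_image, Finset.mem_erase, mem_LL]
  exact ⟨fun ⟨l, h, e⟩ => ⟨l, h.2, h.1, e⟩, fun ⟨l, h1, h2, e⟩ => ⟨l, ⟨h2, h1⟩, e⟩⟩

omit [Fintype G] in
theorem rho_char : IsCharacter L (rho a K) := isCharacter_one.ind

namespace ZI

theorem d_ne (h : ZI a b K w) : (o[H] : ℂ) ≠ 0 := natCard_ne_zero _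

theorem one_lt (h : ZI a b K w) : 1 < o[H] := (one_lt_card_iff_ne_bot _).2 h.ne_bot

theorem ee_spec (h : ZI a b K w) {ζ : L → ℂ} (hζ : InS a K ζ) : 0 < ee b ζ ∧ ζ 1 = ee b ζ * o[H] := by
  obtain ⟨e, h1, h2⟩ := h.deg hζ
  have : ee b ζ = e := by rw [ee, h2, mul_div_cancel_right₀ _ h.d_ne, Complex.natCast_re, Nat.floor_natCast]
  rw [this]; exact ⟨h1, h2⟩

theorem rho_eq (h : ZI a b K w) : rho a K = ∑ l ∈ LL a K, l := by
  classical
  haveI := h.normal
  rw [rho, indFun_one_eq_sum]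
  refine Finset.sum_congr (Finset.ext fun l => ?_) fun l hl => by rw [h.lin (mem_LL.1 hl), one_smul]
  rw [mem_LL, Finset.mem_filter, mem_irrFin]; rfl

theorem card_LL (h : ZI a b K w) : (LL a K).card = o[H] := by
  classical
  haveI := h.normal
  have : ∑ l ∈ LL a K, (1 : ℂ) = (K').index := by
    rw [← sum_sq_le_ker (K')]
    refine Finset.sum_congr (Finset.ext fun l => ?_) fun l hl => ?_
    · simp only [mem_LL, Finset.mem_filter, mem_irrFin]; rfl
    · simp only [Finset.mem_filter, mem_irrFin] at hl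
      rw [h.lin hl, one_pow]
  rw [h.index] at this
  simpa using this

theorem rho_K (h : ZI a b K w) {k : L} (hk : (k : G) ∈ K) : rho a K k = o[H] := by
  rw [h.rho_eq, Finset.sum_apply, Finset.sum_congr rfl fun l hl => h.lin_K (mem_LL.1 hl) hk]
  simp [h.card_LL]

theorem rho_out (h : ZI a b K w) {l : L} (hl : (l : G) ∉ K) : rho a K l = 0 :=
  haveI := h.normal
  indFun_eq_zero_of_not_mem _ hl

theorem rho_L (h : ZI a b K w) {l : L → ℂ} (hl : InL a K l) : ⟪rho a K, l⟫ = 1 := by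
  classical
  rw [h.rho_eq, classInner_sum_left, Finset.sum_eq_single_of_mem l (mem_LL.2 hl)
    fun m hm e => (mem_LL.1 hm).1.classInner_of_ne hl.1 e, hl.1.classInner_self]

theorem rho_S (h : ZI a b K w) {ζ : L → ℂ} (hζ : InS a K ζ) : ⟪ζ, rho a K⟫ = 0 := by
  rw [h.rho_eq, classInner_sum_right]
  exact Finset.sum_eq_zero fun l hl => hζ.orth (mem_LL.1 hl)

theorem rho_rho (h : ZI a b K w) : ⟪rho a K, rho a K⟫ = o[H] := by
  nth_rw 2 [h.rho_eq]
  rw [classInner_sum_right, Finset.sum_congr rfl fun l hl => h.rho_L (mem_LL.1 hl)]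
  simp [h.card_LL]

theorem nu_L (h : ZI a b K w) {l : L → ℂ} (hl : InL a K l) (h1 : l ≠ fun _ => 1) : nu l = 0 :=
  nu_eq_zero hl.1 fun e => h1 (h.lin_real hl e)

theorem nu_rho (h : ZI a b K w) : nu (rho a K) = 1 := by
  rw [h.rho_eq, nu_sum, Finset.sum_eq_single_of_mem _ (mem_LL.2 inL_one)
    fun m hm e => h.nu_L (mem_LL.1 hm) e, nu_one]

theorem ind_one (h : ZI a b K w) (θ : L → ℂ) : indFun L θ 1 = (o[K] + 1) * θ 1 := by
  rw [indFun_apply_one, h.index_L]; push_cast; rfl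

theorem res_ind (h : ZI a b K w) {l : L → ℂ} (hl : InL a K l) : (fun x : L => indFun L l x) =
    l + (fun x => conj (l x)) + (o[H] : ℂ)⁻¹ • (regChar L - rho a K) := by
  funext x
  have := h.d_ne
  simp only [Pi.add_apply, Pi.smul_apply, Pi.sub_apply, smul_eq_mul]
  by_cases h1 : x = 1
  · subst h1
    rw [coe_one, h.ind_one, h.lin hl, h.rho_K (one_mem K), regChar_one, h.card_L]
    simp only [map_one]; push_cast; field_simp; ring
  by_cases hx : (x : G) ∈ K
  · rw [h.ind_K hl.1.isClassFunction hx h1, h.lin_K hl hx, h.rho_K hx, regChar_of_ne h1]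
    simp only [map_one]; field_simp; ring
  · rw [h.ind_H hl.1.isClassFunction hx, h.rho_out hx, regChar_of_ne h1, hl.1.isCharacter.apply_inv]
    ring

theorem inner_res (h : ZI a b K w) {l : L → ℂ} (hl : InL a K l) (φ : L → ℂ) :
    ⟪indFun L φ, indFun L l⟫ =
      ⟪φ, l⟫ + ⟪φ, fun x => conj (l x)⟫ + (o[H] : ℂ)⁻¹ * (φ 1 - ⟪φ, rho a K⟫) := by
  rw [classInner_indFun_left _ (isClassFunction_indFun l), h.res_ind hl, classInner_add_right,
    classInner_add_right, classInner_smul_right, classInner_sub_right, classInner_regChar_right]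
  simp

theorem inner_LL (h : ZI a b K w) {l m : L → ℂ} (hl : InL a K l) (hm : InL a K m) :
    ⟪indFun L m, indFun L l⟫ = ⟪m, l⟫ + ⟪m, fun x => conj (l x)⟫ := by
  rw [h.inner_res hl, h.lin hm, ← conj_classInner (rho a K), h.rho_L hm]; simp

theorem ind_irr (h : ZI a b K w) {l : L → ℂ} (hl : InL a K l) (h1 : l ≠ fun _ => 1) :
    IsIrrCharacter G (indFun L l) :=
  hl.1.isCharacter.ind.isIrr_of_inner_eq_one (by
    rw [h.inner_LL hl hl, hl.1.classInner_self, hl.1.classInner_of_ne hl.conj.1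
      fun e => h1 (h.lin_real hl e.symm), add_zero])

theorem irr_TT (h : ZI a b K w) {θ : G → ℂ} (hθ : θ ∈ TT a K) : IsIrrCharacter G θ := by
  obtain ⟨l, h1, h2, rfl⟩ := mem_TT.1 hθ
  exact h.ind_irr h1 h2

theorem card_TT (h : ZI a b K w) : o[H] ≤ 2 * (TT a K).card + 1 := by
  classical
  have := Finset.card_le_mul_card_image (f := indFun L) ((LL a K).erase fun _ => 1) 2 fun θ hθ => by
    obtain ⟨l, h1, rfl⟩ := Finset.mem_image.1 hθ
    have hl := mem_LL.1 (Finset.mem_of_mem_erase h1)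
    refine le_trans (Finset.card_le_card (t := {l, fun x => conj (l x)}) fun m hm => ?_) Finset.card_le_two
    obtain ⟨h2, e⟩ := Finset.mem_filter.1 hm
    have hm := mem_LL.1 (Finset.mem_of_mem_erase h2)
    by_contra h3
    rw [Finset.mem_insert, Finset.mem_singleton, not_or] at h3
    have := h.inner_LL hl hm
    rw [e, (h.ind_irr hl (Finset.ne_of_mem_erase h1)).classInner_self, hm.1.classInner_of_ne hl.1 h3.1,
      hm.1.classInner_of_ne hl.conj.1 h3.2] at this
    simp at this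
  rw [Finset.card_erase_of_mem (mem_LL.2 inL_one), h.card_LL] at this
  have e : TT a K = ((LL a K).erase fun _ => 1).image (indFun L) := by rw [TT]; congr!
  rw [e]; omega

theorem one_TT (h : ZI a b K w) : (fun _ => 1) ∉ TT a K := fun e => by
  obtain ⟨l, h1, -, e⟩ := mem_TT.1 e
  have := congrFun e 1
  rw [h.ind_one, h.lin h1, mul_one, add_eq_right] at this
  exact natCard_ne_zero K this

theorem st_irr (h : ZI a b K w) : IsIrrCharacter G (indFun L (fun _ => 1) - fun _ => 1) := by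
  have e1 : ⟪indFun L (fun _ => 1), fun _ => 1⟫ = 1 := by
    rw [classInner_indFun_left _ (isClassFunction_const 1)]; exact isIrr_one.classInner_self
  refine (isCharacter_one.ind.isGen.sub isGen_one).isIrr_of_re_nonneg ?_ ?_
  · rw [classInner_sub_left, classInner_sub_right, classInner_sub_right, h.inner_LL inL_one inL_one, e1,
      ← conj_classInner (indFun L _), e1]
    simp only [map_one, isIrr_one.classInner_self]; ring
  · simp [h.ind_one]

theorem iso (h : ZI a b K w) {α β : L → ℂ} (hα : ∀ x : L, (x : G) ∉ K → α x = 0)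
    (hβ : IsClassFunction L β) (h0 : ∀ x : L, (x : G) ∉ K → β x = 0) (h1 : β 1 = 0) :
    ⟪indFun L α, indFun L β⟫ = ⟪α, β⟫ :=
  classInner_indFun_of_tiset (S := (K : Set G)) (fun g hg s hs e => by
    by_contra h2; exact hg (h.mem_L hs h2 (h.le _ e))) hα hβ h0 h1

theorem tif (h : ZI a b K w) : TIF K L :=
  ⟨h.le', h.nrm, fun g hg s hs e => by by_contra h2; exact hg (h.mem_L hs h2 (h.le _ e)),
    fun _ hk h1 => h.cent_le hk h1⟩

theorem sum_ee (h : ZI a b K w) : (∑ ζ ∈ SS a K, ee b ζ ^ 2) * o[H] + 1 = o[K] := by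
  haveI := h.normal
  have := sum_sq_not_le_ker (K') (F := SS a K) (Set.ext fun ζ => by rw [Finset.mem_coe, mem_SS]; rfl)
  rw [h.index, h.card_L, Finset.sum_congr rfl fun ζ hζ => by rw [(h.ee_spec (mem_SS.1 hζ)).2, mul_pow],
    ← Finset.sum_mul] at this
  have e := h.d_ne
  have : (((∑ ζ ∈ SS a K, ee b ζ ^ 2) * o[H] + 1 : ℕ) : ℂ) = o[K] := by
    push_cast at this ⊢
    apply mul_right_cancel₀ e
    linear_combination this
  exact_mod_cast this

theorem card_sqrt (h : ZI a b K w) : Nat.card {s : L // s * s = 1} ≤ o[H] + 1 := by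
  classical
  have key : ∀ u : {s : L // s * s = 1 ∧ s ≠ 1}, ∀ c, (u.1 : G) • c = c → c = a := fun u c e =>
    h.fix_unique h.odd (fun e => u.2.2 (Subtype.ext e)) (congrArg Subtype.val u.2.1) e u.1.2
  have := Nat.card_le_card_of_injective (fun p : K × {s : L // s * s = 1 ∧ s ≠ 1} =>
    (⟨p.1 * w * p.2.1 * (p.1 * w)⁻¹, fun e => ?_, ?_⟩ : {g : G // g ∉ L ∧ g * g = 1})) fun p q e => ?_
  · rw [h.card_out, h.card_L, Nat.card_prod] at this
    have h1 := Nat.le_of_mul_le_mul_left this Nat.card_pos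
    refine le_trans ?_ (Nat.add_le_add_right h1 1)
    rw [← Nat.card_unique (α := Unit), ← Nat.card_sum]
    refine Nat.card_le_card_of_surjective (Sum.elim (fun u => ⟨u.1, u.2.1⟩) fun _ => ⟨1, one_mul 1⟩) fun u => ?_
    by_cases e : u.1 = 1
    · exact ⟨Sum.inr (), Subtype.ext e.symm⟩
    · exact ⟨Sum.inl ⟨u.1, u.2, e⟩, rfl⟩
  · rw [mem_stabilizer_iff, mul_smul, mul_smul, ← eq_inv_smul_iff] at e
    have := key _ _ e
    rw [inv_smul_eq_iff, mul_smul, h.wa, ← inv_smul_eq_iff, h.le _ (inv_mem p.1.2)] at this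
    exact h.ne this
  · have : (p.2.1 : G) * p.2.1 = 1 := congrArg Subtype.val p.2.2.1
    calc _ = p.1.1 * w * (p.2.1 * p.2.1) * (p.1.1 * w)⁻¹ := by group
      _ = 1 := by rw [this]; group
  · have e1 : p.1.1 * w * p.2.1 * (p.1.1 * w)⁻¹ = q.1.1 * w * q.2.1 * (q.1.1 * w)⁻¹ := congrArg Subtype.val e
    have e2 := congrArg (· • (q.1.1 * w) • a) e1
    simp only [mul_smul (_ * _), inv_smul_smul, show (q.2.1 : G) • a = a from q.2.1.2] at e2
    rw [← eq_inv_smul_iff] at e2
    have := key _ _ e2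
    rw [inv_smul_eq_iff, mul_smul, mul_smul, h.wa] at this
    have e3 := h.inj q.1.2 p.1.2 h.ne.symm this
    rw [e3, mul_left_inj, mul_right_inj] at e1
    exact Prod.ext (Subtype.ext e3.symm) (Subtype.ext (Subtype.ext e1))

theorem sum_nz (h : ZI a b K w) :
    (∑ ζ ∈ SS a K, ee b ζ * nz ζ) * o[H] + 1 = (Nat.card {s : L // s * s = 1} : ℤ) := by
  classical
  have e : regChar L = rho a K + ∑ ζ ∈ SS a K, ζ 1 • ζ := by
    rw [regChar_eq_sum_irr, ← sum_irrFin (fun χ => χ 1 • χ), h.rho_eq,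
      ← Finset.sum_filter_add_sum_filter_not _ (InL a K)]
    congr 1
    · exact Finset.sum_congr (by rw [LL]) fun l hl => by rw [h.lin (mem_LL.1 hl), one_smul]
    · refine Finset.sum_congr (Finset.ext fun ζ => ?_) fun _ _ => rfl
      rw [mem_SS, Finset.mem_filter, mem_irrFin]
      exact ⟨fun e => (inS_or_inL e.1).resolve_right e.2, fun e => ⟨e.1, fun e' => by
        obtain ⟨k, h1, h2⟩ := e.2; exact h2 (e'.2 k h1)⟩⟩
  have := (nu_reg_nonneg (G := L)).2
  rw [e, nu_add, h.nu_rho, nu_sum, Finset.sum_congr rfl fun ζ hζ => by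
    rw [nu_smul, (nz_spec (mem_SS.1 hζ).1).1, (h.ee_spec (mem_SS.1 hζ)).2, mul_right_comm],
    ← Finset.sum_mul, add_comm] at this
  exact_mod_cast this

theorem sum_nz_bd (h : ZI a b K w) :
    0 ≤ ∑ ζ ∈ SS a K, ee b ζ * nz ζ ∧ ∑ ζ ∈ SS a K, ee b ζ * nz ζ ≤ 1 := by
  have h1 := h.sum_nz
  have h2 := h.card_sqrt
  haveI : Nonempty {s : L // s * s = 1} := ⟨⟨1, one_mul 1⟩⟩
  have h3 : 0 < Nat.card {s : L // s * s = 1} := Nat.card_pos
  have h4 := h.one_lt
  constructor <;> nlinarith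

end ZI

end CfsgH8.Za
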