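import Cfsg.Agent.H8.Za6

/-! Feit's theorem on Zassenhaus groups. -/

set_option autoImplicit false
open Subgroup Cfsg CfsgH2 CfsgH1 CfsgH3 Function MulAction
open scoped commutatorElement ComplexConjugate

namespace CfsgH8.Za

variable {G Ω : Type*} [Group G] [MulAction G Ω] {a b : Ω} {K : Subgroup G} {w : G}

local notation "L" => stabilizer G a
local notation "H" => HH G a b
local notation "K'" => Subgroup.subgroupOf K (stabilizer G a)

variable [Fintype G] [Fintype (stabilizer G a)]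

/-- the combination `e ζ₁ - ζ` of degree zero -/
noncomputable def bt (b : Ω) (ζ₁ ζ : stabilizer G a → ℂ) : stabilizer G a → ℂ := (ee b ζ : ℂ) • ζ₁ - ζ

/-- a coherent family -/
structure PC (b : Ω) (K : Subgroup G) (S : Finset (stabilizer G a → ℂ)) (ζ₁ : stabilizer G a → ℂ) (ε : ℤ)
    (μ : (stabilizer G a → ℂ) → G → ℂ) : Prop where
  sub : ∀ ζ ∈ S, InS a K ζ
  mem : ζ₁ ∈ S
  deg : ζ₁ 1 = o[HH G a b]
  nt : ∃ ζ ∈ S, ζ ≠ ζ₁
  eps : ε = 1 ∨ ε = -1
  irr : ∀ ζ ∈ S, IsIrrCharacter G (μ ζ)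
  inj : Set.InjOn μ S
  eq : ∀ ζ ∈ S, indFun (stabilizer G a) (bt b ζ₁ ζ) = (ε : ℂ) • ((ee b ζ : ℂ) • μ ζ₁ - μ ζ)

variable {S : Finset (stabilizer G a → ℂ)} {ζ₁ ζ φ : stabilizer G a → ℂ} {ε : ℤ}
  {μ : (stabilizer G a → ℂ) → G → ℂ}

namespace ZI

theorem exists_PC (h : ZI a b K w) (hS : ∀ ζ ∈ S, InS a K ζ) (hc : IsCoherent (S : Set (L → ℂ)) {1}ᶜ (indLin L))
    (h1 : ζ₁ ∈ S) (hd : ζ₁ 1 = o[H]) : ∃ ε μ, PC b K S ζ₁ ε μ := by
  obtain ⟨T, hT, e⟩ := hc.exists_linear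
  obtain ⟨ε, hε, h2⟩ := exists_sign_of_ext (fun χ hχ => (hS χ hχ).1) hT
    fun α hα => by rw [e α hα]; exact ind_map_one α hα
  obtain ⟨δ, h3, rfl⟩ : ∃ δ : ℤ, (δ = 1 ∨ δ = -1) ∧ (δ : ℂ) = ε := by
    rcases hε with rfl | rfl
    exacts [⟨1, Or.inl rfl, by simp⟩, ⟨-1, Or.inr rfl, by simp⟩]
  have h4 : (δ : ℂ) * δ = 1 := by rcases h3 with rfl | rfl <;> simp
  refine ⟨δ, fun ζ => (δ : ℂ) • T ζ, hS, h1, hd, ?_, h3, h2, fun x hx y hy e => ?_, fun ζ hζ => ?_⟩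
  · exact (hc.nontrivial fun χ hχ => (hS χ hχ).1.apply_one_ne_zero).exists_ne ζ₁
  · refine (hS x hx).1.eq_of_classInner_ne_zero (hS y hy).1 ?_
    rw [← hT.2.2.1 x (mem_zspan.2 (Submodule.subset_span hx)) y (mem_zspan.2 (Submodule.subset_span hy))]
    intro e'
    have := (h2 x hx).classInner_self
    nth_rw 2 [show (δ : ℂ) • T x = (δ : ℂ) • T y from e] at this
    rw [classInner_smul_left, classInner_smul_right, e'] at this
    simp at this
  · have := e _ (sub_smul_mem_zspanOn (a := ee b ζ) (b := 1) h1 hζ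
      (by rw [hd, (h.ee_spec (hS ζ hζ)).2]; simp))
    rw [Nat.cast_one, one_smul] at this
    rw [bt, ← show _ = indFun L _ from this, map_sub, map_smul, smul_comm (ee b ζ : ℂ), ← smul_sub, smul_smul, h4,
      one_smul]

theorem ee_one (h : ZI a b K w) (hd : ζ₁ 1 = o[H]) : ee b ζ₁ = 1 := by
  rw [ee, hd, div_self h.d_ne]; simp

theorem bt_van (h : ZI a b K w) (h1 : InS a K ζ₁) (hζ : InS a K ζ) (x : L) (hx : (x : G) ∉ K) :
    bt b ζ₁ ζ x = 0 := by simp [bt, h.van h1 hx, h.van hζ hx]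

theorem bt_one (h : ZI a b K w) (hd : ζ₁ 1 = o[H]) (hζ : InS a K ζ) : bt b ζ₁ ζ 1 = 0 := by
  simp [bt, hd, (h.ee_spec hζ).2]

end ZI

omit [Fintype G] in
theorem bt_gen (h1 : InS a K ζ₁) (hζ : InS a K ζ) : IsGeneralizedCharacter L (bt b ζ₁ ζ) :=
  (h1.1.isCharacter.nsmul _).isGen.sub hζ.1.isGen

omit [Fintype G] in
theorem bt_L (h1 : InS a K ζ₁) (hζ : InS a K ζ) {l : L → ℂ} (hl : InL a K l) : ⟪bt b ζ₁ ζ, l⟫ = 0 := by
  rw [bt, classInner_sub_left, classInner_smul_left, h1.orth hl, hζ.orth hl]; simp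

namespace PC

omit [Fintype (stabilizer G a)] in
theorem sq (p : PC b K S ζ₁ ε μ) : ε * ε = 1 := by rcases p.eps with rfl | rfl <;> simp

omit [Fintype (stabilizer G a)] in
theorem sq' (p : PC b K S ζ₁ ε μ) : (ε : ℂ) * ε = 1 := by exact_mod_cast p.sq

omit [Fintype (stabilizer G a)] in
theorem orth (p : PC b K S ζ₁ ε μ) (h1 : ζ ∈ S) (h2 : φ ∈ S) (e : ζ ≠ φ) : ⟪μ ζ, μ φ⟫ = 0 :=
  (p.irr _ h1).classInner_of_ne (p.irr _ h2) fun e' => e (p.inj h1 h2 e')

theorem ne_irr (h : ZI a b K w) (p : PC b K S ζ₁ ε μ) {ψ : G → ℂ}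
    (h0 : ∀ ζ ∈ S, ⟪indFun L (bt b ζ₁ ζ), ψ⟫ = 0) (hζ : ζ ∈ S) : μ ζ ≠ ψ := by
  rintro rfl
  have key : ∀ φ ∈ S, ee b φ * ⟪μ ζ₁, μ ζ⟫ = ⟪μ φ, μ ζ⟫ := fun φ hφ => by
    have := h0 φ hφ
    rw [p.eq φ hφ, classInner_smul_left, classInner_sub_left, classInner_smul_left] at this
    linear_combination ε * this - (ee b φ * ⟪μ ζ₁, μ ζ⟫ - ⟪μ φ, μ ζ⟫) * p.sq'
  by_cases e : ζ₁ = ζ
  · subst e
    obtain ⟨φ, h1, h2⟩ := p.nt
    have := key φ h1
    rw [p.orth h1 hζ h2, (p.irr _ hζ).classInner_self, mul_one, Nat.cast_eq_zero] at this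
    exact (h.ee_spec (p.sub _ h1)).1.ne' this
  · have := key ζ hζ
    rw [p.orth p.mem hζ e, (p.irr _ hζ).classInner_self] at this
    simp at this

theorem bt_ind (h : ZI a b K w) (p : PC b K S ζ₁ ε μ) (hζ : InS a K ζ) {l : L → ℂ} (hl : InL a K l) :
    ⟪indFun L (bt b ζ₁ ζ), indFun L l⟫ = 0 := by
  have h1 := p.sub _ p.mem
  rw [h.inner_res hl, bt_L h1 hζ hl, bt_L h1 hζ hl.conj, h.bt_one p.deg hζ, bt, classInner_sub_left,
    classInner_smul_left, h.rho_S h1, h.rho_S hζ]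
  simp

theorem bt_triv (p : PC b K S ζ₁ ε μ) (hζ : InS a K ζ) : ⟪indFun L (bt b ζ₁ ζ), fun _ => 1⟫ = 0 := by
  rw [classInner_indFun_left _ (isClassFunction_const 1)]; exact bt_L (p.sub _ p.mem) hζ inL_one

theorem ne_one (h : ZI a b K w) (p : PC b K S ζ₁ ε μ) (hζ : ζ ∈ S) : μ ζ ≠ fun _ => 1 :=
  p.ne_irr h (fun φ hφ => p.bt_triv (p.sub φ hφ)) hζ

theorem orth_L (h : ZI a b K w) (p : PC b K S ζ₁ ε μ) (hζ : ζ ∈ S) {l : L → ℂ} (hl : InL a K l) :
    ⟪l, fun x : L => μ ζ x⟫ = 0 := by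
  rw [← classInner_indFun_left _ (p.irr _ hζ).isClassFunction, classInner_eq_zero_comm]
  by_cases e : l = fun _ => 1
  · subst e
    have := (p.irr _ hζ).classInner_of_ne h.st_irr (p.ne_irr h (fun φ hφ => by
      rw [classInner_sub_right, p.bt_ind h (p.sub φ hφ) hl, p.bt_triv (p.sub φ hφ), sub_zero]) hζ)
    rwa [classInner_sub_right, (p.irr _ hζ).classInner_of_ne isIrr_one (p.ne_one h hζ), sub_zero] at this
  · exact (p.irr _ hζ).classInner_of_ne (h.ind_irr hl e)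
      (p.ne_irr h (fun φ hφ => p.bt_ind h (p.sub φ hφ) hl) hζ)

theorem main (h : ZI a b K w) (p : PC b K S ζ₁ ε μ) : ∃ x δ : ℤ,
    (∀ ζ ∈ S, ε * nz (μ ζ) = nz ζ + ee b ζ * δ) ∧
    x ^ 2 * (∑ ζ ∈ S, (ee b ζ : ℤ) ^ 2) + x * (∑ ζ ∈ S, ee b ζ * nz ζ + (∑ ζ ∈ S, (ee b ζ : ℤ) ^ 2) * δ)
      - 2 * x - δ ≤ 0 ∧
    2 * (x ^ 2 * (∑ ζ ∈ S, (ee b ζ : ℤ) ^ 2) - 2 * x) ≤ o[H] - 1 ∧
    (x = 0 → ε = 1 ∧ ⟪ζ₁, fun x : L => μ ζ₁ x⟫ = 1 ∧
      ∀ ζ ∈ S, ζ ≠ ζ₁ → ⟪ζ, fun x : L => μ ζ₁ x⟫ = 0) := by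
  classical
  have h1 := p.sub _ p.mem
  have hαg : IsGeneralizedCharacter L (rho a K - ζ₁) := rho_char.isGen.sub h1.1.isGen
  have hα0 : ∀ x : L, (x : G) ∉ K → (rho a K - ζ₁) x = 0 := fun x hx => by
    simp [h.rho_out hx, h.van h1 hx]
  have hα1 : (rho a K - ζ₁) 1 = 0 := by simp [h.rho_K (k := 1) (one_mem K), p.deg]
  have rS : ∀ ζ, InS a K ζ → ⟪rho a K, ζ⟫ = 0 := fun ζ hζ => classInner_eq_zero_comm.1 (h.rho_S hζ)
  have hαL : ∀ l, InL a K l → ⟪rho a K - ζ₁, l⟫ = 1 := fun l hl => by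
    rw [classInner_sub_left, h.rho_L hl, h1.orth hl, sub_zero]
  set A := indFun L (rho a K - ζ₁) with hA
  have hAg : IsGeneralizedCharacter G A := hαg.ind
  have hAA : ⟪A, A⟫ = o[H] + 1 := by
    rw [h.iso hα0 hαg.isClassFunction hα0 hα1, classInner_sub_left, classInner_sub_right, classInner_sub_right,
      h.rho_rho, h.rho_S h1, rS _ h1, h1.1.classInner_self]; ring
  have hAn : nu A = 1 - nz ζ₁ := by rw [h.nu_ind, hα1, nu_sub, h.nu_rho, (nz_spec h1.1).1, add_zero]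
  have hA1 : ⟪A, fun _ => 1⟫ = 1 := by
    rw [classInner_indFun_left _ (isClassFunction_const 1)]; exact hαL _ inL_one
  have hAT : ∀ θ ∈ TT a K, ⟪A, θ⟫ = 1 ∧ nu θ = 1 := fun θ hθ => by
    obtain ⟨l, hl, l1, rfl⟩ := mem_TT.1 hθ
    refine ⟨?_, by rw [h.nu_ind, h.nu_L hl l1, h.lin hl, zero_add]⟩
    rw [h.inner_res hl, hαL l hl, hαL _ hl.conj, hα1, classInner_sub_left, h.rho_rho, h.rho_S h1]
    have := h.d_ne
    field_simp; ring
  obtain ⟨c, hc⟩ := hAg.exists_int_classInner (p.irr _ p.mem).isGen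
  have hAμ : ∀ ζ ∈ S, ⟪A, μ ζ⟫ = (ε * ((ε * c + 1) * ee b ζ - if ζ = ζ₁ then 1 else 0) : ℤ) := fun ζ hζ => by
    have h2 := p.sub _ hζ
    have := h.iso hα0 (bt_gen (b := b) h1 h2).isClassFunction (h.bt_van h1 h2) (h.bt_one p.deg h2)
    rw [p.eq ζ hζ, bt] at this
    simp only [classInner_sub_left, classInner_sub_right, classInner_smul_right, map_natCast, map_intCast,
      rS _ h1, rS _ h2, h1.1.classInner_self, ← hA, hc] at this
    split_ifs with e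
    · rw [e, hc, h.ee_one p.deg]; push_cast; linear_combination (-c) * p.sq'
    · rw [h1.1.classInner_of_ne h2.1 (Ne.symm e)] at this
      push_cast
      linear_combination (-ε) * this + (-⟪A, μ ζ⟫) * p.sq'
  have hnu : ∀ ζ ∈ S, ε * nz (μ ζ) = nz ζ + ee b ζ * (ε * nz (μ ζ₁) - nz ζ₁) := fun ζ hζ => by
    have h2 := p.sub _ hζ
    have := h.nu_ind (bt b ζ₁ ζ)
    rw [h.bt_one p.deg h2, p.eq ζ hζ, bt, nu_smul, nu_sub, nu_sub, nu_smul, nu_smul, (nz_spec h1.1).1,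
      (nz_spec h2.1).1, (nz_spec (p.irr _ hζ)).1, (nz_spec (p.irr _ p.mem)).1] at this
    have : ((ε * nz (μ ζ) : ℤ) : ℂ) = (nz ζ + ee b ζ * (ε * nz (μ ζ₁) - nz ζ₁) : ℤ) := by
      push_cast; linear_combination -this
    exact_mod_cast this
  set x := ε * c + 1 with hx
  set δ := ε * nz (μ ζ₁) - nz ζ₁
  have key : ∀ s : ℤ, -1 ≤ s → s ≤ 1 → (1 + s) * (1 + (TT a K).card) + x ^ 2 * (∑ ζ ∈ S, (ee b ζ : ℤ) ^ 2) +
      s * x * (∑ ζ ∈ S, ee b ζ * nz ζ + (∑ ζ ∈ S, (ee b ζ : ℤ) ^ 2) * δ) + (1 - 2 * x - s * (nz ζ₁ + δ)) ≤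
      o[H] + 1 + s * (1 - nz ζ₁) := fun s s1 s2 => by
    have hd : Disjoint (TT a K) (S.image μ) := Finset.disjoint_left.2 fun θ h2 h3 => by
      obtain ⟨ζ, hζ, rfl⟩ := Finset.mem_image.1 h3
      obtain ⟨l, hl, l1, e⟩ := mem_TT.1 h2
      have := p.orth_L h hζ hl
      rw [← classInner_indFun_left _ (p.irr _ hζ).isClassFunction, e, (p.irr _ hζ).classInner_self] at this
      exact one_ne_zero this
    have := bessel_nu hAg (R := insert (fun _ => 1) (TT a K ∪ S.image μ)) (fun χ hχ => by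
      simp only [Finset.mem_insert, Finset.mem_union, Finset.mem_image] at hχ
      rcases hχ with rfl | e | ⟨ζ, hζ, rfl⟩
      exacts [isIrr_one, h.irr_TT e, p.irr _ hζ]) s s1 s2
    rw [Finset.sum_insert (by
      simp only [Finset.mem_union, Finset.mem_image, not_or, not_exists, not_and]
      exact ⟨h.one_TT, fun ζ hζ => p.ne_one h hζ⟩), Finset.sum_union hd, Finset.sum_image p.inj,
      Finset.sum_congr rfl (g := fun _ => (1 + s : ℝ)) fun θ hθ => by simp [hAT θ hθ],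
      Finset.sum_congr rfl (g := fun ζ => ((x ^ 2 * (ee b ζ : ℤ) ^ 2 + s * x * (ee b ζ * nz ζ + (ee b ζ : ℤ) ^ 2 * δ) +
        if ζ = ζ₁ then 1 - 2 * x - s * (nz ζ₁ + δ) else 0 : ℤ) : ℝ)) fun ζ hζ => by
        rw [hAμ ζ hζ, (nz_spec (p.irr _ hζ)).1, ← Int.cast_mul, Complex.intCast_re, Complex.intCast_re]
        have e1 := hnu ζ hζ
        have e2 := p.sq
        norm_cast
        split_ifs with e
        · rw [e, h.ee_one p.deg] at e1 ⊢; push_cast at e1 ⊢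
          linear_combination (x - 1) ^ 2 * e2 + s * (x - 1) * e1
        · push_cast
          linear_combination (x * ee b ζ) ^ 2 * e2 + s * (x * ee b ζ) * e1,
      hA1, nu_one, hAA, hAn, ← Int.cast_sum, Finset.sum_const, Finset.sum_add_distrib, Finset.sum_add_distrib, Finset.sum_ite_eq',
      if_pos p.mem, ← Finset.mul_sum, ← Finset.mul_sum, Finset.sum_add_distrib, ← Finset.sum_mul] at this
    simp only [nsmul_eq_mul, Complex.one_re, mul_one, Complex.add_re, Complex.natCast_re,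
      Complex.sub_re, Complex.intCast_re] at this
    have : (((1 + s) * (1 + (TT a K).card) + x ^ 2 * (∑ ζ ∈ S, (ee b ζ : ℤ) ^ 2) +
      s * x * (∑ ζ ∈ S, ee b ζ * nz ζ + (∑ ζ ∈ S, (ee b ζ : ℤ) ^ 2) * δ) + (1 - 2 * x - s * (nz ζ₁ + δ)) : ℤ) : ℝ) ≤
      (o[H] + 1 + s * (1 - nz ζ₁) : ℤ) := by push_cast at this ⊢; linarith
    exact_mod_cast this
  have ht : (o[H] : ℤ) ≤ 2 * (TT a K).card + 1 := by exact_mod_cast h.card_TT
  refine ⟨x, δ, hnu, by linarith [key 1 (by norm_num) le_rfl], by linarith [key 0 (by norm_num) (by norm_num)],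
    fun x0 => ?_⟩
  have hμ := p.irr _ p.mem
  have e1 : ⟪ζ₁, fun x : L => μ ζ₁ x⟫ = ε := by
    have := hAμ _ p.mem
    rw [x0, classInner_indFun_left _ hμ.isClassFunction, classInner_sub_left, h.rho_eq, classInner_sum_left,
      Finset.sum_eq_zero fun l hl => p.orth_L h p.mem (mem_LL.1 hl)] at this
    simpa using this
  obtain ⟨m, hm⟩ := h1.1.isCharacter.exists_nat_classInner (hμ.isCharacter.restrict L)
  have e2 : ε = 1 := p.eps.resolve_right fun e => by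
    rw [hm, e] at e1
    have : (m : ℤ) = -1 := by exact_mod_cast e1
    omega
  refine ⟨e2, by rw [e1, e2, Int.cast_one], fun ζ hζ e => ?_⟩
  have := congrArg (⟪·, μ ζ₁⟫) (p.eq ζ hζ)
  simp only [classInner_indFun_left _ hμ.isClassFunction, bt, classInner_sub_left, classInner_smul_left, e1,
    hμ.classInner_self, p.orth hζ p.mem e] at this
  linear_combination -this

end PC

namespace ZI

theorem of_res (h : ZI a b K w) (h1 : InS a K ζ₁) (hd : ζ₁ 1 = o[H]) {χ : G → ℂ} (hχ : IsIrrCharacter G χ)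
    (e : (fun x : L => χ x) = ζ₁) : o[K] ≤ 2 * o[H] + 1 := by
  classical
  have hψ := hχ.isCharacter.mul hχ.conj.isCharacter
  have := sum_deg_le hψ (R := insert (fun _ => 1) (TT a K)) (fun θ hθ => by
    rcases Finset.mem_insert.1 hθ with rfl | hθ
    exacts [isIrr_one, h.irr_TT hθ]) fun θ hθ => by
    rcases Finset.mem_insert.1 hθ with rfl | hθ
    · rw [← classInner_mul_right, show (χ * fun _ => 1) = χ from mul_one χ, hχ.classInner_self]
      exact one_ne_zero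
    · obtain ⟨l, hl, -, rfl⟩ := mem_TT.1 hθ
      rw [classInner_indFun_right _ hψ.isClassFunction, show (fun x : L => (χ * fun g => conj (χ g)) x) =
        ζ₁ * fun g => conj (ζ₁ g) from e ▸ rfl, ← classInner_mul_right, inner_congr (γ := ζ₁) fun g => ?_,
        h1.1.classInner_self]
      · exact one_ne_zero
      by_cases hg : (g : G) ∈ K
      · exact Or.inr (by simp [h.lin_K hl hg])
      · exact Or.inl (h.van h1 hg)
  rw [Finset.sum_insert h.one_TT, Finset.sum_congr rfl (g := fun _ => ((o[K] + 1 : ℕ) : ℝ)) fun θ hθ => by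
    obtain ⟨l, hl, -, rfl⟩ := mem_TT.1 hθ
    simp [h.ind_one, h.lin hl], Pi.mul_apply, show χ 1 = o[H] from hd ▸ congrFun e 1, Finset.sum_const,
    map_natCast, ← Nat.cast_mul, Complex.natCast_re, Complex.one_re, nsmul_eq_mul] at this
  have h2 : 1 + (TT a K).card * (o[K] + 1) ≤ o[H] * o[H] := by exact_mod_cast this
  have h3 := h.card_TT
  obtain ⟨d, hd⟩ := Nat.exists_eq_add_of_lt h.one_lt
  rw [hd] at h2 h3 ⊢
  by_contra h4
  nlinarith

theorem of_coherent (h : ZI a b K w) (hc : IsCoherent {ζ | InS a K ζ} {1}ᶜ (indLin L)) :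
    o[K] ≤ 2 * o[H] + 1 := by
  obtain ⟨ζ₁, h1, hd⟩ := h.exists_deg
  obtain ⟨ε, μ, p⟩ := h.exists_PC (S := SS a K) (fun ζ => mem_SS.1)
    (by convert hc using 1; ext ζ; exact mem_SS) (mem_SS.2 h1) hd
  obtain ⟨x, δ, e1, e2, -, e4⟩ := p.main h
  by_contra hn
  have hE : (3 : ℤ) ≤ ∑ ζ ∈ SS a K, (ee b ζ : ℤ) ^ 2 := by
    have := h.sum_ee
    have : 2 < ∑ ζ ∈ SS a K, ee b ζ ^ 2 := by by_contra; nlinarith
    exact_mod_cast this
  obtain ⟨s1, s2⟩ := h.sum_nz_bd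
  have pos : ∀ ζ ∈ SS a K, (1 : ℤ) ≤ ee b ζ := fun ζ hζ => by exact_mod_cast (h.ee_spec (mem_SS.1 hζ)).1
  have bd : ∀ ζ ∈ SS a K, -1 ≤ nz ζ + ee b ζ * δ ∧ nz ζ + ee b ζ * δ ≤ 1 := fun ζ hζ => by
    obtain ⟨-, a1, a2, -⟩ := nz_spec (p.irr _ hζ)
    rw [← e1 ζ hζ]
    rcases p.eps with rfl | rfl <;> omega
  have hδ : δ = 0 := by
    by_contra h0
    have re : ∀ ζ ∈ SS a K, nz ζ = 0 → (fun g => conj (μ ζ g)) = μ ζ := fun ζ hζ e =>
      (nz_spec (p.irr _ hζ)).2.2.2.2 fun e' => by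
        have := e1 ζ hζ
        rw [e, e', mul_zero, zero_add, eq_comm, mul_eq_zero] at this
        have := pos ζ hζ
        omega
    have all : ∀ ζ ∈ SS a K, nz ζ ≠ 0 := fun ζ hζ e => by
      have hζ' := mem_SS.2 (mem_SS.1 hζ).conj
      have n1 : (fun g => conj (ζ g)) ≠ ζ := fun e' => (nz_spec (mem_SS.1 hζ).1).2.2.2.1 e' e
      have r1 := re ζ hζ e
      have r2 := re _ hζ' (by
        by_contra e'
        exact n1 (by simpa using ((nz_spec (mem_SS.1 hζ').1).2.2.2.2 e').symm))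
      have ee' : ee b (fun g => conj (ζ g)) = ee b ζ := by
        rw [ee, ee, (h.ee_spec (mem_SS.1 hζ)).2]; simp
      have q : indFun L ((fun g => conj (ζ g)) - ζ) = (ε : ℂ) • (μ (fun g => conj (ζ g)) - μ ζ) := by
        have := congrArg₂ (· - ·) (p.eq ζ hζ) (p.eq _ hζ')
        simp only [← indFun_sub, bt, ee', sub_sub_sub_cancel_left, ← smul_sub] at this
        exact this
      have q2 := indFun_conj ((fun g => conj (ζ g)) - ζ)
      rw [show (fun x => conj (((fun g => conj (ζ g)) - ζ) x)) = -((fun g => conj (ζ g)) - ζ) by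
        funext x; simp, indFun_neg, q] at q2
      refine n1 (p.inj hζ' hζ (funext fun g => ?_))
      have := congrFun q2 g
      simp only [Pi.neg_apply, Pi.smul_apply, Pi.sub_apply, smul_eq_mul, map_mul, map_intCast, map_sub,
        congrFun r1 g, congrFun r2 g] at this
      linear_combination (-ε / 2) * this - (μ (fun g => conj (ζ g)) g - μ ζ g) * p.sq'
    rcases lt_or_gt_of_ne h0 with h0 | h0
    · have : ∑ ζ ∈ SS a K, (ee b ζ : ℤ) ^ 2 ≤ 2 * ∑ ζ ∈ SS a K, ee b ζ * nz ζ := by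
        rw [Finset.mul_sum]
        refine Finset.sum_le_sum fun ζ hζ => ?_
        have a1 := pos ζ hζ
        have a2 := (bd ζ hζ).1
        have a3 := (nz_spec (mem_SS.1 hζ).1).2.2.1
        have a4 := all ζ hζ
        have a5 : nz ζ = 1 := by have : 0 ≤ nz ζ := by nlinarith
                                 omega
        rw [a5] at a2 ⊢
        nlinarith
      omega
    · have : ∑ ζ ∈ SS a K, ee b ζ * nz ζ < 0 := Finset.sum_neg (fun ζ hζ => by
        have a1 := pos ζ hζ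
        have a2 := (bd ζ hζ).2
        have a4 := all ζ hζ
        have a5 : nz ζ < 0 := by have : nz ζ ≤ 0 := by nlinarith
                                 omega
        nlinarith) ⟨_, p.mem⟩
      omega
  subst hδ
  obtain ⟨-, a1, a2⟩ := e4 (by
    by_contra h0
    rcases lt_or_gt_of_ne h0 with h0 | h0 <;> nlinarith)
  have hμ := p.irr _ p.mem
  refine hn (h.of_res h1 hd hμ ((hμ.isClassFunction.restrict L).ext_of_inner h1.1.isClassFunction fun χ hχ => ?_))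
  rw [← conj_classInner χ]
  rcases inS_or_inL (K := K) hχ with e | e
  · by_cases e' : χ = ζ₁
    · rw [e', a1, h1.1.classInner_self, map_one]
    · rw [a2 χ (mem_SS.2 e) e', h1.1.classInner_of_ne hχ (Ne.symm e'), map_zero]
  · rw [p.orth_L h p.mem e, h1.orth e, map_zero]

omit [Fintype G] [Fintype (stabilizer G a)] in
/-- Feit, Ito -/
theorem feit [Finite G] (h : ZI a b K w) :
    o[K] ≤ 2 * o[H] + 1 ∨ (IsPGroup 2 K ∧ ¬ Ab[K] ∧ ⁅K, K⁆.relIndex K < 4 * o[H] ^ 2) := by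
  classical
  haveI := Fintype.ofFinite G
  haveI := h.nil h.ne_bot
  haveI := h.normal
  have h0 := h.ker_ne h.ne_bot
  have hlt : K < L := lt_of_le_of_ne h.le' fun e => h.ne_bot (by
    rw [← h.disj, eq_comm, inf_eq_right, e]; exact inf_le_left)
  rcases h.tif.feit_sibley h0 hlt with e | e | e
  · left; rw [e.2.1, h.index]; omega
  · by_cases hab : Ab[K]
    · by_cases e1 : Nat.card (K') = (K').index + 1
      · left; rw [Nat.card_congr (subgroupOfEquivOfLe h.le').toEquiv, h.index] at e1; omega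
      haveI : Group.IsNilpotent (K') := Group.nilpotent_of_mulEquiv (subgroupOfEquivOfLe h.le').symm
      rcases feit_coherent (h.tif.subgroupOf_ne_bot h0) h.cent e1 h.tif.isometry ind_map_one with
        e2 | ⟨p, -, -, e2, -⟩
      · exact Or.inl (h.of_coherent (h.tif.iia_eq ▸ e2))
      · refine absurd (commutator_eq_bot_iff_le_centralizer.2 fun x hx y hy => Subtype.ext ?_) e2
        exact comm_of_isMulComm hab hy hx
    · exact Or.inr ⟨IsPGroup.of_card e.1, hab, h.index ▸ e.2⟩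
  · exact Or.inl (h.of_coherent e)

end ZI

end CfsgH8.Za
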