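import Cfsg.Agent.H8.Za8
import Cfsg.Agent.H3.RO3

/-! Zassenhaus groups with a Suzuki `2`-group. -/

set_option autoImplicit false
open Subgroup Cfsg CfsgH2 CfsgH1 CfsgH3 Function MulAction
open scoped commutatorElement ComplexConjugate

namespace CfsgH8.Za

variable {G Ω : Type*} [Group G] [MulAction G Ω] {a b : Ω} {K : Subgroup G} {w : G}

local notation "L" => stabilizer G a
local notation "H" => HH G a b
local notation "K'" => Subgroup.subgroupOf K (stabilizer G a)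

theorem ZI.not_cube [Finite G] (h : ZI a b K w) {Z : Subgroup G} (hZ : Z ≤ K)
    (nZ : ∀ g ∈ L, ∀ z ∈ Z, g * z * g⁻¹ ∈ Z) (sq : ∀ k ∈ K, k * k ∈ Z) (hq : o[H] + 1 = o[Z])
    (hn : o[K] = o[Z] ^ 3) : False := by
  classical
  haveI := Fintype.ofFinite G
  haveI := h.normal
  haveI : (Z.subgroupOf L).Normal := ⟨fun k hk g => nZ g g.2 k hk⟩
  have d1 := h.one_lt
  set S := (SS a K).filter fun ζ => ∀ z : L, (z : G) ∈ Z → ζ z = ζ 1 with hS
  have sub : ∀ ζ ∈ S, InS a K ζ := fun ζ hζ => mem_SS.1 (Finset.mem_filter.1 hζ).1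
  have deg : ∀ ζ ∈ S, ζ 1 = o[H] := fun ζ hζ => h.index ▸ iia_deg_of_commutator_le (A := Z.subgroupOf L)
    (commutator_le.2 fun x hx y hy => CfsgRO.comm_mem_of_sq sq hx hy)
    (mem_iia_of_apply_eq (h.iia.2 (sub ζ hζ)) fun z hz _ => (Finset.mem_filter.1 hζ).2 z hz)
  have nu1 : ∀ ζ ∈ S, nz ζ = 1 := fun ζ hζ => by
    have : nu ζ = 1 := by
      rw [← h.rho_L inL_one, classInner_one_right, nu]
      congr 1
      refine Finset.sum_congr rfl fun l _ => ?_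
      by_cases hl : (l : G) ∈ K
      · rw [h.rho_K hl, (Finset.mem_filter.1 hζ).2 _ (sq _ hl), deg ζ hζ]
      · rw [h.rho_out hl, h.van (sub ζ hζ) fun e => hl (h.mem_of_sq e)]
    rw [nz, this]; simp
  have cS : S.card = o[H] + 2 := by
    have e1 := sum_sq_le_ker (Z.subgroupOf L)
    have hd : Disjoint (LL a K) S := Finset.disjoint_left.2 fun l h1 h2 => by
      obtain ⟨k, h3, h4⟩ := (sub l h2).2; exact h4 ((mem_LL.1 h1).2 k h3)
    rw [Finset.sum_congr (s₂ := LL a K ∪ S) (Finset.ext fun l => by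
        simp only [hS, mem_SS, mem_LL, Finset.mem_filter, mem_irrFin, Finset.mem_union]
        exact ⟨fun e => (inS_or_inL e.1).symm.imp_right fun e' => ⟨e', e.2⟩,
          fun e => e.elim (fun e => ⟨e.1, fun z hz => e.2 z (hZ hz)⟩) fun e => ⟨e.1.1, e.2⟩⟩) fun _ _ => rfl,
      Finset.sum_union hd, Finset.sum_congr rfl (g := fun _ => 1) (fun l hl => by rw [h.lin (mem_LL.1 hl), one_pow]),
      Finset.sum_congr (s₁ := S) rfl (g := fun _ => (o[H] : ℂ) ^ 2) (fun l hl => by rw [deg l hl])] at e1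
    simp only [Finset.sum_const, h.card_LL, nsmul_eq_mul, mul_one] at e1
    have e2 := (Z.subgroupOf L).card_mul_index
    rw [Nat.card_congr (subgroupOfEquivOfLe (hZ.trans h.le')).toEquiv, h.card_L, hn, pow_succ', mul_assoc] at e2
    rw [Nat.eq_of_mul_eq_mul_left (card_pos' Z) e2, ← hq] at e1
    have e3 : o[H] + S.card * o[H] ^ 2 = (o[H] + 1) ^ 2 * o[H] := by exact_mod_cast e1
    refine Nat.eq_of_mul_eq_mul_right (show 0 < o[H] ^ 2 by positivity) ?_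
    nlinarith
  obtain ⟨ζ₁, h1, h1'⟩ := Finset.one_lt_card.1 (show 1 < S.card by omega)
  have hsub : (S : Set (L → ℂ)) ⊆ inducedIrrAbove (K') ⊥ := fun ζ hζ => h.iia.2 (sub ζ hζ)
  obtain ⟨ε, μ, p⟩ := h.exists_PC sub (isCoherent_of_deg_eq (fun ζ hζ => (sub ζ hζ).1)
    (h.tif.isometry.mono (zspanOn_mono hsub)) ind_map_one
    (by obtain ⟨ζ, h2, h3⟩ := h1'; exact ⟨ζ₁, h1, ζ, h2, h3⟩)
    fun χ hχ ψ hψ => (deg χ hχ).trans (deg ψ hψ).symm) h1 (deg _ h1)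
  obtain ⟨x, δ, e1, e2, e3, e4⟩ := p.main h
  have ee1 : ∀ ζ ∈ S, ee b ζ = 1 := fun ζ hζ => h.ee_one (deg ζ hζ)
  have s1 : ∑ ζ ∈ S, (ee b ζ : ℤ) ^ 2 = o[H] + 2 := by
    rw [Finset.sum_congr rfl (g := fun _ => 1) fun ζ hζ => by simp [ee1 ζ hζ]]; simp [cS]
  have s2 : ∑ ζ ∈ S, (ee b ζ : ℤ) * nz ζ = o[H] + 2 := by
    rw [Finset.sum_congr rfl (g := fun _ => 1) fun ζ hζ => by simp [ee1 ζ hζ, nu1 ζ hζ]]; simp [cS]
  rw [s1] at e2 e3
  have d1' : (1 : ℤ) < o[H] := by exact_mod_cast d1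
  obtain rfl : x = 0 := by
    by_contra h0
    have : 1 ≤ x ^ 2 := by rcases lt_or_gt_of_ne h0 with h0 | h0 <;> nlinarith
    nlinarith [sq_nonneg (x - 1)]
  obtain ⟨rfl, a1, a2⟩ := e4 rfl
  have f1 : ∀ ζ ∈ S, nz (μ ζ) = 1 := fun ζ hζ => by
    have := e1 ζ hζ
    have := (nz_spec (p.irr _ hζ)).2.2.1
    rw [nu1 ζ hζ, ee1 ζ hζ] at *
    omega
  have hμ := p.irr _ h1
  have z1 := sub _ h1
  obtain ⟨φ, hφ, φS, φ0⟩ : ∃ φ, InS a K φ ∧ φ ∉ S ∧ ⟪φ, fun x : L => μ ζ₁ x⟫ ≠ 0 := by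
    by_contra h0
    push Not at h0
    have := h.of_res z1 (deg _ h1) hμ ((hμ.isClassFunction.restrict L).ext_of_inner z1.1.isClassFunction
      fun χ hχ => by
      rw [← conj_classInner χ]
      rcases inS_or_inL (K := K) hχ with e | e
      · by_cases e' : χ = ζ₁
        · rw [e', a1, z1.1.classInner_self, map_one]
        rw [z1.1.classInner_of_ne hχ (Ne.symm e')]
        by_cases e2 : χ ∈ S
        · rw [a2 χ e2 e', map_zero]
        · rw [h0 χ e e2, map_zero]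
      · rw [p.orth_L h p.mem e, z1.orth e, map_zero])
    rw [hn, ← hq] at this
    nlinarith [Nat.zero_le (o[H] ^ 3)]
  obtain ⟨y, hy⟩ := hφ.1.isCharacter.exists_nat_classInner (hμ.isCharacter.restrict L)
  have y0 : (1 : ℤ) ≤ y := by
    rw [hy, Nat.cast_ne_zero] at φ0
    exact_mod_cast Nat.pos_of_ne_zero φ0
  have o1 : ∀ ζ ∈ S, ⟪φ, ζ⟫ = 0 := fun ζ hζ => hφ.1.classInner_of_ne (sub ζ hζ).1 fun e => φS (e ▸ hζ)
  have hB := (bt_gen (b := b) z1 hφ).ind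
  have B1 : ⟪indFun L (bt b ζ₁ φ), μ ζ₁⟫ = ee b φ - y := by
    rw [classInner_indFun_left _ hμ.isClassFunction, bt, classInner_sub_left, classInner_smul_left, a1, hy, mul_one]
  have B2 : ∀ ζ ∈ S.erase ζ₁, ⟪indFun L (bt b ζ₁ φ), μ ζ⟫ = -y := fun ζ hζ => by
    have h2 := Finset.mem_of_mem_erase hζ
    have := h.iso (h.bt_van z1 hφ) (bt_gen (b := b) z1 (sub ζ h2)).isClassFunction (h.bt_van z1 (sub ζ h2))
      (h.bt_one p.deg (sub ζ h2))
    rw [p.eq ζ h2, bt, bt, ee1 ζ h2] at this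
    simp only [Int.cast_one, Nat.cast_one, one_smul, classInner_sub_right, classInner_sub_left,
      classInner_smul_left, z1.1.classInner_self, o1 _ h1, o1 _ h2,
      z1.1.classInner_of_ne (sub ζ h2).1 (Finset.ne_of_mem_erase hζ).symm] at this
    rw [← bt, B1] at this
    linear_combination -this
  have B3 : ⟪indFun L (bt b ζ₁ φ), indFun L (bt b ζ₁ φ)⟫ = ee b φ ^ 2 + 1 := by
    rw [h.iso (h.bt_van z1 hφ) (bt_gen (b := b) z1 hφ).isClassFunction (h.bt_van z1 hφ) (h.bt_one p.deg hφ), bt]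
    simp only [classInner_sub_right, classInner_sub_left, classInner_smul_left, classInner_smul_right,
      z1.1.classInner_self, o1 _ h1, classInner_eq_zero_comm.1 (o1 _ h1), hφ.1.classInner_self, map_natCast]
    ring
  have B4 : nu (indFun L (bt b ζ₁ φ)) = ee b φ - nz φ := by
    rw [h.nu_ind, h.bt_one p.deg hφ, bt, nu_sub, nu_smul, (nz_spec z1.1).1, (nz_spec hφ.1).1, nu1 _ h1]; simp
  have := bessel_nu hB (R := S.image μ) (fun χ hχ => by
    obtain ⟨ζ, hζ, rfl⟩ := Finset.mem_image.1 hχ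
    exact p.irr _ hζ) (-1) le_rfl (by norm_num)
  rw [Finset.sum_image p.inj, ← Finset.add_sum_erase _ _ h1, Finset.sum_congr rfl
    (g := fun _ => (y ^ 2 + y : ℝ)) fun ζ hζ => by
      rw [B2 ζ hζ, (nz_spec (p.irr _ (Finset.mem_of_mem_erase hζ))).1, f1 _ (Finset.mem_of_mem_erase hζ)]
      simp, B1, B3, B4, (nz_spec hμ).1, f1 _ h1, Finset.sum_const, Finset.card_erase_of_mem h1, cS,
    ← Nat.cast_pow (ee b φ)] at this
  simp only [nsmul_eq_mul, Complex.add_re, Complex.sub_re, Complex.natCast_re, Complex.intCast_re, Int.cast_one,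
    mul_one, Complex.one_re, show o[H] + 2 - 1 = o[H] + 1 from rfl] at this
  have b1 : ((ee b φ : ℤ) - y) ^ 2 - (ee b φ - y) + (o[H] + 1) * (y ^ 2 + y) ≤ ee b φ ^ 2 + 1 - (ee b φ - nz φ) := by
    have : ((((ee b φ : ℤ) - y) ^ 2 - (ee b φ - y) + (o[H] + 1) * (y ^ 2 + y) : ℤ) : ℝ) ≤
      (ee b φ ^ 2 + 1 - (ee b φ - nz φ) : ℤ) := by push_cast at this ⊢; linarith
    exact_mod_cast this
  have hm : φ ∈ SS a K \ S := Finset.mem_sdiff.2 ⟨mem_SS.2 hφ, φS⟩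
  have t1 := h.sum_ee
  have t1' : (∑ ζ ∈ SS a K, (ee b ζ : ℤ) ^ 2) = o[H] ^ 2 + 3 * o[H] + 3 := by
    rw [hn, ← hq] at t1
    have : ∑ ζ ∈ SS a K, ee b ζ ^ 2 = o[H] ^ 2 + 3 * o[H] + 3 :=
      Nat.eq_of_mul_eq_mul_right (card_pos' H) (by nlinarith)
    exact_mod_cast this
  have t2 := h.sum_nz_bd.2
  rw [← Finset.sum_sdiff (Finset.filter_subset _ _ : S ⊆ _), ← Finset.add_sum_erase _ _ hm] at t1' t2
  rw [s1] at t1'
  rw [s2] at t2
  have t3 : 0 ≤ ∑ ζ ∈ (SS a K \ S).erase φ, (ee b ζ : ℤ) ^ 2 := Finset.sum_nonneg fun _ _ => sq_nonneg _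
  have t4 : -∑ ζ ∈ (SS a K \ S).erase φ, (ee b ζ : ℤ) ^ 2 ≤ ∑ ζ ∈ (SS a K \ S).erase φ, (ee b ζ : ℤ) * nz ζ := by
    rw [← Finset.sum_neg_distrib]
    refine Finset.sum_le_sum fun ζ hζ => ?_
    have hζ := mem_SS.1 (Finset.mem_sdiff.1 (Finset.mem_of_mem_erase hζ)).1
    have := (nz_spec hζ.1).2.1
    have : (1 : ℤ) ≤ ee b ζ := by exact_mod_cast (h.ee_spec hζ).1
    nlinarith
  have t5 : (ee b φ : ℤ) ≤ o[H] + 1 := by nlinarith
  have t6 := (nz_spec hφ.1).2.2.1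
  have t7 : y * ((o[H] + 2) * (y + 1) - 2 * ee b φ : ℤ) ≤ 1 + nz φ := by linarith
  have t8 : (2 : ℤ) * (o[H] + 2) ≤ (o[H] + 2) * (y + 1) := by nlinarith
  have t9 : (o[H] + 2) * (y + 1) - 2 * ee b φ ≤ (y * ((o[H] + 2) * (y + 1) - 2 * ee b φ) : ℤ) := by nlinarith
  have u1 : (ee b φ : ℤ) = o[H] + 1 := by omega
  have u2 : nz φ = 1 := by omega
  rw [u1] at t1'
  rw [u1, u2] at t2
  nlinarith

end CfsgH8.Za
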